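import Cfsg.Agent.Lib.Invol.GW.Consumers.CommutingOuter
import Cfsg.Agent.Lib.Transfer.SelfCentNoncyclic.Linear
import Cfsg.Agent.Lib.Fus.SmallSimple

/-!
# `PSL₂(q)` inputs for the case of two-rank two

A proper subgroup containing a Sylow 2-subgroup in which every involution fixes a single coset has order 12 and
`q = 5`; for prime `q` every automorphism is inner-diagonal.
-/

set_option autoImplicit false

namespace Cfsg.Agent.Invol.Core2.RankTwo

open Subgroup

variable {F : Type} [Field F] [Fintype F]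

local notation "SL₂" => Matrix.SpecialLinearGroup (Fin 2) F
local notation "PSL₂" => Matrix.ProjectiveSpecialLinearGroup (Fin 2) F
local notation "PGL₂" => Matrix.ProjGenLinGroup (Fin 2) F
local notation "ι" => Matrix.ProjectiveSpecialLinearGroup.toPGL (n := Fin 2) (R := F)

theorem two_ne (hodd : Odd (Fintype.card F)) : (2 : F) ≠ 0 :=
  Fus.PSLTwo.two_ne_zero_of_odd (Nat.odd_iff.1 hodd)

/-- In `SL₂(q)` an element of square one is central. -/
theorem sl_invol (hodd : Odd (Fintype.card F)) (A : SL₂) (h : A * A = 1) : A ∈ center SL₂ := by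
  have h2 := two_ne hodd
  have hm : ∀ i j, ((A : Matrix (Fin 2) (Fin 2) F) * A) i j = (1 : Matrix (Fin 2) (Fin 2) F) i j := fun i j => by
    rw [← Matrix.SpecialLinearGroup.coe_mul, h, Matrix.SpecialLinearGroup.coe_one]
  have hd := A.2
  rw [Matrix.det_fin_two] at hd
  have e00 := hm 0 0
  have e01 := hm 0 1
  have e10 := hm 1 0
  have e11 := hm 1 1
  simp only [Matrix.mul_apply, Fin.sum_univ_two, Matrix.one_apply, Fin.isValue] at e00 e01 e10 e11
  norm_num at e00 e01 e10 e11
  set a := (A : Matrix (Fin 2) (Fin 2) F) 0 0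
  set b := (A : Matrix (Fin 2) (Fin 2) F) 0 1
  set c := (A : Matrix (Fin 2) (Fin 2) F) 1 0
  set d := (A : Matrix (Fin 2) (Fin 2) F) 1 1
  have hs : a + d ≠ 0 := fun e => h2 (by
    have : (2 : F) * 2 = 0 := by linear_combination (a + d) * e - e00 - e11 - 2 * hd
    exact (mul_eq_zero.1 this).elim id id)
  have hb : b = 0 := (mul_eq_zero.1 (show (a + d) * b = 0 by linear_combination e01)).resolve_left hs
  have hc : c = 0 := (mul_eq_zero.1 (show (a + d) * c = 0 by linear_combination e10)).resolve_left hs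
  rw [hb, hc, mul_zero, sub_zero] at hd
  rw [hb, zero_mul, add_zero] at e00
  have had : a = d := by linear_combination d * e00 - a * hd
  refine (Classical.slMem_center_iff A).2 ⟨a, ?_⟩
  ext i j
  fin_cases i <;> fin_cases j <;> simp [a, b, c, d] at hb hc had ⊢ <;> first | exact hb | exact hc | exact had.symm

/-- `SL₂(q)` has no nontrivial map to a group of exponent two. -/
theorem sl_hom_trivial (hodd : Odd (Fintype.card F)) {M : Type*} [Group M] (χ : SL₂ →* M)
    (hM : ∀ m ∈ χ.range, m * m = 1) (A : SL₂) : χ A = 1 := by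
  have h2 := two_ne hodd
  have h : χ = 1 := MonoidHom.eq_of_eqOn_dense Classical.SL_closure_transvections (by
    rintro _ ⟨t, rfl⟩
    rw [MonoidHom.one_apply]
    have e : t.toSpecialLinearGroup = Matrix.SpecialLinearGroup.transvection t.hij (t.c / 2) *
        Matrix.SpecialLinearGroup.transvection t.hij (t.c / 2) := Subtype.ext (by
      rw [Matrix.TransvectionStruct.toSpecialLinearGroup_coe, Matrix.SpecialLinearGroup.coe_mul,
        Matrix.SpecialLinearGroup.transvection_coe]
      show Matrix.transvection t.i t.j t.c = Matrix.transvection t.i t.j _ * Matrix.transvection t.i t.j _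
      rw [Matrix.transvection_mul_transvection_same _ _ t.hij]
      congr 1
      field_simp
      ring)
    rw [e, map_mul]
    exact hM _ ⟨_, rfl⟩)
  rw [h, MonoidHom.one_apply]

theorem four_dvd_psl (hodd : Odd (Fintype.card F)) : 4 ∣ Nat.card PSL₂ := by
  have h := GW.card_PSLTwo hodd
  obtain ⟨k, hk⟩ := hodd
  obtain ⟨j, hj⟩ := Nat.even_mul_succ_self k
  refine ⟨Fintype.card F * j, ?_⟩
  rw [hk, show 2 * k + 1 - 1 = 2 * k by omega] at h
  rw [hk]
  have e : 2 * k * (2 * k + 1 + 1) = 4 * (k * (k + 1)) := by ring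
  rw [e, hj] at h
  linarith

/-- A Sylow 2-subgroup is dihedral of order at least four. -/
theorem sylow_dihedral (hodd : Odd (Fintype.card F)) (S : Sylow 2 PSL₂) :
    ∃ k : ℕ, 1 ≤ k ∧ Nonempty ((S : Subgroup PSL₂) ≃* DihedralGroup (2 ^ k)) ∧
      (16 ∣ Fintype.card F ^ 2 - 1 → 2 ≤ k) := by
  haveI : Fact (Nat.Prime 2) := ⟨Nat.prime_two⟩
  obtain ⟨k, ⟨e⟩, hk⟩ := Fus.PSLTwo.exists_sylow_dihedral (Nat.odd_iff.1 hodd) S
  refine ⟨k, ?_, ⟨e⟩, hk⟩
  by_contra hlt
  obtain rfl : k = 0 := by omega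
  have hc : Nat.card (S : Subgroup PSL₂) = 2 := by rw [Nat.card_congr e.toEquiv, DihedralGroup.nat_card]; norm_num
  have h4 := four_dvd_psl (F := F) hodd
  rw [← (S : Subgroup PSL₂).card_mul_index, hc] at h4
  exact S.not_dvd_index (Nat.dvd_of_mul_dvd_mul_left two_pos (h4 : 2 * 2 ∣ 2 * _))

/-- The involutions `r (2 ^ (k - 1))` and `sr i`. -/
theorem dihedral_invols {k : ℕ} (hk : 1 ≤ k) : ∃ f : Option (ZMod (2 ^ k)) → DihedralGroup (2 ^ k),
    Function.Injective f ∧ (∀ i, orderOf (f i) = 2) ∧ ∀ y, f none * y = y * f none := by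
  haveI : NeZero (2 ^ k) := ⟨by positivity⟩
  obtain ⟨j, rfl⟩ : ∃ j, k = j + 1 := ⟨k - 1, by omega⟩
  let h : ZMod (2 ^ (j + 1)) := ((2 ^ j : ℕ) : ZMod (2 ^ (j + 1)))
  have hhh : h + h = 0 := by
    rw [← Nat.cast_add, ← two_mul, ← pow_succ', ZMod.natCast_self]
  have hh0 : h ≠ 0 := fun e => by
    rw [ZMod.natCast_eq_zero_iff] at e
    have := Nat.le_of_dvd (by positivity) e
    rw [pow_succ] at this
    have : 0 < 2 ^ j := by positivity
    omega
  refine ⟨fun o => o.elim (DihedralGroup.r h) DihedralGroup.sr, ?_, ?_, ?_⟩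
  · rintro (_ | a) (_ | b) he <;> simp_all
  · rintro (_ | a)
    · refine orderOf_eq_prime ?_ fun e => ?_
      · show DihedralGroup.r h ^ 2 = 1
        rw [pow_two, DihedralGroup.r_mul_r, hhh, DihedralGroup.one_def]
      · change DihedralGroup.r h = 1 at e
        rw [DihedralGroup.one_def, DihedralGroup.r.injEq] at e
        exact hh0 e
    · exact DihedralGroup.orderOf_sr a
  · rintro (a | a)
    · show DihedralGroup.r h * DihedralGroup.r a = DihedralGroup.r a * DihedralGroup.r h
      simp only [DihedralGroup.r_mul_r, add_comm]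
    · show DihedralGroup.r h * DihedralGroup.sr a = DihedralGroup.sr a * DihedralGroup.r h
      rw [DihedralGroup.r_mul_sr, DihedralGroup.sr_mul_r]
      congr 1
      linear_combination -hhh

/-- The involutions of a Sylow 2-subgroup. -/
theorem sylow_invols (hodd : Odd (Fintype.card F)) (S : Sylow 2 PSL₂) :
    ∃ k : ℕ, 1 ≤ k ∧ (16 ∣ Fintype.card F ^ 2 - 1 → 2 ≤ k) ∧
      ∃ f : Option (ZMod (2 ^ k)) → PSL₂, Function.Injective f ∧ (∀ i, f i ∈ (S : Subgroup PSL₂)) ∧
        (∀ i, orderOf (f i) = 2) ∧ ∀ y ∈ (S : Subgroup PSL₂), f none * y = y * f none := by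
  obtain ⟨k, hk, ⟨e⟩, h16⟩ := sylow_dihedral hodd S
  obtain ⟨f, hf, hfo, hfc⟩ := dihedral_invols hk
  refine ⟨k, hk, h16, fun i => (e.symm (f i) : (S : Subgroup PSL₂)), fun a b h => hf (e.symm.injective
    (Subtype.ext h)), fun i => (e.symm (f i)).2, fun i => by
      rw [Subgroup.orderOf_coe, MulEquiv.orderOf_eq, hfo], fun y hy => ?_⟩
  have h := congrArg e.symm (hfc (e ⟨y, hy⟩))
  rw [map_mul, map_mul, e.symm_apply_apply] at h
  exact congrArg Subtype.val h

/-- An automorphism fixing a Sylow 2-subgroup elementwise fixes a four-group. -/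
theorem fixesFour_of_sylow (hodd : Odd (Fintype.card F)) (S : Sylow 2 PSL₂) {α : MulAut PSL₂}
    (h : ∀ s ∈ (S : Subgroup PSL₂), α s = s) : GW.FixesFour α := by
  obtain ⟨k, hk, -, f, hf, hfS, hfo, hfc⟩ := sylow_invols hodd S
  exact ⟨f none, f (some 0), hfo _, hfo _, hf.ne (by simp), hfc _ (hfS _), h _ (hfS _), h _ (hfS _)⟩

theorem card_pgl : Nat.card PGL₂ = Fintype.card F * ((Fintype.card F - 1) * (Fintype.card F + 1)) := by
  rw [Classical.natCard_PGL_eq_SL, Fus.PSLTwo.natCard_SL_two]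

/-- `PSL₂(q)` has index two in `PGL₂(q)`. -/
theorem index_range_toPGL (hodd : Odd (Fintype.card F)) : ((ι).range).index = 2 := by
  haveI := Dickson.finite_pgl (F := F)
  have h := ((ι).range).card_mul_index
  rw [← Nat.card_congr (MonoidHom.ofInjective (Matrix.ProjectiveSpecialLinearGroup.toPGL_injective
    (n := Fin 2) (R := F))).toEquiv, card_pgl, ← GW.card_PSLTwo hodd, mul_comm 2] at h
  exact Nat.eq_of_mul_eq_mul_left Nat.card_pos h

/-- For prime `q` every automorphism is inner-diagonal. -/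
theorem pglAut_surjective_of_prime (hp : (Fintype.card F).Prime) (α : MulAut PSL₂) :
    ∃ g : PGL₂, GW.pglAut F g = α := by
  obtain ⟨p, hchar⟩ := CharP.exists F
  obtain ⟨n, hprime, hn⟩ := FiniteField.card F p
  haveI : Fact p.Prime := ⟨hprime⟩
  obtain ⟨g, σ, ε, -, hε, hrep⟩ := Classical.PSLAut.exists_rep (p := p) (le_refl 2) α
  rw [hε rfl, pow_zero, mul_one] at hrep
  have hn1 : (n : ℕ) = 1 := by
    rw [hn] at hp
    by_contra h
    exact Nat.Prime.not_prime_pow (by have := n.pos; omega) hp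
  have hs : Function.Surjective (ZMod.castHom (dvd_refl p) F) :=
    (((Fintype.bijective_iff_injective_and_card _).2 ⟨(ZMod.castHom (dvd_refl p) F).injective, by
      rw [ZMod.card, hn, hn1, pow_one]⟩)).2
  have hσ : σ = 1 := RingEquiv.ext fun x => by
    obtain ⟨a, rfl⟩ := hs x
    exact DFunLike.congr_fun (RingHom.ext_zmod ((σ : F ≃+* F).toRingHom.comp (ZMod.castHom (dvd_refl p) F))
      (ZMod.castHom (dvd_refl p) F)) a
  refine ⟨Matrix.ProjGenLinGroup.mk g, ?_⟩
  rw [GW.pglAut, Matrix.ProjGenLinGroup.lift_mk, hrep, hσ]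
  rfl

theorem dihedral_four_center : ∀ a b : DihedralGroup 4, a * a = 1 → b * b = 1 → a ≠ 1 → b ≠ 1 →
    (∀ c, c * c = 1 → a * c = c * a) → (∀ c, c * c = 1 → b * c = c * b) → a = b := by decide +kernel

/-- A proper subgroup over a Sylow 2-subgroup whose involutions fix a single coset. -/
theorem card_of_one_fixed (hodd : Odd (Fintype.card F)) {H₀ : Subgroup PSL₂} (hne : H₀ ≠ ⊤)
    (S : Sylow 2 PSL₂) (hS : (S : Subgroup PSL₂) ≤ H₀)
    (hfix : ∀ r ∈ H₀, orderOf r = 2 → ∀ g : PSL₂, g * r * g⁻¹ ∈ H₀ → g ∈ H₀) :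
    Fintype.card F = 5 ∧ Nat.card H₀ = 12 := by
  classical
  haveI : Fact (Nat.Prime 2) := ⟨Nat.prime_two⟩
  obtain ⟨p, hchar⟩ := CharP.exists F
  obtain ⟨n, hprime, hn⟩ := FiniteField.card F p
  haveI : Fact p.Prime := ⟨hprime⟩
  obtain ⟨k, hk1, h16, f, hf, hfS, hfo, hfc⟩ := sylow_invols hodd S
  set r := f none
  have hr : orderOf r = 2 := hfo _
  have hrH : r ∈ H₀ := hS (hfS _)
  set C := centralizer ({r} : Set PSL₂) with hC
  have hCH : C ≤ H₀ := fun c hc => hfix r hrH hr c (by
    rw [Subgroup.mem_centralizer_singleton_iff.1 hc, mul_inv_cancel_right]; exact hrH)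
  -- one class of involutions
  have hconj : ∀ t : {t : PSL₂ // t ∈ H₀ ∧ orderOf t = 2}, ∃ g ∈ H₀, g * r * g⁻¹ = (t : PSL₂) := fun t => by
    obtain ⟨g, hg⟩ := isConj_iff.1 (Fus.PSLTwo.involutions_conj (Nat.odd_iff.1 hodd) hr t.2.2)
    exact ⟨g, hfix r hrH hr g (hg.symm ▸ t.2.1), hg⟩
  choose w hw hwr using hconj
  have hcount : Nat.card {t : PSL₂ // t ∈ H₀ ∧ orderOf t = 2} * Nat.card C = Nat.card H₀ := by
    rw [← Nat.card_prod]
    refine Nat.card_congr (Equiv.ofBijective (fun a => (⟨w a.1 * a.2, H₀.mul_mem (hw a.1) (hCH a.2.2)⟩ : H₀))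
      ⟨?_, ?_⟩)
    · rintro ⟨t, c⟩ ⟨t', c'⟩ he
      have he' : w t * (c : PSL₂) = w t' * c' := congrArg Subtype.val he
      have key : ∀ (t : {t : PSL₂ // t ∈ H₀ ∧ orderOf t = 2}) (c : C),
          w t * (c : PSL₂) * r * (w t * c)⁻¹ = (t : PSL₂) := fun t c => by
        calc w t * (c : PSL₂) * r * (w t * c)⁻¹ = w t * ((c : PSL₂) * r * (c : PSL₂)⁻¹) * (w t)⁻¹ := by group
          _ = t := by rw [Subgroup.mem_centralizer_singleton_iff.1 c.2, mul_inv_cancel_right, hwr]
      obtain rfl : t = t' := Subtype.ext (by rw [← key t c, he', key])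
      obtain rfl : c = c' := Subtype.ext (mul_left_cancel he')
      rfl
    · intro h
      let t : {t : PSL₂ // t ∈ H₀ ∧ orderOf t = 2} :=
        ⟨h * r * (h : PSL₂)⁻¹, H₀.mul_mem (H₀.mul_mem h.2 hrH) (H₀.inv_mem h.2), by rw [orderOf_conj_eq, hr]⟩
      refine ⟨(t, ⟨(w t)⁻¹ * h, Subgroup.mem_centralizer_singleton_iff.2 ?_⟩), Subtype.ext (by simp)⟩
      calc (w t)⁻¹ * (h : PSL₂) * r = (w t)⁻¹ * (h * r * (h : PSL₂)⁻¹) * h := by group
        _ = (w t)⁻¹ * (w t * r * (w t)⁻¹) * h := by rw [hwr]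
        _ = r * ((w t)⁻¹ * h) := by group
  let emb : Option (ZMod (2 ^ k)) → {t : PSL₂ // t ∈ H₀ ∧ orderOf t = 2} := fun i => ⟨f i, hS (hfS i), hfo i⟩
  have hemb : Function.Injective emb := fun a b h => hf (congrArg Subtype.val h)
  haveI : NeZero (2 ^ k) := ⟨by positivity⟩
  have hm : 2 ^ k + 1 ≤ Nat.card {t : PSL₂ // t ∈ H₀ ∧ orderOf t = 2} := by
    refine le_of_eq_of_le ?_ (Nat.card_le_card_of_injective emb hemb)
    rw [Nat.card_eq_fintype_card, Fintype.card_option, ZMod.card]
  set m := Nat.card {t : PSL₂ // t ∈ H₀ ∧ orderOf t = 2}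
  have h2k : 2 ^ 1 ≤ 2 ^ k := Nat.pow_le_pow_right two_pos hk1
  -- the centraliser is not maximal
  have hq : Fintype.card F = 3 ∨ Fintype.card F = 5 ∨ Fintype.card F = 7 ∨ Fintype.card F = 9 := by
    by_contra hcon
    push Not at hcon
    have h3 : 3 < Fintype.card F := by
      have := Fintype.one_lt_card (α := F)
      obtain ⟨j, hj⟩ := hodd
      omega
    have heq : H₀ = C := ((GW.centralizer_isCoatom hodd h3 hcon.2.1 hcon.2.2.1 hcon.2.2.2 hr).le_iff.1 hCH).resolve_left hne
    rw [heq] at hcount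
    have := Nat.eq_of_mul_eq_mul_right Nat.card_pos (hcount.trans (one_mul _).symm)
    omega
  have hP := GW.card_PSLTwo (F := F) hodd
  obtain ⟨hc1, hc3⟩ := Transfer.SelfCentNoncyclic.card_centralizer_involution p hodd hr
  rw [← hC] at hc1 hc3
  obtain ⟨d, hd⟩ := Subgroup.card_subgroup_dvd_card H₀
  have hd1 : d ≠ 1 := fun e => hne (Subgroup.eq_top_of_card_eq H₀ (by rw [hd, e, mul_one]))
  have hfac : 3 < Fintype.card F → Nat.card PSL₂ ∣ d.factorial := fun h3 => by
    haveI : IsSimpleGroup PSL₂ := Classical.PSL_isSimple le_rfl fun _ => by omega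
    have := Fus.card_dvd_factorial_index hne
    rwa [show H₀.index = d from Nat.eq_of_mul_eq_mul_left Nat.card_pos (H₀.card_mul_index.trans hd)] at this
  rcases hq with e | e | e | e <;> rw [e] at hP hc1 hc3 hfac h16
  · exfalso
    rw [hc3 (by norm_num)] at hcount
    have h12 : Nat.card PSL₂ = 12 := by omega
    rw [h12, ← hcount] at hd
    have h := Nat.le_of_dvd (by norm_num : 0 < 12) (Dvd.intro d hd.symm)
    have hm3 : m = 3 := by omega
    rw [hm3] at hd
    omega
  · refine ⟨e, ?_⟩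
    rw [hc1 (by norm_num)] at hcount
    have h60 : Nat.card PSL₂ = 60 := by omega
    rw [h60] at hd hfac
    have hd4 : 5 ≤ d := by
      by_contra hlt
      have hd0 : 0 < d := Nat.pos_of_ne_zero fun e => by rw [e] at hd; omega
      have := Nat.le_of_dvd (Nat.factorial_pos d) (hfac (by norm_num))
      interval_cases d <;> simp [Nat.factorial] at this
    rw [← hcount] at hd ⊢
    have : m * d = 15 := by nlinarith
    have hm3 : 3 ≤ m := by omega
    have : m * 5 ≤ m * d := Nat.mul_le_mul_left m hd4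
    omega
  all_goals
    exfalso
    have hk2 : 2 ≤ k := h16 (by norm_num)
    have h4k : 2 ^ 2 ≤ 2 ^ k := Nat.pow_le_pow_right two_pos hk2
  · rw [hc3 (by norm_num)] at hcount
    have h168 : Nat.card PSL₂ = 168 := by omega
    rw [h168] at hd hfac
    rw [← hcount] at hd
    have hmd : m * d = 21 := by nlinarith
    have hm5 : 5 ≤ m := by omega
    have hd4 : d ≤ 4 := by
      by_contra hlt
      have : 5 * 5 ≤ m * d := Nat.mul_le_mul hm5 (by omega)
      omega
    have hd0 : 0 < d := Nat.pos_of_ne_zero fun e => by rw [e] at hmd; omega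
    have := Nat.le_of_dvd (Nat.factorial_pos d) (hfac (by norm_num))
    interval_cases d <;> simp [Nat.factorial] at this
  · rw [hc1 (by norm_num)] at hcount
    have h360 : Nat.card PSL₂ = 360 := by omega
    rw [h360] at hd hfac
    rw [← hcount] at hd
    have hmd : m * d = 45 := by nlinarith
    have hm5 : 5 ≤ m := by omega
    have hd0 : 0 < d := Nat.pos_of_ne_zero fun e => by rw [e] at hmd; omega
    have hd9 : d ≤ 9 := by
      by_contra hlt
      have : 5 * 10 ≤ m * d := Nat.mul_le_mul hm5 (by omega)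
      omega
    have hfd := Nat.le_of_dvd (Nat.factorial_pos d) (hfac (by norm_num))
    have hd9' : d = 9 := by
      interval_cases d <;> simp [Nat.factorial] at hfd <;> omega
    subst hd9'
    -- five involutions, all in the Sylow subgroup
    have hm55 : m = 5 := by omega
    have hk : k = 2 := by
      by_contra hne'
      have : 2 ^ 3 ≤ 2 ^ k := Nat.pow_le_pow_right two_pos (by omega)
      omega
    subst hk
    have hsurj : Function.Surjective emb := ((Nat.bijective_iff_injective_and_card _).2 ⟨hemb, by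
      rw [Nat.card_eq_fintype_card, Fintype.card_option, ZMod.card]; exact hm55.symm⟩).2
    have hin : ∀ t ∈ H₀, orderOf t = 2 → t ∈ (S : Subgroup PSL₂) := fun t ht ht2 => by
      obtain ⟨i, hi⟩ := hsurj ⟨t, ht, ht2⟩
      rw [← show f i = t from congrArg Subtype.val hi]
      exact hfS i
    obtain ⟨k', hk', ⟨e'⟩, -⟩ := sylow_dihedral hodd S
    obtain rfl : k' = 2 := by
      have h8 : Nat.card C = 8 := hc1 (by norm_num)
      have hCd : Nat.card (S : Subgroup PSL₂) ∣ Nat.card C := Subgroup.card_dvd_of_le fun y hy =>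
        Subgroup.mem_centralizer_singleton_iff.2 (hfc y hy).symm
      rw [h8, Nat.card_congr e'.toEquiv, DihedralGroup.nat_card] at hCd
      have := Nat.le_of_dvd (by norm_num) hCd
      by_contra hne'
      have h4 : k' < 3 := by
        by_contra hge
        have : 2 ^ 3 ≤ 2 ^ k' := Nat.pow_le_pow_right two_pos (by omega)
        omega
      obtain rfl : k' = 1 := by omega
      have h4' := Nat.card_le_card_of_injective (fun i => (e' ⟨f i, hfS i⟩))
        (fun a b h => hf (congrArg Subtype.val (e'.injective h)))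
      rw [Nat.card_eq_fintype_card, Fintype.card_option, ZMod.card, DihedralGroup.nat_card] at h4'
      norm_num at h4'
    -- the centre of `S` is fixed by `H₀`
    have key : ∀ t ∈ H₀, orderOf t = 2 → t = r := fun t ht ht2 => by
      obtain ⟨h, hh, hhr⟩ : ∃ h ∈ H₀, h * r * h⁻¹ = t := ⟨w ⟨t, ht, ht2⟩, hw _, hwr _⟩
      have hct : ∀ c : (S : Subgroup PSL₂), c * c = 1 → (⟨t, hin t ht ht2⟩ : (S : Subgroup PSL₂)) * c =
          c * ⟨t, hin t ht ht2⟩ := fun c hc => by
        by_cases hc1 : c = 1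
        · rw [hc1, mul_one, one_mul]
        have hc2 : orderOf (c : PSL₂) = 2 := by
          rw [Subgroup.orderOf_coe]; exact orderOf_eq_prime (by rw [pow_two, hc]) hc1
        have h1 : h⁻¹ * (c : PSL₂) * h ∈ (S : Subgroup PSL₂) := hin _
          (H₀.mul_mem (H₀.mul_mem (H₀.inv_mem hh) (hS c.2)) hh) (by
            have := orderOf_conj_eq h⁻¹ (c : PSL₂)
            rwa [inv_inv, hc2] at this)
        refine Subtype.ext ?_
        show t * (c : PSL₂) = c * t
        rw [← hhr]
        calc h * r * h⁻¹ * (c : PSL₂) = h * (r * (h⁻¹ * c * h)) * h⁻¹ := by group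
          _ = h * (h⁻¹ * c * h * r) * h⁻¹ := by rw [hfc _ h1]
          _ = c * (h * r * h⁻¹) := by group
      have hrS : r ∈ (S : Subgroup PSL₂) := hfS _
      have := dihedral_four_center (e' ⟨t, hin t ht ht2⟩) (e' ⟨r, hrS⟩)
        (by rw [← map_mul, show (⟨t, hin t ht ht2⟩ : (S : Subgroup PSL₂)) * ⟨t, hin t ht ht2⟩ = 1 from
          Subtype.ext (mul_self_of_orderOf_two ht2), map_one])
        (by rw [← map_mul, show (⟨r, hrS⟩ : (S : Subgroup PSL₂)) * ⟨r, hrS⟩ = 1 from
          Subtype.ext (mul_self_of_orderOf_two hr), map_one])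
        ((map_ne_one_iff e' e'.injective).2 fun e => ne_one_of_orderOf_two ht2 (congrArg Subtype.val e))
        ((map_ne_one_iff e' e'.injective).2 fun e => ne_one_of_orderOf_two hr (congrArg Subtype.val e))
        (fun c hc => by
          obtain ⟨c, rfl⟩ := e'.surjective c
          rw [← map_mul, ← map_mul, hct c (e'.injective (by rw [map_mul, hc, map_one]))])
        (fun c hc => by
          obtain ⟨c, rfl⟩ := e'.surjective c
          rw [← map_mul, ← map_mul]
          exact congrArg e' (Subtype.ext (hfc c c.2)))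
      exact congrArg Subtype.val (e'.injective this)
    exact hf.ne (show (some 0 : Option (ZMod (2 ^ 2))) ≠ none by simp) (key _ (hS (hfS _)) (hfo _))

end Cfsg.Agent.Invol.Core2.RankTwo
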