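import Cfsg.Agent.Lib.Grp.PrimitivePair
import Cfsg.Agent.Lib.Grp.Solvable
import Cfsg.Agent.Lib.Grp.Cores
import Cfsg.Agent.Lib.Invol.ZJFunctor
import Cfsg.Agent.S0205
import Cfsg.Agent.S1458

/-!
# Two-generated core: a subgroup of an odd group containing the normalisers of its characteristic subgroups

If `Q` is a proper subgroup of the odd order group `X`, contains the normaliser of each of its nontrivial
characteristic subgroups and meets each nontrivial `O_p(X)`, this is absurd: two primes in `F(Q)` give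
`O_q(Q) = O_q(X)`, and one prime is settled by `ZJ`.
-/

set_option autoImplicit false
set_option linter.unusedSectionVars false
set_option linter.style.haveILetI false

namespace Cfsg.Agent.Invol.Core2

open Subgroup

universe u

variable {X : Type u} [Group X] [Finite X]

theorem exists_normalizing {p : ℕ} [Fact p.Prime] {H J : Subgroup X} (hJ : IsPGroup p J) (hHJ : H < J) :
    ∃ j ∈ J, j ∉ H ∧ j ∈ normalizer (H : Set X) := by
  haveI : Group.IsNilpotent J := hJ.isNilpotent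
  have hne : H.subgroupOf J < ⊤ := lt_top_iff_ne_top.2 fun e => hHJ.not_ge (subgroupOf_eq_top.1 e)
  obtain ⟨x, hx, hxH⟩ := SetLike.exists_of_lt (Group.normalizerCondition_of_isNilpotent _ hne)
  refine ⟨x, x.2, hxH, mem_normalizer_iff.2 fun y => ?_⟩
  constructor
  · intro hy
    exact (mem_normalizer_iff.1 hx ⟨y, hHJ.le hy⟩).1 hy
  · intro hy
    have hyJ : y ∈ J := by
      have := mul_mem (mul_mem (inv_mem x.2) (hHJ.le hy)) x.2
      simpa [mul_assoc] using this
    exact (mem_normalizer_iff.1 hx ⟨y, hyJ⟩).2 hy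

theorem pPrimeCore_eq_bot_of_pCores [Group.IsSolvable X] {p : ℕ} [Fact p.Prime]
    (h : ∀ r : ℕ, r.Prime → r ≠ p → Cfsg.pCore r X = ⊥) : Cfsg.pPrimeCore p X = ⊥ := by
  haveI := Grp.pPrimeCore_isNormal (p := p) (G := X)
  haveI := Grp.pCore_isNormal (p := p) (G := X)
  have hF : Cfsg.fittingSubgroup X ≤ Cfsg.pCore p X :=
    (Grp.fitting_le_pCore_sup p).trans (sup_le le_rfl (iSup_le fun r => by
      rw [h _ r.1.2 r.2]; exact bot_le))
  obtain ⟨m, hm⟩ := (Grp.pCore_isPGroup (p := p) (G := X)).exists_card_eq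
  have hdisj : Cfsg.pCore p X ⊓ Cfsg.pPrimeCore p X = ⊥ := Grp.inf_eq_bot_of_coprime
    (by rw [hm]; exact (Grp.pPrimeCore_coprime (p := p) (G := X)).symm.pow_left m)
  have hle : Cfsg.pPrimeCore p X ≤ centralizer (Cfsg.fittingSubgroup X : Set X) := fun x hx =>
    mem_centralizer_iff.2 fun y hy =>
      (commute_of_normal_of_disjoint _ _ inferInstance inferInstance (disjoint_iff.2 hdisj) y x (hF hy) hx).eq
  refine le_bot_iff.1 fun x hx => ?_
  rw [← hdisj]
  exact ⟨hF (Grp.centralizer_fittingSubgroup_le (hle hx)), hx⟩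

theorem pCore_inf_le (p : ℕ) (Q : Subgroup X) :
    Cfsg.pCore p X ⊓ Q ≤ (Cfsg.pCore p ↥Q).map Q.subtype := by
  haveI := Grp.pCore_isNormal (p := p) (G := X)
  intro x hx
  refine ⟨⟨x, hx.2⟩, Grp.le_pCore (N := (Cfsg.pCore p X).subgroupOf Q) inferInstance ?_ hx.1, rfl⟩
  exact (Grp.pCore_isPGroup (p := p) (G := X)).comap_subtype

instance char_pCore (p : ℕ) : (Cfsg.pCore p X).Characteristic := by
  refine characteristic_iff_map_le.2 fun φ => ?_
  exact Grp.le_pCore ((Grp.pCore_isNormal (p := p) (G := X)).map φ.toMonoidHom φ.surjective)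
    ((Grp.pCore_isPGroup (p := p) (G := X)).map _)

/-- Absurdity of such a proper subgroup. -/
theorem false_of_member (hodd : Odd (Nat.card X)) {Q : Subgroup X} (hQ : Q ≠ ⊤) (hQ1 : Q ≠ ⊥)
    (hmem : ∀ N : Subgroup ↥Q, N.Characteristic → N ≠ ⊥ → normalizer ((N.map Q.subtype : Subgroup X) : Set X) ≤ Q)
    (hint : ∀ p : ℕ, p.Prime → Cfsg.pCore p X ≠ ⊥ → Cfsg.pCore p X ⊓ Q ≠ ⊥) : False := by
  classical
  haveI : Group.IsSolvable X := Cfsg.Agent.S0205.result hodd
  have hQodd : Odd (Nat.card ↥Q) := hodd.of_dvd_nat (card_subgroup_dvd_card Q)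
  haveI : Group.IsSolvable ↥Q := Cfsg.Agent.S0205.result hQodd
  let Qc : ℕ → Subgroup X := fun p => (Cfsg.pCore p ↥Q).map Q.subtype
  have hQle : ∀ p, Qc p ≤ Q := fun p => map_subtype_le _
  have hbot : ∀ p, Qc p = ⊥ → Cfsg.pCore p ↥Q = ⊥ := fun p e =>
    (map_eq_bot_iff_of_injective _ Q.subtype_injective).1 e
  have hN : ∀ p, Qc p ≠ ⊥ → normalizer (Qc p : Set X) ≤ Q := fun p hp =>
    hmem _ inferInstance fun e => hp (by show (Cfsg.pCore p ↥Q).map Q.subtype = ⊥; rw [e, Subgroup.map_bot])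
  -- `O_p(X)` lies in `O_p(Q)`
  have hV : ∀ p : ℕ, p.Prime → Cfsg.pCore p X ≤ Qc p := by
    intro p hp
    haveI := Fact.mk hp
    by_cases hV0 : Cfsg.pCore p X = ⊥
    · rw [hV0]; exact bot_le
    have hQp : Qc p ≠ ⊥ := fun e => hint p hp hV0 (le_bot_iff.1 ((pCore_inf_le p Q).trans e.le))
    haveI := Grp.pCore_isNormal (p := p) (G := X)
    have hJ : IsPGroup p ↥(Cfsg.pCore p X ⊔ Qc p : Subgroup X) :=
      (Grp.pCore_isPGroup (p := p) (G := X)).to_sup_of_normal_left
        ((Grp.pCore_isPGroup (p := p) (G := ↥Q)).map _)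
    by_contra hle
    obtain ⟨j, hj, hjQ, hjN⟩ := exists_normalizing hJ
      (lt_of_le_of_ne le_sup_right fun e => hle (le_sup_left.trans e.symm.le))
    obtain ⟨v, hv, d, hd, rfl⟩ := mem_sup_of_normal_left.1 hj
    refine hjQ (mul_mem (pCore_inf_le p Q ⟨hv, ?_⟩) hd)
    have h1 : v * d * d⁻¹ ∈ Q := mul_mem (hN p hQp hjN) (inv_mem (hQle p hd))
    simpa using h1
  -- there is a prime in `F(Q)`
  obtain ⟨p, hp, hQp⟩ : ∃ p : ℕ, p.Prime ∧ Qc p ≠ ⊥ := by
    by_contra hcon
    push Not at hcon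
    refine hQ1 ?_
    obtain ⟨r, hr2, hr⟩ := Nat.exists_infinite_primes (Nat.card ↥Q + 1)
    haveI := Fact.mk hr
    have h1 := pPrimeCore_eq_bot_of_pCores (X := ↥Q) (p := r) fun s hs _ => hbot s (hcon s hs)
    have h2 : (⊤ : Subgroup ↥Q) ≤ Cfsg.pPrimeCore r ↥Q := Grp.le_pPrimeCore inferInstance (by
      rw [card_top]
      exact ((Nat.Prime.coprime_iff_not_dvd hr).2 fun hd => by
        have := Nat.le_of_dvd Nat.card_pos hd
        omega).symm)
    rw [h1, top_le_iff] at h2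
    refine (eq_bot_iff_forall _).2 fun x hx => ?_
    have h3 : (⟨x, hx⟩ : ↥Q) ∈ (⊥ : Subgroup ↥Q) := h2.symm ▸ mem_top _
    exact congrArg Subtype.val (mem_bot.1 h3)
  haveI := Fact.mk hp
  -- a second prime is impossible
  have hother : ∀ q : ℕ, q.Prime → q ≠ p → Qc q = ⊥ := by
    intro q hq hqp
    by_contra hQq
    haveI := Fact.mk hq
    -- the `p'`-elements centralising `O_p(X)` lie in `Q`
    set L : Subgroup X := closure {x | (orderOf x).Coprime p ∧ x ∈ centralizer (Cfsg.pCore p X : Set X)} with hL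
    have hcc : ∀ r s : ℕ, r.Prime → s.Prime → r ≠ s → ∀ a ∈ Qc r, ∀ b ∈ Qc s, a * b = b * a := by
      rintro r s hr hs hrs _ ⟨a, ha, rfl⟩ _ ⟨b, hb, rfl⟩
      haveI := Fact.mk hr
      haveI := Fact.mk hs
      obtain ⟨m, hm⟩ := (Grp.pCore_isPGroup (p := r) (G := ↥Q)).exists_card_eq
      obtain ⟨n, hn⟩ := (Grp.pCore_isPGroup (p := s) (G := ↥Q)).exists_card_eq
      have hd : Cfsg.pCore r ↥Q ⊓ Cfsg.pCore s ↥Q = ⊥ := Grp.inf_eq_bot_of_coprime
        (by rw [hm, hn]; exact ((Nat.coprime_primes hr hs).2 hrs).pow m n)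
      exact congrArg Subtype.val (commute_of_normal_of_disjoint _ _ Grp.pCore_isNormal Grp.pCore_isNormal
        (disjoint_iff.2 hd) a b ha hb).eq
    have hLQ : L ≤ Q := by
      refine (closure_le _).2 fun x ⟨hx, hxc⟩ => ?_
      refine hN p hQp ?_
      have hcen : x ∈ centralizer (Qc p : Set X) := mem_centralizer_iff.2 fun k hk => by
        obtain ⟨m, hm⟩ := ((Grp.pCore_isPGroup (p := p) (G := ↥Q)).map Q.subtype).exists_card_eq
        refine Grp.pElement_centralizes Grp.centralizer_fittingSubgroup_le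
          (Q := zpowers x) (by rw [Nat.card_zpowers]; exact hx) (zpowers_le.2 hxc) (k := k) (e := m)
          (orderOf_dvd_iff_pow_eq_one.1 (hm ▸ (Qc p).orderOf_dvd_natCard hk)) ?_ x (mem_zpowers x)
        exact fun r hr hrp => mem_centralizer_iff.2 fun y hy => (hcc p r hp hr hrp.symm k hk y (hV r hr hy)).symm
      exact Subgroup.centralizer_le_normalizer _ hcen
    have hLn : L.Normal := by
      refine ⟨fun x hx g => ?_⟩
      have h1 : L.map (MulAut.conj g).toMonoidHom ≤ L := by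
        rw [hL, MonoidHom.map_closure, closure_le]
        rintro _ ⟨y, ⟨hy, hyc⟩, rfl⟩
        refine subset_closure ⟨?_, ?_⟩
        · simpa [MulAut.conj_apply] using (show (orderOf (g * y * g⁻¹)).Coprime p by rw [← MulAut.conj_apply, MulEquiv.orderOf_eq]; exact hy)
        · haveI := Grp.pCore_isNormal (p := p) (G := X)
          exact Normal.conj_mem inferInstance y hyc g
      exact h1 ⟨x, hx, rfl⟩
    -- `O_q(Q)` lies in `L`
    have hQqL : Qc q ≤ L := fun x hx => subset_closure ⟨by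
      obtain ⟨m, hm⟩ := ((Grp.pCore_isPGroup (p := q) (G := ↥Q)).map Q.subtype).exists_card_eq
      exact (((Nat.coprime_primes hq hp).2 hqp).pow_left m).coprime_dvd_left
        (hm ▸ (Qc q).orderOf_dvd_natCard hx), mem_centralizer_iff.2 fun y hy =>
        (hcc q p hq hp hqp x hx y (hV p hp hy)).symm⟩
    have hQqX : Qc q ≤ Cfsg.pCore q X := by
      haveI := hLn
      haveI := Grp.pCore_isNormal (p := q) (G := ↥Q)
      intro x hx
      refine Grp.pCore_map_le L ⟨⟨x, hQqL hx⟩, Grp.le_pCore (N := (Qc q).subgroupOf L) ⟨fun a ha g => ?_⟩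
        ((Grp.pCore_isPGroup (p := q) (G := ↥Q)).map Q.subtype).comap_subtype hx, rfl⟩
      obtain ⟨b, hb, hba⟩ := (mem_subgroupOf.1 ha : (a : X) ∈ Qc q)
      refine mem_subgroupOf.2 ⟨⟨g, hLQ g.2⟩ * b * ⟨g, hLQ g.2⟩⁻¹, Normal.conj_mem inferInstance b hb _, ?_⟩
      simp [← hba]
    refine hQ (top_le_iff.1 ?_)
    have h2 : Qc q = Cfsg.pCore q X := le_antisymm hQqX (hV q hq)
    have h3 := hN q hQq
    rw [h2, normalizer_eq_top_iff.2 Grp.pCore_isNormal] at h3
    exact h3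
  -- one prime: `ZJ`
  have hXp : Cfsg.pPrimeCore p X = ⊥ := pPrimeCore_eq_bot_of_pCores fun r hr hrp =>
    le_bot_iff.1 ((hV r hr).trans (hother r hr hrp).le)
  have hQp' : Cfsg.pPrimeCore p ↥Q = ⊥ := pPrimeCore_eq_bot_of_pCores fun r hr hrp => hbot r (hother r hr hrp)
  obtain ⟨S⟩ : Nonempty (Sylow p ↥Q) := inferInstance
  have hZJ := isZJFunctor_centerEl (p := p)
  set N : Subgroup ↥Q := Cfsg.centerThompsonOf p (S : Subgroup ↥Q) with hNdef
  have hNn : N.Normal := by
    have := Cfsg.Agent.S1458.result hQodd p S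
    rwa [hQp', sup_bot_eq] at this
  have hS1 : (S : Subgroup ↥Q) ≠ ⊥ := fun e => hQp (by
    show (Cfsg.pCore p ↥Q).map Q.subtype = ⊥
    rw [show Cfsg.pCore p ↥Q = ⊥ from le_bot_iff.1 ((Grp.pCore_le_sylow S).trans e.le), Subgroup.map_bot])
  have hN1 : N ≠ ⊥ := hZJ.ne_bot S.isPGroup' hS1
  have hNc : N.Characteristic := by
    refine characteristic_iff_map_eq.2 fun φ => ?_
    obtain ⟨g, hg⟩ := MulAction.exists_smul_eq ↥Q S (S.mapSurjective (f := φ.toMonoidHom) φ.surjective)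
    have e1 : ((S : Subgroup ↥Q)).map φ.toMonoidHom = (S : Subgroup ↥Q).map (MulAut.conj g).toMonoidHom := by
      rw [← Sylow.coe_mapSurjective (hf := φ.surjective), ← hg]
      rfl
    rw [hNdef, centerEl_map φ.toMonoidHom _ (fun x _ hx => (map_eq_one_iff φ φ.injective).1 hx), e1,
      ← centerEl_map (MulAut.conj g).toMonoidHom _
        (fun x _ hx => (map_eq_one_iff (MulAut.conj g) (MulAut.conj g).injective).1 hx), ← hNdef]
    exact Subgroup.Normal.map_conj_eq _ g
  set P₀ : Subgroup X := (S : Subgroup ↥Q).map Q.subtype with hP₀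
  have hNm : N.map Q.subtype = Cfsg.centerThompsonOf p P₀ :=
    centerEl_map Q.subtype _ fun x _ hx => Subtype.ext hx
  have hnle := hmem N hNc hN1
  rw [hNm] at hnle
  obtain ⟨P, hP⟩ := (S.isPGroup'.map Q.subtype).exists_le_sylow
  have hPeq : P₀ = (P : Subgroup X) := by
    by_contra hne
    obtain ⟨j, hj, hjP, hjN⟩ := exists_normalizing P.isPGroup' (lt_of_le_of_ne hP hne)
    have hjQ : j ∈ Q := hnle (hZJ.normalizer_le P₀ hjN)
    have hS' : IsPGroup p ↥((P : Subgroup X).subgroupOf Q) := P.isPGroup'.comap_subtype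
    have h1 : (P : Subgroup X).subgroupOf Q = (S : Subgroup ↥Q) := S.is_maximal' hS' fun x hx => hP ⟨x, hx, rfl⟩
    have h2 : (⟨j, hjQ⟩ : ↥Q) ∈ (S : Subgroup ↥Q) := h1 ▸ hj
    exact hjP ⟨⟨j, hjQ⟩, h2, rfl⟩
  have hXn := Cfsg.Agent.S1458.result hodd p P
  rw [hXp, sup_bot_eq, ← hPeq] at hXn
  rw [normalizer_eq_top_iff.2 hXn] at hnle
  exact hQ (top_le_iff.1 hnle)

end Cfsg.Agent.Invol.Core2
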