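import Cfsg.Agent.Lib.Invol.Core2.BalanceLocal
import Cfsg.Agent.Lib.Invol.Core2.OddMember
import Cfsg.Agent.Lib.Invol.FourPrime.Tools
import Cfsg.Agent.Lib.Invol.ZStar

/-!
# Bad involutions of twisted type: the setting

`u` is a bad involution whose other involutions in `C(u) ∩ M` form a single class under that group; an odd subgroup
of `C(u)` normalised by `C(u) ∩ M` lies in `W`, and odd subgroups of the centraliser of such an involution `x`
normalised by `C(u, x)` meet `W` with index dividing a prime `p ≤ 5`. The setting passes to quotients of local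
subgroups, so it supports an induction on the order of the group.
-/

set_option autoImplicit false
set_option linter.unusedSectionVars false

namespace Cfsg.Agent.Invol.Core2

open Subgroup

universe u

variable {G : Type u} [Group G] [Finite G]

/-- A bad involution `u` of twisted type with the partner `x`. -/
structure Twist (M W : Subgroup G) (u x : G) (p : ℕ) : Prop where
  ax : AX M W
  normLe : Subgroup.normalizer (W : Set G) ≤ M
  hu : orderOf u = 2
  huM : u ∈ M
  hx : orderOf x = 2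
  hxM : x ∈ M
  comm : Commute x u
  ne : x ≠ u
  bad : ¬ centralizer ({u} : Set G) ≤ M
  one : ∀ y ∈ M, orderOf y = 2 → Commute y u → y ≠ u → ∃ h ∈ M, Commute h u ∧ h * x * h⁻¹ = y
  nor : ∀ c : G, Commute c u → ∀ a ∈ W, Commute a u → c * a * c⁻¹ ∈ W
  inv : ∀ D : Subgroup G, Odd (Nat.card D) → D ≤ centralizer ({u} : Set G) →
    centralizer ({u} : Set G) ⊓ M ≤ normalizer (D : Set G) → D ≤ W
  side : ∀ D : Subgroup G, Odd (Nat.card D) → D ≤ centralizer ({x} : Set G) →
    centralizer ({u} : Set G) ⊓ M ⊓ centralizer ({x} : Set G) ≤ normalizer (D : Set G) →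
    D ⊓ M ≤ W ∧ W.relIndex D ∣ p
  small : p = 3 ∨ (p = 5 ∧ ∃ s ∈ M, Commute s u ∧ Commute s x ∧ (s * s = x ∨ s * s = x * u))

theorem mem_C {a c : G} : c ∈ centralizer ({a} : Set G) ↔ Commute c a := mem_centralizer_singleton_iff

/-- Conjugation as a homomorphism preserves the commutation with a fixed element. -/
theorem commute_conj {a c g : G} (h : Commute c a) : Commute (g * c * g⁻¹) (g * a * g⁻¹) := by
  simpa using h.map (MulAut.conj g).toMonoidHom

/-- An odd subgroup normalised by two commuting involutions is generated by three centralisers. -/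
theorem le_of_four {D T : Subgroup G} (hD : Odd (Nat.card D)) {a b : G} (ha : orderOf a = 2) (hb : orderOf b = 2)
    (hne : b ≠ a) (hc : Commute b a) (haD : a ∈ normalizer (D : Set G)) (hbD : b ∈ normalizer (D : Set G))
    (h1 : D ⊓ centralizer ({a} : Set G) ≤ T) (h2 : D ⊓ centralizer ({b} : Set G) ≤ T)
    (h3 : D ⊓ centralizer ({b * a} : Set G) ≤ T) : D ≤ T := by
  have hbz : b ∉ zpowers a := fun hm => by
    obtain ⟨i, hi⟩ := mem_zpowers_iff.1 hm
    rw [← zpow_mod_orderOf, ha] at hi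
    rcases Int.emod_two_eq_zero_or_one i with e | e <;> rw [Nat.cast_ofNat, e] at hi
    · rw [zpow_zero] at hi
      exact ne_one_of_orderOf_two hb hi.symm
    · rw [zpow_one] at hi
      exact hne hi.symm
  refine Invol.FourPrime.pair_le Nat.prime_two (H := ⊤) (u := a) (v := b)
    ⟨mem_top _, mem_top _, ha, hb, hc.symm.eq, hbz⟩ haD hbD (Nat.two_dvd_ne_zero.2 (Nat.odd_iff.1 hD)) ?_
  have key : ∀ f ∈ closure ({a, b} : Set G), f = 1 ∨ f = a ∨ f = b ∨ f = b * a := fun f hf => by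
    induction hf using closure_induction with
    | mem z hz =>
      rcases hz with rfl | rfl
      · exact Or.inr (Or.inl rfl)
      · exact Or.inr (Or.inr (Or.inl rfl))
    | one => exact Or.inl rfl
    | inv z _ hz =>
      rcases hz with rfl | rfl | rfl | rfl <;>
        simp [inv_of_orderOf_two ha, inv_of_orderOf_two hb, mul_inv_rev, hc.eq]
    | mul y z _ _ hy hz =>
      have haa := mul_self_of_orderOf_two ha
      have hbb := mul_self_of_orderOf_two hb
      have e1 : a * (b * a) = b := by rw [← mul_assoc, ← hc.eq, mul_assoc, haa, mul_one]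
      have e2 : b * (b * a) = a := by rw [← mul_assoc, hbb, one_mul]
      have e3 : b * a * a = b := by rw [mul_assoc, haa, mul_one]
      have e4 : b * a * b = a := by rw [mul_assoc, ← hc.eq, ← mul_assoc, hbb, one_mul]
      have e5 : b * a * (b * a) = 1 := by rw [← mul_assoc, e4, haa]
      rcases hy with hy | hy | hy | hy <;> rcases hz with hz | hz | hz | hz <;> rw [hy, hz] <;>
        simp [haa, hbb, e1, e2, e3, e4, e5, hc.symm.eq]
  intro f hf hf2
  rcases key f hf with rfl | rfl | rfl | rfl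
  · simp at hf2
  · exact h1
  · exact h2
  · exact h3

/-- The centraliser of an involution of `M` inside `M` controls the centraliser: its Sylow subgroups are maximal. -/
theorem AX.exists_maximal {M W : Subgroup G} (h : AX M W) {a : G} (ha : orderOf a = 2) (haM : a ∈ M) :
    ∃ T : Subgroup G, IsPGroup 2 T ∧ T ≤ centralizer ({a} : Set G) ⊓ M ∧
      ∀ P : Subgroup G, IsPGroup 2 P → P ≤ centralizer ({a} : Set G) → T ≤ P → P ≤ T := by
  haveI : Fact (Nat.Prime 2) := ⟨Nat.prime_two⟩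
  obtain ⟨b, hb, hb2, hne, hcm⟩ := h.pair a haM ha
  have hV : IsPGroup 2 ↥(zpowers a ⊔ zpowers b) := by
    refine (IsPGroup.of_card (n := 1) ?_).to_sup_of_normal_right' (IsPGroup.of_card (n := 1) ?_) ?_
    · rw [Nat.card_zpowers, ha, pow_one]
    · rw [Nat.card_zpowers, hb2, pow_one]
    · refine le_trans ?_ (Subgroup.centralizer_le_normalizer _)
      rw [zpowers_le, mem_centralizer_iff]
      rintro _ ⟨k, rfl⟩
      exact ((show Commute b a from hcm.symm).zpow_left k).eq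
  set L := centralizer ({a} : Set G) ⊓ M
  have hVL : zpowers a ⊔ zpowers b ≤ L :=
    sup_le (zpowers_le.2 ⟨mem_C.2 (Commute.refl a), haM⟩) (zpowers_le.2 ⟨mem_C.2 hcm.symm, hb⟩)
  obtain ⟨T₀, hT₀⟩ := (hV.comap_of_injective L.subtype L.subtype_injective :
    IsPGroup 2 ((zpowers a ⊔ zpowers b).subgroupOf L)).exists_le_sylow
  refine ⟨(T₀ : Subgroup L).map L.subtype, T₀.isPGroup'.map _, map_subtype_le _, fun P hP hPC hTP => ?_⟩
  have hmem : ∀ y ∈ zpowers a ⊔ zpowers b, y ∈ (T₀ : Subgroup L).map L.subtype := fun y hy =>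
    ⟨⟨y, hVL hy⟩, hT₀ hy, rfl⟩
  by_contra hle
  obtain ⟨j, hj, hjT, hjN⟩ := exists_normalizing hP (lt_of_le_of_ne hTP fun e => hle e.ge)
  have hja : j * a * j⁻¹ = a := by rw [(mem_C.1 (hPC hj)).eq, mul_inv_cancel_right]
  have hjM : j ∈ M := h.move a b j ha hb2 hne hcm haM hb (by rwa [hja])
    (map_subtype_le _ ((mem_normalizer_iff.1 hjN b).1 (hmem b (mem_sup_right (mem_zpowers b))))).2
  have h1 : IsPGroup 2 ↥(P.subgroupOf L) := hP.comap_of_injective L.subtype L.subtype_injective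
  have h2 := T₀.is_maximal' h1 fun y hy => hTP ⟨y, hy, rfl⟩
  exact hjT ⟨⟨j, hPC hj, hjM⟩, h2 ▸ (hj : (⟨j, hPC hj, hjM⟩ : L) ∈ P.subgroupOf L), rfl⟩

/-- A subgroup `K` over `C(u) ∩ M`: two-subgroups of `C_K(u)` are moved into `M` inside `C_K(u)`. -/
theorem AX.exists_into {M W : Subgroup G} (h : AX M W) {u : G} (hu : orderOf u = 2) (huM : u ∈ M)
    {K : Subgroup G} (hK : centralizer ({u} : Set G) ⊓ M ≤ K) {P : Subgroup G} (hP : IsPGroup 2 P)
    (hPK : P ≤ centralizer ({u} : Set G) ⊓ K) :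
    ∃ c ∈ K, Commute c u ∧ ∀ y ∈ P, c * y * c⁻¹ ∈ M := by
  haveI : Fact (Nat.Prime 2) := ⟨Nat.prime_two⟩
  obtain ⟨T, hT, hTle, hmax⟩ := h.exists_maximal hu huM
  set L := centralizer ({u} : Set G) ⊓ K
  obtain ⟨T₁, hT₁⟩ := (hT.comap_of_injective L.subtype L.subtype_injective :
    IsPGroup 2 (T.subgroupOf L)).exists_le_sylow
  obtain ⟨P₁, hP₁⟩ := (hP.comap_of_injective L.subtype L.subtype_injective :
    IsPGroup 2 (P.subgroupOf L)).exists_le_sylow
  have hT₁M : (T₁ : Subgroup L).map L.subtype ≤ M := fun y hy => (hTle (hmax _ (T₁.isPGroup'.map _)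
    ((map_subtype_le _).trans inf_le_left)
    (fun t ht => ⟨⟨t, (hTle ht).1, hK (hTle ht)⟩, hT₁ (show (⟨t, (hTle ht).1, hK (hTle ht)⟩ : L) ∈
      T.subgroupOf L from ht), rfl⟩) hy)).2
  obtain ⟨c, hc⟩ := MulAction.exists_smul_eq L P₁ T₁
  refine ⟨c, c.2.2, mem_C.1 c.2.1, fun y hy => hT₁M ⟨c * ⟨y, hPK hy⟩ * c⁻¹, ?_, rfl⟩⟩
  rw [← hc]
  exact ⟨_, hP₁ (show (⟨y, hPK hy⟩ : L) ∈ P.subgroupOf L from hy), rfl⟩

namespace Twist

variable {M W : Subgroup G} {u x : G} {p : ℕ}

theorem xu_order (h : Twist M W u x p) : orderOf (x * u) = 2 ∧ x * u ≠ u ∧ x * u ≠ x ∧ x * u ∈ M ∧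
    Commute (x * u) u ∧ Commute (x * u) x := by
  have hxu : x * u ≠ 1 := fun e => h.ne (by rw [mul_eq_one_iff_eq_inv.1 e, inv_of_orderOf_two h.hu])
  refine ⟨orderOf_two_iff.2 ⟨?_, hxu⟩, fun e => ne_one_of_orderOf_two h.hx (by simpa using e),
    fun e => ne_one_of_orderOf_two h.hu (by simpa using e), mul_mem h.hxM h.huM,
    h.comm.mul_left (Commute.refl u), (Commute.refl x).mul_left h.comm.symm⟩
  rw [mul_assoc, ← mul_assoc u x, ← h.comm.eq, mul_assoc x u u, mul_self_of_orderOf_two h.hu, mul_one,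
    mul_self_of_orderOf_two h.hx]

/-- An element centralising `u` and the involution `x` lies in `M`. -/
theorem pair_mem (h : Twist M W u x p) {c : G} (hcu : Commute c u) (hcx : Commute c x) : c ∈ M :=
  h.ax.move u x c h.hu h.hx h.ne.symm h.comm.symm.eq h.huM h.hxM
    (by rw [hcu.eq, mul_inv_cancel_right]; exact h.huM) (by rw [hcx.eq, mul_inv_cancel_right]; exact h.hxM)

/-- If `u` has a commuting conjugate in `K`, the group `K ∩ M` fuses `x` to `u`. -/
theorem exists_fuse (h : Twist M W u x p) {K : Subgroup G} (hK : centralizer ({u} : Set G) ⊓ M ≤ K) {k : G}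
    (hk : k ∈ K) (hcm : Commute u (k * u * k⁻¹)) (hne : k * u * k⁻¹ ≠ u) :
    ∃ m ∈ K, m ∈ M ∧ m * x * m⁻¹ = u := by
  have huK : u ∈ K := hK ⟨mem_C.2 (Commute.refl u), h.huM⟩
  have hxK : x ∈ K := hK ⟨mem_C.2 h.comm, h.hxM⟩
  set y := k * u * k⁻¹
  have hy : orderOf y = 2 := by rw [orderOf_conj_eq, h.hu]
  have hP : ∀ {a : G}, orderOf a = 2 → IsPGroup 2 ↥(zpowers a) := fun {a} ha =>
    haveI : Fact (Nat.Prime 2) := ⟨Nat.prime_two⟩
    IsPGroup.of_card (n := 1) (by rw [Nat.card_zpowers, ha, pow_one])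
  obtain ⟨c, hcK, hcu, hc⟩ := h.ax.exists_into h.hu h.huM hK (hP hy)
    (zpowers_le.2 ⟨mem_C.2 hcm.symm, K.mul_mem (K.mul_mem hk huK) (K.inv_mem hk)⟩)
  have hy' : c * y * c⁻¹ ≠ u := fun e => hne (by
    calc y = c⁻¹ * (c * y * c⁻¹) * c := by group
      _ = u := by rw [e, mul_assoc, ← hcu.eq, inv_mul_cancel_left])
  obtain ⟨d, hdM, hdu, hd⟩ := h.one _ (hc y (mem_zpowers y)) (by rw [orderOf_conj_eq, hy])
    (by
      have := commute_conj (g := c) hcm.symm
      rwa [hcu.eq, mul_inv_cancel_right] at this) hy'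
  have hdK : d ∈ K := hK ⟨mem_C.2 hdu, hdM⟩
  obtain ⟨g, hgK, hg⟩ : ∃ g ∈ K, g * x * g⁻¹ = u := by
    refine ⟨(d⁻¹ * (c * k))⁻¹, inv_mem (mul_mem (inv_mem hdK) (mul_mem hcK hk)), ?_⟩
    calc (d⁻¹ * (c * k))⁻¹ * x * (d⁻¹ * (c * k))⁻¹⁻¹ = k⁻¹ * c⁻¹ * (d * x * d⁻¹) * (c * k) := by group
      _ = u := by rw [hd]; simp only [y]; group
  -- the four-group of `u` and `x` is carried into `C(u)`
  have hgu : Commute (g * u * g⁻¹) u := by
    have := commute_conj (g := g) h.comm.symm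
    rwa [hg] at this
  obtain ⟨c', hc'K, hc'u, hc'⟩ := h.ax.exists_into h.hu h.huM hK (hP (a := g * u * g⁻¹) (by
    rw [orderOf_conj_eq, h.hu])) (zpowers_le.2 ⟨mem_C.2 hgu, K.mul_mem (K.mul_mem hgK huK) (K.inv_mem hgK)⟩)
  have e1 : c' * g * x * (c' * g)⁻¹ = u := by
    calc c' * g * x * (c' * g)⁻¹ = c' * (g * x * g⁻¹) * c'⁻¹ := by group
      _ = u := by rw [hg, hc'u.eq, mul_inv_cancel_right]
  have e2 : c' * g * u * (c' * g)⁻¹ ∈ M := by
    have := hc' _ (mem_zpowers (g * u * g⁻¹))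
    rwa [show c' * g * u * (c' * g)⁻¹ = c' * (g * u * g⁻¹) * c'⁻¹ by group]
  exact ⟨c' * g, mul_mem hc'K hgK,
    h.ax.move x u (c' * g) h.hx h.hu h.ne h.comm.eq h.hxM h.huM (by rw [e1]; exact h.huM) e2, e1⟩

end Twist

end Cfsg.Agent.Invol.Core2
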