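import Cfsg.Agent.Lib.Invol.Basic
import Cfsg.Agent.Lib.Invol.Sylow

/-!
# Proper two-generated core: the setting and the elementary facts at a bad involution

`W` is an odd subgroup normalised by the proper subgroup `M`, and a commuting pair of involutions of `M` is moved
into `M` only by `M`. An involution `u` of `M` is bad when its centraliser is not contained in `M`; in that
centraliser every other involution of `M` fixes a single coset of `M`.
-/

set_option autoImplicit false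
set_option linter.unusedSectionVars false

namespace Cfsg.Agent.Invol.Core2

open Subgroup

variable {G : Type*} [Group G] [Finite G]

/-- The setting of a proper two-generated core. -/
structure AX (M W : Subgroup G) : Prop where
  top : M ≠ ⊤
  odd : Odd (Nat.card W)
  le : W ≤ M
  norm : M ≤ Subgroup.normalizer (W : Set G)
  move : ∀ a b g : G, orderOf a = 2 → orderOf b = 2 → a ≠ b → a * b = b * a → a ∈ M → b ∈ M →
    g * a * g⁻¹ ∈ M → g * b * g⁻¹ ∈ M → g ∈ M
  pair : ∀ a ∈ M, orderOf a = 2 → ∃ b ∈ M, orderOf b = 2 ∧ a ≠ b ∧ a * b = b * a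

variable {M W : Subgroup G}

/-- An involution with centraliser inside `M` fixes a single coset. -/
theorem AX.fix (h : AX M W) {z g : G} (hz : orderOf z = 2) (hzM : z ∈ M)
    (hC : centralizer ({z} : Set G) ≤ M) (hg : g * z * g⁻¹ ∈ M) : g ∈ M := by
  obtain ⟨b, hbM, hb, hne, hcm⟩ := h.pair _ hg (by rw [orderOf_conj_eq, hz])
  have hb' : orderOf (g⁻¹ * b * g) = 2 := by
    have := orderOf_conj_eq g⁻¹ b
    rw [inv_inv] at this
    rw [this, hb]
  have hcm' : z * (g⁻¹ * b * g) = g⁻¹ * b * g * z :=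
    calc z * (g⁻¹ * b * g) = g⁻¹ * (g * z * g⁻¹ * b) * g := by group
      _ = g⁻¹ * (b * (g * z * g⁻¹)) * g := by rw [hcm]
      _ = g⁻¹ * b * g * z := by group
  refine h.move z (g⁻¹ * b * g) g hz hb' (fun e => hne (by rw [e]; group)) hcm' hzM
    (hC (mem_centralizer_singleton_iff.2 hcm'.symm)) hg ?_
  rwa [show g * (g⁻¹ * b * g) * g⁻¹ = b by group]

/-- In the centraliser of an involution of `M` every other involution fixes a single coset. -/
theorem AX.bad_fix (h : AX M W) {u y c : G} (hu : orderOf u = 2) (huM : u ∈ M) (hy : orderOf y = 2)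
    (hyM : y ∈ M) (hne : y ≠ u) (hyu : y * u = u * y) (hc : c * u = u * c) (hcy : c * y * c⁻¹ ∈ M) :
    c ∈ M :=
  h.move u y c hu hy (Ne.symm hne) hyu.symm huM hyM
    (by rwa [hc, mul_inv_cancel_right]) hcy

/-- Two involutions of `C(u)` fixing different cosets have no common commuting involution but `u`. -/
theorem AX.centre_eq (h : AX M W) {u x y w c : G} (hu : orderOf u = 2) (huM : u ∈ M) (hx : orderOf x = 2)
    (hxM : x ∈ M) (hxne : x ≠ u) (hxu : x * u = u * x) (hy : orderOf y = 2) (hyne : y ≠ u)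
    (hyu : y * u = u * y) (hc : c * u = u * c) (hcM : c ∉ M) (hcy : c⁻¹ * y * c ∈ M) (hw : orderOf w = 2)
    (hwu : w * u = u * w) (hwx : w * x = x * w) (hwy : w * y = y * w) : w = u := by
  by_contra hwne
  have hci : c⁻¹ * u = u * c⁻¹ := by
    calc c⁻¹ * u = c⁻¹ * (u * c) * c⁻¹ := by group
      _ = c⁻¹ * (c * u) * c⁻¹ := by rw [hc]
      _ = u * c⁻¹ := by group
  have hconj : ∀ a : G, a * u = u * a → c⁻¹ * a * c * u = u * (c⁻¹ * a * c) := fun a ha => by
    calc c⁻¹ * a * c * u = c⁻¹ * a * (c * u) := by group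
      _ = c⁻¹ * (a * u) * c := by rw [hc]; group
      _ = c⁻¹ * u * (a * c) := by rw [ha]; group
      _ = u * (c⁻¹ * a * c) := by rw [hci]; group
  have ho : ∀ a : G, orderOf (c⁻¹ * a * c) = orderOf a := fun a => by
    have := orderOf_conj_eq c⁻¹ a
    rwa [inv_inv] at this
  have hne' : ∀ a : G, a ≠ u → c⁻¹ * a * c ≠ u := fun a ha e => ha (by
    calc a = c * (c⁻¹ * a * c) * c⁻¹ := by group
      _ = c * u * c⁻¹ := by rw [e]
      _ = u := by rw [hc, mul_inv_cancel_right])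
  have hwM : w ∈ M := h.bad_fix hu huM hx hxM hxne hxu hwu (by rwa [hwx, mul_inv_cancel_right])
  have hwM' : c⁻¹ * w * c ∈ M := by
    refine h.bad_fix hu huM ((ho y).trans hy) hcy (hne' y hyne) (hconj y hyu) (hconj w hwu) ?_
    rw [show c⁻¹ * w * c * (c⁻¹ * y * c) * (c⁻¹ * w * c)⁻¹ = c⁻¹ * (w * y * w⁻¹) * c by group, hwy,
      mul_inv_cancel_right]
    exact hcy
  refine hcM (inv_mem_iff.1 (h.bad_fix hu huM hw hwM hwne hwu hci ?_))
  rwa [inv_inv]

/-- If one involution of `M` centralising `u` is conjugate in `C(u)` to its product with `u`, all are. -/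
theorem AX.conj_mul (h : AX M W) {u f : G} (hu : orderOf u = 2) (huM : u ∈ M)
    (hbad : ¬ centralizer ({u} : Set G) ≤ M) (hf : orderOf f = 2) (hfM : f ∈ M) (hfne : f ≠ u)
    (hfu : f * u = u * f) (hff : ∃ d, d * u = u * d ∧ d * f * d⁻¹ = f * u) {y : G} (hy : orderOf y = 2)
    (hyM : y ∈ M) (hyne : y ≠ u) (hyu : y * u = u * y) : ∃ d, d * u = u * d ∧ d * y * d⁻¹ = y * u := by
  obtain ⟨c, hcC, hcM⟩ := SetLike.not_le_iff_exists.1 hbad
  rw [mem_centralizer_singleton_iff] at hcC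
  obtain ⟨d₀, hd₀u, hd₀⟩ := hff
  have hcm : ∀ a b : G, a * u = u * a → b * u = u * b → a * b * u = u * (a * b) := fun a b ha hb => by
    rw [mul_assoc, hb, ← mul_assoc, ha, mul_assoc]
  have hcmi : ∀ a : G, a * u = u * a → a⁻¹ * u = u * a⁻¹ := fun a ha =>
    ((show Commute a u from ha).inv_left).eq
  -- a conjugate of `f` fixing another coset
  obtain ⟨f', hf'def⟩ : ∃ f', f' = c * f * c⁻¹ := ⟨_, rfl⟩
  have hf'2 : orderOf f' = 2 := by rw [hf'def, orderOf_conj_eq, hf]
  have hf'u : f' * u = u * f' := hf'def ▸ hcm _ _ (hcm _ _ hcC hfu) (hcmi _ hcC)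
  have hf'ne : f' ≠ u := fun e => hfne (by
    calc f = c⁻¹ * f' * c := by rw [hf'def]; group
      _ = c⁻¹ * (u * c) := by rw [e, mul_assoc]
      _ = u := by rw [← hcC]; group)
  have hcf : c⁻¹ * f' * c ∈ M := by rw [hf'def, show c⁻¹ * (c * f * c⁻¹) * c = f by group]; exact hfM
  -- `f'` and `f' * u` are conjugate
  have hf'f : ∃ d, d * u = u * d ∧ d * f' * d⁻¹ = f' * u := by
    refine ⟨c * d₀ * c⁻¹, hcm _ _ (hcm _ _ hcC hd₀u) (hcmi _ hcC), ?_⟩
    rw [hf'def, show c * d₀ * c⁻¹ * (c * f * c⁻¹) * (c * d₀ * c⁻¹)⁻¹ = c * (d₀ * f * d₀⁻¹) * c⁻¹ by group,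
      hd₀]
    calc c * (f * u) * c⁻¹ = c * f * (u * c⁻¹) := by group
      _ = c * f * (c⁻¹ * u) := by rw [hcmi _ hcC]
      _ = c * f * c⁻¹ * u := by group
  obtain ⟨a, b, hb, hab⟩ := Nat.exists_eq_two_pow_mul_odd (orderOf_pos (y * f')).ne'
  obtain ⟨d, hd, hdy, hord⟩ := exists_conj_two_part hy hf'2 hab hb
  have hdu : d * u = u * d := by
    refine mem_centralizer_singleton_iff.1 ((closure_le _).2 ?_ hd)
    rintro x (rfl | rfl)
    · exact mem_centralizer_singleton_iff.2 hyu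
    · exact mem_centralizer_singleton_iff.2 hf'u
  have hpu : ∀ k : ℕ, (y * f') ^ k * u = u * (y * f') ^ k := fun k =>
    ((show Commute (y * f') u from hcm _ _ hyu hf'u).pow_left k).eq
  rcases a with _ | a
  · -- odd product: `y` is conjugate to `f'`
    rw [pow_zero, orderOf_eq_one_iff] at hord
    rw [hord, mul_one] at hdy
    obtain ⟨e, heu, he⟩ := hf'f
    refine ⟨d * e * d⁻¹, hcm _ _ (hcm _ _ hdu heu) (hcmi _ hdu), ?_⟩
    rw [← hdy, show d * e * d⁻¹ * (d * f' * d⁻¹) * (d * e * d⁻¹)⁻¹ = d * (e * f' * e⁻¹) * d⁻¹ by group, he]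
    calc d * (f' * u) * d⁻¹ = d * f' * (u * d⁻¹) := by group
      _ = d * f' * (d⁻¹ * u) := by rw [hcmi _ hdu]
      _ = d * f' * d⁻¹ * u := by group
  -- the central involution of the dihedral group is `u`
  have hyy : y * y = 1 := mul_self_of_orderOf_two hy
  obtain ⟨w, hwdef⟩ : ∃ w, w = (y * f') ^ (2 ^ a * b) := ⟨_, rfl⟩
  have hpos : 0 < 2 ^ a * b := Nat.mul_pos (Nat.two_pow_pos _) hb.pos
  have hw2 : orderOf w = 2 := by
    rw [hwdef, orderOf_pow' _ hpos.ne', hab, Nat.gcd_eq_right ⟨2, by ring⟩,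
      show 2 ^ (a + 1) * b = 2 * (2 ^ a * b) by ring, Nat.mul_div_cancel _ hpos]
  have hww : w⁻¹ = w := inv_of_orderOf_two hw2
  have hwy : w * y = y * w := by
    have e := mul_zpow_comm hy hf'2 ((2 ^ a * b : ℕ) : ℤ)
    rw [zpow_natCast, zpow_neg, zpow_natCast, ← hwdef, hww] at e
    exact e.symm
  have hwf : w * f' = f' * w := by
    have hp : w * (y * f') = y * f' * w := hwdef ▸ (Commute.self_pow (y * f') _).eq.symm
    calc w * f' = w * y * (y * f') := by rw [mul_assoc w y, ← mul_assoc y y, hyy, one_mul]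
      _ = y * (w * (y * f')) := by rw [hwy, mul_assoc]
      _ = y * y * f' * w := by rw [hp]; group
      _ = f' * w := by rw [hyy, one_mul]
  have hwu : w = u := h.centre_eq hu huM hy hyM hyne hyu hf'2 hf'ne hf'u hcC hcM hcf hw2
    (hwdef ▸ hpu _) hwy hwf
  rcases a with _ | a
  · -- product of order twice odd: `y * u` is conjugate to `f'`
    rw [pow_zero, one_mul] at hwdef
    rw [← hwdef, hwu] at hdy
    obtain ⟨e, heu, he⟩ := hf'f
    refine ⟨d * e * d⁻¹, hcm _ _ (hcm _ _ hdu heu) (hcmi _ hdu), ?_⟩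
    have hy' : y = d * (f' * u) * d⁻¹ := by
      calc y = y * u * u := by rw [mul_assoc, mul_self_of_orderOf_two hu, mul_one]
        _ = d * f' * (d⁻¹ * u) := by rw [← hdy]; group
        _ = d * f' * (u * d⁻¹) := by rw [hcmi _ hdu]
        _ = d * (f' * u) * d⁻¹ := by group
    have he' : e * (f' * u) * e⁻¹ = f' := by
      calc e * (f' * u) * e⁻¹ = e * f' * (u * e⁻¹) := by group
        _ = e * f' * (e⁻¹ * u) := by rw [hcmi _ heu]
        _ = e * f' * e⁻¹ * u := by group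
        _ = f' := by rw [he, mul_assoc, mul_self_of_orderOf_two hu, mul_one]
    calc d * e * d⁻¹ * y * (d * e * d⁻¹)⁻¹ = d * (e * (f' * u) * e⁻¹) * d⁻¹ := by rw [hy']; group
      _ = d * f' * d⁻¹ := by rw [he']
      _ = y * u := hdy
  · -- a rotation of order four
    refine ⟨(y * f') ^ (2 ^ a * b), hpu _, ?_⟩
    have e := mul_zpow_comm hy hf'2 (-((2 ^ a * b : ℕ) : ℤ))
    rw [neg_neg] at e
    calc (y * f') ^ (2 ^ a * b) * y * ((y * f') ^ (2 ^ a * b))⁻¹
        = (y * f') ^ ((2 ^ a * b : ℕ) : ℤ) * y * (y * f') ^ (-((2 ^ a * b : ℕ) : ℤ)) := by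
          rw [zpow_neg, zpow_natCast]
      _ = y * (y * f') ^ (-((2 ^ a * b : ℕ) : ℤ)) * (y * f') ^ (-((2 ^ a * b : ℕ) : ℤ)) := by rw [← e]
      _ = y * ((y * f') ^ (2 ^ (a + 1) * b))⁻¹ := by
          rw [mul_assoc, ← zpow_add, ← neg_add, zpow_neg]
          congr 2
          rw [← Nat.cast_add, zpow_natCast]
          congr 1
          ring
      _ = y * u := by rw [← hwdef, hwu, inv_of_orderOf_two hu]

end Cfsg.Agent.Invol.Core2
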