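import Cfsg.Agent.Lib.Invol.Core2.Split
import Cfsg.Agent.Lib.Invol.Core2.Setting
import Cfsg.Agent.Lib.Invol.StronglyEmbedded
import Cfsg.Agent.Lib.Invol.ZStar
import Cfsg.Agent.Lib.Grp.Cores
import Cfsg.Agent.S1913
import Cfsg.Agent.S1221

/-!
# Two-generated core: a good involution in the centre of a Sylow subgroup kills `W`

`M` contains every element moving a four-group of `M` into `M`, `W` is normal in `M` of odd order.  If some
involution `z` of the centre of a Sylow 2-subgroup has its centralizer in `M`, the bad involutions are of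
split type, so `M ∩ K` is strongly embedded in `K = ⟨z^G⟩` and `W` lies in the odd core of `G`.
-/

set_option autoImplicit false
set_option linter.unusedSectionVars false
set_option linter.style.haveILetI false

namespace Cfsg.Agent.Invol.Core2

open Subgroup

universe u

variable {G : Type u} [Group G] [Finite G] {M : Subgroup G}

/-- A four-group of `M` is moved into `M` only by `M`. -/
def FourClosed (M : Subgroup G) : Prop :=
  ∀ a b g : G, a ∈ M → b ∈ M → orderOf a = 2 → orderOf b = 2 → a ≠ b → Commute a b →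
    g * a * g⁻¹ ∈ M → g * b * g⁻¹ ∈ M → g ∈ M

/-- An involution of `M` whose centralizer is in `M` is moved into `M` only by `M`. -/
theorem mem_of_good (hF : FourClosed M) (hpartner : ∀ x ∈ M, orderOf x = 2 → ∃ y ∈ M, orderOf y = 2 ∧ x ≠ y ∧ Commute x y)
    {x g : G} (hx : x ∈ M) (hx2 : orderOf x = 2) (hgood : ∀ c : G, Commute c x → c ∈ M) (hg : g * x * g⁻¹ ∈ M) :
    g ∈ M := by
  obtain ⟨y, hy, hy2, hne, hc⟩ := hpartner _ hg (by rw [orderOf_conj_eq, hx2])
  refine inv_mem_iff.1 (hF _ y g⁻¹ hg hy (by rw [orderOf_conj_eq, hx2]) hy2 hne hc ?_ (hgood _ ?_))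
  · simpa [mul_assoc] using hx
  · have h := hc.symm.map (MulAut.conj g⁻¹).toMonoidHom
    simpa [MulAut.conj_apply, mul_assoc] using h

/-- Every involution of `M` has a partner in `M`. -/
theorem exists_partner (S : Sylow 2 G) (hSM : (S : Subgroup G) ≤ M) {z : G} (hz : z ∈ (S : Subgroup G))
    (hz2 : orderOf z = 2) (hzc : ∀ s ∈ (S : Subgroup G), Commute s z)
    {y₀ : G} (hy₀ : y₀ ∈ (S : Subgroup G)) (hy2 : orderOf y₀ = 2) (hy0z : y₀ ≠ z) {x : G} (hx : x ∈ M)
    (hx2 : orderOf x = 2) : ∃ y ∈ M, orderOf y = 2 ∧ x ≠ y ∧ Commute x y := by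
  haveI : Fact (Nat.Prime 2) := ⟨Nat.prime_two⟩
  have hp : IsPGroup 2 ↥(zpowers (⟨x, hx⟩ : M)) :=
    IsPGroup.of_card (n := 1) (by rw [Nat.card_zpowers, pow_one, ← Subgroup.orderOf_coe, hx2])
  obtain ⟨P, hP⟩ := hp.exists_le_sylow
  obtain ⟨m, hm⟩ := MulAction.exists_smul_eq M P (S.subtype hSM)
  have hxS : (MulAut.conj m (⟨x, hx⟩ : M) : M) ∈ ((S.subtype hSM : Sylow 2 M) : Subgroup M) := by
    rw [← hm]
    exact Subgroup.smul_mem_pointwise_smul _ _ _ (hP (mem_zpowers _))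
  have hxS' : (m : G) * x * (m : G)⁻¹ ∈ (S : Subgroup G) := hxS
  set x' := (m : G) * x * (m : G)⁻¹ with hx'
  obtain ⟨w, hw, hw2, hne, hc⟩ : ∃ w ∈ (S : Subgroup G), orderOf w = 2 ∧ x' ≠ w ∧ Commute x' w := by
    by_cases h : x' = z
    · exact ⟨y₀, hy₀, hy2, fun e => hy0z (e.symm.trans h), h ▸ (hzc y₀ hy₀).symm⟩
    · exact ⟨z, hz, hz2, h, hzc x' hxS'⟩
  refine ⟨(m : G)⁻¹ * w * m, mul_mem (mul_mem (inv_mem m.2) (hSM hw)) m.2, ?_, ?_, ?_⟩
  · have := orderOf_conj_eq (m : G)⁻¹ w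
    rwa [inv_inv, hw2] at this
  · intro e
    exact hne (by rw [hx', e]; group)
  · have h1 := hc.map (MulAut.conj (m : G)⁻¹).toMonoidHom
    simpa [hx', MulAut.conj_apply, mul_assoc] using h1

/-- A bad involution commuting with `z` has a conjugate of `z` in its class data. -/
theorem exists_central_conj (S : Sylow 2 G) {z : G} (hz : z ∈ (S : Subgroup G)) (hz2 : orderOf z = 2)
    (hzc : ∀ s ∈ (S : Subgroup G), Commute s z) (hgood : ∀ c : G, Commute c z → c ∈ M) {u : G}
    (hu2 : orderOf u = 2) (huz : Commute u z) :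
    ∃ f m : G, f = m * z * m⁻¹ ∧ f ∈ M ∧ Commute f u ∧ (f ≠ u → f * u ∉ classIn u f) ∧
      ∃ Q : Sylow 2 ↥(centralizer ({u} : Set G)),
        ∀ q ∈ (Q : Subgroup ↥(centralizer ({u} : Set G))), Commute (q : G) f := by
  haveI : Fact (Nat.Prime 2) := ⟨Nat.prime_two⟩
  set C : Subgroup G := centralizer ({u} : Set G) with hC
  have hzC : z ∈ C := mem_centralizer_singleton_iff.2 huz.symm.eq
  have hpz : IsPGroup 2 ↥(zpowers (⟨z, hzC⟩ : C)) :=
    IsPGroup.of_card (n := 1) (by rw [Nat.card_zpowers, pow_one, ← Subgroup.orderOf_coe, hz2])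
  obtain ⟨Q, hQ⟩ := hpz.exists_le_sylow
  have huC : u ∈ C := mem_centralizer_singleton_iff.2 rfl
  have hun : (zpowers (⟨u, huC⟩ : C)).Normal := by
    refine ⟨fun a ha g => ?_⟩
    obtain ⟨i, rfl⟩ := mem_zpowers_iff.1 ha
    have hc : Commute g (⟨u, huC⟩ : C) := Subtype.ext (mem_centralizer_singleton_iff.1 g.2)
    rw [(hc.zpow_right i).eq, mul_inv_cancel_right]
    exact zpow_mem_zpowers _ i
  have huQ : (⟨u, huC⟩ : C) ∈ (Q : Subgroup C) :=
    Grp.pCore_le_sylow Q (Grp.le_pCore hun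
      (IsPGroup.of_card (n := 1) (by rw [Nat.card_zpowers, pow_one, ← Subgroup.orderOf_coe, hu2]))
      (mem_zpowers _))
  obtain ⟨S', hS'⟩ := (Q.isPGroup'.map C.subtype).exists_le_sylow
  obtain ⟨m, hm⟩ := MulAction.exists_smul_eq G S S'
  set f := m * z * m⁻¹ with hf
  have hcomm : ∀ q : C, q ∈ (Q : Subgroup C) → Commute (q : G) f := fun q hq => by
    have h1 : (q : G) ∈ (S' : Subgroup G) := hS' ⟨q, hq, rfl⟩
    rw [← hm] at h1
    obtain ⟨s, hs, hsq⟩ := h1
    have h2 := (hzc s hs).map (MulAut.conj m).toMonoidHom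
    rw [← hsq]
    simpa [MulAut.conj_apply, hf] using h2
  have hfu : Commute f u := (hcomm _ huQ).symm
  have hfM : f ∈ M := hgood f (hcomm ⟨z, hzC⟩ (hQ (mem_zpowers _))).symm
  refine ⟨f, m, rfl, hfM, hfu, fun hne ⟨c, hcu, hc⟩ => ?_, Q, hcomm⟩
  -- the two central elements would be conjugate in the normalizer of `Q`
  have hfC : f ∈ C := mem_centralizer_singleton_iff.2 hfu.eq
  have hcC : c ∈ C := mem_centralizer_singleton_iff.2 hcu.eq
  set F : C := ⟨f, hfC⟩ with hF
  set U : C := ⟨u, huC⟩ with hU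
  have hFQ : F ∈ centralizer (Q : Set C) := mem_centralizer_iff.2 fun q hq => Subtype.ext (hcomm q hq).eq
  have hUc : ∀ q : C, Commute q U := fun q => Subtype.ext (mem_centralizer_singleton_iff.1 q.2)
  have hconj : (⟨c, hcC⟩ : C) * F * (⟨c, hcC⟩ : C)⁻¹ = F * U := Subtype.ext hc
  obtain ⟨n, hn, hne'⟩ := Q.conj_eq_normalizer_conj_of_mem_centralizer F (⟨c, hcC⟩ : C)⁻¹ hFQ (by
    rw [inv_inv, hconj]
    exact mem_centralizer_iff.2 fun q hq =>
      ((show Commute q F from mem_centralizer_iff.1 hFQ q hq).mul_right (hUc q)).eq)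
  rw [inv_inv, hconj] at hne'
  have hUU : U * U = 1 := Subtype.ext (mul_self_of_orderOf_two hu2)
  -- an odd power of `n` still moves `F`, yet it can be chosen in `Q`
  have hn2 : Commute (n * n) F := by
    have h1 : n⁻¹ * (n⁻¹ * F * n) * n = F := by
      calc n⁻¹ * (n⁻¹ * F * n) * n = n⁻¹ * (F * U) * n := by rw [← hne']
        _ = n⁻¹ * F * (U * n) := by group
        _ = n⁻¹ * F * (n * U) := by rw [(hUc n).eq]
        _ = (n⁻¹ * F * n) * U := by group
        _ = F := by rw [← hne', mul_assoc, hUU, mul_one]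
    show n * n * F = F * (n * n)
    calc n * n * F = n * n * (n⁻¹ * (n⁻¹ * F * n) * n) := by rw [h1]
      _ = F * (n * n) := by group
  obtain ⟨k, m₀, hm₀, hord⟩ := Nat.exists_eq_pow_mul_and_not_dvd (orderOf_pos n).ne' 2 (by norm_num)
  obtain ⟨i, hi⟩ : Odd m₀ := Nat.odd_iff.2 (Nat.two_dvd_ne_zero.1 hm₀)
  have hnm : IsPGroup 2 ↥(zpowers (n ^ m₀)) := by
    refine IsPGroup.of_card (n := k) ?_
    rw [Nat.card_zpowers, orderOf_pow' n (by omega), hord, Nat.gcd_eq_right (Dvd.intro_left _ rfl),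
      Nat.mul_div_cancel _ (by omega)]
  have hnQ : n ^ m₀ ∈ (Q : Subgroup C) := by
    have h1 : IsPGroup 2 ↥(zpowers (n ^ m₀) ⊔ (Q : Subgroup C) : Subgroup C) :=
      hnm.to_sup_of_normal_right' Q.isPGroup' (zpowers_le.2 (pow_mem hn _))
    rw [← Q.is_maximal' h1 le_sup_right]
    exact mem_sup_left (mem_zpowers _)
  have hfix : Commute (n ^ m₀) F := Subtype.ext (hcomm _ hnQ).eq
  rw [hi, pow_succ, pow_mul, pow_two] at hfix
  have h3 : Commute n F := by
    have h4 := (hn2.pow_left i).inv_left.mul_left hfix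
    rwa [inv_mul_cancel_left] at h4
  have h5 : F = F * U := by
    rw [hne', mul_assoc, ← h3.eq, inv_mul_cancel_left]
  exact ne_one_of_orderOf_two hu2 (congrArg Subtype.val (mul_eq_left.1 h5.symm))

/-- A good involution in the centre of a Sylow 2-subgroup makes `M` strongly embedded in its normal closure. -/
theorem strongly_embedded_of_good (hO : Cfsg.oddCore G = ⊥) (hF : FourClosed M) (S : Sylow 2 G) {z : G}
    (hz : z ∈ (S : Subgroup G)) (hz2 : orderOf z = 2) (hzc : ∀ s ∈ (S : Subgroup G), Commute s z)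
    (hgood : ∀ c : G, Commute c z → c ∈ M) {y₀ : G} (hy₀ : y₀ ∈ (S : Subgroup G)) (hy2 : orderOf y₀ = 2)
    (hy0z : y₀ ≠ z)
    (hsplit : ∀ u f : G, u ∈ M → orderOf u = 2 → (∃ c : G, Commute c u ∧ c ∉ M) → f ∈ M → orderOf f = 2 →
      Commute f u → f ≠ u → f * u ∉ classIn u f → (∃ Q : Sylow 2 ↥(centralizer ({u} : Set G)),
        ∀ q ∈ (Q : Subgroup ↥(centralizer ({u} : Set G))), Commute (q : G) f) → Split M u f)
    (hZ : ¬ ∃ u ∈ M, orderOf u = 2 ∧ ∀ g : G, Commute g u) (hMtop : M ≠ ⊤) :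
    Cfsg.IsStronglyEmbedded (M.subgroupOf (normalClosure ({z} : Set G))) := by
  haveI : Fact (Nat.Prime 2) := ⟨Nat.prime_two⟩
  have hSM : (S : Subgroup G) ≤ M := fun s hs => hgood s (hzc s hs)
  have hpartner : ∀ x ∈ M, orderOf x = 2 → ∃ y ∈ M, orderOf y = 2 ∧ x ≠ y ∧ Commute x y :=
    fun x hx hx2 => exists_partner S hSM hz hz2 hzc hy₀ hy2 hy0z hx hx2
  have hzM : z ∈ M := hSM hz
  have hfix : ∀ g : G, g * z * g⁻¹ ∈ M → g ∈ M := fun g hg => mem_of_good hF hpartner hzM hz2 hgood hg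
  have hi : ∀ g : G, z ∈ M.map (MulAut.conj g).toMonoidHom ↔ g ∈ M := fun g => by
    constructor
    · rintro ⟨x, hx, hxz⟩
      refine inv_mem_iff.1 (hfix g⁻¹ ?_)
      rw [← hxz]
      simpa [MulAut.conj_apply, mul_assoc] using hx
    · exact fun hg => ⟨g⁻¹ * z * g, mul_mem (mul_mem (inv_mem hg) hzM) hg, by simp [MulAut.conj_apply, mul_assoc]⟩
  -- the local hypothesis of S1913
  have hii : ∀ u : G, orderOf u = 2 → u * z = z * u → ¬ centralizer ({u} : Set G) ≤ M →
      Cfsg.IsStronglyEmbedded (M.subgroupOf (closure {x : G | IsConj z x ∧ x * u = u * x})) := by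
    intro u hu2 huz hbad
    obtain ⟨c₀, hc₀, hc₀M⟩ : ∃ c : G, Commute c u ∧ c ∉ M := by
      obtain ⟨c, hc, hcM⟩ := SetLike.not_le_iff_exists.1 hbad
      exact ⟨c, mem_centralizer_singleton_iff.1 hc, hcM⟩
    have huM : u ∈ M := hgood u huz
    obtain ⟨f, m, hf, hfM, hfu, hfclass, hfQ⟩ := exists_central_conj S hz hz2 hzc hgood hu2 huz
    -- a conjugate of `z` in `M` is good
    have hgconj : ∀ h : G, h * z * h⁻¹ ∈ M → ∀ c : G, Commute c (h * z * h⁻¹) → c ∈ M := fun h hh c hc => by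
      have hhM := hfix h hh
      have h1 := hgood (h⁻¹ * c * h) (by
        have h2 := hc.map (MulAut.conj h⁻¹).toMonoidHom
        simpa [MulAut.conj_apply, mul_assoc] using h2)
      simpa [mul_assoc] using mul_mem (mul_mem hhM h1) (inv_mem hhM)
    have hfgood : ∀ c : G, Commute c f → c ∈ M := by
      rw [hf]
      exact hgconj m (hf ▸ hfM)
    have hf2 : orderOf f = 2 := by rw [hf, orderOf_conj_eq, hz2]
    have hne : f ≠ u := fun e => hc₀M (hfgood c₀ (by rw [e]; exact hc₀))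
    have hsp : Split M u f := hsplit u f huM hu2 ⟨c₀, hc₀, hc₀M⟩ hfM hf2 hfu hne (hfclass hne) hfQ
    -- the conjugates of `z` in the centralizer of `u` form the class of `f`
    have hfug : ¬ ∀ c : G, Commute c (f * u) → c ∈ M := fun hfug => by
        -- otherwise `u` is isolated, hence central
        have hiso : Cfsg.IsIsolatedInvolution u := by
          refine ⟨hu2, fun g hg => by_contra fun hne' => ?_⟩
          have key : ∀ y : G, y ∈ M → orderOf y = 2 → (∀ c : G, Commute c y → c ∈ M) →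
              ∀ h : G, h * u * h⁻¹ ≠ y := fun y hy hy2 hyg h he => by
            refine hc₀M ?_
            have hh : h⁻¹ ∈ M := mem_of_good hF hpartner hy hy2 hyg (by
              rw [← he]; simpa [mul_assoc] using huM)
            have h1 := hyg (h * c₀ * h⁻¹) (by
              rw [← he]; exact hc₀.map (MulAut.conj h).toMonoidHom)
            simpa [mul_assoc] using mul_mem (mul_mem hh h1) (inv_mem hh)
          rcases hsp.covers _ (by rw [orderOf_conj_eq, hu2]) hg.symm hne' with ⟨c, hcu, hc⟩ | ⟨c, hcu, hc⟩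
          · exact key f hfM hf2 hfgood (c⁻¹ * g) (by
              calc c⁻¹ * g * u * (c⁻¹ * g)⁻¹ = c⁻¹ * (g * u * g⁻¹) * c := by group
                _ = c⁻¹ * (c * f * c⁻¹) * c := by rw [hc]
                _ = f := by group)
          · refine key (f * u) (mul_mem hfM huM) ?_ hfug (c⁻¹ * g) ?_
            · refine orderOf_eq_prime ?_ fun e => hne ?_
              · rw [hfu.mul_pow, pow_two, pow_two, mul_self_of_orderOf_two hf2, mul_self_of_orderOf_two hu2, one_mul]
              · rw [mul_eq_one_iff_eq_inv.1 e, inv_of_orderOf_two hu2]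
            · calc c⁻¹ * g * u * (c⁻¹ * g)⁻¹ = c⁻¹ * (g * u * g⁻¹ * u) * c * (c⁻¹ * u * c) := by
                    rw [show c⁻¹ * (g * u * g⁻¹ * u) * c * (c⁻¹ * u * c) = c⁻¹ * (g * u * g⁻¹ * (u * u)) * c by
                      group, mul_self_of_orderOf_two hu2]
                    group
                _ = c⁻¹ * (c * f * c⁻¹) * c * (c⁻¹ * u * c) := by rw [hc]
                _ = f * u := by rw [mul_assoc c⁻¹ u, ← hcu.eq]; group
        refine hZ ⟨u, huM, hu2, fun g => ?_⟩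
        have h1 := ZStar.commutator_mem_oddCore _ G rfl u hiso g
        rw [show Cfsg.pPrimeCore 2 G = ⊥ from hO, mem_bot, mul_inv_eq_one, mul_inv_eq_iff_eq_mul] at h1
        exact h1.symm
    have hbadfu : ∃ c : G, Commute c (f * u) ∧ c ∉ M := by
      push Not at hfug
      exact hfug
    have hcl : ∀ x : G, IsConj z x → Commute x u → x ∈ classIn u f := by
      intro x hzx hxu
      rcases hsp.covers x (by rw [← orderOf_eq_of_isConj hzx, hz2]) hxu
          (fun e => by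
            obtain ⟨g, hg⟩ := isConj_iff.1 hzx
            exact hc₀M (hgconj g (by rw [hg, e]; exact huM) c₀ (by rw [hg, e]; exact hc₀))) with h | ⟨c, hcu, hc⟩
      · exact h
      · refine absurd ?_ hfug
        obtain ⟨g, hg⟩ := isConj_iff.1 hzx
        have he : c⁻¹ * g * z * (c⁻¹ * g)⁻¹ = f * u := by
          calc c⁻¹ * g * z * (c⁻¹ * g)⁻¹ = c⁻¹ * (g * z * g⁻¹) * c := by group
            _ = c⁻¹ * (x * u * u) * c := by rw [hg, mul_assoc x u u, mul_self_of_orderOf_two hu2, mul_one]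
            _ = c⁻¹ * (c * f * c⁻¹ * u) * c := by rw [hc]
            _ = f * (c⁻¹ * (u * c)) := by group
            _ = f * u := by rw [← hcu.eq, inv_mul_cancel_left]
        rw [← he]
        exact hgconj _ (he ▸ mul_mem hfM huM)
    set L := closure {x : G | IsConj z x ∧ x * u = u * x} with hL
    have huL : u ∉ L := fun h => hsp.notMem hfgood hbadfu
      (closure_mono (fun x hx => hcl x hx.1 hx.2) h)
    have hLu : ∀ g ∈ L, Commute g u := fun g hg => by
      have h1 : L ≤ centralizer ({u} : Set G) :=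
        (closure_le _).2 fun x hx => mem_centralizer_singleton_iff.2 hx.2
      exact mem_centralizer_singleton_iff.1 (h1 hg)
    have hzL : z ∈ L := subset_closure ⟨IsConj.refl z, huz.symm⟩
    refine (Invol.isStronglyEmbedded_iff ?_ ?_).2 ?_
    · intro htop
      have hLM : L ≤ M := subgroupOf_eq_top.1 htop
      refine hc₀M (hfix c₀ (hLM (subset_closure ⟨isConj_iff.2 ⟨c₀, rfl⟩, ?_⟩)))
      have h1 := (show Commute z u from huz.symm).map (MulAut.conj c₀).toMonoidHom
      have h2 : c₀ * u * c₀⁻¹ = u := by rw [hc₀.eq, mul_inv_cancel_right]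
      simp only [MulEquiv.toMonoidHom_eq_coe, MonoidHom.coe_coe, MulAut.conj_apply, h2] at h1
      exact h1
    · exact even_card_of_mem (t := ⟨z, hzL⟩) (by rw [← orderOf_coe]; exact hz2) hzM
    · rintro ⟨t, htL⟩ htM ht2 ⟨g, hgL⟩ hg
      rw [← orderOf_coe] at ht2
      refine inv_mem_iff.1 (hF t u g⁻¹ htM huM ht2 hu2 (fun e => huL ((show t = u from e) ▸ htL)) (hLu t htL) ?_ ?_)
      · simpa using (mem_subgroupOf.1 hg : g⁻¹ * t * g ∈ M)
      · rw [inv_inv, (hLu g hgL).inv_left.eq, inv_mul_cancel_right]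
        exact huM
  -- `M ∩ K` is strongly embedded in `K`
  have hzP : z ∈ (center ↥(S : Subgroup G)).map (S : Subgroup G).subtype :=
    ⟨⟨z, hz⟩, mem_center_iff.2 fun s => Subtype.ext (hzc s s.2).eq, rfl⟩
  exact S1913.result S z hz2 hzP M hMtop hi hii

variable {W : Subgroup G}

/-- A good involution in the centre of a Sylow 2-subgroup forces `W = 1`.  (The case of a central involution in
`M` is left to the application, where `C_W(u)` is then normal of odd order.) -/
theorem eq_bot_of_good (hW : W ≤ M) (hWn : ∀ m ∈ M, ∀ w ∈ W, m * w * m⁻¹ ∈ W) (hWo : Odd (Nat.card W))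
    (hO : Cfsg.oddCore G = ⊥) (hF : FourClosed M) (S : Sylow 2 G) {z : G} (hz : z ∈ (S : Subgroup G))
    (hz2 : orderOf z = 2) (hzc : ∀ s ∈ (S : Subgroup G), Commute s z) (hgood : ∀ c : G, Commute c z → c ∈ M)
    {y₀ : G} (hy₀ : y₀ ∈ (S : Subgroup G)) (hy2 : orderOf y₀ = 2) (hy0z : y₀ ≠ z)
    (hsplit : ∀ u f : G, u ∈ M → orderOf u = 2 → (∃ c : G, Commute c u ∧ c ∉ M) → f ∈ M → orderOf f = 2 →
      Commute f u → f ≠ u → f * u ∉ classIn u f → (∃ Q : Sylow 2 ↥(centralizer ({u} : Set G)),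
        ∀ q ∈ (Q : Subgroup ↥(centralizer ({u} : Set G))), Commute (q : G) f) → Split M u f)
    (hcent : ∀ u ∈ M, orderOf u = 2 → (∀ g : G, Commute g u) → W = ⊥) :
    W = ⊥ := by
  haveI : Fact (Nat.Prime 2) := ⟨Nat.prime_two⟩
  by_cases hZ : ∃ u ∈ M, orderOf u = 2 ∧ ∀ g : G, Commute g u
  · obtain ⟨u, hu, hu2, hall⟩ := hZ
    exact hcent u hu hu2 hall
  by_cases hMtop : M = ⊤
  · have hn : W.Normal := ⟨fun w hw m => hWn m (hMtop ▸ mem_top m) w hw⟩
    exact le_bot_iff.1 (hO ▸ Grp.le_pPrimeCore hn (Nat.coprime_two_right.2 hWo))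
  have hSM : (S : Subgroup G) ≤ M := fun s hs => hgood s (hzc s hs)
  have hzM : z ∈ M := hSM hz
  have hfix : ∀ g : G, g * z * g⁻¹ ∈ M → g ∈ M := fun g hg => mem_of_good hF
    (fun x hx hx2 => exists_partner S hSM hz hz2 hzc hy₀ hy2 hy0z hx hx2) hzM hz2 hgood hg
  have hse := strongly_embedded_of_good hO hF S hz hz2 hzc hgood hy₀ hy2 hy0z hsplit hZ hMtop
  set K := normalClosure ({z} : Set G) with hK
  have hzK : z ∈ K := subset_normalClosure rfl
  -- Frattini
  set Q : Sylow 2 K := ((S.isPGroup'.comap_subtype : IsPGroup 2 ↥((S : Subgroup G).subgroupOf K))).toSylow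
    (Grp.sylow_inf_normal_relIndex S K) with hQ
  have hfrat := Sylow.normalizer_sup_eq_top Q
  have hQz : z ∈ ((Q : Subgroup K).map K.subtype) := ⟨⟨z, hzK⟩, hz, rfl⟩
  have hNM : normalizer (((Q : Subgroup K).map K.subtype : Subgroup G) : Set G) ≤ M := fun n hn => by
    obtain ⟨q, hq, hqe⟩ := (mem_normalizer_iff.1 hn z).1 hQz
    exact hfix n (hSM (hqe ▸ hq))
  have hKWn : (K ⊔ W).Normal := by
    haveI : K.Normal := normalClosure_normal
    refine ⟨fun x hx g => ?_⟩
    obtain ⟨n, hn, k, hk, rfl⟩ := mem_sup_of_normal_right.1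
      (show g ∈ normalizer (((Q : Subgroup K).map K.subtype : Subgroup G) : Set G) ⊔ K from hfrat ▸ mem_top g)
    obtain ⟨a, ha, w, hw, rfl⟩ := mem_sup_of_normal_left.1 hx
    have e : n * k * (a * w) * (n * k)⁻¹ = n * (k * a) * n⁻¹ * (n * w * n⁻¹) * (n * k⁻¹ * n⁻¹) := by group
    rw [e]
    exact mul_mem (mul_mem (mem_sup_left (Normal.conj_mem inferInstance _ (mul_mem hk ha) n))
      (mem_sup_right (hWn n (hNM hn) w hw))) (mem_sup_left (Normal.conj_mem inferInstance _ (inv_mem hk) n))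
  set N := K ⊔ W with hN
  -- `M ∩ N` is strongly embedded in `N`
  haveI : K.Normal := normalClosure_normal
  have hseK := (Invol.isStronglyEmbedded_iff hse.1 hse.2.1).1 hse
  have hseN : Cfsg.IsStronglyEmbedded (M.subgroupOf N) := by
    refine (Invol.isStronglyEmbedded_iff ?_ ?_).2 ?_
    · intro htop
      exact hse.1 (subgroupOf_eq_top.2 (le_sup_left.trans (subgroupOf_eq_top.1 htop)))
    · exact even_card_of_mem (t := ⟨z, mem_sup_left hzK⟩) (by rw [← orderOf_coe]; exact hz2) hzM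
    · rintro ⟨t, htN⟩ htM ht2 ⟨g, hgN⟩ hg
      rw [← orderOf_coe] at ht2
      have htK : t ∈ K := by
        obtain ⟨a, ha, w, hw, haw⟩ := mem_sup_of_normal_left.1 htN
        rw [← QuotientGroup.eq_one_iff (N := K)]
        have h1 : (t : G ⧸ K) = (w : G ⧸ K) := by
          rw [← haw, QuotientGroup.mk_mul, (QuotientGroup.eq_one_iff a).2 ha, one_mul]
        have h2 : orderOf (t : G ⧸ K) ∣ 2 := ht2 ▸ orderOf_map_dvd (QuotientGroup.mk' K) t
        have h3 : orderOf (t : G ⧸ K) ∣ Nat.card W :=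
          h1 ▸ (orderOf_map_dvd (QuotientGroup.mk' K) w).trans (W.orderOf_dvd_natCard hw)
        exact orderOf_eq_one_iff.1 (Nat.eq_one_of_dvd_coprimes (Nat.coprime_two_left.2 hWo) h2 h3)
      obtain ⟨a, ha, w, hw, haw⟩ := mem_sup_of_normal_left.1 hgN
      have haw' : g = a * w := haw.symm
      have hg' : g⁻¹ * t * g ∈ M := mem_subgroupOf.1 hg
      have h4 : a⁻¹ * t * a ∈ M := by
        have h5 := mul_mem (mul_mem (hW hw) hg') (inv_mem (hW hw))
        rw [haw'] at h5
        simpa [mul_assoc] using h5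
      have h6 := hseK ⟨t, htK⟩ htM (by rw [← orderOf_coe]; exact ht2) ⟨a, ha⟩ (mem_subgroupOf.2 h4)
      show g ∈ M
      rw [haw']
      exact mul_mem (mem_subgroupOf.1 h6) (hW hw)
  -- the odd core
  have hWM : W ≤ N := le_sup_right
  have h1 : (W.subgroupOf N).subgroupOf (M.subgroupOf N) ≤ Cfsg.oddCore ↥(M.subgroupOf N) := by
    refine Grp.le_pPrimeCore ⟨fun x hx g => ?_⟩ ?_
    · exact hWn _ g.2 _ hx
    · rw [Nat.card_congr (subgroupOfEquivOfLe (show W.subgroupOf N ≤ M.subgroupOf N from fun x hx => hW hx)).toEquiv,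
        Nat.card_congr (subgroupOfEquivOfLe hWM).toEquiv]
      exact Nat.coprime_two_right.2 hWo
  have h2 : (Cfsg.oddCore ↥N).map N.subtype ≤ Cfsg.oddCore G := by
    haveI := hKWn
    refine Grp.le_pPrimeCore inferInstance ?_
    rw [card_map_of_injective N.subtype_injective]
    exact Grp.pPrimeCore_coprime
  refine le_bot_iff.1 (fun w hw => hO ▸ h2 ?_)
  refine ⟨⟨w, hWM hw⟩, S1221.result _ hseN ?_, rfl⟩
  exact ⟨⟨⟨w, hWM hw⟩, hW hw⟩, h1 hw, rfl⟩

/-- Part A in the setting `AX`. -/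
theorem AX.eq_bot_of_good_centre (h : AX M W) (hO : Cfsg.oddCore G = ⊥) (S : Sylow 2 G) {z : G}
    (hz : z ∈ (S : Subgroup G)) (hz2 : orderOf z = 2) (hzc : ∀ s ∈ (S : Subgroup G), Commute s z)
    (hgood : centralizer ({z} : Set G) ≤ M) {y₀ : G} (hy₀ : y₀ ∈ (S : Subgroup G)) (hy2 : orderOf y₀ = 2)
    (hy0z : y₀ ≠ z)
    (hsplit : ∀ u f : G, u ∈ M → orderOf u = 2 → (∃ c : G, Commute c u ∧ c ∉ M) → f ∈ M → orderOf f = 2 →
      Commute f u → f ≠ u → f * u ∉ classIn u f → (∃ Q : Sylow 2 ↥(centralizer ({u} : Set G)),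
        ∀ q ∈ (Q : Subgroup ↥(centralizer ({u} : Set G))), Commute (q : G) f) → Split M u f)
    (hcent : ∀ u ∈ M, orderOf u = 2 → (∀ g : G, Commute g u) → W = ⊥) :
    W = ⊥ :=
  eq_bot_of_good h.le (fun m hm w hw => (mem_normalizer_iff.1 (h.norm hm) w).1 hw) h.odd hO
    (fun a b g ha hb ha2 hb2 hne hab hga hgb => h.move a b g ha2 hb2 hne hab.eq ha hb hga hgb)
    S hz hz2 hzc (fun c hc => hgood (mem_centralizer_singleton_iff.2 hc.eq)) hy₀ hy2 hy0z hsplit hcent

end Cfsg.Agent.Invol.Core2
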