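import Cfsg.Agent.Lib.Invol.Core2.Weak
import Cfsg.Agent.S0502

/-!
# Two-generated core: balanced groups and equivariant signalizer functors

Given the two local inputs, an equivariant functor on the elementary subgroups of order at least 8 is trivial at
the involutions when a Sylow 2-subgroup, or the whole group, has connected graph of four-subgroups.
-/

set_option autoImplicit false
set_option linter.unusedSectionVars false
set_option linter.style.haveILetI false

namespace Cfsg.Agent.Invol.Core2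

open Subgroup

universe u

variable {G : Type u} [Group G] [Finite G] {θ : G → Subgroup G}

theorem EightFunctor.restrict (h : EightFunctor (⊤ : Subgroup G) θ) (P : Subgroup G) : EightFunctor P θ :=
  ⟨h.conj, fun E _ => h.fn E le_top⟩

/-- The value at an involution is carried by conjugation. -/
theorem EightFunctor.eq_bot_of_conj {P : Subgroup G} (h : EightFunctor P θ) {g a : G} (ha : orderOf a = 2)
    (hga : θ (g * a * g⁻¹) = ⊥) : θ a = ⊥ :=
  (Subgroup.map_eq_bot_iff_of_injective _ (MulAut.conj g).injective).1 (le_bot_iff.1 ((h.conj g a ha).trans hga.le))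

/-- A connected Sylow 2-subgroup of rank at least 3 contains a fourth involution. -/
theorem exists_fourth {P : Subgroup G} (h3 : ¬ Cfsg.PRankLE 2 2 ↥P) (a b : G) :
    ∃ y ∈ P, orderOf y = 2 ∧ y ≠ a ∧ y ≠ b ∧ y ≠ b * a := by
  classical
  obtain ⟨E, -, hE2, hEc⟩ : ∃ E : Subgroup P, IsMulCommutative E ∧ (∀ x ∈ E, x ^ 2 = 1) ∧
      2 ^ 2 < Nat.card E := by
    simpa [Cfsg.PRankLE] using h3
  haveI : Fintype E := Fintype.ofFinite E
  rw [Nat.card_eq_fintype_card] at hEc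
  have hinj : Function.Injective fun e : E => ((e : P) : G) := fun e e' he => Subtype.ext (Subtype.ext he)
  obtain ⟨y, hy⟩ : ∃ y : E, ((y : P) : G) ∉ ({1, a, b, b * a} : Finset G) := by
    by_contra hcon
    push Not at hcon
    have h1 : (Finset.univ.image fun e : E => ((e : P) : G)).card ≤ ({1, a, b, b * a} : Finset G).card :=
      Finset.card_le_card fun x hx => by
        obtain ⟨e, -, rfl⟩ := Finset.mem_image.1 hx
        exact hcon e
    rw [Finset.card_image_of_injective _ hinj, Finset.card_univ] at h1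
    have h2 := h1.trans Finset.card_le_four
    omega
  simp only [Finset.mem_insert, Finset.mem_singleton, not_or] at hy
  exact ⟨_, (y : P).2, orderOf_eq_prime (congrArg Subtype.val (hE2 y y.2)) hy.1, hy.2.1, hy.2.2.1, hy.2.2.2⟩

/-- Trivial values over a connected Sylow 2-subgroup of rank at least 3, given the theorem with normalised fixed points. -/
theorem trivial_of_sylow_of (hO : Cfsg.oddCore G = ⊥) (S : Sylow 2 G)
    (hnormal : ∀ M W : Subgroup G, (S : Subgroup G) ≤ M → AX M W → FixNormal W S → W = ⊥)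
    (hθ : EightFunctor (S : Subgroup G) θ) (hc : Cfsg.IsFourConnected ↥(S : Subgroup G))
    (h3 : ¬ Cfsg.PRankLE 2 2 ↥(S : Subgroup G)) {t : G} (ht : orderOf t = 2) : θ t = ⊥ := by
  classical
  haveI : Fact (Nat.Prime 2) := ⟨Nat.prime_two⟩
  set P := (S : Subgroup G) with hP
  obtain ⟨W, hodd, hfix, hmove⟩ := hθ.exists_closure hc h3 fun x hx =>
    CoreConsumers.exists_klein_mem S.isPGroup' h3 hx
  suffices hW : W = ⊥ by
    obtain ⟨g, hg⟩ := exists_conj_mem_sylow (x := t) (p := 2) (n := 1) (by rw [ht, pow_one]) S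
    exact hθ.eq_bot_of_conj ht (le_bot_iff.1 (hW ▸ (hfix _ hg (by rw [orderOf_conj_eq, ht])).1))
  by_contra hW
  obtain ⟨y, hy, hy2, -, -, -⟩ := exists_fourth h3 1 1
  obtain ⟨z, hz, hz2, hzc⟩ := CoreConsumers.exists_central_involution S.isPGroup'
    (fun e => ne_one_of_orderOf_two hy2 (mem_bot.1 (e ▸ hy)))
  obtain ⟨y₀, hy₀, hy02, hy0z, -, -⟩ := exists_fourth h3 z z
  have hzc' : ∀ s ∈ P, Commute s z := fun s hs => (hzc s hs).symm
  have hPn : P ≤ normalizer (W : Set G) := fun s hs =>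
    hmove s z y₀ hz hy₀ hz2 hy02 (Ne.symm hy0z) (hzc' y₀ hy₀).symm (mul_mem (mul_mem hs hz) (inv_mem hs))
      (mul_mem (mul_mem hs hy₀) (inv_mem hs))
  have hax : AX (normalizer (W : Set G)) W := by
    refine ⟨fun e => ?_, hodd, le_normalizer, le_rfl, ?_, ?_⟩
    · haveI : W.Normal := normalizer_eq_top_iff.1 e
      exact hW (le_bot_iff.1 (hO ▸ Grp.le_pPrimeCore inferInstance (Nat.coprime_two_right.2 hodd)))
    · intro a b g ha2 hb2 hne hab haK hbK hga hgb
      obtain ⟨k, hk', hka, hkb⟩ := exists_conj_pair S hPn haK hbK ha2 hb2 hne hab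
      obtain ⟨l, hl, hla, hlb⟩ := exists_conj_pair S hPn hga hgb (by rwa [orderOf_conj_eq])
        (by rwa [orderOf_conj_eq]) (fun e => hne (by simpa using e))
        ((show Commute a b from hab).map (MulAut.conj g).toMonoidHom)
      have h1 := hmove (l * g * k⁻¹) (k * a * k⁻¹) (k * b * k⁻¹) hka hkb (by rwa [orderOf_conj_eq])
        (by rwa [orderOf_conj_eq]) (fun e => hne (by simpa using e))
        ((show Commute a b from hab).map (MulAut.conj k).toMonoidHom)
        (by rw [show l * g * k⁻¹ * (k * a * k⁻¹) * (l * g * k⁻¹)⁻¹ = l * (g * a * g⁻¹) * l⁻¹ by group]; exact hla)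
        (by rw [show l * g * k⁻¹ * (k * b * k⁻¹) * (l * g * k⁻¹)⁻¹ = l * (g * b * g⁻¹) * l⁻¹ by group]; exact hlb)
      have h2 := mul_mem (mul_mem (inv_mem hl) h1) hk'
      rwa [show l⁻¹ * (l * g * k⁻¹) * k = g by group] at h2
    · intro a ha ha2
      obtain ⟨b, hb, hb2, hne, hab⟩ := exists_partner S hPn hz hz2 hzc' hy₀ hy02 hy0z ha ha2
      exact ⟨b, hb, hb2, hne, hab.eq⟩
  refine hW (hnormal _ W hPn hax fun a ha ha2 g hg w hw => ?_)
  rw [(hfix a ha ha2).2] at hw ⊢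
  have h1 := hθ.conj g a ha2 (mem_map_of_mem _ hw)
  rwa [hg.eq, mul_inv_cancel_right] at h1

/-- Trivial values over a connected Sylow 2-subgroup of rank at least 3. -/
theorem trivial_of_sylow (hI : SplitInput.{u}) (hII : TwistInput.{u}) (hL : TwistLocal.{u}) (hO : Cfsg.oddCore G = ⊥) (S : Sylow 2 G)
    (hθ : EightFunctor (S : Subgroup G) θ) (hc : Cfsg.IsFourConnected ↥(S : Subgroup G))
    (h3 : ¬ Cfsg.PRankLE 2 2 ↥(S : Subgroup G)) {t : G} (ht : orderOf t = 2) : θ t = ⊥ := by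
  exact trivial_of_sylow_of hO S (fun M W hS h hfix => eq_bot_of_normal hI hII hL hO S hS h hfix hc h3
    fun a _ b _ _ _ => exists_fourth h3 a b) hθ hc h3 ht

/-- Trivial values when the graph of four-subgroups of the whole group is connected. -/
theorem trivial_of_group (hO : Cfsg.oddCore G = ⊥) (hθ : EightFunctor (⊤ : Subgroup G) θ)
    (hc : Cfsg.IsFourConnected G) (S : Sylow 2 G) (h3 : ¬ Cfsg.PRankLE 2 2 ↥(S : Subgroup G))
    {t : G} (ht : orderOf t = 2) : θ t = ⊥ := by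
  classical
  haveI : Fact (Nat.Prime 2) := ⟨Nat.prime_two⟩
  have htop : Cfsg.IsFourConnected ↥(⊤ : Subgroup G) := by
    intro U V hU hV
    let e : ↥(⊤ : Subgroup G) ≃* G := Subgroup.topEquiv
    have hmap : ∀ {A : Subgroup ↥(⊤ : Subgroup G)}, IsKleinFour A → IsKleinFour (A.map e.toMonoidHom) :=
      fun {A} hA => Fus.FourGraph.isKleinFour_map _ e.injective hA
    have hback : ∀ A : Subgroup ↥(⊤ : Subgroup G), (A.map e.toMonoidHom).map e.symm.toMonoidHom = A := fun A => by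
      rw [Subgroup.map_map]
      conv_rhs => rw [← Subgroup.map_id A]
      congr 1
    have h1 := hc _ _ (hmap hU) (hmap hV)
    rw [← hback U, ← hback V]
    refine Relation.ReflTransGen.lift (fun A : Subgroup G => A.map e.symm.toMonoidHom) (fun A B hAB => ?_) _ _ h1
    refine ⟨Fus.FourGraph.isKleinFour_map _ e.symm.injective hAB.1,
      Fus.FourGraph.isKleinFour_map _ e.symm.injective hAB.2.1, ?_⟩
    rintro _ ⟨a, ha, rfl⟩ _ ⟨b, hb, rfl⟩
    exact ((show Commute a b from hAB.2.2 a ha b hb).map e.symm.toMonoidHom).eq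
  obtain ⟨E, hEab, hE2, hEc⟩ : ∃ E : Subgroup ↥(S : Subgroup G), IsMulCommutative E ∧ (∀ x ∈ E, x ^ 2 = 1) ∧
      2 ^ 2 < Nat.card E := by
    simpa [Cfsg.PRankLE] using h3
  have h3' : ¬ Cfsg.PRankLE 2 2 ↥(⊤ : Subgroup G) := fun hle => by
    have h1 := hle ((E.map (S : Subgroup G).subtype).subgroupOf ⊤)
      ⟨⟨fun p q => Subtype.ext (Subtype.ext (Grp.elemAb_comm (CoreConsumers.elemAb_map _ ⟨hEab, hE2⟩) _ p.2 _ q.2))⟩⟩
      (fun p hp => Subtype.ext ((CoreConsumers.elemAb_map (S : Subgroup G).subtype ⟨hEab, hE2⟩).2 _ hp))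
    rw [Nat.card_congr (subgroupOfEquivOfLe le_top).toEquiv, card_map_of_injective (Subgroup.subtype_injective _)] at h1
    omega
  have hk : ∀ x : ↥(⊤ : Subgroup G), orderOf x = 2 → ∃ V : Subgroup ↥(⊤ : Subgroup G), IsKleinFour V ∧ x ∈ V := by
    intro x hx
    obtain ⟨g, hg⟩ := exists_conj_mem_sylow (x := (x : G)) (p := 2) (n := 1)
      (by rw [Subgroup.orderOf_coe, hx, pow_one]) S
    obtain ⟨V, hV, hxV⟩ := CoreConsumers.exists_klein_mem S.isPGroup' h3 (t := ⟨_, hg⟩)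
      (by rw [Subgroup.orderOf_mk, orderOf_conj_eq, Subgroup.orderOf_coe, hx])
    let j : ↥(S : Subgroup G) →* ↥(⊤ : Subgroup G) :=
      (MulAut.conj g⁻¹).toMonoidHom.comp (S : Subgroup G).subtype |>.codRestrict ⊤ fun _ => mem_top _
    refine ⟨V.map j, Fus.FourGraph.isKleinFour_map j (fun a b e => Subtype.ext ((MulAut.conj g⁻¹).injective
      (congrArg Subtype.val e : _))) hV, ⟨_, hxV, Subtype.ext ?_⟩⟩
    simp [j, mul_assoc]
  obtain ⟨W, hodd, hfix, hmove⟩ := hθ.exists_closure htop h3' hk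
  obtain ⟨V, hV, htV⟩ := hk ⟨t, mem_top t⟩ (by rw [Subgroup.orderOf_mk, ht])
  obtain ⟨b, hb, hbt⟩ : ∃ b ∈ V, b ∉ zpowers (⟨t, mem_top t⟩ : ↥(⊤ : Subgroup G)) :=
    SetLike.not_le_iff_exists.1 fun hle => by
      have := card_le_of_le hle
      rw [hV.card_four, Nat.card_zpowers, Subgroup.orderOf_mk, ht] at this
      omega
  have hn : W.Normal := normalizer_eq_top_iff.1 (eq_top_iff.2 fun g _ => by
    refine hmove g t b (mem_top _) (mem_top _) ht ?_ ?_ ?_ (mem_top _) (mem_top _)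
    · rw [Subgroup.orderOf_coe]
      exact orderOf_eq_prime ((CoreConsumers.elemAb_of_klein hV).2 b hb) fun e => hbt (e ▸ one_mem _)
    · exact fun e => hbt (by rw [show b = ⟨t, mem_top t⟩ from Subtype.ext e.symm]; exact mem_zpowers _)
    · exact congrArg Subtype.val (Grp.elemAb_comm (CoreConsumers.elemAb_of_klein hV) _ htV _ hb) )
  have hW : W = ⊥ := le_bot_iff.1 (hO ▸ Grp.le_pPrimeCore hn (Nat.coprime_two_right.2 hodd))
  exact le_bot_iff.1 (hW ▸ (hfix t (mem_top t) ht).1)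

/-- The statement S1291. -/
theorem balanced_connected_trivial (hI : SplitInput.{u}) (hII : TwistInput.{u}) (hL : TwistLocal.{u}) (hbal : Cfsg.IsBalanced G)
    (hO : Cfsg.oddCore G = ⊥) (hrank : ¬ Cfsg.PRankLE 2 2 G)
    (hconn : Cfsg.IsFourConnected G ∨ ∃ S : Sylow 2 G, Cfsg.IsFourConnected ↥(S : Subgroup G))
    (t : G) (ht : orderOf t = 2) : Cfsg.centralizerPPrimeCore 2 t = ⊥ := by
  classical
  haveI : Fact (Nat.Prime 2) := ⟨Nat.prime_two⟩
  have hθ : EightFunctor (⊤ : Subgroup G) (fun x => coreC x) :=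
    ⟨fun g a _ => CoreConsumers.map_conj_core_le a g, fun E _ hE _ => ⟨⟨fun x _ _ y hy =>
      mem_centralizer_singleton_iff.2 (Grp.centralizerPPrimeCore_commute hy), fun x _ _ =>
      Nat.two_dvd_ne_zero.2 (Nat.odd_iff.1 (coreC_odd x)), fun x hx _ y hy z hz =>
      Grp.centralizerPPrimeCore_conj (Grp.elemAb_comm hE y hy x hx) hz, fun x hx hx1 y hy hy1 =>
      (hbal x y (orderOf_eq_prime (hE.2 x hx) hx1) (orderOf_eq_prime (hE.2 y hy) hy1)
        (Grp.elemAb_comm hE x hx y hy)).le.trans inf_le_left⟩,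
      fun x _ _ => Cfsg.Agent.S0205.result (coreC_odd x)⟩⟩
  have h3 : ∀ S : Sylow 2 G, ¬ Cfsg.PRankLE 2 2 ↥(S : Subgroup G) := fun S hle => by
    obtain ⟨A, hA, hA2, hAc⟩ : ∃ A : Subgroup G, IsMulCommutative A ∧ (∀ a ∈ A, a ^ 2 = 1) ∧
        2 ^ 2 < Nat.card A := by
      simpa [Cfsg.PRankLE] using hrank
    obtain ⟨g, hg⟩ := exists_conj_subset_sylow (Grp.elemAb_isPGroup (p := 2) ⟨hA, hA2⟩) S
    have hle' : A.map (MulAut.conj g).toMonoidHom ≤ (S : Subgroup G) := by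
      rintro _ ⟨a, ha, rfl⟩
      exact hg a ha
    have hmap := CoreConsumers.elemAb_map (MulAut.conj g).toMonoidHom (E := A) ⟨hA, hA2⟩
    have h1 := hle ((A.map (MulAut.conj g).toMonoidHom).subgroupOf S)
      ⟨⟨fun p q => Subtype.ext (Subtype.ext (Grp.elemAb_comm hmap _ p.2 _ q.2))⟩⟩
      (fun p hp => Subtype.ext (hmap.2 _ hp))
    rw [Nat.card_congr (subgroupOfEquivOfLe hle').toEquiv, card_map_of_injective (MulAut.conj g).injective] at h1
    omega
  rcases hconn with hc | ⟨S, hc⟩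
  · exact trivial_of_group hO hθ hc default (h3 default) ht
  · exact trivial_of_sylow hI hII hL hO S (hθ.restrict _) hc (h3 S) ht

/-- The statement S3112, given the theorem with normalised fixed points. -/
theorem functor_trivial_of (hO : Cfsg.oddCore G = ⊥) (S : Sylow 2 G)
    (hnormal : Cfsg.IsFourConnected ↥(S : Subgroup G) → ¬ Cfsg.PRankLE 2 2 ↥(S : Subgroup G) →
      ∀ M W : Subgroup G, (S : Subgroup G) ≤ M → AX M W → FixNormal W S → W = ⊥)
    (A : Subgroup ↥(S : Subgroup G)) (hAn : A.Normal) (hAab : IsMulCommutative ↥A) (hA3 : ¬ Cfsg.PRankLE 2 2 ↥A)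
    (θ : G → Subgroup G) (heq : ∀ g a : G, θ (g * a * g⁻¹) = (θ a).map (MulAut.conj g).toMonoidHom)
    (hθ : ∀ B : Subgroup G, IsMulCommutative ↥B → IsPGroup 2 ↥B → ¬ Cfsg.PRankLE 2 2 ↥B →
      Cfsg.IsSignalizerFunctor 2 B θ)
    {a : G} (ha : orderOf a = 2) : θ a = ⊥ := by
  classical
  haveI : Fact (Nat.Prime 2) := ⟨Nat.prime_two⟩
  have hfun : EightFunctor (⊤ : Subgroup G) θ := by
    refine ⟨fun g x _ => (heq g x).ge, fun E _ hE h8 => ?_⟩
    have hf := hθ E hE.1 (Grp.elemAb_isPGroup (p := 2) hE) fun hle => by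
      have h1 := hle ⊤ ⟨⟨fun p q => Subtype.ext (Subtype.ext (Grp.elemAb_comm hE _ p.1.2 _ q.1.2))⟩⟩
        (fun p _ => Subtype.ext (hE.2 _ p.2))
      rw [card_top] at h1
      omega
    exact ⟨hf, fun x hx hx1 => Cfsg.Agent.S0205.result (Nat.odd_iff.2 (Nat.two_dvd_ne_zero.1 (hf.2.1 x hx hx1)))⟩
  have hcomm : ∀ x y : ↥(S : Subgroup G), x ∈ A → y ∈ A → Commute x y := fun x y hx hy =>
    congrArg Subtype.val (hAab.is_comm.comm ⟨x, hx⟩ ⟨y, hy⟩)
  let E₀ : Subgroup ↥(S : Subgroup G) :=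
    { carrier := {x | x ∈ A ∧ x ^ 2 = 1}
      mul_mem' := fun {x y} hx hy =>
        ⟨A.mul_mem hx.1 hy.1, by rw [(hcomm x y hx.1 hy.1).mul_pow, hx.2, hy.2, one_mul]⟩
      one_mem' := ⟨A.one_mem, one_pow 2⟩
      inv_mem' := fun {x} hx => ⟨A.inv_mem hx.1, by rw [inv_pow, hx.2, inv_one]⟩ }
  have hE : Cfsg.IsElementaryAbelian 2 E₀ :=
    ⟨⟨⟨fun x y => Subtype.ext (hcomm x y x.2.1 y.2.1).eq⟩⟩, fun x hx => hx.2⟩
  haveI : E₀.Normal := ⟨fun x hx g => ⟨hAn.conj_mem x hx.1 g, by rw [conj_pow, hx.2, mul_one, mul_inv_cancel]⟩⟩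
  have h4 : 4 < Nat.card E₀ := by
    obtain ⟨X, hX, hX2, hXc⟩ : ∃ X : Subgroup A, IsMulCommutative X ∧ (∀ x ∈ X, x ^ 2 = 1) ∧
        2 ^ 2 < Nat.card X := by
      simpa [Cfsg.PRankLE] using hA3
    have h2 := card_le_of_le (show X.map A.subtype ≤ E₀ by
      rintro _ ⟨x, hx, rfl⟩
      exact ⟨x.2, congrArg Subtype.val (hX2 x hx)⟩)
    rw [Subgroup.card_map_of_injective A.subtype_injective] at h2
    omega
  obtain ⟨k, hk⟩ := IsPGroup.iff_card.1 (S.isPGroup'.to_subgroup E₀)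
  have h8 : 8 ≤ Nat.card E₀ := by
    rw [hk] at h4 ⊢
    rcases Nat.lt_or_ge k 3 with h | h
    · interval_cases k <;> omega
    · exact le_trans (by norm_num) (Nat.pow_le_pow_right two_pos h)
  have hc := S0502.result S.isPGroup' E₀ hE.1 hE.2 h8
  have h3 : ¬ Cfsg.PRankLE 2 2 ↥(S : Subgroup G) := fun hle => by
    have := hle E₀ hE.1 hE.2
    omega
  exact trivial_of_sylow_of hO S (hnormal hc h3) (hfun.restrict _) hc h3 ha

/-- The statement S3112. -/
theorem functor_trivial (hI : SplitInput.{u}) (hII : TwistInput.{u}) (hL : TwistLocal.{u}) (hO : Cfsg.oddCore G = ⊥) (S : Sylow 2 G)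
    (A : Subgroup ↥(S : Subgroup G)) (hAn : A.Normal) (hAab : IsMulCommutative ↥A) (hA3 : ¬ Cfsg.PRankLE 2 2 ↥A)
    (θ : G → Subgroup G) (heq : ∀ g a : G, θ (g * a * g⁻¹) = (θ a).map (MulAut.conj g).toMonoidHom)
    (hθ : ∀ B : Subgroup G, IsMulCommutative ↥B → IsPGroup 2 ↥B → ¬ Cfsg.PRankLE 2 2 ↥B →
      Cfsg.IsSignalizerFunctor 2 B θ)
    {a : G} (ha : orderOf a = 2) : θ a = ⊥ := by
  exact functor_trivial_of hO S (fun hc h3 M W hS h hfix => eq_bot_of_normal hI hII hL hO S hS h hfix hc h3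
    fun a _ b _ _ _ => exists_fourth h3 a b) A hAn hAab hA3 θ heq hθ ha

end Cfsg.Agent.Invol.Core2
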