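import Cfsg.Agent.Lib.Invol.Core2.CentralFalse
import Cfsg.Agent.Lib.Fus.RootClass.SEInvolutions

/-!
# Two-generated core, split type: the involutions generate a normal subgroup modulo the core

If `u` is outside the group `L` generated by the class, `M ∩ L` is strongly embedded in `L`, so its involutions
commute modulo `O(L)` and generate a normal 2-subgroup of `C(u) ∩ M` modulo `O(C(u))`.
-/

set_option autoImplicit false
set_option linter.unusedSectionVars false
set_option linter.style.haveILetI false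

namespace Cfsg.Agent.Invol.Core2

open Subgroup

universe u

variable {G : Type u} [Group G] [Finite G] {M W : Subgroup G}

/-- The involutions of `M ∩ L` commute modulo the core. -/
theorem AX.commute_mod_core (h : AX M W) {u f : G} (hu : orderOf u = 2) (huM : u ∈ M)
    (hbad : ∃ c : G, Commute c u ∧ c ∉ M) (hf : orderOf f = 2) (hfM : f ∈ M) (hfu : Commute f u) (hfne : f ≠ u)
    (hnot : u ∉ closure (classIn u f)) {a b : G} (haL : a ∈ closure (classIn u f)) (hbL : b ∈ closure (classIn u f))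
    (ha : orderOf a = 2) (hb : orderOf b = 2) (hne : a ≠ b) (hab : Commute a b) {x y : G}
    (hxL : x ∈ closure (classIn u f)) (hyL : y ∈ closure (classIn u f)) (hxM : x ∈ M) (hyM : y ∈ M)
    (hx : orderOf x = 2) (hy : orderOf y = 2) : x * y * x⁻¹ * y⁻¹ ∈ coreC u := by
  classical
  haveI : Fact (Nat.Prime 2) := ⟨Nat.prime_two⟩
  set L := closure (classIn u f) with hL
  have hLu : ∀ l ∈ L, Commute l u := fun l hl => mem_centralizer_singleton_iff.1
    ((closure_le _).2 (by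
      rintro _ ⟨g, hg, rfl⟩
      exact mem_centralizer_singleton_iff.2 ((hg.mul_left hfu).mul_left hg.inv_left).eq) hl)
  have hLn : ∀ g : G, Commute g u → ∀ l ∈ L, g * l * g⁻¹ ∈ L := fun g hg l hl => by
    have h1 : L.map (MulAut.conj g).toMonoidHom ≤ L := by
      rw [hL, MonoidHom.map_closure, closure_le]
      rintro _ ⟨_, ⟨e, he, rfl⟩, rfl⟩
      refine subset_closure ⟨g * e, hg.mul_left he, ?_⟩
      simp [MulAut.conj_apply, mul_assoc]
    exact h1 ⟨l, hl, rfl⟩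
  have hfix : ∀ s ∈ L, s ∈ M → orderOf s = 2 → ∀ g ∈ L, g * s * g⁻¹ ∈ M → g ∈ M := fun s hs hsM hs2 g hg hgs =>
    h.bad_fix hu huM hs2 hsM (fun e => hnot (e ▸ hs)) (hLu s hs).eq (hLu g hg).eq hgs
  have hfL : f ∈ L := subset_closure ⟨1, Commute.one_left u, by group⟩
  obtain ⟨c, hc, hcM⟩ := hbad
  have hout : c * f * c⁻¹ ∉ M := fun hm => hcM (h.bad_fix hu huM hf hfM hfne hfu.eq hc.eq hm)
  set H := M.subgroupOf L with hH
  have hHtop : H ≠ ⊤ := fun e => hout (subgroupOf_eq_top.1 e (subset_closure ⟨c, hc, rfl⟩))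
  -- the core has no involution
  set K := H.normalCore with hK
  have hKodd : Odd (Nat.card K) := Nat.not_even_iff_odd.1 fun hev => by
    obtain ⟨s, hs, hs2⟩ := exists_orderOf_two_mem hev
    have hsM : (s : G) ∈ M := normalCore_le H hs
    refine hHtop (eq_top_iff.2 fun g _ => hfix s s.2 hsM (by rwa [Subgroup.orderOf_coe]) g g.2 ?_)
    exact hs g
  set π := QuotientGroup.mk' K with hπdef
  have hπ : Function.Surjective π := QuotientGroup.mk'_surjective _
  have hker : π.ker = K := QuotientGroup.ker_mk' _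
  have hkero : Odd (Nat.card π.ker) := by rw [hker]; exact hKodd
  have hback : ∀ k : ↥L, π k ∈ H.map π → k ∈ H := by
    rintro k ⟨m, hm, e⟩
    have h1 : m⁻¹ * k ∈ K := by
      rw [← hker, MonoidHom.mem_ker, map_mul, map_inv, e, inv_mul_cancel]
    have h2 := mul_mem hm (normalCore_le H h1)
    rwa [mul_inv_cancel_left] at h2
  have hmap2 : ∀ s : ↥L, orderOf (s : G) = 2 → orderOf (π s) = 2 := fun s hs => by
    rw [Subgroup.orderOf_coe] at hs
    refine orderOf_two_iff.2 ⟨by rw [← map_mul, mul_self_of_orderOf_two hs, map_one], fun e => ?_⟩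
    exact Nat.not_even_iff_odd.2 hKodd (even_card_of_mem hs (by rwa [← hker, MonoidHom.mem_ker]))
  have hse : Cfsg.IsStronglyEmbedded (H.map π) := by
    have hx' : π ⟨x, hxL⟩ ∈ H.map π := mem_map_of_mem π (show (⟨x, hxL⟩ : ↥L) ∈ H from hxM)
    refine (isStronglyEmbedded_iff (fun e : H.map π = ⊤ => hHtop (eq_top_iff.2 fun k _ => hback k (by rw [e]; exact mem_top _)))
      (even_card_of_mem (hmap2 ⟨x, hxL⟩ hx) hx')).2 ?_
    intro t ht ht2 g hg
    obtain ⟨g', rfl⟩ := hπ g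
    obtain ⟨t', ht', rfl⟩ := ht
    obtain ⟨s, hsz, hss, hsπ⟩ := exists_invol_lift π hkero (k := t') (mul_self_of_orderOf_two ht2)
    have hsH : s ∈ H := (zpowers_le.2 ht' : zpowers t' ≤ H) hsz
    have hs2 : orderOf (s : G) = 2 := by
      rw [Subgroup.orderOf_coe]
      exact orderOf_two_iff.2 ⟨hss, fun e => ne_one_of_orderOf_two ht2 (by rw [← hsπ, e, map_one])⟩
    refine mem_map_of_mem π (inv_mem_iff.1 (show g'⁻¹ ∈ H from hfix s s.2 hsH hs2 _ (inv_mem g'.2) ?_))
    have h1 := hback (g'⁻¹ * s * g') (by rw [map_mul, map_mul, map_inv, hsπ]; exact hg)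
    have h1' : (g' : G)⁻¹ * s * g' ∈ M := h1
    simpa using h1'
  have hcore : (H.map π).normalCore = ⊥ := le_bot_iff.1 fun k hk => by
    obtain ⟨k', rfl⟩ := hπ k
    refine mem_bot.2 ((QuotientGroup.eq_one_iff k').2 fun g => hback _ ?_)
    rw [map_mul, map_mul, map_inv]
    exact hk (π g)
  have hne' : π ⟨a, haL⟩ ≠ π ⟨b, hbL⟩ := fun e => hne (by
    obtain ⟨p, hp⟩ : ∃ p : ↥L, p = (⟨a, haL⟩ : ↥L)⁻¹ * ⟨b, hbL⟩ := ⟨_, rfl⟩
    have h1 : p ∈ K := by rw [hp, ← hker, MonoidHom.mem_ker, map_mul, map_inv, e, inv_mul_cancel]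
    have h2 : (p : G) * p = 1 := by
      rw [hp]
      show a⁻¹ * b * (a⁻¹ * b) = 1
      rw [inv_of_orderOf_two ha]
      calc a * b * (a * b) = a * (b * a) * b := by group
        _ = a * a * (b * b) := by rw [← hab.eq]; group
        _ = 1 := by rw [mul_self_of_orderOf_two ha, mul_self_of_orderOf_two hb, one_mul]
    by_contra hne
    refine Nat.not_even_iff_odd.2 hKodd (even_card_of_mem (orderOf_two_iff.2 ⟨Subtype.ext h2, fun e1 => hne ?_⟩) h1)
    exact inv_mul_eq_one.1 (congrArg Subtype.val (hp ▸ e1) : _))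
  have hr : Bender.TwoRank (⊤ : Subgroup (↥L ⧸ K)) :=
    ⟨π ⟨a, haL⟩, mem_top _, π ⟨b, hbL⟩, mem_top _, hmap2 _ ha, hmap2 _ hb, hne',
      (show Commute (⟨a, haL⟩ : ↥L) ⟨b, hbL⟩ from Subtype.ext hab.eq).map π⟩
  have hcomm := Fus.RootClass.commute_involutions hse hcore hr (hmap2 ⟨x, hxL⟩ hx)
    (mem_map_of_mem π (show (⟨x, hxL⟩ : ↥L) ∈ H from hxM)) (hmap2 ⟨y, hyL⟩ hy)
    (mem_map_of_mem π (show (⟨y, hyL⟩ : ↥L) ∈ H from hyM))
  have hmem : (⟨x, hxL⟩ : ↥L) * ⟨y, hyL⟩ * (⟨x, hxL⟩ : ↥L)⁻¹ * (⟨y, hyL⟩ : ↥L)⁻¹ ∈ K := by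
    rw [← hker, MonoidHom.mem_ker, map_mul, map_mul, map_mul, map_inv, map_inv, hcomm.eq, mul_inv_cancel_right,
      mul_inv_cancel]
  have hKO : K ≤ Cfsg.pPrimeCore 2 ↥L :=
    Grp.le_pPrimeCore inferInstance (Nat.coprime_two_right.2 hKodd)
  have hOX : (Cfsg.pPrimeCore 2 ↥L).map L.subtype ≤ coreC u := by
    refine Grp.le_centralizerPPrimeCore (fun z hz => (hLu z (map_subtype_le _ hz)).eq) ?_ ?_
    · intro g hg z hz
      obtain ⟨v, hv, rfl⟩ := hz
      have hgn : g ∈ normalizer (L : Set G) := mem_normalizer_fintype fun l hl => hLn g hg l hl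
      exact ⟨L.normalizerMonoidHom ⟨g, hgn⟩ v, (characteristic_iff_le_comap.1 inferInstance _) hv, rfl⟩
    · rw [card_map_of_injective L.subtype_injective]
      exact Grp.pPrimeCore_coprime
  exact hOX ⟨_, hKO hmem, rfl⟩

/-- The field `core` of the local data. -/
theorem AX.core_field (h : AX M W) {S : Sylow 2 G} (hle : (S : Subgroup G) ≤ M) {u : G}
    (hu : u ∈ (S : Subgroup G)) (hu2 : orderOf u = 2) (hbad : ∃ c : G, Commute c u ∧ c ∉ M)
    (hcen : ∀ s ∈ (S : Subgroup G), Commute s u)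
    (hcls : ∃ f ∈ (S : Subgroup G), orderOf f = 2 ∧ f ≠ u ∧ u ∉ closure (classIn u f) ∧
      ∀ y : G, orderOf y = 2 → Commute y u → y ≠ u → y ∈ classIn u f ∨ y * u ∈ classIn u f)
    (third : ∀ a ∈ (S : Subgroup G), ∀ b ∈ (S : Subgroup G), orderOf a = 2 → orderOf b = 2 →
      ∃ c ∈ (S : Subgroup G), orderOf c = 2 ∧ c ≠ a ∧ c ≠ b ∧ c ≠ a * b ∧ Commute c a)
    {a : G} (ha : a ∈ (S : Subgroup G)) (ha2 : orderOf a = 2) {g : G} (hg : Commute g u) (hgM : g ∈ M) :
    ∃ b ∈ (S : Subgroup G), b * b = 1 ∧ g * a * g⁻¹ * b⁻¹ ∈ coreC u := by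
  classical
  haveI : Fact (Nat.Prime 2) := ⟨Nat.prime_two⟩
  obtain ⟨f, hf, hf2, hfu, hnot, hcov⟩ := hcls
  by_cases hau : a = u
  · exact ⟨a, ha, mul_self_of_orderOf_two ha2, by
      rw [hau, hg.eq, mul_inv_cancel_right, mul_inv_cancel]; exact one_mem _⟩
  set L := closure (classIn u f) with hL
  set H := M ⊓ centralizer ({u} : Set G) with hH
  have hSH : (S : Subgroup G) ≤ H := le_inf hle fun s hs => mem_centralizer_singleton_iff.2 (hcen s hs).eq
  -- the member of a pair `y`, `y * u` in `L`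
  have hsel : ∀ y ∈ (S : Subgroup G), orderOf y = 2 → y ≠ u → ∃ j, (j = 1 ∨ j = u) ∧
      orderOf (y * j) = 2 ∧ y * j ∈ L ∧ y * j ∈ (S : Subgroup G) := fun y hy hy2 hyu => by
    rcases hcov y hy2 (hcen y hy) hyu with h1 | h1
    · exact ⟨1, Or.inl rfl, by rwa [mul_one], by rw [mul_one]; exact subset_closure h1, by rwa [mul_one]⟩
    · refine ⟨u, Or.inr rfl, ?_, subset_closure h1, mul_mem hy hu⟩
      obtain ⟨d, -, e⟩ := h1
      rw [← e, orderOf_conj_eq, hf2]
  -- two commuting involutions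
  obtain ⟨p, hp, hp2, hpu, -, -, -⟩ := third u hu u hu hu2 hu2
  obtain ⟨q', hq', hq'2, hq'p, hq'u, hq'pu, hq'c⟩ := third p hp u hu hp2 hu2
  obtain ⟨j₁, hj₁, hp₁2, hp₁L, hp₁S⟩ := hsel p hp hp2 hpu
  obtain ⟨j₂, hj₂, hq₁2, hq₁L, hq₁S⟩ := hsel q' hq' hq'2 hq'u
  have hju : ∀ j, (j = 1 ∨ j = u) → ∀ s ∈ (S : Subgroup G), Commute j s := fun j hj s hs => by
    rcases hj with rfl | rfl
    exacts [Commute.one_left s, (hcen s hs).symm]
  have hne₁ : p * j₁ ≠ q' * j₂ := fun e => by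
    rcases hj₁ with h1 | h1 <;> rcases hj₂ with h2 | h2 <;> rw [h1, h2] at e
    · exact hq'p (by simpa using e.symm)
    · refine hq'pu ?_
      rw [mul_one] at e
      rw [e, mul_assoc, mul_self_of_orderOf_two hu2, mul_one]
    · exact hq'pu (by rw [mul_one] at e; exact e.symm)
    · exact hq'p (mul_right_cancel e).symm
  have hcomm₁ : Commute (p * j₁) (q' * j₂) :=
    (hq'c.symm.mul_right (hju j₂ hj₂ p hp).symm).mul_left
      ((hju j₁ hj₁ q' hq').mul_right (hju j₁ hj₁ j₂ (by rcases hj₂ with h2 | h2 <;> rw [h2]; exacts [one_mem _, hu])))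
  -- the involutions of `M ∩ L` generate a normal 2-subgroup modulo the core
  set X := (coreC u).subgroupOf H with hX
  have hXn : X.Normal := ⟨fun x hx d => Grp.centralizerPPrimeCore_conj (mem_centralizer_singleton_iff.1 d.2.2) hx⟩
  haveI := hXn
  set π := QuotientGroup.mk' X with hπdef
  set T : Set (↥H ⧸ X) := {z | ∃ t : ↥H, orderOf (t : G) = 2 ∧ (t : G) ∈ L ∧ π t = z} with hT
  set E := closure T with hE
  haveI hEab : IsMulCommutative E := isMulCommutative_closure (by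
    rintro _ ⟨s, hs, hsL, rfl⟩ _ ⟨t, ht, htL, rfl⟩
    rw [← map_mul, ← map_mul]
    refine (QuotientGroup.eq_iff_div_mem (N := X)).2 ?_
    rw [mem_subgroupOf, div_eq_mul_inv]
    simp only [Subgroup.coe_mul, Subgroup.coe_inv, _root_.mul_inv_rev, ← mul_assoc]
    exact h.commute_mod_core hu2 (hle hu) hbad hf2 (hle hf) (hcen f hf) hfu hnot hp₁L hq₁L hp₁2 hq₁2 hne₁ hcomm₁
      hsL htL s.2.1 t.2.1 hs ht)
  have hEexp : ∀ z ∈ E, z * z = 1 := fun z hz => by
    induction hz using closure_induction with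
    | mem z hz =>
      obtain ⟨t, ht, -, rfl⟩ := hz
      rw [← map_mul, show t * t = 1 from Subtype.ext (mul_self_of_orderOf_two ht), map_one]
    | one => rw [one_mul]
    | mul z w hz hw ez ew =>
      have : z * w = w * z := congrArg Subtype.val (mul_comm' (⟨z, hz⟩ : E) ⟨w, hw⟩)
      calc z * w * (z * w) = z * (w * z) * w := by group
        _ = (z * z) * (w * w) := by rw [← this]; group
        _ = 1 := by rw [ez, ew, one_mul]
    | inv z _ ez => rw [← mul_inv_rev, ez, inv_one]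
  have hE2 : IsPGroup 2 E := fun z => ⟨1, Subtype.ext (by rw [pow_one, pow_two]; exact hEexp z z.2)⟩
  haveI hEn : E.Normal := by
    refine ⟨fun z hz d => ?_⟩
    have h1 : E.map (MulAut.conj d).toMonoidHom ≤ E := by
      rw [hE, MonoidHom.map_closure, closure_le]
      rintro _ ⟨_, ⟨t, ht, htL, rfl⟩, rfl⟩
      obtain ⟨d', rfl⟩ := QuotientGroup.mk'_surjective X d
      refine subset_closure ⟨d' * t * d'⁻¹, ?_, ?_, ?_⟩
      · show orderOf ((d' : G) * t * (d' : G)⁻¹) = 2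
        rw [orderOf_conj_eq, ht]
      · have h2 : L.map (MulAut.conj (d' : G)).toMonoidHom ≤ L := by
          rw [hL, MonoidHom.map_closure, closure_le]
          rintro _ ⟨_, ⟨e, he, rfl⟩, rfl⟩
          refine subset_closure ⟨d' * e, (show Commute (d' : G) u from mem_centralizer_singleton_iff.1 d'.2.2).mul_left he, ?_⟩
          simp [MulAut.conj_apply, mul_assoc]
        exact h2 ⟨t, htL, rfl⟩
      · simp [π]
    exact h1 ⟨z, hz, rfl⟩
  have hπs : Function.Surjective π := QuotientGroup.mk'_surjective _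
  set S' : Sylow 2 (↥H ⧸ X) := (S.subtype hSH).mapSurjective hπs with hS'
  have hES : E ≤ (S' : Subgroup (↥H ⧸ X)) := by
    obtain ⟨Q, hQ⟩ := hE2.exists_le_sylow
    obtain ⟨d, hd⟩ := MulAction.exists_smul_eq (↥H ⧸ X) Q S'
    intro z hz
    rw [← hd]
    exact ⟨d⁻¹ * z * d, hQ (by simpa using hEn.conj_mem z hz d⁻¹), by simp [MulAut.conj_apply, mul_assoc]⟩
  obtain ⟨j, hj, haj2, hajL, hajS⟩ := hsel a ha ha2 hau
  set t : ↥H := ⟨g, hgM, mem_centralizer_singleton_iff.2 hg.eq⟩ * ⟨a * j, hSH hajS⟩ *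
    (⟨g, hgM, mem_centralizer_singleton_iff.2 hg.eq⟩ : ↥H)⁻¹ with htdef
  have htv : (t : G) = g * (a * j) * g⁻¹ := rfl
  have ht2 : orderOf (t : G) = 2 := by rw [htv, orderOf_conj_eq, haj2]
  have htL : (t : G) ∈ L := by
    have h2 : L.map (MulAut.conj g).toMonoidHom ≤ L := by
      rw [hL, MonoidHom.map_closure, closure_le]
      rintro _ ⟨_, ⟨e, he, rfl⟩, rfl⟩
      refine subset_closure ⟨g * e, hg.mul_left he, ?_⟩
      simp [MulAut.conj_apply, mul_assoc]
    exact h2 ⟨a * j, hajL, rfl⟩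
  have hin := hES (subset_closure ⟨t, ht2, htL, rfl⟩)
  rw [hS', Sylow.coe_mapSurjective] at hin
  obtain ⟨s, hs, hst⟩ := hin
  have hsS : (s : G) ∈ (S : Subgroup G) := hs
  have hjS : j ∈ (S : Subgroup G) := by rcases hj with rfl | rfl; exacts [one_mem _, hu]
  have hjj : j * j = 1 := by rcases hj with rfl | rfl; exacts [one_mul 1, mul_self_of_orderOf_two hu2]
  have hss : (s : G) * s = 1 := by
    have h1 : π (s * s) = 1 := by
      rw [map_mul, hst, ← map_mul, show t * t = 1 from Subtype.ext (mul_self_of_orderOf_two ht2), map_one]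
    have h2 : ((s * s : ↥H) : G) ∈ coreC u := mem_subgroupOf.1 ((QuotientGroup.eq_one_iff _).1 h1)
    obtain ⟨k, hk⟩ := S.isPGroup'.exists_card_eq
    have hd : (S : Subgroup G) ⊓ coreC u = ⊥ := Grp.inf_eq_bot_of_coprime (by
      rw [hk]; exact (Nat.coprime_two_left.2 (coreC_odd u)).pow_left k)
    exact mem_bot.1 (hd ▸ mem_inf.2 ⟨mul_mem hsS hsS, h2⟩)
  refine ⟨s * j, mul_mem hsS hjS, ?_, ?_⟩
  · calc (s : G) * j * (s * j) = s * (j * s) * j := by group
      _ = s * s * (j * j) := by rw [(hju j hj s hsS).eq]; group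
      _ = 1 := by rw [hss, hjj, one_mul]
  · have h1 : ((t * s⁻¹ : ↥H) : G) ∈ coreC u := mem_subgroupOf.1 ((QuotientGroup.eq_one_iff _).1
      (show π (t * s⁻¹) = 1 by rw [map_mul, map_inv, hst, mul_inv_cancel]))
    have hgj : g * j * g⁻¹ = j := by
      rcases hj with rfl | rfl
      · simp
      · rw [hg.eq, mul_inv_cancel_right]
    have e : g * a * g⁻¹ * ((s : G) * j)⁻¹ = g * (a * j) * g⁻¹ * (s : G)⁻¹ := by
      rw [show g * (a * j) * g⁻¹ = g * a * g⁻¹ * (g * j * g⁻¹) by group, hgj, _root_.mul_inv_rev,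
        inv_eq_of_mul_eq_one_right hjj, mul_assoc (g * a * g⁻¹) j, ← mul_assoc]
    rw [e, ← htv]
    exact h1

end Cfsg.Agent.Invol.Core2
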