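import Cfsg.Agent.Lib.Invol.Core2.NotMem
import Cfsg.Agent.Lib.Invol.Core2.GoodCentre

/-!
# Bad involutions of split type: `Split` holds for an involution central in a Sylow subgroup of the centraliser
-/

set_option autoImplicit false
set_option linter.unusedSectionVars false

namespace Cfsg.Agent.Invol.Core2

open Subgroup

universe v

variable {G : Type v} [Group G] [Finite G] {M W : Subgroup G}

/-- An involution central in a Sylow subgroup of `C(u)` and not conjugate there to its product with `u` splits `u`. -/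
theorem AX.split (h : AX M W) {u f : G} (hu : orderOf u = 2) (huM : u ∈ M) (hbad : ∃ c : G, Commute c u ∧ c ∉ M)
    (hfM : f ∈ M) (hf : orderOf f = 2) (hfu : Commute f u) (hfne : f ≠ u) (hff : f * u ∉ classIn u f)
    (hQ : ∃ Q : Sylow 2 ↥(centralizer ({u} : Set G)),
      ∀ q ∈ (Q : Subgroup ↥(centralizer ({u} : Set G))), Commute (q : G) f) : Split M u f := by
  haveI : Fact (Nat.Prime 2) := ⟨Nat.prime_two⟩
  refine ⟨h.covers hu huM hbad hf hfM hfne hfu hff, fun hgood hfub => ?_⟩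
  set C := centralizer ({u} : Set G) with hC
  obtain ⟨Q, hQf⟩ := hQ
  set T := (Q : Subgroup C).map C.subtype with hT
  have hcases : ∀ a ∈ zpowers u, a = 1 ∨ a = u := fun a ha => by
    obtain ⟨i, rfl⟩ := mem_zpowers_iff.1 ha
    rcases Int.even_or_odd i with ⟨j, rfl⟩ | ⟨j, rfl⟩
    · exact Or.inl (by rw [← two_mul, zpow_mul, zpow_two, mul_self_of_orderOf_two hu, one_zpow])
    · exact Or.inr (by rw [zpow_add, zpow_mul, zpow_two, mul_self_of_orderOf_two hu, one_zpow, one_mul, zpow_one])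
  have hcu : ∀ {g : G}, Commute g u → g ∈ centralizer ((zpowers u : Subgroup G) : Set G) := fun {g} hg =>
    mem_centralizer_iff.2 fun a ha => by
      rcases hcases a ha with rfl | rfl
      · simp
      · exact hg.symm.eq
  have hclass : classIn u f ⊆ classOver (zpowers u) u f := fun x hx =>
    ⟨hx, hcu (classIn_facts hu hf hfu hfne hff hx).2.1⟩
  obtain ⟨c, hc, hcM⟩ := hbad
  have hfmem : f ∈ classOver (zpowers u) u f := hclass ⟨1, Commute.one_left u, by group⟩
  have hne : ∃ t ∈ classOver (zpowers u) u f, t ∉ M :=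
    ⟨c * f * c⁻¹, hclass ⟨c, hc, rfl⟩, fun hm => hcM (h.bad_fix hu huM hf hfM hfne hfu.eq hc.eq hm)⟩
  have hu2 : IsPGroup 2 ↥(zpowers u) := IsPGroup.of_card (n := 1) (by rw [Nat.card_zpowers, hu, pow_one])
  refine fun hmem => h.notMem_closure hu huM hf hfu hfne hfM hff ⟨c, hc, hcM⟩
    (fun x hx => hgood x (mem_centralizer_singleton_iff.1 hx))
    (fun hle => by
      obtain ⟨d, hd, hdM⟩ := hfub
      exact hdM (hle (mem_centralizer_singleton_iff.2 hd.eq)))
    T (map_subtype_le _) (fun R hR hR2 => ?_)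
    (by rintro _ ⟨q, hq, rfl⟩; exact hQf q hq)
    (zpowers u) (mem_zpowers u) (zpowers_le.2 huM) hu2
    (fun a ha b hb => by rcases hcases a ha with rfl | rfl <;> rcases hcases b hb with rfl | rfl <;> simp)
    (fun a ha _ => hcases a ha) ⟨f, hfmem, hfM⟩ hne (closure_mono hclass hmem)
  obtain ⟨R', hR'⟩ := (hR2.comap_subtype (K := C)).exists_le_sylow
  obtain ⟨d, hd⟩ := MulAction.exists_smul_eq C R' Q
  refine ⟨d, mem_centralizer_singleton_iff.1 d.2, fun r hr => ?_⟩
  refine ⟨d * ⟨r, hR hr⟩ * d⁻¹, ?_, rfl⟩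
  rw [← hd]
  exact ⟨⟨r, hR hr⟩, hR' hr, rfl⟩

/-- A good involution in the centre of a Sylow subgroup forces `W = 1`. -/
theorem AX.eq_bot_of_good_central (h : AX M W) (hO : Cfsg.oddCore G = ⊥) (S : Sylow 2 G) {z : G}
    (hz : z ∈ (S : Subgroup G)) (hz2 : orderOf z = 2) (hzc : ∀ s ∈ (S : Subgroup G), Commute s z)
    (hgood : centralizer ({z} : Set G) ≤ M) {y₀ : G} (hy₀ : y₀ ∈ (S : Subgroup G)) (hy2 : orderOf y₀ = 2)
    (hy0z : y₀ ≠ z) (hcent : ∀ u ∈ M, orderOf u = 2 → (∀ g : G, Commute g u) → W = ⊥) : W = ⊥ :=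
  h.eq_bot_of_good_centre hO S hz hz2 hzc hgood hy₀ hy2 hy0z
    (fun _ _ hu hu2 hbad hf hf2 hfu hne hff hQ => h.split hu2 hu hbad hf hf2 hfu hne hff hQ) hcent

end Cfsg.Agent.Invol.Core2
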