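import Cfsg.Agent.Lib.Invol.Core2.CentreBasics
import Cfsg.Agent.Lib.Invol.Core2.CoreField
import Cfsg.Agent.Lib.Invol.Core2.SplitHolds

/-!
# Two-generated core: assembly

Induction on the order: a good central involution is part A; otherwise either `Z(S)` has two involutions, the
local data of split type hold and the case is contradictory, or `Z(S)` has one involution (the twisted case).
The local inputs of the two cases are named hypotheses.
-/

set_option autoImplicit false
set_option linter.unusedSectionVars false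
set_option linter.style.haveILetI false

namespace Cfsg.Agent.Invol.Core2

open Subgroup

universe u

/-- The fixed points of the involutions of `S` in `W` are normalised by their centralisers. -/
def FixNormal {G : Type u} [Group G] (W : Subgroup G) (S : Sylow 2 G) : Prop :=
  ∀ a ∈ (S : Subgroup G), orderOf a = 2 → ∀ g : G, Commute g a →
    ∀ w ∈ W ⊓ centralizer ({a} : Set G), g * w * g⁻¹ ∈ W ⊓ centralizer ({a} : Set G)

/-- The local input in the split case: two central involutions, all bad, at least eight elements in `Ω₁(S)`. -/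
def SplitInput : Prop :=
  ∀ (G : Type u) [Group G] [Finite G] (M W : Subgroup G) (S : Sylow 2 G), (S : Subgroup G) ≤ M → AX M W →
    FixNormal W S →
    (∀ a ∈ (S : Subgroup G), orderOf a = 2 → (∀ s ∈ (S : Subgroup G), Commute s a) →
      ∃ c : G, Commute c a ∧ c ∉ M) →
    ∀ u f : G, u ∈ (S : Subgroup G) → orderOf u = 2 → (∀ s ∈ (S : Subgroup G), Commute s u) →
      f ∈ (S : Subgroup G) → orderOf f = 2 → (∀ s ∈ (S : Subgroup G), Commute s f) → f ≠ u →
      (∃ y ∈ (S : Subgroup G), orderOf y = 2 ∧ y ≠ u ∧ y ≠ f ∧ y ≠ f * u) →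
      (∀ a ∈ (S : Subgroup G), orderOf a = 2 → ∀ s ∈ (S : Subgroup G), Commute s a) ∧
      (∀ a ∈ (S : Subgroup G), orderOf a = 2 → ∃ e ∈ (S : Subgroup G), orderOf e = 2 ∧ e ≠ a ∧
        a ∉ closure (classIn a e) ∧
        ∀ y : G, orderOf y = 2 → Commute y a → y ≠ a → y ∈ classIn a e ∨ y * a ∈ classIn a e)

/-- The local input in the twisted case: the bad involution of `Z(S)` is unique. -/
def TwistInput : Prop :=
  ∀ (G : Type u) [Group G] [Finite G], Cfsg.oddCore G = ⊥ → IHyp.{u} (Nat.card G) →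
    ∀ (M W : Subgroup G) (S : Sylow 2 G), (S : Subgroup G) ≤ M → AX M W → normalizer (W : Set G) ≤ M → W ≠ ⊥ →
    (∀ a ∈ (S : Subgroup G), orderOf a = 2 → W ⊓ centralizer ({a} : Set G) = coreC a) →
    ∀ u : G, u ∈ (S : Subgroup G) → orderOf u = 2 → (∀ s ∈ (S : Subgroup G), Commute s u) →
      (∀ a ∈ (S : Subgroup G), orderOf a = 2 → (∀ s ∈ (S : Subgroup G), Commute s a) → a = u) →
      (∃ c : G, Commute c u ∧ c ∉ M) → False

variable {G : Type u} [Group G] [Finite G] {M W : Subgroup G}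

/-- The case split: with `W ≠ 1` the local data of the central case hold. -/
theorem AX.central_data (hI : SplitInput.{u}) (hO : Cfsg.oddCore G = ⊥)
    {S : Sylow 2 G} (hS : (S : Subgroup G) ≤ M) (h : AX M W)
    (hW : W ≠ ⊥) (hfix : FixNormal W S)
    (htwist : ∀ u : G, u ∈ (S : Subgroup G) → orderOf u = 2 → (∀ s ∈ (S : Subgroup G), Commute s u) →
      (∀ a ∈ (S : Subgroup G), orderOf a = 2 → (∀ s ∈ (S : Subgroup G), Commute s a) → a = u) →
      (∃ c : G, Commute c u ∧ c ∉ M) → False)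
    (hthree : ∀ u f : G, u ∈ (S : Subgroup G) → orderOf u = 2 → f ∈ (S : Subgroup G) → orderOf f = 2 →
      (∀ y ∈ (S : Subgroup G), orderOf y = 2 → y = u ∨ y = f ∨ y = f * u) → coreC u ≤ M) :
    CentralData M S ∧ ∀ a ∈ (S : Subgroup G), ∀ b ∈ (S : Subgroup G), orderOf a = 2 → orderOf b = 2 →
      ∃ c ∈ (S : Subgroup G), orderOf c = 2 ∧ c ≠ a ∧ c ≠ b ∧ c ≠ a * b ∧ Commute c a := by
  haveI : Fact (Nat.Prime 2) := ⟨Nat.prime_two⟩
  -- no central involution
  have hcent : ∀ a ∈ M, orderOf a = 2 → (∀ g : G, Commute g a) → W = ⊥ := by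
    intro a _ ha2 hac
    obtain ⟨g, hg⟩ := exists_conj_mem_sylow (x := a) (p := 2) (n := 1) (by rw [ha2, pow_one]) S
    have hg' : g * a * g⁻¹ ∈ (S : Subgroup G) := hg
    rw [(hac g).eq, mul_inv_cancel_right] at hg'
    have hn : W.Normal := ⟨fun w hw x => (hfix a hg' ha2 x (hac x) w
      ⟨hw, mem_centralizer_singleton_iff.2 (hac w).eq⟩).1⟩
    exact le_bot_iff.1 (hO ▸ Grp.le_pPrimeCore hn (Nat.coprime_two_right.2 h.odd))
  -- an involution in the centre of `S`
  have hSne : ∃ a ∈ (S : Subgroup G), orderOf a = 2 := by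
    by_contra hno
    push Not at hno
    refine h.top (top_le_iff.1 ?_)
    have h1 : (⊤ : Subgroup G) ≤ Cfsg.oddCore G := Grp.le_pPrimeCore inferInstance (by
      rw [card_top, Nat.coprime_two_right]
      refine Nat.not_even_iff_odd.1 fun hev => ?_
      obtain ⟨t, ht⟩ := exists_prime_orderOf_dvd_card' (G := G) 2 hev.two_dvd
      obtain ⟨g, hg⟩ := exists_conj_mem_sylow (x := t) (p := 2) (n := 1) (by rw [ht, pow_one]) S
      exact hno _ hg (by rw [orderOf_conj_eq, ht]))
    rw [hO] at h1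
    exact h1.trans bot_le
  obtain ⟨u, hu, hu2, hcu⟩ : ∃ u ∈ (S : Subgroup G), orderOf u = 2 ∧ ∀ x ∈ (S : Subgroup G), Commute x u := by
    obtain ⟨a, ha, ha2⟩ := hSne
    obtain ⟨t, ht, ht2, htc⟩ := CoreConsumers.exists_central_involution S.isPGroup'
      (fun e => ne_one_of_orderOf_two ha2 (mem_bot.1 (e ▸ ha)))
    exact ⟨t, ht, ht2, fun x hx => (htc x hx).symm⟩
  -- part A
  have hbadc : ∀ a ∈ (S : Subgroup G), orderOf a = 2 → (∀ s ∈ (S : Subgroup G), Commute s a) →
      ∃ c : G, Commute c a ∧ c ∉ M := by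
    intro a ha ha2 hac
    by_contra hcon
    push Not at hcon
    obtain ⟨b, hb, hb2, hne, hab⟩ := h.pair a (hS ha) ha2
    obtain ⟨k, -, hka, hkb⟩ := exists_conj_pair S hS (hS ha) hb ha2 hb2 hne hab
    obtain ⟨y₀, hy₀, hy2, hy0⟩ : ∃ y₀ ∈ (S : Subgroup G), orderOf y₀ = 2 ∧ y₀ ≠ a := by
      by_cases e : k * a * k⁻¹ = a
      · exact ⟨_, hkb, by rw [orderOf_conj_eq, hb2], fun e' => hne (by
          have := e.trans e'.symm
          simpa using this)⟩
      · exact ⟨_, hka, by rw [orderOf_conj_eq, ha2], e⟩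
    exact hW (h.eq_bot_of_good_central hO S ha ha2 hac
      (fun x hx => hcon x (mem_centralizer_singleton_iff.1 hx)) hy₀ hy2 hy0 hcent)
  by_cases huniq : ∀ a ∈ (S : Subgroup G), orderOf a = 2 → (∀ s ∈ (S : Subgroup G), Commute s a) → a = u
  · exact (htwist u hu hu2 hcu huniq (hbadc u hu hu2 hcu)).elim
  push Not at huniq
  obtain ⟨f, hf, hf2, hcf, hfu⟩ := huniq
  by_cases h3 : ∀ y ∈ (S : Subgroup G), orderOf y = 2 → y = u ∨ y = f ∨ y = f * u
  · exact (h.false_of_three S hS hu hu2 (hbadc u hu hu2 hcu) (hthree u f hu hu2 hf hf2 h3) hf hf2 hfu hcu hcf h3).elim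
  push Not at h3
  obtain ⟨y, hy, hy2, hyu, hyf, hyfu⟩ := h3
  obtain ⟨hcen, hcls⟩ := hI G M W S hS h hfix hbadc u f hu hu2 hcu hf hf2 hcf hfu ⟨y, hy, hy2, hyu, hyf, hyfu⟩
  have hfu2 : orderOf (f * u) = 2 := orderOf_two_iff.2 ⟨by
    calc f * u * (f * u) = f * (u * f) * u := by group
      _ = f * f * (u * u) := by rw [← (hcu f hf).eq]; group
      _ = 1 := by rw [mul_self_of_orderOf_two hf2, mul_self_of_orderOf_two hu2, one_mul],
    mul_ne_one_of_ne hf2 hfu⟩
  have third : ∀ a ∈ (S : Subgroup G), ∀ b ∈ (S : Subgroup G), orderOf a = 2 → orderOf b = 2 →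
      ∃ c ∈ (S : Subgroup G), orderOf c = 2 ∧ c ≠ a ∧ c ≠ b ∧ c ≠ a * b ∧ Commute c a := by
    intro a ha b hb ha2 hb2
    -- four distinct involutions cannot all lie among three
    by_contra hcon
    push Not at hcon
    have key : ∀ z ∈ (S : Subgroup G), orderOf z = 2 → z = a ∨ z = b ∨ z = a * b := fun z hz hz2 => by
      by_contra hz'
      push Not at hz'
      exact hcon z hz hz2 hz'.1 hz'.2.1 hz'.2.2 (hcen a ha ha2 z hz)
    have hne1 : f * u ≠ u := fun e => ne_one_of_orderOf_two hf2 (mul_eq_right.1 e)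
    have hne2 : f * u ≠ f := fun e => ne_one_of_orderOf_two hu2 (mul_eq_left.1 e)
    rcases key u hu hu2 with e1 | e1 | e1 <;> rcases key f hf hf2 with e2 | e2 | e2 <;>
      rcases key (f * u) (mul_mem hf hu) hfu2 with e3 | e3 | e3 <;>
      rcases key y hy hy2 with e4 | e4 | e4 <;>
      first
        | exact hfu (e2.trans e1.symm)
        | exact hne1 (e3.trans e1.symm)
        | exact hne2 (e3.trans e2.symm)
        | exact hyu (e4.trans e1.symm)
        | exact hyf (e4.trans e2.symm)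
        | exact hyfu (e4.trans e3.symm)
  have hbad : ∀ a ∈ (S : Subgroup G), orderOf a = 2 → ∃ c : G, Commute c a ∧ c ∉ M := fun a ha ha2 =>
    hbadc a ha ha2 (hcen a ha ha2)
  refine ⟨⟨hS, hbad, hcen, fun a ha ha2 => CentralData.core_le_of_third h hS hcen
    (fun a ha b hb ha2 hb2 => by
      obtain ⟨c, hc, hc2, h1, h2, h3, -⟩ := third a ha b hb ha2 hb2
      exact ⟨c, hc, hc2, h1, h2, h3⟩) ha ha2, fun a ha ha2 b hb hb2 g hg hgM =>
      h.core_field hS ha ha2 (hbad a ha ha2) (hcen a ha ha2) (hcls a ha ha2) third hb hb2 hg hgM, hcls⟩, third⟩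

/-- The theorem on proper two-generated cores, given the two local inputs. -/
theorem ihyp_all (hI : SplitInput.{u}) (hII : TwistInput.{u}) : ∀ n : ℕ, IHyp.{u} n := by
  intro n
  induction n using Nat.strong_induction_on with
  | _ n ih =>
    intro G _ _ hn hO M₀ W S hS₀ h₀ hfix
    have IH : IHyp.{u} (Nat.card G) := ih _ hn
    by_contra hW
    have h := h₀.normalizer_ax hO S hS₀ hW
    have hS := hS₀.trans h₀.norm
    have hfix' : FixNormal W S := fun a ha ha2 g hg w hw => by
      rw [hfix a ha ha2] at hw ⊢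
      exact Grp.centralizerPPrimeCore_conj hg.eq hw
    obtain ⟨hdata, third⟩ := AX.central_data hI hO hS h hW hfix'
      (hII G hO IH _ W S hS h le_rfl hW hfix)
      fun u _ hu hu2 _ _ _ => hfix u hu hu2 ▸ inf_le_left.trans h.le
    exact (CentralCase.mk h hdata (fun a ha b hb ha2 hb2 => by
      obtain ⟨c, hc, hc2, h1, h2, h3, -⟩ := third a ha b hb ha2 hb2
      exact ⟨c, hc, hc2, h1, h2, h3⟩) hfix le_rfl).false_of_central hO hW IH.eight

/-- The general form, given the local inputs. -/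
theorem eq_bot_of_inputs (hI : SplitInput.{u}) (hII : TwistInput.{u}) 
    (hO : Cfsg.oddCore G = ⊥) (S : Sylow 2 G) (hS : (S : Subgroup G) ≤ M) (h : AX M W)
    (hfix : ∀ a ∈ (S : Subgroup G), orderOf a = 2 → W ⊓ centralizer ({a} : Set G) = coreC a) : W = ⊥ :=
  ihyp_all hI hII (Nat.card G + 1) G (Nat.lt_succ_self _) hO M W S hS h hfix

end Cfsg.Agent.Invol.Core2
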