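import Cfsg.Agent.Lib.Invol.Core2.CentreData
import Cfsg.Agent.Lib.Invol.Core2.Main

/-!
# Central bad involutions: the local input of the split case holds
-/

set_option autoImplicit false
set_option linter.unusedSectionVars false

namespace Cfsg.Agent.Invol.Core2

open Subgroup

universe v

/-- The local input of the split case. -/
theorem splitInput : SplitInput.{v} := by
  intro G _ _ M W S hle h _ hbad u f hu hu2 huc hf hf2 hfc hfne _
  have htwo : ∀ z ∈ (S : Subgroup G), orderOf z = 2 → (∀ s ∈ (S : Subgroup G), Commute s z) →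
      ∃ g ∈ (S : Subgroup G), orderOf g = 2 ∧ (∀ s ∈ (S : Subgroup G), Commute s g) ∧ g ≠ z := fun z _ _ _ => by
    by_cases hz : z = u
    · exact ⟨f, hf, hf2, hfc, hz ▸ hfne⟩
    · exact ⟨u, hu, hu2, huc, fun e => hz e.symm⟩
  have cen := h.central_of_bad hle hbad htwo
  refine ⟨cen, fun a ha ha2 => ?_⟩
  obtain ⟨e, he, he2, hec, hea⟩ := htwo a ha ha2 (cen a ha ha2)
  obtain ⟨g, d, hnot⟩ := AtCentre.exists_notMem (f := e) (S := S) ⟨h, hle, ha, ha2, cen a ha ha2,
    hbad a ha ha2 (cen a ha ha2), he, he2, hec, hea, not_fused S ha ha2 (cen a ha ha2) he hec⟩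
  exact ⟨g, d.fS, d.f2, d.fne, hnot, h.covers ha2 (hle ha) d.bad d.f2 (hle d.fS) d.fne d.fu d.ff⟩

end Cfsg.Agent.Invol.Core2
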