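import Cfsg.Agent.Lib.Invol.Core2.TwistCore
import Cfsg.Agent.Lib.Invol.Core2.SplitInputHolds
import Cfsg.Agent.Lib.Invol.Core2.Applications

/-!
# Two-generated core in rank at least three, from one local fact

The induction carries: normalised fixed points, the cores at the central involutions of `S` inside `W`, and an
elementary subgroup of order eight of `S`.
-/

set_option autoImplicit false
set_option linter.unusedSectionVars false
set_option linter.style.haveILetI false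

namespace Cfsg.Agent.Invol.Core2

open Subgroup

universe u

/-- The open local fact. -/
def LocPrimeInput : Prop :=
  ∀ (G : Type u) [Group G] [Finite G], Cfsg.oddCore G = ⊥ → IHypC.{u} (Nat.card G) →
    ∀ (M W : Subgroup G) (S : Sylow 2 G), (S : Subgroup G) ≤ M → AX M W → normalizer (W : Set G) ≤ M → W ≠ ⊥ →
    FixNormal W S → HasEight S →
    ∀ u : G, u ∈ (S : Subgroup G) → orderOf u = 2 → (∀ s ∈ (S : Subgroup G), Commute s u) →
      (∀ a ∈ (S : Subgroup G), orderOf a = 2 → (∀ s ∈ (S : Subgroup G), Commute s a) → a = u) →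
      (∃ c : G, Commute c u ∧ c ∉ M) → coreC u ≤ W → LocSome M u

variable {G : Type u} [Group G] [Finite G] {M W : Subgroup G}

/-- The case split: with `W ≠ 1` the local data of the central case hold. -/
theorem AX.central_data_core (hL : LocPrimeInput.{u}) (hO : Cfsg.oddCore G = ⊥)
    (IH : IHypC.{u} (Nat.card G)) {S : Sylow 2 G} (hS : (S : Subgroup G) ≤ M) (h : AX M W)
    (hN : normalizer (W : Set G) ≤ M) (hW : W ≠ ⊥) (hfix : FixNormal W S)
    (h8 : HasEight S) (hcore : ∀ a ∈ (S : Subgroup G), orderOf a = 2 → (∀ s ∈ (S : Subgroup G), Commute s a) → coreC a ≤ W) :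
    CentralData M S ∧ ∀ a ∈ (S : Subgroup G), ∀ b ∈ (S : Subgroup G), orderOf a = 2 → orderOf b = 2 →
      ∃ c ∈ (S : Subgroup G), orderOf c = 2 ∧ c ≠ a ∧ c ≠ b ∧ c ≠ a * b ∧ Commute c a := by
  haveI : Fact (Nat.Prime 2) := ⟨Nat.prime_two⟩
  -- no central involution
  have hcent : ∀ a ∈ M, orderOf a = 2 → (∀ g : G, Commute g a) → W = ⊥ := by
    intro a _ ha2 hac
    obtain ⟨g, hg⟩ := exists_conj_mem_sylow (x := a) (p := 2) (n := 1) (by rw [ha2, pow_one]) S
    have hg' : g * a * g⁻¹ ∈ (S : Subgroup G) := hg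
    rw [(hac g).eq, mul_inv_cancel_right] at hg'
    have hn : W.Normal := ⟨fun w hw x => (hfix a hg' ha2 x (hac x) w
      ⟨hw, mem_centralizer_singleton_iff.2 (hac w).eq⟩).1⟩
    exact le_bot_iff.1 (hO ▸ Grp.le_pPrimeCore hn (Nat.coprime_two_right.2 h.odd))
  -- an involution in the centre of `S`
  have hSne : ∃ a ∈ (S : Subgroup G), orderOf a = 2 := by
    by_contra hno
    push Not at hno
    refine h.top (top_le_iff.1 ?_)
    have h1 : (⊤ : Subgroup G) ≤ Cfsg.oddCore G := Grp.le_pPrimeCore inferInstance (by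
      rw [card_top, Nat.coprime_two_right]
      refine Nat.not_even_iff_odd.1 fun hev => ?_
      obtain ⟨t, ht⟩ := exists_prime_orderOf_dvd_card' (G := G) 2 hev.two_dvd
      obtain ⟨g, hg⟩ := exists_conj_mem_sylow (x := t) (p := 2) (n := 1) (by rw [ht, pow_one]) S
      exact hno _ hg (by rw [orderOf_conj_eq, ht]))
    rw [hO] at h1
    exact h1.trans bot_le
  obtain ⟨u, hu, hu2, hcu⟩ : ∃ u ∈ (S : Subgroup G), orderOf u = 2 ∧ ∀ x ∈ (S : Subgroup G), Commute x u := by
    obtain ⟨a, ha, ha2⟩ := hSne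
    obtain ⟨t, ht, ht2, htc⟩ := CoreConsumers.exists_central_involution S.isPGroup'
      (fun e => ne_one_of_orderOf_two ha2 (mem_bot.1 (e ▸ ha)))
    exact ⟨t, ht, ht2, fun x hx => (htc x hx).symm⟩
  -- part A
  have hbadc : ∀ a ∈ (S : Subgroup G), orderOf a = 2 → (∀ s ∈ (S : Subgroup G), Commute s a) →
      ∃ c : G, Commute c a ∧ c ∉ M := by
    intro a ha ha2 hac
    by_contra hcon
    push Not at hcon
    obtain ⟨b, hb, hb2, hne, hab⟩ := h.pair a (hS ha) ha2
    obtain ⟨k, -, hka, hkb⟩ := exists_conj_pair S hS (hS ha) hb ha2 hb2 hne hab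
    obtain ⟨y₀, hy₀, hy2, hy0⟩ : ∃ y₀ ∈ (S : Subgroup G), orderOf y₀ = 2 ∧ y₀ ≠ a := by
      by_cases e : k * a * k⁻¹ = a
      · exact ⟨_, hkb, by rw [orderOf_conj_eq, hb2], fun e' => hne (by
          have := e.trans e'.symm
          simpa using this)⟩
      · exact ⟨_, hka, by rw [orderOf_conj_eq, ha2], e⟩
    exact hW (h.eq_bot_of_good_central hO S ha ha2 hac
      (fun x hx => hcon x (mem_centralizer_singleton_iff.1 hx)) hy₀ hy2 hy0 hcent)
  by_cases huniq : ∀ a ∈ (S : Subgroup G), orderOf a = 2 → (∀ s ∈ (S : Subgroup G), Commute s a) → a = u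
  · have hbad := hbadc u hu hu2 hcu
    have hloc := hL G hO IH M W S hS h hN hW hfix h8 u hu hu2 hcu huniq hbad (hcore u hu hu2 hcu)
    exact (TwistCore.false_of_twist ⟨h, hS, hN, hu, hu2, hcu, huniq, hbad, hfix, hcore u hu hu2 hcu, h8,
      hloc⟩ hO hW IH).elim
  push Not at huniq
  obtain ⟨f, hf, hf2, hcf, hfu⟩ := huniq
  by_cases h3 : ∀ y ∈ (S : Subgroup G), orderOf y = 2 → y = u ∨ y = f ∨ y = f * u
  · exact (h.false_of_three S hS hu hu2 (hbadc u hu hu2 hcu) ((hcore u hu hu2 hcu).trans h.le) hf hf2 hfu hcu hcf h3).elim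
  push Not at h3
  obtain ⟨y, hy, hy2, hyu, hyf, hyfu⟩ := h3
  obtain ⟨hcen, hcls⟩ := splitInput G M W S hS h hfix hbadc u f hu hu2 hcu hf hf2 hcf hfu ⟨y, hy, hy2, hyu, hyf, hyfu⟩
  have hfu2 : orderOf (f * u) = 2 := orderOf_two_iff.2 ⟨by
    calc f * u * (f * u) = f * (u * f) * u := by group
      _ = f * f * (u * u) := by rw [← (hcu f hf).eq]; group
      _ = 1 := by rw [mul_self_of_orderOf_two hf2, mul_self_of_orderOf_two hu2, one_mul],
    mul_ne_one_of_ne hf2 hfu⟩
  have third : ∀ a ∈ (S : Subgroup G), ∀ b ∈ (S : Subgroup G), orderOf a = 2 → orderOf b = 2 →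
      ∃ c ∈ (S : Subgroup G), orderOf c = 2 ∧ c ≠ a ∧ c ≠ b ∧ c ≠ a * b ∧ Commute c a := by
    intro a ha b hb ha2 hb2
    -- four distinct involutions cannot all lie among three
    by_contra hcon
    push Not at hcon
    have key : ∀ z ∈ (S : Subgroup G), orderOf z = 2 → z = a ∨ z = b ∨ z = a * b := fun z hz hz2 => by
      by_contra hz'
      push Not at hz'
      exact hcon z hz hz2 hz'.1 hz'.2.1 hz'.2.2 (hcen a ha ha2 z hz)
    have hne1 : f * u ≠ u := fun e => ne_one_of_orderOf_two hf2 (mul_eq_right.1 e)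
    have hne2 : f * u ≠ f := fun e => ne_one_of_orderOf_two hu2 (mul_eq_left.1 e)
    rcases key u hu hu2 with e1 | e1 | e1 <;> rcases key f hf hf2 with e2 | e2 | e2 <;>
      rcases key (f * u) (mul_mem hf hu) hfu2 with e3 | e3 | e3 <;>
      rcases key y hy hy2 with e4 | e4 | e4 <;>
      first
        | exact hfu (e2.trans e1.symm)
        | exact hne1 (e3.trans e1.symm)
        | exact hne2 (e3.trans e2.symm)
        | exact hyu (e4.trans e1.symm)
        | exact hyf (e4.trans e2.symm)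
        | exact hyfu (e4.trans e3.symm)
  have hbad : ∀ a ∈ (S : Subgroup G), orderOf a = 2 → ∃ c : G, Commute c a ∧ c ∉ M := fun a ha ha2 =>
    hbadc a ha ha2 (hcen a ha ha2)
  refine ⟨⟨hS, hbad, hcen, fun a ha ha2 => CentralData.core_le_of_third h hS hcen
    (fun a ha b hb ha2 hb2 => by
      obtain ⟨c, hc, hc2, h1, h2, h3, -⟩ := third a ha b hb ha2 hb2
      exact ⟨c, hc, hc2, h1, h2, h3⟩) ha ha2, fun a ha ha2 b hb hb2 g hg hgM =>
      h.core_field hS ha ha2 (hbad a ha ha2) (hcen a ha ha2) (hcls a ha ha2) third hb hb2 hg hgM, hcls⟩, third⟩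

/-- The weak general form in rank at least three. -/
theorem ihypC_all (hL : LocPrimeInput.{u}) : ∀ n : ℕ, IHypC.{u} n := by
  intro n
  induction n using Nat.strong_induction_on with
  | _ n ih =>
    intro G _ _ hn hO M₀ W S hS₀ h8 h₀ hfix hcore
    have IH : IHypC.{u} (Nat.card G) := ih _ hn
    by_contra hW
    have h := h₀.normalizer_ax hO S hS₀ hW
    have hS := hS₀.trans h₀.norm
    obtain ⟨hdata, third⟩ := AX.central_data_core hL hO IH hS h le_rfl hW hfix h8 hcore
    have hfixW : ∀ a ∈ (S : Subgroup G), orderOf a = 2 → W ⊓ centralizer ({a} : Set G) = coreC a :=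
      fun a ha ha2 => le_antisymm (h.inf_le_core hfix ha ha2) (le_inf (hcore a ha ha2 (hdata.cen a ha ha2))
        fun x hx => mem_centralizer_singleton_iff.2 (Grp.centralizerPPrimeCore_commute hx))
    refine (CentralCase.mk h hdata (fun a ha b hb ha2 hb2 => by
      obtain ⟨c, hc, hc2, h1, h2, h3, -⟩ := third a ha b hb ha2 hb2
      exact ⟨c, hc, hc2, h1, h2, h3⟩) hfixW le_rfl).false_of_central hO hW ?_
    intro K _ _ hK hOK M' W' S' hS' h8' h' hfix'
    refine IH K hK hOK M' W' S' hS' h8' h' (fun a ha ha2 g hg w hw => ?_)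
      fun a ha ha2 _ => hfix' a ha ha2 ▸ inf_le_left
    rw [hfix' a ha ha2] at hw ⊢
    exact Grp.centralizerPPrimeCore_conj hg.eq hw

/-- The theorem on proper two-generated cores in rank at least three, given the local fact. -/
theorem eq_bot_of_locPrime (hL : LocPrimeInput.{u}) (hO : Cfsg.oddCore G = ⊥) (S : Sylow 2 G)
    (hS : (S : Subgroup G) ≤ M) (h8 : HasEight S) (h : AX M W)
    (hfix : ∀ a ∈ (S : Subgroup G), orderOf a = 2 → W ⊓ centralizer ({a} : Set G) = coreC a) : W = ⊥ :=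
  ihypC_all hL (Nat.card G + 1) G (Nat.lt_succ_self _) hO M W S hS h8 h (fun a ha ha2 g hg w hw => by
    rw [hfix a ha ha2] at hw ⊢
    exact Grp.centralizerPPrimeCore_conj hg.eq hw) fun a ha ha2 _ => hfix a ha ha2 ▸ inf_le_left

/-- Rank at least three gives an elementary subgroup of order eight. -/
theorem hasEight_of_rank {S : Sylow 2 G} (h3 : ¬ Cfsg.PRankLE 2 2 ↥(S : Subgroup G)) : HasEight S := by
  haveI : Fact (Nat.Prime 2) := ⟨Nat.prime_two⟩
  obtain ⟨E, hEab, hE2, hEc⟩ : ∃ E : Subgroup ↥(S : Subgroup G), IsMulCommutative E ∧ (∀ x ∈ E, x ^ 2 = 1) ∧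
      2 ^ 2 < Nat.card E := by
    simpa [Cfsg.PRankLE] using h3
  obtain ⟨k, hk⟩ := (Grp.elemAb_isPGroup (p := 2) (show Cfsg.IsElementaryAbelian 2 E from ⟨hEab, hE2⟩)).exists_card_eq
  have hk3 : 3 ≤ k := by
    by_contra h
    have : 2 ^ k ≤ 2 ^ 2 := Nat.pow_le_pow_right two_pos (by omega)
    omega
  obtain ⟨F, hF⟩ := Sylow.exists_subgroup_card_pow_prime (G := E) 2 (n := 3) (hk ▸ pow_dvd_pow 2 hk3)
  refine ⟨(F.map E.subtype).map (S : Subgroup G).subtype, map_subtype_le _,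
    Grp.elemAb_mono (CoreConsumers.elemAb_map (S : Subgroup G).subtype (E := E) ⟨hEab, hE2⟩)
      (map_mono (map_subtype_le F)), ?_⟩
  rw [card_map_of_injective (Subgroup.subtype_injective _), card_map_of_injective E.subtype_injective, hF]
  rfl

/-- Trivial values over a connected Sylow 2-subgroup of rank at least 3. -/
theorem cores_trivial_of_sylow (hL : LocPrimeInput.{u}) (hO : Cfsg.oddCore G = ⊥) (S : Sylow 2 G)
    (hθ : EightFunctor (S : Subgroup G) (fun x => coreC x)) (hc : Cfsg.IsFourConnected ↥(S : Subgroup G))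
    (h3 : ¬ Cfsg.PRankLE 2 2 ↥(S : Subgroup G)) {t : G} (ht : orderOf t = 2) : coreC t = ⊥ := by
  classical
  haveI : Fact (Nat.Prime 2) := ⟨Nat.prime_two⟩
  set P := (S : Subgroup G) with hP
  obtain ⟨W, hodd, hfix, hmove⟩ := hθ.exists_closure hc h3 fun x hx =>
    CoreConsumers.exists_klein_mem S.isPGroup' h3 hx
  suffices hW : W = ⊥ by
    obtain ⟨g, hg⟩ := exists_conj_mem_sylow (x := t) (p := 2) (n := 1) (by rw [ht, pow_one]) S
    exact hθ.eq_bot_of_conj ht (le_bot_iff.1 (hW ▸ (hfix _ hg (by rw [orderOf_conj_eq, ht])).1))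
  by_contra hW
  obtain ⟨y, hy, hy2, -, -, -⟩ := exists_fourth h3 1 1
  obtain ⟨z, hz, hz2, hzc⟩ := CoreConsumers.exists_central_involution S.isPGroup'
    (fun e => ne_one_of_orderOf_two hy2 (mem_bot.1 (e ▸ hy)))
  obtain ⟨y₀, hy₀, hy02, hy0z, -, -⟩ := exists_fourth h3 z z
  have hzc' : ∀ s ∈ P, Commute s z := fun s hs => (hzc s hs).symm
  have hPn : P ≤ normalizer (W : Set G) := fun s hs =>
    hmove s z y₀ hz hy₀ hz2 hy02 (Ne.symm hy0z) (hzc' y₀ hy₀).symm (mul_mem (mul_mem hs hz) (inv_mem hs))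
      (mul_mem (mul_mem hs hy₀) (inv_mem hs))
  have hax : AX (normalizer (W : Set G)) W := by
    refine ⟨fun e => ?_, hodd, le_normalizer, le_rfl, ?_, ?_⟩
    · haveI : W.Normal := normalizer_eq_top_iff.1 e
      exact hW (le_bot_iff.1 (hO ▸ Grp.le_pPrimeCore inferInstance (Nat.coprime_two_right.2 hodd)))
    · intro a b g ha2 hb2 hne hab haK hbK hga hgb
      obtain ⟨k, hk', hka, hkb⟩ := exists_conj_pair S hPn haK hbK ha2 hb2 hne hab
      obtain ⟨l, hl, hla, hlb⟩ := exists_conj_pair S hPn hga hgb (by rwa [orderOf_conj_eq])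
        (by rwa [orderOf_conj_eq]) (fun e => hne (by simpa using e))
        ((show Commute a b from hab).map (MulAut.conj g).toMonoidHom)
      have h1 := hmove (l * g * k⁻¹) (k * a * k⁻¹) (k * b * k⁻¹) hka hkb (by rwa [orderOf_conj_eq])
        (by rwa [orderOf_conj_eq]) (fun e => hne (by simpa using e))
        ((show Commute a b from hab).map (MulAut.conj k).toMonoidHom)
        (by rw [show l * g * k⁻¹ * (k * a * k⁻¹) * (l * g * k⁻¹)⁻¹ = l * (g * a * g⁻¹) * l⁻¹ by group]; exact hla)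
        (by rw [show l * g * k⁻¹ * (k * b * k⁻¹) * (l * g * k⁻¹)⁻¹ = l * (g * b * g⁻¹) * l⁻¹ by group]; exact hlb)
      have h2 := mul_mem (mul_mem (inv_mem hl) h1) hk'
      rwa [show l⁻¹ * (l * g * k⁻¹) * k = g by group] at h2
    · intro a ha ha2
      obtain ⟨b, hb, hb2, hne, hab⟩ := exists_partner S hPn hz hz2 hzc' hy₀ hy02 hy0z ha ha2
      exact ⟨b, hb, hb2, hne, hab.eq⟩
  exact hW (eq_bot_of_locPrime hL hO S hPn (hasEight_of_rank h3) hax fun a ha ha2 => (hfix a ha ha2).2)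

/-- The statement S1291 from the local fact. -/
theorem balanced_connected_trivial_core (hL : LocPrimeInput.{u}) (hbal : Cfsg.IsBalanced G)
    (hO : Cfsg.oddCore G = ⊥) (hrank : ¬ Cfsg.PRankLE 2 2 G)
    (hconn : Cfsg.IsFourConnected G ∨ ∃ S : Sylow 2 G, Cfsg.IsFourConnected ↥(S : Subgroup G))
    (t : G) (ht : orderOf t = 2) : Cfsg.centralizerPPrimeCore 2 t = ⊥ := by
  classical
  haveI : Fact (Nat.Prime 2) := ⟨Nat.prime_two⟩
  have hθ : EightFunctor (⊤ : Subgroup G) (fun x => coreC x) :=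
    ⟨fun g a _ => CoreConsumers.map_conj_core_le a g, fun E _ hE _ => ⟨⟨fun x _ _ y hy =>
      mem_centralizer_singleton_iff.2 (Grp.centralizerPPrimeCore_commute hy), fun x _ _ =>
      Nat.two_dvd_ne_zero.2 (Nat.odd_iff.1 (coreC_odd x)), fun x hx _ y hy z hz =>
      Grp.centralizerPPrimeCore_conj (Grp.elemAb_comm hE y hy x hx) hz, fun x hx hx1 y hy hy1 =>
      (hbal x y (orderOf_eq_prime (hE.2 x hx) hx1) (orderOf_eq_prime (hE.2 y hy) hy1)
        (Grp.elemAb_comm hE x hx y hy)).le.trans inf_le_left⟩,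
      fun x _ _ => Cfsg.Agent.S0205.result (coreC_odd x)⟩⟩
  have h3 : ∀ S : Sylow 2 G, ¬ Cfsg.PRankLE 2 2 ↥(S : Subgroup G) := fun S hle => by
    obtain ⟨A, hA, hA2, hAc⟩ : ∃ A : Subgroup G, IsMulCommutative A ∧ (∀ a ∈ A, a ^ 2 = 1) ∧
        2 ^ 2 < Nat.card A := by
      simpa [Cfsg.PRankLE] using hrank
    obtain ⟨g, hg⟩ := exists_conj_subset_sylow (Grp.elemAb_isPGroup (p := 2) ⟨hA, hA2⟩) S
    have hle' : A.map (MulAut.conj g).toMonoidHom ≤ (S : Subgroup G) := by
      rintro _ ⟨a, ha, rfl⟩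
      exact hg a ha
    have hmap := CoreConsumers.elemAb_map (MulAut.conj g).toMonoidHom (E := A) ⟨hA, hA2⟩
    have h1 := hle ((A.map (MulAut.conj g).toMonoidHom).subgroupOf S)
      ⟨⟨fun p q => Subtype.ext (Subtype.ext (Grp.elemAb_comm hmap _ p.2 _ q.2))⟩⟩
      (fun p hp => Subtype.ext (hmap.2 _ hp))
    rw [Nat.card_congr (subgroupOfEquivOfLe hle').toEquiv, card_map_of_injective (MulAut.conj g).injective] at h1
    omega
  rcases hconn with hc | ⟨S, hc⟩
  · exact trivial_of_group hO hθ hc default (h3 default) ht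
  · exact cores_trivial_of_sylow hL hO S (hθ.restrict _) hc (h3 S) ht

end Cfsg.Agent.Invol.Core2
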