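import Cfsg.Agent.Lib.Invol.Core2.TwistCompKernel

/-!
# Two exchanged components: the pointwise stabilisers

For two commuting quaternion groups of cover roots exchanged by the Sylow subgroup, each group fixes the component of
each of its roots pointwise and is the whole part of the Sylow subgroup doing so.
-/

set_option autoImplicit false
set_option linter.unusedSectionVars false
set_option linter.style.haveILetI false

namespace Cfsg.Agent.Invol.Core2

open Subgroup
open scoped Pointwise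

variable {C : Type*} [Group C] [Finite C] {H : Subgroup C} {T : Sylow 2 C} {u : C} {Q R : Subgroup C}

/-- Two quaternion groups of cover roots, in a form symmetrical in the two. -/
structure Pair (H : Subgroup C) (T : Sylow 2 C) (u : C) (Q R : Subgroup C) : Prop where
  leT : Q ≤ (T : Subgroup C)
  leR : R ≤ (T : Subgroup C)
  card : Nat.card Q = 8
  cardR : Nat.card R = 8
  sq : ∀ q ∈ Q, q * q = 1 ∨ q * q = u
  sqR : ∀ q ∈ R, q * q = 1 ∨ q * q = u
  uniq : ∀ q ∈ Q, q * q = 1 → q = 1 ∨ q = u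
  uniqR : ∀ q ∈ R, q * q = 1 → q = 1 ∨ q = u
  inf : Q ⊓ R ≤ zpowers u
  comm : ∀ q ∈ Q, ∀ r ∈ R, Commute q r
  cover : ∀ q ∈ Q, q * q = u → CoverRoot H u q
  coverR : ∀ q ∈ R, q * q = u → CoverRoot H u q
  stab : ∀ t ∈ (T : Subgroup C), ((∀ q ∈ Q, t * q * t⁻¹ ∈ Q) ∧ ∀ q ∈ R, t * q * t⁻¹ ∈ R) ∨
    ((∀ q ∈ Q, t * q * t⁻¹ ∈ R) ∧ ∀ q ∈ R, t * q * t⁻¹ ∈ Q)
  swap : ∃ a ∈ (T : Subgroup C), (∀ q ∈ Q, a * q * a⁻¹ ∈ R) ∧ ∀ q ∈ R, a * q * a⁻¹ ∈ Q

namespace Pair

variable (h : TwistC H T u) (d : Pair H T u Q R)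

include d in
theorem symm : Pair H T u R Q where
  leT := d.leR
  leR := d.leT
  card := d.cardR
  cardR := d.card
  sq := d.sqR
  sqR := d.sq
  uniq := d.uniqR
  uniqR := d.uniq
  inf := (inf_comm R Q).trans_le d.inf
  comm q hq r hr := (d.comm r hr q hq).symm
  cover := d.coverR
  coverR := d.cover
  stab t ht := (d.stab t ht).imp (fun h => ⟨h.2, h.1⟩) fun h => ⟨h.2, h.1⟩
  swap := by obtain ⟨a, ha, h1, h2⟩ := d.swap; exact ⟨a, ha, h2, h1⟩

include h

theorem mem_zpowers_u {x : C} (hx : x ∈ zpowers u) : x = 1 ∨ x = u := by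
  obtain ⟨i, rfl⟩ := mem_zpowers_iff.1 hx
  rcases Int.emod_two_eq_zero_or_one i with e | e <;> rw [← zpow_mod_orderOf, h.two, Nat.cast_ofNat, e]
  exacts [Or.inl (zpow_zero u), Or.inr (zpow_one u)]

include d

theorem u_mem : u ∈ Q := by
  obtain ⟨t, ht, ht2⟩ := exists_orderOf_two_mem (H := Q) (by rw [d.card]; decide)
  exact (d.uniq t ht (mul_self_of_orderOf_two ht2)).resolve_left (ne_one_of_orderOf_two ht2) ▸ ht

theorem exists_root : ∃ q ∈ Q, q * q = u := by
  by_contra hcon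
  push Not at hcon
  have hle : Q ≤ zpowers u := fun q hq => by
    rcases d.uniq q hq ((d.sq q hq).resolve_right (hcon q hq)) with e | e
    · exact e ▸ one_mem _
    · exact e ▸ mem_zpowers u
  have := card_le_of_le hle
  rw [d.card, Nat.card_zpowers, h.two] at this
  omega

theorem exists_anti {q : C} (hq : q ∈ Q) (hqq : q * q = u) :
    ∃ r ∈ Q, r * r = u ∧ r * q = q * r * u ∧ r ∉ zpowers q := by
  have hne : ¬ Q ≤ zpowers q := fun hle => by
    have := card_le_of_le hle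
    rw [d.card, Nat.card_zpowers, h.root_order hqq] at this
    omega
  obtain ⟨r, hr, hrq⟩ := SetLike.not_le_iff_exists.1 hne
  have hu : u ∈ zpowers q := hqq ▸ mul_mem (mem_zpowers q) (mem_zpowers q)
  have hrr : r * r = u := by
    refine (d.sq r hr).resolve_left fun e => hrq ?_
    rcases d.uniq r hr e with e | e
    exacts [e ▸ one_mem _, e ▸ hu]
  have hqr : r * q * (r * q) = u := by
    refine (d.sq _ (mul_mem hr hq)).resolve_left fun e => hrq ?_
    have hmem : r * q ∈ zpowers q := by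
      rcases d.uniq _ (mul_mem hr hq) e with e | e
      exacts [e ▸ one_mem _, e ▸ hu]
    simpa using mul_mem hmem (inv_mem (mem_zpowers q))
  refine ⟨r, hr, hrr, ?_, hrq⟩
  calc r * q = r * q * (r * q) * (q⁻¹ * r⁻¹) := by group
    _ = q * q * (q⁻¹ * r⁻¹) := by rw [hqr, hqq]
    _ = q * (r * (r * r)⁻¹) := by group
    _ = q * r * u := by rw [hrr, inv_of_orderOf_two h.two, mul_assoc]

/-- A product of roots of the two groups is an involution other than `u`. -/
theorem mul_invol {q r : C} (hq : q ∈ Q) (hr : r ∈ R) (hqq : q * q = u) (hrr : r * r = u) :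
    orderOf (q * r) = 2 ∧ q * r ≠ u ∧ q * r ∈ H := by
  have hqR : q ∉ R := fun e => by
    rcases mem_zpowers_u h (d.inf ⟨hq, e⟩) with e' | e' <;> rw [e'] at hqq
    exacts [ne_one_of_orderOf_two h.two (by rw [← hqq, one_mul]), ne_one_of_orderOf_two h.two (mul_eq_left.1 hqq)]
  refine ⟨orderOf_two_iff.2 ⟨?_, fun e => hqR ?_⟩, fun e => hqR ?_, h.le (mul_mem (d.leT hq) (d.leR hr))⟩
  · rw [show q * r * (q * r) = q * (r * q) * r by group, ← (d.comm q hq r hr).eq,
      show q * (q * r) * r = q * q * (r * r) by group, hqq, hrr, h.uu]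
  · rw [eq_inv_of_mul_eq_one_left e]; exact inv_mem hr
  · rw [eq_mul_inv_of_mul_eq e]; exact mul_mem (d.symm.u_mem h) (inv_mem hr)

variable {q : C} (hq : q ∈ Q) (hqq : q * q = u)
include hq hqq

/-- A root of one group fixes one point on the component of a root of the other. -/
theorem oneFix {r : C} (hr : r ∈ R) (hrr : r * r = u) :
    Five.OneFix (Comp.perm H q ⟨r, Comp.commute_mem_st (d.comm q hq r hr).symm⟩) (Comp.base H q) := by
  obtain ⟨h1, h2, h3⟩ := d.mul_invol h hq hr hqq hrr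
  have hm : q * r ∈ Comp.st H q := Comp.commute_mem_st ((Commute.refl q).mul_left (d.comm q hq r hr).symm)
  have e : Comp.perm H q ⟨r, Comp.commute_mem_st (d.comm q hq r hr).symm⟩ = Comp.perm H q ⟨q * r, hm⟩ := by
    rw [Comp.perm_eq_iff]
    show r⁻¹ * (q * r) ∈ Comp.ker H q
    rw [(d.comm q hq r hr).eq, inv_mul_cancel_left]
    exact Comp.root_mem_ker (d.cover q hq hqq).mem
  rw [e]
  exact h.oneFix (y := ⟨q * r, hm⟩) h1 h2 h3

/-- The elements normalising the root stabilise its component. -/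
theorem mem_st_of_norm {g : C} (hg : g ∈ H) (hgq : g * q * g⁻¹ = q ∨ g * q * g⁻¹ = q * u) :
    g ∈ Comp.st H q := by
  show g • comp H q = comp H q
  rw [← Comp.comp_conj hg]
  rcases hgq with e | e <;> rw [e]
  ext p
  exact ⟨fun ⟨c, hc, hp⟩ => ⟨c, by simpa [mul_assoc, h.uu] using hc.mul_right (h.cent c), hp⟩,
    fun ⟨c, hc, hp⟩ => ⟨c, hc.mul_right (h.cent c), hp⟩⟩

/-- A root of the other group does not fix the component. -/
theorem notMem_ker (h5 : FiveAt H u) {r : C} (hr : r ∈ R) (hrr : r * r = u) : r ∉ Comp.ker H q := fun e =>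
  Comp.one_ne h5 (d.cover q hq hqq) (d.oneFix h hq hqq hr hrr) (Comp.perm_eq_one.2 e)

/-- The group fixes the component of each of its roots. -/
theorem le_ker (h5 : FiveAt H u) : Q ≤ Comp.ker H q := by
  classical
  intro w hw
  by_cases hww : w * w = 1
  · rcases d.uniq w hw hww with e | e <;> rw [e]
    exacts [one_mem _, Comp.u_mem_ker h]
  replace hww : w * w = u := (d.sq w hw).resolve_left hww
  have hwst : w ∈ Comp.st H q := by
    refine d.mem_st_of_norm h hq hqq (h.le (d.leT hw)) ?_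
    by_cases hwq : w ∈ zpowers q
    · obtain ⟨i, rfl⟩ := mem_zpowers_iff.1 hwq
      exact Or.inl (by rw [((Commute.refl q).zpow_left i).eq, mul_inv_cancel_right])
    · refine Or.inr ?_
      have hqw : w * q * (w * q) = u := by
        refine (d.sq _ (mul_mem hw hq)).resolve_left fun e => hwq ?_
        have hu : u ∈ zpowers q := hqq ▸ mul_mem (mem_zpowers q) (mem_zpowers q)
        have hmem : w * q ∈ zpowers q := by
          rcases d.uniq _ (mul_mem hw hq) e with e | e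
          exacts [e ▸ one_mem _, e ▸ hu]
        simpa using mul_mem hmem (inv_mem (mem_zpowers q))
      calc w * q * w⁻¹ = w * q * (w * q) * q⁻¹ * (w * w)⁻¹ := by group
        _ = q * q * q⁻¹ * u := by rw [hqw, hww, hqq, inv_of_orderOf_two h.two]
        _ = q * u := by group
  haveI : Fintype ↥(comp H q) := Fintype.ofFinite _
  have hcard : Fintype.card ↥(comp H q) = 5 := by
    rw [← Nat.card_eq_fintype_card, Nat.card_coe_set_eq]; exact h5 q (d.cover q hq hqq)
  obtain ⟨r, hr, hrr⟩ := d.symm.exists_root h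
  obtain ⟨r', hr', hr'r, hr'q, hr'z⟩ := d.symm.exists_anti h hr hrr
  have hprod : r * r' * (r * r') = u := by
    calc r * r' * (r * r') = r * (r' * r) * r' := by group
      _ = r * r * r' * (u * r') := by rw [hr'q]; group
      _ = r * r * (r' * r') * u := by rw [← (h.cent r').eq]; group
      _ = u := by rw [hrr, hr'r, h.uu, one_mul]
  let P : ∀ x ∈ R, ↥(Comp.st H q) := fun x hx => ⟨x, Comp.commute_mem_st (d.comm q hq x hx).symm⟩
  let W : ↥(Comp.st H q) := ⟨w, hwst⟩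
  have hA := d.oneFix h hq hqq hr hrr
  have hB := d.oneFix h hq hqq hr' hr'r
  have hAB : Five.OneFix (Comp.perm H q (P r hr) * Comp.perm H q (P r' hr')) (Comp.base H q) := by
    rw [← map_mul]
    exact d.oneFix h hq hqq (mul_mem hr hr') hprod
  have hne : Comp.perm H q (P r hr) ≠ Comp.perm H q (P r' hr') := fun e => by
    have hroot : r⁻¹ * r' * (r⁻¹ * r') = u := by
      refine (d.sqR _ (mul_mem (inv_mem hr) hr')).resolve_left fun e' => hr'z ?_
      have hu : u ∈ zpowers r := hrr ▸ mul_mem (mem_zpowers r) (mem_zpowers r)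
      have hmem : r⁻¹ * r' ∈ zpowers r := by
        rcases d.uniqR _ (mul_mem (inv_mem hr) hr') e' with e' | e'
        exacts [e' ▸ one_mem _, e' ▸ hu]
      simpa using mul_mem (mem_zpowers r) hmem
    exact d.notMem_ker h hq hqq h5 (mul_mem (inv_mem hr) hr') hroot (Comp.perm_eq_iff.1 e)
  have hcommW : ∀ x (hx : x ∈ R), ∀ p, Comp.perm H q W (Comp.perm H q (P x hx) p) =
      Comp.perm H q (P x hx) (Comp.perm H q W p) := fun x hx p => by
    rw [← Equiv.Perm.mul_apply, ← map_mul, show W * P x hx = P x hx * W from Subtype.ext (d.comm w hw x hx).eq,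
      map_mul, Equiv.Perm.mul_apply]
  have key : ∀ x (hx : x ∈ R), x * x = u → Comp.perm H q W ≠ Comp.perm H q (P x hx) := fun x hx hxx e => by
    obtain ⟨h1, h2, -⟩ := d.mul_invol h hw hx hww hxx
    have hker : w * x ∈ Comp.ker H q := by
      refine (Comp.perm_eq_one (g := W * P x hx)).1 ?_
      rw [map_mul, e, ← map_mul, Comp.perm_eq_one]
      show x * x ∈ Comp.ker H q
      rw [hxx]
      exact Comp.u_mem_ker h
    rcases Comp.ker_uniq h h5 (d.cover q hq hqq) hker (mul_self_of_orderOf_two h1) with e' | e'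
    exacts [ne_one_of_orderOf_two h1 e', h2 e']
  refine (Comp.perm_eq_one (g := W)).1 ?_
  obtain ⟨x, hx⟩ := Five.exists_avoid hcard {Comp.base H q} (by rw [Finset.card_singleton]; norm_num)
  simp only [Finset.mem_singleton] at hx
  have hWo : Comp.perm H q W (Comp.base H q) = Comp.base H q := Comp.perm_base.2 (h.le (d.leT hw))
  have h0 : ∀ {f : Equiv.Perm ↥(comp H q)}, Five.OneFix f (Comp.base H q) → x ≠ f x ∧ Comp.base H q ≠ f x :=
    fun {f} hf => ⟨fun e => hx (hf.uniq _ e.symm), fun e => hx (by rw [← hf.sq x, ← e, hf.fix])⟩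
  have e1 : Comp.perm H q (P r' hr') x ≠ Comp.perm H q (P r hr) x := fun e => hne (hA.ext_at hcard hB hx e.symm)
  have e2 : (Comp.perm H q (P r hr) * Comp.perm H q (P r' hr')) x ≠ Comp.perm H q (P r hr) x := fun e =>
    (h0 hB).1 ((Comp.perm H q (P r hr)).injective e).symm
  have e3 : (Comp.perm H q (P r hr) * Comp.perm H q (P r' hr')) x ≠ Comp.perm H q (P r' hr') x := fun e =>
    (h0 hB).2 (hA.uniq (Comp.perm H q (P r' hr') x) e).symm
  have hcov := Five.cover_of_card hcard (Ne.symm hx) (h0 hA).2 (h0 hB).2 (h0 hAB).2 (h0 hA).1 (h0 hB).1 (h0 hAB).1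
    e1.symm e2.symm e3.symm
  -- agreement at one point off the base gives equality
  have agree : ∀ f : Equiv.Perm ↥(comp H q), f (Comp.base H q) = Comp.base H q →
      (∀ y, f (Comp.perm H q (P r hr) y) = Comp.perm H q (P r hr) (f y)) →
      (∀ y, f (Comp.perm H q (P r' hr') y) = Comp.perm H q (P r' hr') (f y)) →
      f x = Comp.perm H q W x → f = Comp.perm H q W := fun f hfo hfa hfb hfx => by
    ext p
    rcases hcov p with e | e | e | e | e <;> rw [e]
    · rw [hfo, hWo]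
    · rw [hfx]
    · rw [hfa, hcommW r hr, hfx]
    · rw [hfb, hcommW r' hr', hfx]
    · rw [Equiv.Perm.mul_apply, hfa, hfb, hcommW r hr, hcommW r' hr', hfx]
  have hcc : ∀ y, Comp.perm H q (P r hr) (Comp.perm H q (P r' hr') y) =
      Comp.perm H q (P r' hr') (Comp.perm H q (P r hr) y) := fun y => by
    rw [← Equiv.Perm.mul_apply, ← map_mul, show Comp.perm H q (P r hr * P r' hr') =
      Comp.perm H q (P r' hr' * P r hr) from Comp.perm_eq_iff.2 (by
        show (r * r')⁻¹ * (r' * r) ∈ Comp.ker H q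
        rw [hr'q, inv_mul_cancel_left]
        exact Comp.u_mem_ker h), map_mul, Equiv.Perm.mul_apply]
  rcases hcov (Comp.perm H q W x) with e | e | e | e | e
  · exact absurd ((Comp.perm H q W).injective (e.trans hWo.symm)) hx
  · exact (agree 1 rfl (fun _ => rfl) (fun _ => rfl) e.symm).symm
  · exact absurd (agree _ hA.fix (fun _ => rfl) hcc e.symm).symm (key r hr hrr)
  · exact absurd (agree _ hB.fix (fun y => (hcc y).symm) (fun _ => rfl) e.symm).symm (key r' hr' hr'r)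
  · refine absurd ((agree _ hAB.fix (fun y => ?_) (fun y => ?_) e.symm).symm.trans (map_mul _ _ _).symm)
      (key (r * r') (mul_mem hr hr') hprod)
    · simp only [Equiv.Perm.mul_apply, hcc]
    · simp only [Equiv.Perm.mul_apply, hcc]

/-- The part of `T` fixing the component is the group. -/
theorem T0_le (h5 : FiveAt H u) : Comp.T0 H T q ≤ Q := by
  classical
  intro t ht
  by_contra htQ
  have hQker := d.le_ker h hq hqq h5
  have hQT0 : ∀ w ∈ Q, w ∈ Comp.T0 H T q := fun w hw => ⟨d.leT hw, hQker hw⟩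
  have hR := Comp.oneInv h h5 (d.cover q hq hqq)
  obtain ⟨q', hq', hq'q, hanti, -⟩ := d.exists_anti h hq hqq
  have hn : ¬ ∀ x y : ↥(Comp.T0 H T q), Commute x y := fun hall => by
    have h1 : q' * q = q * q' := congrArg Subtype.val (hall ⟨q', hQT0 q' hq'⟩ ⟨q, hQT0 q hq⟩).eq
    rw [hanti] at h1
    exact ne_one_of_orderOf_two h.two (mul_eq_left.1 h1)
  obtain ⟨g, -, hidx, hinv⟩ := hR.shape_of_noncomm hn
  obtain ⟨G0, hG0⟩ : ∃ G0, G0 = (zpowers g).map (Comp.T0 H T q).subtype := ⟨_, rfl⟩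
  have hmemG : ∀ x : ↥(Comp.T0 H T q), (x : C) ∈ G0 ↔ x ∈ zpowers g := fun x => by
    rw [hG0]; exact ⟨fun ⟨y, hy, e⟩ => Subtype.ext e ▸ hy, fun hx => ⟨x, hx, rfl⟩⟩
  have hout : ∀ x, x ∈ Comp.T0 H T q → x ∉ G0 → x * x = u := fun x hx hxG =>
    congrArg Subtype.val (hinv ⟨x, hx⟩ fun e => hxG ((hmemG ⟨x, hx⟩).2 e)).2
  have hprodG : ∀ x y, x ∈ Comp.T0 H T q → y ∈ Comp.T0 H T q → ((x ∈ G0 ↔ y ∈ G0) ↔ x * y ∈ G0) :=
    fun x y hx hy => by
      rw [hmemG ⟨x, hx⟩, hmemG ⟨y, hy⟩, show x * y = ((⟨x, hx⟩ * ⟨y, hy⟩ : ↥(Comp.T0 H T q)) : C) from rfl, hmemG,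
        mul_mem_iff_of_index_two hidx]
  have hG0comm : ∀ {x y : C}, x ∈ G0 → y ∈ G0 → Commute x y := fun {x y} hx hy => by
    rw [hG0] at hx hy
    obtain ⟨x', hx', rfl⟩ := hx
    obtain ⟨y', hy', rfl⟩ := hy
    obtain ⟨i, rfl⟩ := mem_zpowers_iff.1 hx'
    obtain ⟨j, rfl⟩ := mem_zpowers_iff.1 hy'
    exact (Commute.zpow_zpow_self g i j).map (Comp.T0 H T q).subtype
  -- a root of `Q` outside the cyclic group and one inside
  obtain ⟨q₂, hq₂, hq₂q, hq₂G⟩ : ∃ q₂ ∈ Q, q₂ * q₂ = u ∧ q₂ ∉ G0 := by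
    by_cases e : q ∈ G0
    · refine ⟨q', hq', hq'q, fun e' => ?_⟩
      have h1 := (hG0comm e' e).eq
      rw [hanti] at h1
      exact ne_one_of_orderOf_two h.two (mul_eq_left.1 h1)
    · exact ⟨q, hq, hqq, e⟩
  obtain ⟨qg, hqg, hqgq, hqgG⟩ : ∃ qg ∈ Q, qg * qg = u ∧ qg ∈ G0 := by
    obtain ⟨r, hr, hrr, hrq, hrz⟩ := d.exists_anti h hq₂ hq₂q
    by_cases e : r ∈ G0
    · exact ⟨r, hr, hrr, e⟩
    · refine ⟨r * q₂, mul_mem hr hq₂, ?_, (hprodG r q₂ (hQT0 r hr) (hQT0 q₂ hq₂)).1 (iff_of_false e hq₂G)⟩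
      refine (d.sq _ (mul_mem hr hq₂)).resolve_left fun e' => hrz ?_
      have hu : u ∈ zpowers q₂ := hq₂q ▸ mul_mem (mem_zpowers q₂) (mem_zpowers q₂)
      have hmem : r * q₂ ∈ zpowers q₂ := by
        rcases d.uniq _ (mul_mem hr hq₂) e' with e' | e'
        exacts [e' ▸ one_mem _, e' ▸ hu]
      simpa using mul_mem hmem (inv_mem (mem_zpowers q₂))
  have hrootG : ∀ z, z ∈ Comp.T0 H T q → z ∈ G0 → z * z = u → z = qg ∨ z = qg * u := fun z hz hzG hzz => by
    have hc := hG0comm (inv_mem hqgG) hzG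
    have hmem : (qg⁻¹ * z) ∈ Comp.T0 H T q := mul_mem (inv_mem (hQT0 qg hqg)) hz
    rcases hR.uniq ⟨_, hmem⟩ (Subtype.ext (by
      show qg⁻¹ * z * (qg⁻¹ * z) = 1
      rw [hc.symm.mul_mul_mul_comm, ← mul_inv_rev, hqgq, hzz, inv_mul_cancel])) with e | e
    · exact Or.inl (inv_mul_eq_one.1 (congrArg Subtype.val e)).symm
    · exact Or.inr (inv_mul_eq_iff_eq_mul.1 (congrArg Subtype.val e))
  -- an element outside both
  obtain ⟨x, hx, hxQ, hxG⟩ : ∃ x ∈ Comp.T0 H T q, x ∉ Q ∧ x ∉ G0 := by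
    by_cases e : t ∈ G0
    · refine ⟨t * q₂, mul_mem ht (hQT0 q₂ hq₂), fun e' => htQ ?_, fun e' => hq₂G ?_⟩
      · simpa using mul_mem e' (inv_mem hq₂)
      · exact ((hprodG t q₂ ht (hQT0 q₂ hq₂)).2 e').1 e
    · exact ⟨t, ht, htQ, e⟩
  have hxx := hout x hx hxG
  -- it centralises a root of the other group
  obtain ⟨r₁, hr₁, hr₁r⟩ := d.symm.exists_root h
  obtain ⟨r₂, hr₂, hr₂r, hr₂q, -⟩ := d.symm.exists_anti h hr₁ hr₁r
  have hsign : ∀ r ∈ R, r * r = u → x * r * x⁻¹ = r ∨ x * r * x⁻¹ = r * u := by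
    intro r hr hrr
    have hrst : r ∈ Comp.st H q := Comp.commute_mem_st (d.comm q hq r hr).symm
    have hxst : x ∈ Comp.st H q := Comp.ker_le_st q hx.2
    rcases d.stab x hx.1 with hs | hs
    · have hr' := hs.2 r hr
      have hk : r⁻¹ * (x * r * x⁻¹) ∈ Comp.ker H q := by
        rw [show r⁻¹ * (x * r * x⁻¹) = r⁻¹ * x * r * x⁻¹ by group]
        have h1 := Comp.ker_normal (inv_mem hrst) hx.2
        rw [inv_inv] at h1
        exact mul_mem h1 (inv_mem hx.2)
      have hm := mul_mem (inv_mem hr) hr'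
      rcases d.sqR _ hm with e | e
      · rcases d.uniqR _ hm e with e | e
        exacts [Or.inl (inv_mul_eq_one.1 e).symm, Or.inr (inv_mul_eq_iff_eq_mul.1 e)]
      · exact absurd hk (d.notMem_ker h hq hqq h5 hm e)
    · refine absurd ?_ (d.notMem_ker h hq hqq h5 hr hrr)
      have h1 := Comp.ker_normal (inv_mem hxst) (hQker (hs.2 r hr))
      rwa [show x⁻¹ * (x * r * x⁻¹) * x⁻¹⁻¹ = r by group] at h1
  obtain ⟨r, hr, hrr, hxr⟩ : ∃ r ∈ R, r * r = u ∧ Commute x r := by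
    rcases hsign r₁ hr₁ hr₁r with e | e
    · exact ⟨r₁, hr₁, hr₁r, mul_inv_eq_iff_eq_mul.1 e⟩
    rcases hsign r₂ hr₂ hr₂r with e' | e'
    · exact ⟨r₂, hr₂, hr₂r, mul_inv_eq_iff_eq_mul.1 e'⟩
    refine ⟨r₁ * r₂, mul_mem hr₁ hr₂, ?_, mul_inv_eq_iff_eq_mul.1 ?_⟩
    · calc r₁ * r₂ * (r₁ * r₂) = r₁ * (r₂ * r₁) * r₂ := by group
        _ = r₁ * r₁ * r₂ * (u * r₂) := by rw [hr₂q]; group
        _ = r₁ * r₁ * (r₂ * r₂) * u := by rw [← (h.cent r₂).eq]; group
        _ = u := by rw [hr₁r, hr₂r, h.uu, one_mul]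
    · calc x * (r₁ * r₂) * x⁻¹ = x * r₁ * x⁻¹ * (x * r₂ * x⁻¹) := by group
        _ = r₁ * (u * r₂) * u := by rw [e, e']; group
        _ = r₁ * r₂ * (u * u) := by rw [← (h.cent r₂).eq]; group
        _ = r₁ * r₂ := by rw [h.uu, mul_one]
  -- the action on the component of that root
  haveI : Fintype ↥(comp H r) := Fintype.ofFinite _
  have hcard : Fintype.card ↥(comp H r) = 5 := by
    rw [← Nat.card_eq_fintype_card, Nat.card_coe_set_eq]; exact h5 r (d.coverR r hr hrr)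
  have hrker : r ∈ Comp.ker H r := Comp.root_mem_ker (d.coverR r hr hrr).mem
  have hy2 : orderOf (x * r) = 2 := by
    refine orderOf_two_iff.2 ⟨by rw [hxr.symm.mul_mul_mul_comm, hxx, hrr, h.uu], fun e => ?_⟩
    exact d.notMem_ker h hq hqq h5 hr hrr (by rw [eq_inv_of_mul_eq_one_right e]; exact inv_mem hx.2)
  have hyu : x * r ≠ u := fun e => d.notMem_ker h hq hqq h5 hr hrr (by
    rw [eq_inv_mul_of_mul_eq e]; exact mul_mem (inv_mem hx.2) (Comp.u_mem_ker h))
  let P : ∀ w ∈ Q, ↥(Comp.st H r) := fun w hw => ⟨w, Comp.commute_mem_st (d.comm w hw r hr)⟩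
  let X : ↥(Comp.st H r) := ⟨x, Comp.commute_mem_st hxr⟩
  have hX : Five.OneFix (Comp.perm H r X) (Comp.base H r) := by
    have e : Comp.perm H r X = Comp.perm H r ⟨x * r, Comp.commute_mem_st (hxr.mul_left (Commute.refl r))⟩ := by
      rw [Comp.perm_eq_iff]
      show x⁻¹ * (x * r) ∈ Comp.ker H r
      rw [inv_mul_cancel_left]
      exact hrker
    rw [e]
    exact h.oneFix (y := ⟨x * r, Comp.commute_mem_st (hxr.mul_left (Commute.refl r))⟩) hy2 hyu
      (h.le (mul_mem hx.1 (d.leR hr)))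
  have hA := d.symm.oneFix h hr hrr hq hqq
  have hB := d.symm.oneFix h hr hrr hq' hq'q
  have hroot' : q * q' * (q * q') = u := by
    calc q * q' * (q * q') = q * (q' * q) * q' := by group
      _ = q * q * q' * (u * q') := by rw [hanti]; group
      _ = q * q * (q' * q') * u := by rw [← (h.cent q').eq]; group
      _ = u := by rw [hqq, hq'q, h.uu, one_mul]
  have hAB : Five.OneFix (Comp.perm H r (P q hq) * Comp.perm H r (P q' hq')) (Comp.base H r) := by
    rw [← map_mul]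
    exact d.symm.oneFix h hr hrr (mul_mem hq hq') hroot'
  have hne : Comp.perm H r (P q hq) ≠ Comp.perm H r (P q' hq') := fun e => by
    refine Comp.one_ne h5 (d.coverR r hr hrr) hAB ?_
    rw [e, ← map_mul, Comp.perm_eq_one]
    show q' * q' ∈ Comp.ker H r
    rw [hq'q]
    exact Comp.u_mem_ker h
  obtain ⟨w, hw, hXw⟩ : ∃ w, ∃ hw : w ∈ Q, Comp.perm H r X = Comp.perm H r (P w hw) := by
    rcases hX.mem_four hcard hA hB hAB hne with e | e | e
    · exact ⟨q, hq, e⟩
    · exact ⟨q', hq', e⟩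
    · exact ⟨q * q', mul_mem hq hq', e.trans (map_mul _ _ _).symm⟩
  -- so the square of `x * q₂` fixes that component
  obtain ⟨z, hzdef⟩ : ∃ z, z = x * q₂ := ⟨_, rfl⟩
  have hzT : z ∈ Comp.T0 H T q := hzdef ▸ mul_mem hx (hQT0 q₂ hq₂)
  have hzG : z ∈ G0 := hzdef ▸ (hprodG x q₂ hx (hQT0 q₂ hq₂)).1 (iff_of_false hxG hq₂G)
  have hzQ : z ∉ Q := fun e => hxQ (by
    rw [hzdef] at e
    simpa using mul_mem e (inv_mem hq₂))
  have hz2 : z * z ∈ Comp.ker H r := by
    have h1 : Comp.perm H r ((X * P q₂ hq₂) * (X * P q₂ hq₂)) = 1 := by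
      rw [map_mul, map_mul, hXw, ← map_mul, ← map_mul, Comp.perm_eq_one]
      show w * q₂ * (w * q₂) ∈ Comp.ker H r
      rcases d.sq _ (mul_mem hw hq₂) with e | e <;> rw [e]
      exacts [one_mem _, Comp.u_mem_ker h]
    exact hzdef ▸ Comp.perm_eq_one.1 h1
  -- a power of it is a root of `Q`
  obtain ⟨n, hn'⟩ := IsPGroup.iff_orderOf.1 hR.pgroup ⟨z, hzT⟩
  rw [Subgroup.orderOf_mk] at hn'
  have hz4 : z * z * (z * z) ≠ 1 := fun e => by
    rcases hR.uniq ⟨z * z, mul_mem hzT hzT⟩ (Subtype.ext e) with e' | e'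
    · rcases hR.uniq ⟨z, hzT⟩ (Subtype.ext (congrArg Subtype.val e')) with e'' | e''
      · exact hzQ (by rw [show z = 1 from congrArg Subtype.val e'']; exact one_mem Q)
      · exact hzQ (by rw [show z = u from congrArg Subtype.val e'']; exact d.u_mem h)
    · rcases hrootG z hzT hzG (congrArg Subtype.val e') with e'' | e''
      · exact hzQ (e'' ▸ hqg)
      · exact hzQ (e'' ▸ mul_mem hqg (d.u_mem h))
  obtain ⟨m, rfl⟩ : ∃ m, n = m + 3 := by
    refine ⟨n - 3, ?_⟩
    by_contra hlt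
    refine hz4 ?_
    have h4 : orderOf z ∣ 4 := by rw [hn']; exact Nat.pow_dvd_pow 2 (show n ≤ 2 by omega)
    have := orderOf_dvd_iff_pow_eq_one.1 h4
    rwa [show z ^ 4 = z * z * (z * z) by rw [← pow_two, ← pow_two, ← pow_mul]] at this
  obtain ⟨v, hvdef⟩ : ∃ v, v = (z * z) ^ 2 ^ m := ⟨_, rfl⟩
  have hvT : v ∈ Comp.T0 H T q := hvdef ▸ pow_mem (mul_mem hzT hzT) _
  have hvv : v * v = u := by
    have h1 : v * v ≠ 1 := fun e => by
      rw [hvdef, ← pow_two, ← pow_two, ← pow_mul, ← pow_mul] at e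
      have h2 := orderOf_dvd_of_pow_eq_one e
      rw [hn', show 2 * (2 ^ m * 2) = 2 ^ (m + 2) by ring] at h2
      have := (Nat.pow_dvd_pow_iff_le_right (by norm_num)).1 h2
      omega
    have h2 : v * v * (v * v) = 1 := by
      rw [hvdef, ← pow_two, ← pow_two, ← pow_two, ← pow_mul, ← pow_mul, ← pow_mul]
      rw [show 2 * (2 ^ m * (2 * 2)) = 2 ^ (m + 3) by ring, ← hn', pow_orderOf_eq_one]
    rcases hR.uniq ⟨v * v, mul_mem hvT hvT⟩ (Subtype.ext h2) with e | e
    exacts [absurd (congrArg Subtype.val e) h1, congrArg Subtype.val e]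
  have hvker : v ∈ Comp.ker H r := hvdef ▸ pow_mem hz2 _
  rcases hrootG v hvT (hvdef ▸ pow_mem (mul_mem hzG hzG) _) hvv with e | e <;> rw [e] at hvker
  · exact d.symm.notMem_ker h hr hrr h5 hqg hqgq hvker
  · refine d.symm.notMem_ker h hr hrr h5 (mul_mem hqg (d.u_mem h)) ?_ hvker
    rw [(h.cent qg).symm.mul_mul_mul_comm, hqgq, h.uu, mul_one]

end Pair

end Cfsg.Agent.Invol.Core2
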