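import Cfsg.Agent.Lib.Invol.Core2.TwistSides
import Cfsg.Agent.Lib.Invol.Core2.TwistSwapKer

/-!
# Two exchanged components: the local fact at a product of roots

Modulo `u` two exchanged quaternion groups of cover roots give the data `Sides`, so an odd subgroup of `H` normalised
by the centraliser of a product of two roots is trivial.
-/

set_option autoImplicit false
set_option linter.unusedSectionVars false
set_option linter.style.haveILetI false

namespace Cfsg.Agent.Invol.Core2

open Subgroup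
open scoped Pointwise

universe v

/-- The quotient by a central subgroup of order two keeps a trivial odd core. -/
theorem oddCore_mod_central {C : Type v} [Group C] [Finite C] (hO : Cfsg.oddCore C = ⊥) (Z : Subgroup C) [Z.Normal]
    (hZc : Z ≤ center C) (hZ : IsPGroup 2 ↥Z) : Cfsg.oddCore (C ⧸ Z) = ⊥ := by
  haveI : Fact (Nat.Prime 2) := ⟨Nat.prime_two⟩
  haveI : (Cfsg.oddCore (C ⧸ Z)).Normal := Grp.pPrimeCore_isNormal
  set L := (Cfsg.oddCore (C ⧸ Z)).comap (QuotientGroup.mk' Z) with hL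
  haveI hLn : L.Normal := Subgroup.Normal.comap inferInstance _
  have hAL : Z ≤ L := fun x hx => by
    rw [hL, mem_comap, show QuotientGroup.mk' Z x = 1 from (QuotientGroup.eq_one_iff x).2 hx]
    exact one_mem _
  have hidx : ¬ 2 ∣ (Z.subgroupOf L).index := by
    have hm : Function.Surjective ((QuotientGroup.mk' Z).subgroupComap (Cfsg.oddCore (C ⧸ Z))) :=
      MonoidHom.subgroupComap_surjective_of_surjective _ _ (QuotientGroup.mk'_surjective Z)
    have hk : ((QuotientGroup.mk' Z).subgroupComap (Cfsg.oddCore (C ⧸ Z))).ker = Z.subgroupOf L := by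
      ext x
      rw [MonoidHom.mem_ker, mem_subgroupOf, ← QuotientGroup.eq_one_iff, Subtype.ext_iff]
      rfl
    rw [← hk, index_ker, MonoidHom.range_eq_top.2 hm, card_top]
    exact Grp.pPrimeCore_not_dvd
  let P : Sylow 2 L := (hZ.of_equiv (subgroupOfEquivOfLe hAL).symm).toSylow hidx
  have hP : normalizer (P : Set L) ≤ centralizer (P : Set L) := fun x _ => mem_centralizer_iff.2 fun q hq => by
    have hq' : (q : L) ∈ (P : Subgroup L) := hq
    rw [show (P : Subgroup L) = Z.subgroupOf L from IsPGroup.toSylow_coe _ _] at hq'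
    exact Subtype.ext (mem_center_iff.1 (hZc hq') (x : C)).symm
  have hN : (MonoidHom.transferSylow P hP).ker = ⊥ := by
    have hle : (MonoidHom.transferSylow P hP).ker ≤ Cfsg.pPrimeCore 2 L := Grp.le_pPrimeCore inferInstance
      ((Nat.prime_two.coprime_iff_not_dvd).2 (MonoidHom.not_dvd_card_ker_transferSylow P hP)).symm
    refine eq_bot_iff.2 (hle.trans (le_of_eq ?_))
    rw [← map_eq_bot_iff_of_injective _ (f := L.subtype) Subtype.val_injective,
      Grp.pPrimeCore_map_eq L, show Cfsg.pPrimeCore 2 C = ⊥ from hO, bot_inf_eq]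
  have htop : Z.subgroupOf L = ⊤ := by
    have := (MonoidHom.ker_transferSylow_isComplement' P hP).sup_eq_top
    rwa [hN, bot_sup_eq, show (P : Subgroup L) = Z.subgroupOf L from IsPGroup.toSylow_coe _ _] at this
  refine eq_bot_iff.2 fun x hx => ?_
  obtain ⟨x, rfl⟩ := QuotientGroup.mk'_surjective Z x
  exact mem_bot.2 ((QuotientGroup.eq_one_iff x).2 (subgroupOf_eq_top.1 htop hx))

variable {C : Type v} [Group C] [Finite C] {H : Subgroup C} {T : Sylow 2 C} {u : C} {Q R : Subgroup C}

theorem TwistC.le_center (h : TwistC H T u) : zpowers u ≤ center C :=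
  zpowers_le.2 (mem_center_iff.2 fun c => (h.cent c).eq)

theorem TwistC.zpowers_normal (h : TwistC H T u) : (zpowers u).Normal :=
  ⟨fun x hx g => by rwa [mem_center_iff.1 (h.le_center hx) g, mul_inv_cancel_right]⟩

namespace Pair

/-- The images of the involutions other than `u`. -/
def liftable (u : C) [(zpowers u).Normal] : Set (C ⧸ zpowers u) :=
  {k | ∃ y : C, orderOf y = 2 ∧ y ≠ u ∧ QuotientGroup.mk' (zpowers u) y = k}

variable (h : TwistC H T u) (d : Pair H T u Q R) [(zpowers u).Normal]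

include h

theorem eq_one_iff_u {x : C} : QuotientGroup.mk' (zpowers u) x = 1 ↔ x = 1 ∨ x = u := by
  refine (QuotientGroup.eq_one_iff x).trans ⟨mem_zpowers_u h, ?_⟩
  rintro (e | e) <;> rw [e]
  exacts [one_mem _, mem_zpowers u]

theorem mem_map_iff {L : Subgroup C} (hu : u ∈ L) {x : C} :
    QuotientGroup.mk' (zpowers u) x ∈ L.map (QuotientGroup.mk' (zpowers u)) ↔ x ∈ L := by
  refine ⟨?_, fun hx => mem_map_of_mem _ hx⟩
  rintro ⟨y, hy, e⟩
  have h1 : y⁻¹ * x ∈ zpowers u := QuotientGroup.eq.1 e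
  simpa using mul_mem hy ((zpowers_le.2 hu) h1)

theorem commute_iff {c q : C} :
    Commute (QuotientGroup.mk' (zpowers u) c) (QuotientGroup.mk' (zpowers u) q) ↔
      c * q * c⁻¹ = q ∨ c * q * c⁻¹ = q * u := by
  rw [show Commute (QuotientGroup.mk' (zpowers u) c) (QuotientGroup.mk' (zpowers u) q) ↔
    QuotientGroup.mk' (zpowers u) (q⁻¹ * (c * q * c⁻¹)) = 1 by
      rw [map_mul, map_mul, map_mul, map_inv, map_inv, inv_mul_eq_one, eq_comm, mul_inv_eq_iff_eq_mul]
      rfl, eq_one_iff_u h]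
  rw [inv_mul_eq_one, inv_mul_eq_iff_eq_mul, eq_comm]

include d

/-- The component is the orbit of the elements centralising the root modulo `u`. -/
theorem exists_commute {q c : C} (hq : q ∈ Q) (hqq : q * q = u)
    (hc : Commute (QuotientGroup.mk' (zpowers u) c) (QuotientGroup.mk' (zpowers u) q)) :
    (QuotientGroup.mk c : C ⧸ H) ∈ comp H q := by
  rcases (commute_iff h).1 hc with e | e
  · exact ⟨c, mul_inv_eq_iff_eq_mul.1 e, rfl⟩
  obtain ⟨r, hr, -, hrq, -⟩ := d.exists_anti h hq hqq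
  refine ⟨c * r, ?_, QuotientGroup.eq.2 ?_⟩
  · have e' : c * q = q * u * c := mul_inv_eq_iff_eq_mul.1 e
    show c * r * q = q * (c * r)
    calc c * r * q = c * (r * q) := mul_assoc _ _ _
      _ = c * q * (r * u) := by rw [hrq]; group
      _ = q * u * (c * r) * u := by rw [e']; group
      _ = q * (c * r) * (u * u) := by rw [mul_assoc q u, ← (h.cent (c * r)).eq]; group
      _ = q * (c * r) := by rw [h.uu, mul_one]
  · rw [mul_inv_rev, mul_assoc, inv_mul_cancel, mul_one]
    exact inv_mem (h.le (d.leT hr))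

theorem five (h5 : FiveAt H u) {q : C} (hq : q ∈ Q) (hqq : q * q = u) :
    ((H.map (QuotientGroup.mk' (zpowers u))).subgroupOf
      (centralizer ({QuotientGroup.mk' (zpowers u) q} : Set (C ⧸ zpowers u)))).index = 5 := by
  set π := QuotientGroup.mk' (zpowers u)
  set X := centralizer ({π q} : Set (C ⧸ zpowers u))
  set N := X.comap π
  rw [← index_comap_of_surjective _
    (MonoidHom.subgroupComap_surjective_of_surjective π X (QuotientGroup.mk'_surjective _))]
  have e1 : ((H.map π).subgroupOf X).comap (π.subgroupComap X) = H.subgroupOf N := by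
    ext n
    exact mem_map_iff h h.u_mem
  rw [e1]
  have hstab : MulAction.stabilizer ↥N (QuotientGroup.mk 1 : C ⧸ H) = H.subgroupOf N := by
    ext n
    exact Comp.smul_base_eq (g := (n : C))
  have horb : MulAction.orbit ↥N (QuotientGroup.mk 1 : C ⧸ H) = comp H q := by
    ext p
    constructor
    · rintro ⟨⟨n, hn⟩, rfl⟩
      show n • (QuotientGroup.mk 1 : C ⧸ H) ∈ comp H q
      rw [Comp.smul_base]
      exact d.exists_commute h hq hqq (mem_C.1 hn)
    · rintro ⟨c, hc, rfl⟩
      exact ⟨⟨c, mem_C.2 (hc.map π)⟩, Comp.smul_base c⟩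
  show Nat.card (↥N ⧸ H.subgroupOf N) = 5
  rw [← hstab, ← Nat.card_congr (MulAction.orbitEquivQuotientStabilizer ↥N (QuotientGroup.mk 1 : C ⧸ H)), horb,
    Nat.card_coe_set_eq]
  exact h5 q (d.cover q hq hqq)

theorem root_of_ne {q : C} (hq : q ∈ Q) (hq1 : QuotientGroup.mk' (zpowers u) q ≠ 1) : q * q = u :=
  (d.sq q hq).resolve_left fun e => hq1 ((eq_one_iff_u h).2 (d.uniq q hq e))

theorem triv (h5 : FiveAt H u) : ∀ x ∈ Q.map (QuotientGroup.mk' (zpowers u)), x ≠ 1 →
    ∀ p ∈ Q.map (QuotientGroup.mk' (zpowers u)), ∀ c : C ⧸ zpowers u, Commute c x →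
      c⁻¹ * p * c ∈ H.map (QuotientGroup.mk' (zpowers u)) := by
  rintro _ ⟨q, hq, rfl⟩ hq1 _ ⟨w, hw, rfl⟩ c hc
  obtain ⟨c, rfl⟩ := QuotientGroup.mk'_surjective _ c
  have hqq := d.root_of_ne h hq hq1
  rw [← map_inv, ← map_mul, ← map_mul]
  refine mem_map_of_mem _ (Comp.smul_base_eq.1 ?_)
  rw [mul_smul, mul_smul, Comp.smul_base, Comp.mem_ker.1 (d.le_ker h hq hqq h5 hw) _ (d.exists_commute h hq hqq hc),
    ← Comp.smul_base c, inv_smul_smul]

theorem kerS (h5 : FiveAt H u) : ∀ x ∈ Q.map (QuotientGroup.mk' (zpowers u)), x ≠ 1 →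
    ∀ s ∈ (T : Subgroup C).map (QuotientGroup.mk' (zpowers u)), Commute s x →
      (∀ c : C ⧸ zpowers u, Commute c x → c⁻¹ * s * c ∈ H.map (QuotientGroup.mk' (zpowers u))) →
      s ∈ Q.map (QuotientGroup.mk' (zpowers u)) := by
  rintro _ ⟨q, hq, rfl⟩ hq1 _ ⟨t, ht, rfl⟩ - hfix
  have hqq := d.root_of_ne h hq hq1
  refine mem_map_of_mem _ (d.T0_le h hq hqq h5 ⟨ht, Comp.mem_ker.2 fun p hp => ?_⟩)
  obtain ⟨c, hc, rfl⟩ := hp
  have h1 := hfix (QuotientGroup.mk' _ c) (hc.map _)
  rw [← map_inv, ← map_mul, ← map_mul, mem_map_iff h h.u_mem] at h1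
  show (QuotientGroup.mk (t * c) : C ⧸ H) = QuotientGroup.mk c
  rw [QuotientGroup.eq, show (t * c)⁻¹ * c = (c⁻¹ * t * c)⁻¹ by group]
  exact inv_mem h1

theorem card_map : Nat.card ↥(Q.map (QuotientGroup.mk' (zpowers u))) = 4 := by
  have hk : ((QuotientGroup.mk' (zpowers u)).comp Q.subtype).ker = (zpowers u).subgroupOf Q := by
    ext x
    exact QuotientGroup.eq_one_iff (x : C)
  have h1 := (((QuotientGroup.mk' (zpowers u)).comp Q.subtype).ker).index_mul_card
  rw [index_ker, MonoidHom.range_comp, Subgroup.range_subtype, hk,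
    Nat.card_congr (subgroupOfEquivOfLe (zpowers_le.2 (d.u_mem h))).toEquiv, Nat.card_zpowers, h.two, d.card] at h1
  omega

theorem sides (h5 : FiveAt H u) :
    Sides (H.map (QuotientGroup.mk' (zpowers u))) (T.mapSurjective (QuotientGroup.mk'_surjective (zpowers u)))
      (liftable u) (Q.map (QuotientGroup.mk' (zpowers u))) (R.map (QuotientGroup.mk' (zpowers u))) := by
  have hA2 : ∀ {L : Subgroup C}, (∀ q ∈ L, q * q = 1 ∨ q * q = u) → ∀ x ∈ L.map (QuotientGroup.mk' (zpowers u)),
      x * x = 1 := by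
    rintro L hL _ ⟨q, hq, rfl⟩
    rw [← map_mul, eq_one_iff_u h]
    exact hL q hq
  exact {
    core := oddCore_mod_central h.core (zpowers u) h.le_center
      (IsPGroup.of_card (n := 1) (by rw [Nat.card_zpowers, h.two, pow_one]))
    top := fun e => h.proper (eq_top_iff.2 fun x _ => (mem_map_iff h h.u_mem).1 (e ▸ mem_top _))
    le := by rw [Sylow.coe_mapSurjective]; exact map_mono h.le
    K2 := by
      rintro _ ⟨y, hy, hyu, rfl⟩
      refine orderOf_two_iff.2 ⟨by rw [← map_mul, mul_self_of_orderOf_two hy, map_one], fun e => ?_⟩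
      rcases (eq_one_iff_u h).1 e with e | e
      exacts [ne_one_of_orderOf_two hy e, hyu e]
    Kc := by
      rintro _ ⟨y, hy, hyu, rfl⟩ g
      obtain ⟨c, rfl⟩ := QuotientGroup.mk'_surjective _ g
      refine ⟨c * y * c⁻¹, by rw [orderOf_conj_eq, hy], fun e => hyu ?_, by simp⟩
      calc y = c⁻¹ * (c * y * c⁻¹) * c := by group
        _ = u := by rw [e, mul_assoc, ← (h.cent c).eq, inv_mul_cancel_left]
    fix := by
      rintro _ ⟨y, hy, hyu, rfl⟩ hyH g hg
      obtain ⟨c, rfl⟩ := QuotientGroup.mk'_surjective _ g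
      rw [← map_inv, ← map_mul, ← map_mul, mem_map_iff h h.u_mem] at hg
      exact mem_map_of_mem _ (h.fix y ((mem_map_iff h h.u_mem).1 hyH) hy hyu c hg)
    hA := by rw [Sylow.coe_mapSurjective]; exact map_mono d.leT
    hB := by rw [Sylow.coe_mapSurjective]; exact map_mono d.leR
    cardA := d.card_map h
    cardB := d.symm.card_map h
    A2 := hA2 d.sq
    B2 := hA2 d.sqR
    comm := by
      rintro _ ⟨q, hq, rfl⟩ _ ⟨r, hr, rfl⟩
      exact (d.comm q hq r hr).map _
    mulK := by
      rintro _ ⟨q, hq, rfl⟩ hq1 _ ⟨r, hr, rfl⟩ hr1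
      obtain ⟨h1, h2, -⟩ := d.mul_invol h hq hr (d.root_of_ne h hq hq1) (d.symm.root_of_ne h hr hr1)
      exact ⟨q * r, h1, h2, map_mul _ _ _⟩
    notK := by
      rintro x hx ⟨y, hy, hyu, rfl⟩
      have key : ∀ {L : Subgroup C}, u ∈ L → (∀ q ∈ L, q * q = 1 → q = 1 ∨ q = u) →
          QuotientGroup.mk' (zpowers u) y ∈ L.map (QuotientGroup.mk' (zpowers u)) → False := fun {L} huL hL hyL => by
        rcases hL y ((mem_map_iff h huL).1 hyL) (mul_self_of_orderOf_two hy) with e | e
        exacts [ne_one_of_orderOf_two hy e, hyu e]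
      rcases hx with hx | hx
      exacts [key (d.u_mem h) d.uniq hx, key (d.symm.u_mem h) d.uniqR hx]
    stab := by
      rw [Sylow.coe_mapSurjective]
      rintro _ ⟨t, ht, rfl⟩
      refine (d.stab t ht).imp (fun hs => ⟨?_, ?_⟩) fun hs => ⟨?_, ?_⟩ <;> rintro _ ⟨q, hq, rfl⟩ <;>
        rw [← map_inv, ← map_mul, ← map_mul]
      exacts [mem_map_of_mem _ (hs.1 q hq), mem_map_of_mem _ (hs.2 q hq), mem_map_of_mem _ (hs.1 q hq),
        mem_map_of_mem _ (hs.2 q hq)]
    swap := by
      obtain ⟨a, ha, h1, h2⟩ := d.swap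
      refine ⟨QuotientGroup.mk' _ a, by rw [Sylow.coe_mapSurjective]; exact mem_map_of_mem _ ha, ?_, ?_⟩ <;>
        rintro _ ⟨q, hq, rfl⟩ <;> rw [← map_inv, ← map_mul, ← map_mul]
      exacts [mem_map_of_mem _ (h1 q hq), mem_map_of_mem _ (h2 q hq)]
    fiveA := by
      rintro _ ⟨q, hq, rfl⟩ hq1
      exact d.five h h5 hq (d.root_of_ne h hq hq1)
    fiveB := by
      rintro _ ⟨q, hq, rfl⟩ hq1
      exact d.symm.five h h5 hq (d.symm.root_of_ne h hq hq1)
    trivA := d.triv h h5
    trivB := d.symm.triv h h5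
    kerA := by rw [Sylow.coe_mapSurjective]; exact d.kerS h h5
    kerB := by rw [Sylow.coe_mapSurjective]; exact d.symm.kerS h h5 }

theorem loc (h5 : FiveAt H u) {q r : C} (hq : q ∈ Q) (hr : r ∈ R) (hqq : q * q = u) (hrr : r * r = u) :
    LocAt H (q * r) := by
  classical
  set π := QuotientGroup.mk' (zpowers u) with hπ
  intro D hDo hDH hDn
  obtain ⟨a, a', b, b', t⟩ := (d.sides h h5).exists_twoFive
  obtain ⟨hy2, hyu, -⟩ := d.mul_invol h hq hr hqq hrr
  have hu1 := ne_one_of_orderOf_two h.two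
  have hne : ∀ {x : C}, x * x = u → π x ≠ 1 := fun {x} hx e => by
    rcases (eq_one_iff_u h).1 e with e | e <;> rw [e] at hx
    · exact hu1 (by rw [← hx, one_mul])
    · exact hu1 (mul_eq_left.1 hx)
  have hqy : Commute q (q * r) := (Commute.refl q).mul_right (d.comm q hq r hr)
  have hry : Commute r (q * r) := (d.comm q hq r hr).symm.mul_right (Commute.refl r)
  -- the centraliser modulo `u` normalises that of `y`
  have hconj : ∀ c : C ⧸ zpowers u, Commute c (π q * π r) → ∀ n ∈ (centralizer ({q * r} : Set C)).map π,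
      c * n * c⁻¹ ∈ (centralizer ({q * r} : Set C)).map π := by
    rintro c hc _ ⟨n, hn, rfl⟩
    obtain ⟨c, rfl⟩ := QuotientGroup.mk'_surjective _ c
    rw [← map_mul π q r] at hc
    rw [← map_inv, ← map_mul, ← map_mul]
    refine mem_map_of_mem _ (mem_C.2 ?_)
    have h1 := commute_conj (g := c) (mem_C.1 hn)
    rcases (commute_iff h).1 hc with e | e <;> rw [e] at h1
    · exact h1
    · simpa [mul_assoc, h.uu] using h1.mul_right (h.cent (c * n * c⁻¹))
  have hDc : D.map π ⊓ centralizer ({π q * π r} : Set (C ⧸ zpowers u)) ≤ (centralizer ({q * r} : Set C)).map π := by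
    rintro _ ⟨⟨x, hx, rfl⟩, hxc⟩
    refine mem_map_of_mem _ (mem_C.2 ?_)
    have hxc' : Commute (π x) (π (q * r)) := by rw [map_mul]; exact mem_C.1 hxc
    have h2 : Commute (x * x) (q * r) := by
      rcases (commute_iff h).1 hxc' with e | e
      · exact (show Commute x (q * r) from mul_inv_eq_iff_eq_mul.1 e).mul_left (mul_inv_eq_iff_eq_mul.1 e)
      · refine mul_inv_eq_iff_eq_mul.1 ?_
        rw [show x * x * (q * r) * (x * x)⁻¹ = x * (x * (q * r) * x⁻¹) * x⁻¹ by group, e,
          show x * (q * r * u) * x⁻¹ = x * (q * r) * x⁻¹ * (x * u * x⁻¹) by group, e, (h.cent x).eq,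
          mul_inv_cancel_right, mul_assoc, h.uu, mul_one]
    rw [eq_pow_sq (hDo.of_dvd_nat (D.orderOf_dvd_natCard hx)) (pow_orderOf_eq_one x)]
    exact h2.pow_left _
  have hDnorm : ∀ c ∈ (centralizer ({q * r} : Set C)).map π, ∀ z ∈ D.map π, c * z * c⁻¹ ∈ D.map π := by
    rintro _ ⟨c, hc, rfl⟩ _ ⟨z, hz, rfl⟩
    rw [← map_inv, ← map_mul, ← map_mul]
    exact mem_map_of_mem _ (hDn c (mem_C.1 hc) z hz)
  have hDbot := t.eq_bot_of_normalized (mem_map_of_mem π hq) (hne hqq) (mem_map_of_mem π hr) (hne hrr)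
    (D := D.map π) (N := (centralizer ({q * r} : Set C)).map π) (hDo.of_dvd_nat (card_map_dvd D π)) (map_mono hDH)
    (by rintro _ ⟨c, hc, rfl⟩; rw [← map_mul π q r]; exact (mem_C.1 hc).map π) hconj
    (mem_map_of_mem _ (mem_C.2 hqy)) (mem_map_of_mem _ (mem_C.2 hry)) hDc hDnorm
  refine eq_bot_iff.2 fun x hx => mem_bot.2 ?_
  rcases (eq_one_iff_u h).1 (mem_bot.1 (hDbot ▸ mem_map_of_mem π hx)) with e | e
  · exact e
  · exfalso
    subst e
    have h1 := hDo.of_dvd_nat (D.orderOf_dvd_natCard hx)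
    rw [h.two] at h1
    exact absurd h1 (by decide)

end Pair

/-- Section 4: the local fact at a product of roots of two exchanged components. -/
theorem TwistC.loc_of_swapPair {Q' : Subgroup C} {a : C} (h : TwistC H T u) (h5 : FiveAt H u)
    (s : SwapPair H T u Q Q' a) (hsq : ∀ q ∈ Q, q * q = 1 ∨ q * q = u) {q q' : C} (hq : q ∈ Q) (hq' : q' ∈ Q')
    (hqq : q * q = u) (hq'q : q' * q' = u) : LocAt H (q * q') := by
  haveI := h.zpowers_normal
  have hcR : Nat.card Q' = 8 := by
    have h1 : Nat.card Q ≤ Nat.card Q' := by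
      rw [← card_map_of_injective (K := Q) (f := (MulAut.conj a).toMonoidHom) (MulAut.conj a).injective]
      exact card_le_of_le (by rintro _ ⟨x, hx, rfl⟩; exact s.conj x hx)
    have h2 : Nat.card Q' ≤ Nat.card Q := by
      rw [← card_map_of_injective (K := Q') (f := (MulAut.conj a).toMonoidHom) (MulAut.conj a).injective]
      exact card_le_of_le (by rintro _ ⟨x, hx, rfl⟩; exact s.conj' x hx)
    rw [← s.card]
    exact le_antisymm h2 h1
  have hua : a⁻¹ * u * a = u := by rw [mul_assoc, ← (h.cent a).eq, inv_mul_cancel_left]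
  have d : Pair H T u Q Q' := {
    leT := s.leT
    leR := s.leT'
    card := s.card
    cardR := hcR
    sq := hsq
    sqR := fun x hx => by
      have e : x * x = a⁻¹ * (a * x * a⁻¹ * (a * x * a⁻¹)) * a := by group
      rcases hsq _ (s.conj' x hx) with e' | e' <;> rw [e, e']
      · exact Or.inl (by group)
      · exact Or.inr hua
    uniq := s.uniq
    uniqR := fun x hx hxx => by
      have e : a * x * a⁻¹ * (a * x * a⁻¹) = 1 := by
        rw [show a * x * a⁻¹ * (a * x * a⁻¹) = a * (x * x) * a⁻¹ by group, hxx, mul_one, mul_inv_cancel]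
      have e' : x = a⁻¹ * (a * x * a⁻¹) * a := by group
      rcases s.uniq _ (s.conj' x hx) e with e'' | e'' <;> rw [e'] <;> rw [e'']
      · exact Or.inl (by group)
      · exact Or.inr hua
    inf := s.inf
    comm := s.comm
    cover := s.cover
    coverR := s.cover'
    stab := s.stab
    swap := ⟨a, s.memT, s.conj, s.conj'⟩ }
  exact d.loc h h5 hq hq' hqq hq'q

end Cfsg.Agent.Invol.Core2
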