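import Cfsg.Agent.Lib.Invol.Basic
import Cfsg.Agent.Lib.Invol.Sylow

/-!
# Twisted bad involution: fusion against a component

`u` is the only central involution of a Sylow 2-subgroup `S`. If every other involution of `S` is the product of two
square roots of `u`, one in a quaternion group `Q` and one in a group `T₀` centralising it that has a single
involution and anticommuting roots, then `u` is fused to none of them. If the involutions of a subgroup `P` of index
two are such products for two quaternion groups `Q`, `Q'` exchanged outside `P`, and `u` is fused in `S`, then it is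
fused to one of these products.
-/

set_option autoImplicit false
set_option linter.unusedSectionVars false
set_option linter.style.haveILetI false

namespace Cfsg.Agent.Invol.Core2.TwistFusion

open Subgroup

variable {G : Type*} [Group G] [Finite G]

/-- In a 2-group a proper subgroup is normalised by an element outside it. -/
theorem exists_normalizer_growth {R T : Subgroup G} (hR : IsPGroup 2 ↥R) (hT : T < R) :
    ∃ n ∈ R, n ∈ normalizer (T : Set G) ∧ n ∉ T := by
  haveI : Fact (Nat.Prime 2) := ⟨Nat.prime_two⟩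
  haveI := hR.isNilpotent
  have hlt : T.subgroupOf R < ⊤ := by
    rw [lt_top_iff_ne_top, Ne, subgroupOf_eq_top]
    exact hT.not_ge
  obtain ⟨-, g, hg, hgT⟩ := SetLike.lt_iff_le_and_exists.1 (Group.normalizerCondition_of_isNilpotent _ hlt)
  exact ⟨g, g.2, mem_normalizer_fintype fun t ht =>
    (mem_normalizer_iff.1 hg ⟨t, hT.le ht⟩).1 ht, hgT⟩

/-- A conjugate `x` of `u` in `S` whose centraliser in `S` is a largest 2-subgroup of `C(u, x)`, with an element of
`C(x)` normalising that centraliser and moving `u`. -/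
theorem exists_fused_max (S : Sylow 2 G) {u : G} (hu : u ∈ (S : Subgroup G)) (hu2 : orderOf u = 2)
    (hcu : ∀ s ∈ (S : Subgroup G), Commute s u)
    (huniq : ∀ a ∈ (S : Subgroup G), orderOf a = 2 → (∀ s ∈ (S : Subgroup G), Commute s a) → a = u)
    (hfused : ∃ x ∈ (S : Subgroup G), x ≠ u ∧ IsConj u x) :
    ∃ x ∈ (S : Subgroup G), x ≠ u ∧ orderOf x = 2 ∧ IsConj u x ∧
      (∃ n : G, Commute n x ∧ n * u * n⁻¹ ≠ u ∧
        ∀ t ∈ (S : Subgroup G), Commute t x → n * t * n⁻¹ ∈ (S : Subgroup G) ∧ Commute (n * t * n⁻¹) x) ∧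
      ∃ d ∈ (S : Subgroup G), d * x * d⁻¹ ≠ x ∧
        ∀ t ∈ (S : Subgroup G), Commute t x → Commute (d * t * d⁻¹) x := by
  classical
  haveI : Fact (Nat.Prime 2) := ⟨Nat.prime_two⟩
  set P := (S : Subgroup G) with hP
  let A : Set G := {x | x ∈ P ∧ x ≠ u ∧ IsConj u x}
  obtain ⟨x, hxA, hmax⟩ := Set.exists_max_image A (fun x => Nat.card ↥(P ⊓ centralizer ({x} : Set G)))
    (Set.toFinite A) (by obtain ⟨x, h1, h2, h3⟩ := hfused; exact ⟨x, h1, h2, h3⟩)
  obtain ⟨hx, hxu, hconj⟩ := hxA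
  obtain ⟨g, hg⟩ := isConj_iff.1 hconj
  have hx2 : orderOf x = 2 := by rw [← hg, orderOf_conj_eq, hu2]
  set T := P ⊓ centralizer ({x} : Set G) with hT
  have hTmem : ∀ {t}, t ∈ T ↔ t ∈ P ∧ Commute t x := by
    intro t
    rw [hT, Subgroup.mem_inf, mem_centralizer_singleton_iff]
    rfl
  have hTp : IsPGroup 2 ↥T := S.isPGroup'.to_le inf_le_left
  have hTP : T < P := lt_of_le_not_ge inf_le_left fun hle => hxu (huniq x hx hx2 fun s hs => (hTmem.1 (hle hs)).2)
  -- a 2-subgroup of the centraliser of the pair over `T` is `T`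
  have hbig : ∀ R : Subgroup G, IsPGroup 2 ↥R → T ≤ R → (∀ r ∈ R, Commute r x) → (∀ r ∈ R, Commute r u) →
      R = T := by
    intro R hR hTR hRx hRu
    have hPC : P ≤ centralizer ({u} : Set G) := fun s hs => mem_centralizer_singleton_iff.2 (hcu s hs).eq
    have hRC : R ≤ centralizer ({u} : Set G) := fun r hr => mem_centralizer_singleton_iff.2 (hRu r hr).eq
    obtain ⟨c, hc⟩ := exists_conj_subset_sylow (G := ↥(centralizer ({u} : Set G)))
      (H := R.subgroupOf _) (hR.comap_subtype) (S.subtype hPC)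
    have hc' : ∀ r ∈ R, (c : G) * r * (c : G)⁻¹ ∈ P := fun r hr => hc ⟨r, hRC hr⟩ hr
    have hcu' : Commute (c : G) u := mem_centralizer_singleton_iff.1 c.2
    have hx' : (c : G) * x * (c : G)⁻¹ ∈ A := by
      refine ⟨hc' x (hTR (hTmem.2 ⟨hx, Commute.refl x⟩)), fun e => hxu ?_,
        hconj.trans (isConj_iff.2 ⟨(c : G), rfl⟩)⟩
      calc x = (c : G)⁻¹ * ((c : G) * x * (c : G)⁻¹) * c := by group
        _ = u := by rw [e, mul_assoc, ← hcu'.eq, inv_mul_cancel_left]
    have h1 : R.map (MulAut.conj (c : G)).toMonoidHom ≤ P ⊓ centralizer ({(c : G) * x * (c : G)⁻¹} : Set G) := by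
      rintro _ ⟨r, hr, rfl⟩
      refine ⟨hc' r hr, mem_centralizer_singleton_iff.2 ?_⟩
      exact ((hRx r hr).map (MulAut.conj (c : G)).toMonoidHom).eq
    have h2 := (card_le_of_le h1).trans (hmax _ hx')
    rw [card_map_of_injective (MulAut.conj (c : G)).injective] at h2
    exact (eq_of_le_of_card_ge hTR h2).symm
  refine ⟨x, hx, hxu, hx2, hconj, ?_, ?_⟩
  · -- a Sylow subgroup of `C(x)` over `T` is larger
    set Cx := centralizer ({x} : Set G) with hCx
    obtain ⟨R, hR⟩ := (hTp.comap_subtype (K := Cx)).exists_le_sylow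
    have hPg : P.map (MulAut.conj g).toMonoidHom ≤ Cx := by
      rintro _ ⟨s, hs, rfl⟩
      rw [hCx, mem_centralizer_singleton_iff, ← hg]
      exact ((hcu s hs).map (MulAut.conj g).toMonoidHom).eq
    set R' := (R : Subgroup ↥Cx).map Cx.subtype with hR'
    have hTR : T ≤ R' := fun t ht => ⟨⟨t, mem_centralizer_singleton_iff.2 (hTmem.1 ht).2.eq⟩, hR ht, rfl⟩
    have hlt : T < R' := lt_of_le_not_ge hTR fun hle => by
      obtain ⟨c, hc⟩ := exists_conj_subset_sylow (G := ↥Cx) (H := (P.map (MulAut.conj g).toMonoidHom).subgroupOf Cx)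
        ((S.isPGroup'.map _).comap_subtype) R
      have h1 : (P.map (MulAut.conj g).toMonoidHom).map (MulAut.conj (c : G)).toMonoidHom ≤ R' := by
        rintro _ ⟨s, hs, rfl⟩
        exact ⟨_, hc ⟨s, hPg hs⟩ hs, rfl⟩
      have h2 := card_le_of_le (h1.trans hle)
      rw [card_map_of_injective (MulAut.conj (c : G)).injective,
        card_map_of_injective (MulAut.conj g).injective] at h2
      exact hTP.ne (eq_of_le_of_card_ge hTP.le h2)
    have hR'p : IsPGroup 2 ↥R' := R.isPGroup'.map _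
    obtain ⟨n, hnR, hnn, hnT⟩ := exists_normalizer_growth hR'p hlt
    have hnx : Commute n x := by
      obtain ⟨k, -, rfl⟩ := hnR
      exact mem_centralizer_singleton_iff.1 k.2
    have hnT' : ∀ t ∈ P, Commute t x → n * t * n⁻¹ ∈ P ∧ Commute (n * t * n⁻¹) x := fun t ht htx =>
      hTmem.1 ((mem_normalizer_iff.1 hnn t).1 (hTmem.2 ⟨ht, htx⟩))
    refine ⟨n, hnx, fun e => hnT ?_, hnT'⟩
    have hn : n ∈ T ⊔ zpowers n := mem_sup_right (mem_zpowers n)
    rwa [hbig (T ⊔ zpowers n) (hR'p.to_le (sup_le hTR (zpowers_le.2 hnR))) le_sup_left ?_ ?_] at hn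
    · intro r hr
      exact mem_centralizer_singleton_iff.1 ((sup_le inf_le_right
        (zpowers_le.2 (mem_centralizer_singleton_iff.2 hnx.eq)) : T ⊔ zpowers n ≤ Cx) hr)
    · intro r hr
      exact mem_centralizer_singleton_iff.1 ((sup_le (fun t ht => mem_centralizer_singleton_iff.2
        (hcu t (hTmem.1 ht).1).eq) (zpowers_le.2 (mem_centralizer_singleton_iff.2 (mul_inv_eq_iff_eq_mul.1 e))) :
        T ⊔ zpowers n ≤ centralizer ({u} : Set G)) hr)
  · obtain ⟨d, hdP, hdn, hdT⟩ := exists_normalizer_growth S.isPGroup' hTP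
    exact ⟨d, hdP, fun e => hdT (hTmem.2 ⟨hdP, mul_inv_eq_iff_eq_mul.1 e⟩), fun t ht htx =>
      (hTmem.1 ((mem_normalizer_iff.1 hdn t).1 (hTmem.2 ⟨ht, htx⟩))).2⟩

/-- All involutions inner on one component: `u` is isolated in `S`. -/
theorem false_of_inner (S : Sylow 2 G) {u : G} (hu : u ∈ (S : Subgroup G)) (hu2 : orderOf u = 2)
    (hcu : ∀ s ∈ (S : Subgroup G), Commute s u)
    (huniq : ∀ a ∈ (S : Subgroup G), orderOf a = 2 → (∀ s ∈ (S : Subgroup G), Commute s a) → a = u)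
    {Q T₀ : Subgroup G} (hQS : Q ≤ (S : Subgroup G)) (hTS : T₀ ≤ (S : Subgroup G))
    (hcomm : ∀ q ∈ Q, ∀ t ∈ T₀, Commute q t)
    (hQ1 : ∀ q ∈ Q, q * q = 1 → q = 1 ∨ q = u) (hQsq : ∀ q ∈ Q, q * q = 1 ∨ q * q = u)
    (hQanti : ∀ q ∈ Q, q * q = u → ∃ r ∈ Q, r * r = u ∧ r * q = q * r * u)
    (hT1 : ∀ t ∈ T₀, t * t = 1 → t = 1 ∨ t = u)
    (hTanti : ∀ t ∈ T₀, t * t = u → ∃ r ∈ T₀, r * r = u ∧ r * t = t * r * u)
    (hinf : Q ⊓ T₀ ≤ zpowers u)
    (hinv : ∀ x ∈ (S : Subgroup G), orderOf x = 2 → x ≠ u →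
      ∃ q ∈ Q, ∃ c ∈ T₀, q * q = u ∧ c * c = u ∧ x = q * c)
    (hfused : ∃ x ∈ (S : Subgroup G), x ≠ u ∧ IsConj u x) : False := by
  classical
  obtain ⟨x, hx, hxu, hx2, -, ⟨n, hnx, hnu, hnT⟩, d, hdS, hdx, hdT⟩ :=
    exists_fused_max S hu hu2 hcu huniq hfused
  obtain ⟨q, hq, c, hc, hqq, hcc, hxeq⟩ := hinv x hx hx2 hxu
  have huu := mul_self_of_orderOf_two hu2
  have hu1 := ne_one_of_orderOf_two hu2
  have hqc := hcomm q hq c hc
  have hqx : Commute q x := hxeq ▸ (Commute.refl q).mul_right hqc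
  have hcx : Commute c x := hxeq ▸ hqc.symm.mul_right (Commute.refl c)
  -- an involution central in the centraliser of `x`
  have hZ : ∀ w ∈ (S : Subgroup G), orderOf w = 2 → Commute w q → Commute w c → w = u ∨ w = x ∨ w = x * u := by
    intro w hw hw2 hwq hwc
    by_cases hwu : w = u
    · exact Or.inl hwu
    obtain ⟨q', hq', c', hc', hq'q, hc'c, rfl⟩ := hinv w hw hw2 hwu
    have h1 : Commute q' q := by
      have := hwq.mul_left ((hcomm q hq c' hc').symm.inv_left)
      rwa [mul_inv_cancel_right] at this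
    have h2 : Commute c' c := by
      have := ((hcomm q' hq' c hc).inv_left).mul_left hwc
      rwa [inv_mul_cancel_left] at this
    have key : ∀ {a b : G}, a * a = u → b * b = u → Commute a b → (a * b) * (a * b) = 1 := fun {a b} ha hb hab => by
      calc a * b * (a * b) = a * (b * a) * b := by group
        _ = a * a * (b * b) := by rw [← hab.eq]; group
        _ = 1 := by rw [ha, hb, huu]
    have hinv' : ∀ {a : G}, a * a = u → a⁻¹ = a * u := fun {a} ha => inv_eq_of_mul_eq_one_right (by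
      rw [← mul_assoc, ha, huu])
    have hcase : ∀ {a b : G}, a * a = u → b * b = u → (a * b = 1 ∨ a * b = u) → b = a ∨ b = a * u :=
      fun {a b} ha hb h => by
        rcases h with h | h
        · exact Or.inr ((inv_eq_of_mul_eq_one_right h).symm.trans (hinv' ha))
        · refine Or.inl (mul_left_cancel (a := a) (h.trans ha.symm))
    have huc : ∀ z ∈ (S : Subgroup G), Commute z u := hcu
    rcases hcase hqq hq'q (hQ1 _ (mul_mem hq hq') (key hqq hq'q h1.symm)) with rfl | rfl <;>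
      rcases hcase hcc hc'c (hT1 _ (mul_mem hc hc') (key hcc hc'c h2.symm)) with rfl | rfl
    · exact Or.inr (Or.inl hxeq.symm)
    · exact Or.inr (Or.inr (by rw [hxeq, mul_assoc]))
    · exact Or.inr (Or.inr (by rw [hxeq, mul_assoc, mul_assoc, (huc _ (hTS hc)).eq]))
    · refine Or.inr (Or.inl ?_)
      rw [hxeq]
      calc q * u * (c * u) = q * (u * c) * u := by group
        _ = q * c * (u * u) := by rw [← (huc c (hTS hc)).eq]; group
        _ = q * c := by rw [huu, mul_one]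
  have hcen : ∀ (f : G), (∀ t ∈ (S : Subgroup G), Commute t x → ∃ t' ∈ (S : Subgroup G), Commute t' x ∧
      f * t' * f⁻¹ = t) → ∀ w, (∀ t ∈ (S : Subgroup G), Commute t x → Commute w t) →
      Commute (f * w * f⁻¹) q ∧ Commute (f * w * f⁻¹) c := by
    intro f hf w hw
    constructor
    · obtain ⟨t', h1, h2, e⟩ := hf q (hQS hq) hqx
      exact e ▸ (hw t' h1 h2).map (MulAut.conj f).toMonoidHom
    · obtain ⟨t', h1, h2, e⟩ := hf c (hTS hc) hcx
      exact e ▸ (hw t' h1 h2).map (MulAut.conj f).toMonoidHom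
  -- the maps are onto
  have hsur : ∀ (f : G), (∀ t ∈ (S : Subgroup G), Commute t x → f * t * f⁻¹ ∈ (S : Subgroup G) ∧
      Commute (f * t * f⁻¹) x) → ∀ t ∈ (S : Subgroup G), Commute t x → ∃ t' ∈ (S : Subgroup G), Commute t' x ∧
      f * t' * f⁻¹ = t := by
    intro f hf t ht htx
    let φ : {t : G // t ∈ (S : Subgroup G) ∧ Commute t x} → {t : G // t ∈ (S : Subgroup G) ∧ Commute t x} :=
      fun t => ⟨f * t.1 * f⁻¹, hf t.1 t.2.1 t.2.2⟩
    have hinj : Function.Injective φ := fun a b e => Subtype.ext (by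
      have h := congrArg Subtype.val e
      exact mul_left_cancel (mul_right_cancel h))
    obtain ⟨⟨t', h1, h2⟩, e⟩ := (Finite.injective_iff_surjective.1 hinj) ⟨t, ht, htx⟩
    exact ⟨t', h1, h2, congrArg Subtype.val e⟩
  have hn1 := hnT u hu (hcu x hx).symm
  have hnu' : n * u * n⁻¹ = x * u := by
    obtain ⟨h1, h2⟩ := hcen n (hsur n hnT) u fun t ht _ => (hcu t ht).symm
    rcases hZ _ hn1.1 (by rw [orderOf_conj_eq, hu2]) h1 h2 with e | e | e
    · exact absurd e hnu
    · refine absurd ?_ hxu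
      rw [show x = n * x * n⁻¹ by rw [hnx.eq, mul_inv_cancel_right]] at e
      exact (mul_left_cancel (mul_right_cancel e)).symm
    · exact e
  have hdS' : ∀ t ∈ (S : Subgroup G), Commute t x → d * t * d⁻¹ ∈ (S : Subgroup G) ∧ Commute (d * t * d⁻¹) x :=
    fun t ht htx => ⟨mul_mem (mul_mem hdS ht) (inv_mem hdS), hdT t ht htx⟩
  have hdx' : d * x * d⁻¹ = x * u := by
    obtain ⟨h1, h2⟩ := hcen d (hsur d hdS') x fun t _ htx => htx.symm
    rcases hZ _ (hdS' x hx (Commute.refl x)).1 (by rw [orderOf_conj_eq, hx2]) h1 h2 with e | e | e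
    · refine absurd ?_ hxu
      rw [show u = d * u * d⁻¹ by rw [(hcu d hdS).eq, mul_inv_cancel_right]] at e
      exact mul_left_cancel (mul_right_cancel e)
    · exact absurd e hdx
    · exact e
  obtain ⟨g, hg⟩ : ∃ g, g = n * d * n := ⟨_, rfl⟩
  have hgu : g * u * g⁻¹ = x := by
    calc g * u * g⁻¹ = n * (d * (n * u * n⁻¹) * d⁻¹) * n⁻¹ := by rw [hg]; group
      _ = n * (d * x * d⁻¹ * (d * u * d⁻¹)) * n⁻¹ := by rw [hnu']; group
      _ = n * x * n⁻¹ := by
        rw [hdx', (hcu d hdS).eq, mul_inv_cancel_right, mul_assoc x u u, huu, mul_one]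
      _ = x := by rw [hnx.eq, mul_inv_cancel_right]
  have hgT : ∀ t ∈ (S : Subgroup G), Commute t x → g * t * g⁻¹ ∈ (S : Subgroup G) := fun t ht htx => by
    have h1 := hnT t ht htx
    have h2 := hdS' _ h1.1 h1.2
    have h3 := (hnT _ h2.1 h2.2).1
    rw [hg, show n * d * n * t * (n * d * n)⁻¹ = n * (d * (n * t * n⁻¹) * d⁻¹) * n⁻¹ by group]
    exact h3
  -- `c` is a product of two involutions of the centraliser
  obtain ⟨r, hr, hrr, hrq⟩ := hQanti q hq hqq
  obtain ⟨a, ha, haa, hac⟩ := hTanti c hc hcc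
  have hw : ∀ b ∈ T₀, b * b = u → b * c = c * b * u →
      r * b ∈ (S : Subgroup G) ∧ r * b * (r * b) = 1 ∧ Commute (r * b) x := fun b hb hbb hbc => by
    have hrb := hcomm r hr b hb
    refine ⟨mul_mem (hQS hr) (hTS hb), ?_, ?_⟩
    · calc r * b * (r * b) = r * (b * r) * b := by group
        _ = r * r * (b * b) := by rw [← hrb.eq]; group
        _ = 1 := by rw [hrr, hbb, huu]
    · rw [hxeq]
      show r * b * (q * c) = q * c * (r * b)
      calc r * b * (q * c) = r * (b * q) * c := by group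
        _ = r * q * (b * c) := by rw [← (hcomm q hq b hb).eq]; group
        _ = q * r * (u * c) * (b * u) := by rw [hrq, hbc]; group
        _ = q * r * (c * u) * (u * b) := by
          rw [← (hcu c (hTS hc)).eq, ← (hcu b (hTS hb)).eq]
        _ = q * (r * c) * (u * u) * b := by group
        _ = q * (c * r) * b := by rw [huu, mul_one, (hcomm r hr c hc).eq]
        _ = q * c * (r * b) := by group
  have hac2 : a * c * (a * c) = u := by
    calc a * c * (a * c) = a * (c * a) * c := by group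
      _ = a * (c * a * u) * (u * c) := by
        rw [show a * (c * a * u) * (u * c) = a * (c * a) * (u * u) * c by group, huu, mul_one]
      _ = a * a * c * (u * c) := by rw [← hac]; group
      _ = u * (c * u) * c := by rw [haa]; group
      _ = u := by rw [(hcu c (hTS hc)).eq, show u * (u * c) * c = u * u * (c * c) by group, hcc, huu, one_mul]
  have hacc : a * c * c = c * (a * c) * u := by
    calc a * c * c = c * a * u * c := by rw [hac]
      _ = c * a * (u * c) := by group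
      _ = c * (a * c) * u := by rw [← (hcu c (hTS hc)).eq]; group
  have hsum : r * a * (r * (a * c)) = c := by
    calc r * a * (r * (a * c)) = r * (a * r) * a * c := by group
      _ = r * r * (a * a) * c := by rw [← (hcomm r hr a ha).eq]; group
      _ = c := by rw [hrr, haa, huu, one_mul]
  -- the image of an involution of the centraliser is inner
  have hinner : ∀ w ∈ (S : Subgroup G), w * w = 1 → ∃ q₁ ∈ Q, ∃ t₁ ∈ T₀, w = q₁ * t₁ := fun w hw hww => by
    by_cases h1 : w = 1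
    · exact ⟨1, one_mem _, 1, one_mem _, by rw [h1, one_mul]⟩
    by_cases h2 : w = u
    · refine ⟨q * q, mul_mem hq hq, 1, one_mem _, ?_⟩
      rw [hqq, mul_one, h2]
    obtain ⟨q₁, hq₁, c₁, hc₁, -, -, e⟩ := hinv w hw (orderOf_two_iff.2 ⟨hww, h1⟩) h2
    exact ⟨q₁, hq₁, c₁, hc₁, e⟩
  have hi : ∀ b ∈ T₀, b * b = u → b * c = c * b * u →
      ∃ q₁ ∈ Q, ∃ t₁ ∈ T₀, g * (r * b) * g⁻¹ = q₁ * t₁ := fun b hb hbb hbc => by
    obtain ⟨h1, h2, h3⟩ := hw b hb hbb hbc
    refine hinner _ (hgT _ h1 h3) ?_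
    rw [show g * (r * b) * g⁻¹ * (g * (r * b) * g⁻¹) = g * (r * b * (r * b)) * g⁻¹ by group, h2, mul_one,
      mul_inv_cancel]
  obtain ⟨q₁, hq₁, t₁, ht₁, e₁⟩ := hi a ha haa hac
  obtain ⟨q₂, hq₂, t₂, ht₂, e₂⟩ := hi (a * c) (mul_mem ha hc) hac2 hacc
  have hgc : g * c * g⁻¹ = q₁ * q₂ * (t₁ * t₂) := by
    calc g * c * g⁻¹ = g * (r * a * (r * (a * c))) * g⁻¹ := by rw [hsum]
      _ = g * (r * a) * g⁻¹ * (g * (r * (a * c)) * g⁻¹) := by group
      _ = q₁ * (t₁ * q₂) * t₂ := by rw [e₁, e₂]; group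
      _ = q₁ * q₂ * (t₁ * t₂) := by rw [← (hcomm q₂ hq₂ t₁ ht₁).eq]; group
  have hsq : x = q₁ * q₂ * (q₁ * q₂) * (t₁ * t₂ * (t₁ * t₂)) := by
    have h1 : g * c * g⁻¹ * (g * c * g⁻¹) = x := by rw [← hgu, ← hcc]; group
    have h2 := hcomm _ (mul_mem hq₁ hq₂) _ (mul_mem ht₁ ht₂)
    conv_lhs => rw [← h1, hgc]
    calc q₁ * q₂ * (t₁ * t₂) * (q₁ * q₂ * (t₁ * t₂))
        = q₁ * q₂ * (t₁ * t₂ * (q₁ * q₂)) * (t₁ * t₂) := by group
      _ = _ := by rw [← h2.eq]; group
  rw [hxeq] at hsq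
  set s := q₁ * q₂ * (q₁ * q₂) with hs
  set t := t₁ * t₂ * (t₁ * t₂) with ht
  have hQT : s⁻¹ * q ∈ T₀ := by
    have h1 : s⁻¹ * q = t * c⁻¹ := by
      calc s⁻¹ * q = s⁻¹ * (q * c) * c⁻¹ := by group
        _ = t * c⁻¹ := by rw [hsq]; group
    rw [h1]
    exact T₀.mul_mem (T₀.mul_mem (T₀.mul_mem ht₁ ht₂) (T₀.mul_mem ht₁ ht₂)) (T₀.inv_mem hc)
  have hmem := hinf ⟨Q.mul_mem (Q.inv_mem (Q.mul_mem (Q.mul_mem hq₁ hq₂) (Q.mul_mem hq₁ hq₂))) hq, hQT⟩
  have hq' : q ∈ zpowers u := by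
    rcases hQsq _ (mul_mem hq₁ hq₂) with e | e <;> rw [e] at hmem
    · rwa [inv_one, one_mul] at hmem
    ·
      simpa using mul_mem (mem_zpowers u) hmem
  obtain ⟨i, rfl⟩ := mem_zpowers_iff.1 hq'
  refine hu1 ?_
  rw [← hqq, ← zpow_add, ← two_mul, zpow_mul, zpow_two, huu, one_zpow]

/-- Two exchanged components: if `u` is fused in `S`, it is fused to a product of roots from the two groups. -/
theorem exists_diag_fused (S : Sylow 2 G) {u : G} (hu : u ∈ (S : Subgroup G)) (hu2 : orderOf u = 2)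
    (hcu : ∀ s ∈ (S : Subgroup G), Commute s u)
    (huniq : ∀ a ∈ (S : Subgroup G), orderOf a = 2 → (∀ s ∈ (S : Subgroup G), Commute s a) → a = u)
    {P Q Q' : Subgroup G} (hQP : Q ≤ P) (hQ'P : Q' ≤ P) (hPS : P ≤ (S : Subgroup G))
    (hcomm : ∀ q ∈ Q, ∀ r ∈ Q', Commute q r)
    (hinf : Q ⊓ Q' ≤ zpowers u) (hQne : ∃ q ∈ Q, q * q = u)
    (hidx : ∀ a ∈ (S : Subgroup G), ∀ b ∈ (S : Subgroup G), a ∉ P → b ∉ P → a * b ∈ P)
    (hswap : ∀ a ∈ (S : Subgroup G), a ∉ P → ∀ q ∈ Q, a * q * a⁻¹ ∈ Q')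
    (hswap' : ∀ a ∈ (S : Subgroup G), a ∉ P → ∀ q ∈ Q', a * q * a⁻¹ ∈ Q)
    (hinv : ∀ x ∈ P, orderOf x = 2 → x ≠ u → ∃ q ∈ Q, ∃ r ∈ Q', q * q = u ∧ r * r = u ∧ x = q * r)
    (htw : ∀ x ∈ (S : Subgroup G), orderOf x = 2 → x ≠ u → IsConj u x → IsConj u (x * u))
    (hfused : ∃ x ∈ (S : Subgroup G), x ≠ u ∧ IsConj u x) :
    ∃ q ∈ Q, ∃ r ∈ Q', q * q = u ∧ r * r = u ∧ IsConj u (q * r) := by
  classical
  by_contra hnone
  obtain ⟨x, hx, hxu, hx2, hconj, ⟨n, -, hnu, hnT⟩, -⟩ := exists_fused_max S hu hu2 hcu huniq hfused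
  have huu := mul_self_of_orderOf_two hu2
  have hxx := mul_self_of_orderOf_two hx2
  have hxP : x ∉ P := fun hxP => by
    obtain ⟨q, hq, r, hr, h1, h2, rfl⟩ := hinv x hxP hx2 hxu
    exact hnone ⟨q, hq, r, hr, h1, h2, hconj⟩
  -- the involutions outside `P` commuting with `x` are fused
  have hout : ∀ w ∈ (S : Subgroup G), orderOf w = 2 → Commute w x → w ∉ P → IsConj u w := by
    intro w hw hw2 hwx hwP
    by_cases h1 : w * x = 1
    · rwa [mul_eq_one_iff_eq_inv.1 h1, inv_of_orderOf_two hx2]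
    by_cases h2 : w * x = u
    · have e : w = x * u := by rw [(hcu x hx).eq, ← h2, mul_assoc, hxx, mul_one]
      rw [e]
      exact htw x hx hx2 hxu hconj
    obtain ⟨q, hq, r, hr, hqq, hrr, hwq⟩ := hinv (w * x) (hidx w hw x hx hwP hxP) (orderOf_two_iff.2 ⟨by
      rw [show w * x * (w * x) = w * (x * w) * x by group, ← hwx.eq,
        show w * (w * x) * x = w * w * (x * x) by group, mul_self_of_orderOf_two hw2, hxx, one_mul], h1⟩) h2
    have hcx : Commute (q * r) x := hwq ▸ hwx.mul_left (Commute.refl x)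
    set q' := x * q * x⁻¹ with hq'
    have hq'Q : q' ∈ Q' := hswap x hx hxP q hq
    have hr'Q : x * r * x⁻¹ ∈ Q := hswap' x hx hxP r hr
    have e1 : x * r * x⁻¹ * q' = q * r := by
      rw [(hcomm _ hr'Q _ hq'Q).eq, hq']
      calc x * q * x⁻¹ * (x * r * x⁻¹) = x * (q * r) * x⁻¹ := by group
        _ = q * r := by rw [← hcx.eq, mul_inv_cancel_right]
    have hm : r * q'⁻¹ ∈ Q ⊓ Q' := by
      refine ⟨?_, Q'.mul_mem hr (Q'.inv_mem hq'Q)⟩
      rw [show r * q'⁻¹ = q⁻¹ * (x * r * x⁻¹) by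
        calc r * q'⁻¹ = q⁻¹ * (q * r) * q'⁻¹ := by group
          _ = q⁻¹ * (x * r * x⁻¹) := by rw [← e1]; group]
      exact Q.mul_mem (Q.inv_mem hq) hr'Q
    have hweq : w = q * r * x := by rw [← hwq, mul_assoc, hxx, mul_one]
    obtain ⟨i, hi⟩ := mem_zpowers_iff.1 (hinf hm)
    have hr' : r = q' ∨ r = q' * u := by
      have e : r = u ^ i * q' := by rw [hi]; group
      rcases Int.even_or_odd i with ⟨j, rfl⟩ | ⟨j, rfl⟩
      · left
        rw [e, ← two_mul, zpow_mul, zpow_two, huu, one_zpow, one_mul]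
      · right
        rw [e, zpow_add, zpow_mul, zpow_two, huu, one_zpow, one_mul, zpow_one,
          (hcu q' (hPS (hQ'P hq'Q))).eq]
    -- a conjugate of `x` by an element of `Q`
    set y := q * x * q⁻¹ with hy
    have hqS := hPS (hQP hq)
    have hyS : y ∈ (S : Subgroup G) := mul_mem (mul_mem hqS hx) (inv_mem hqS)
    have hy2 : orderOf y = 2 := by rw [hy, orderOf_conj_eq, hx2]
    have hyu : y ≠ u := fun e => hxu (by
      calc x = q⁻¹ * y * q := by rw [hy]; group
        _ = u := by rw [e, mul_assoc, ← (hcu q hqS).eq, inv_mul_cancel_left])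
    have hyc : IsConj u y := hconj.trans (isConj_iff.2 ⟨q, rfl⟩)
    have hyeq : y = q * q' * x * u := by
      have hqi : q⁻¹ = q * u := inv_eq_of_mul_eq_one_right (by rw [← mul_assoc, hqq, huu])
      rw [hy, hqi, hq']
      calc q * x * (q * u) = q * (x * q * x⁻¹) * x * u := by group
        _ = _ := rfl
    rcases hr' with hr' | hr'
    · have : w = y * u := by
        rw [hyeq, hweq, hr', mul_assoc (q * q' * x) u u, huu, mul_one]
      rw [this]
      exact htw y hyS hy2 hyu hyc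
    · have : w = y := by
        rw [hyeq, hweq, hr', show q * (q' * u) * x = q * q' * (u * x) by group, ← (hcu x hx).eq, ← mul_assoc]
      exact this ▸ hyc
  obtain ⟨q, hq, hqq⟩ := hQne
  set q' := x * q * x⁻¹ with hq'
  have hq'Q : q' ∈ Q' := hswap x hx hxP q hq
  have hq'q : q' * q' = u := by
    rw [hq', show x * q * x⁻¹ * (x * q * x⁻¹) = x * (q * q) * x⁻¹ by group, hqq, (hcu x hx).eq,
      mul_inv_cancel_right]
  -- products of roots from the two groups in the centraliser stay in `P`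
  have hmove : ∀ a ∈ Q, a * a = u → ∀ b ∈ Q', b * b = u → Commute (a * b) x → n * (a * b) * n⁻¹ ∈ P := by
    intro a ha haa b hb hbb hc
    obtain ⟨h1, h2⟩ := hnT _ (hPS (mul_mem (hQP ha) (hQ'P hb))) hc
    by_contra hP
    refine hnone ⟨a, ha, b, hb, haa, hbb, (hout _ h1 ?_ h2 hP).trans (isConj_iff.2 ⟨n⁻¹, by group⟩)⟩
    rw [orderOf_conj_eq]
    refine orderOf_two_iff.2 ⟨by
      rw [show a * b * (a * b) = a * (b * a) * b by group, ← (hcomm a ha b hb).eq,
        show a * (a * b) * b = a * a * (b * b) by group, haa, hbb, huu], fun e => ?_⟩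
    have h3 : a ∈ Q' := by
      rw [mul_eq_one_iff_eq_inv.1 e]
      exact inv_mem hb
    obtain ⟨i, hi⟩ := mem_zpowers_iff.1 (hinf ⟨ha, h3⟩)
    refine ne_one_of_orderOf_two hu2 ?_
    rw [← haa, ← hi, ← zpow_add, ← two_mul, zpow_mul, zpow_two, huu, one_zpow]
  have hc1 : Commute (q * q') x := by
    have hxi : x⁻¹ = x := inv_of_orderOf_two hx2
    show q * q' * x = x * (q * q')
    calc q * q' * x = q * (x * q) := by rw [hq']; group
      _ = x * ((x * q * x) * q) := by
        rw [show x * (x * q * x * q) = x * x * (q * (x * q)) by group, hxx, one_mul]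
      _ = x * (q' * q) := by rw [hq', hxi]
      _ = x * (q * q') := by rw [(hcomm q hq q' hq'Q).eq]
  have huq := (hcu q (hPS (hQP hq)))
  have h2u : (q * u) * (q * u) = u := by
    rw [show q * u * (q * u) = q * (u * q) * u by group, ← huq.eq,
      show q * (q * u) * u = q * q * (u * u) by group, hqq, huu, mul_one]
  have hquQ : q * u ∈ Q := by
    rw [← hqq]; exact mul_mem hq (mul_mem hq hq)
  have hc2 : Commute (q * u * q') x := by
    rw [huq.eq, mul_assoc]
    exact (hcu x hx).symm.mul_left hc1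
  have hprod : q * q' * (q * u * q') = u := by
    calc q * q' * (q * u * q') = q * (q' * q) * (u * q') := by group
      _ = q * q * q' * (q' * u) := by rw [← (hcomm q hq q' hq'Q).eq, (hcu q' (hPS (hQ'P hq'Q))).eq]; group
      _ = u * (q' * q') * u := by rw [hqq]; group
      _ = u := by rw [hq'q, huu, one_mul]
  have hnuP : n * u * n⁻¹ ∈ P := by
    rw [← hprod, show n * (q * q' * (q * u * q')) * n⁻¹ = n * (q * q') * n⁻¹ * (n * (q * u * q') * n⁻¹) by group]
    exact mul_mem (hmove q hq hqq q' hq'Q hq'q hc1) (hmove (q * u) hquQ h2u q' hq'Q hq'q hc2)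
  obtain ⟨a, ha, b, hb, haa, hbb, hab⟩ := hinv _ hnuP (by rw [orderOf_conj_eq, hu2]) hnu
  exact hnone ⟨a, ha, b, hb, haa, hbb, hab ▸ isConj_iff.2 ⟨n, rfl⟩⟩

end Cfsg.Agent.Invol.Core2.TwistFusion
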