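import Cfsg.Agent.Lib.Invol.Core2.TwistCompInner
import Cfsg.Agent.Lib.Invol.Core2.TwistFusion

/-!
# Twisted bad involution: two exchanged components

If `u` is fused in a Sylow 2-subgroup then `T` cannot fix the component of a cover root. It then exchanges two
components, the quaternion group of each fixes the other pointwise, every cover root is conjugate in `H` to a root of
one of the two groups, and `u` is fused to a product of two roots, one from each group.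
-/

set_option autoImplicit false
set_option linter.unusedSectionVars false
set_option linter.style.haveILetI false

namespace Cfsg.Agent.Invol.Core2

open Subgroup
open scoped Pointwise

variable {C : Type*} [Group C] [Finite C] {H : Subgroup C} {T : Sylow 2 C} {u v : C} {Q : Subgroup C}

namespace Comp

theorem mem_map_conj {R : Subgroup C} {a x : C} :
    x ∈ R.map (MulAut.conj a).toMonoidHom ↔ a⁻¹ * x * a ∈ R := by
  constructor
  · rintro ⟨r, hr, rfl⟩
    simpa [mul_assoc] using hr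
  · intro hx
    exact ⟨_, hx, by simp [mul_assoc]⟩

theorem ker_conj {a v g : C} (ha : a ∈ H) : g ∈ ker H (a * v * a⁻¹) ↔ a⁻¹ * g * a ∈ ker H v := by
  rw [mem_ker, mem_ker, comp_conj ha]
  constructor
  · intro hg p hp
    rw [mul_smul, mul_smul, hg _ (Set.smul_mem_smul_set hp), inv_smul_smul]
  · rintro hg _ ⟨p, hp, rfl⟩
    have h1 := hg p hp
    rw [mul_smul, mul_smul, inv_smul_eq_iff] at h1
    exact h1

/-- The conjugate of a component with its quaternion group by an element of `T`. -/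
theorem Five.conj (h : TwistC H T u) (F : Five H T u v Q) {a : C} (ha : a ∈ (T : Subgroup C)) :
    Five H T u (a * v * a⁻¹) (Q.map (MulAut.conj a).toMonoidHom) := by
  have haH := h.le ha
  have hT : ∀ {x : C}, a⁻¹ * x * a ∈ (T : Subgroup C) ↔ x ∈ (T : Subgroup C) := fun {x} => by
    constructor
    · intro hx
      simpa [mul_assoc] using (T : Subgroup C).mul_mem ((T : Subgroup C).mul_mem ha hx) ((T : Subgroup C).inv_mem ha)
    · intro hx
      exact (T : Subgroup C).mul_mem ((T : Subgroup C).mul_mem ((T : Subgroup C).inv_mem ha) hx) ha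
  have hT0 : ∀ {x : C}, x ∈ T0 H T (a * v * a⁻¹) ↔ a⁻¹ * x * a ∈ T0 H T v := fun {x} =>
    ⟨fun hx => ⟨hT.2 hx.1, (ker_conj haH).1 hx.2⟩, fun hx => ⟨hT.1 hx.1, (ker_conj haH).2 hx.2⟩⟩
  have hu : a⁻¹ * u * a = u := by rw [mul_assoc, ← (h.cent a).eq, inv_mul_cancel_left]
  have huu : a * u * a⁻¹ = u := by rw [(h.cent a).eq, mul_inv_cancel_right]
  have hsq : ∀ x : C, a⁻¹ * x * a * (a⁻¹ * x * a) = a⁻¹ * (x * x) * a := fun x => by group
  have hsq' : ∀ x : C, a * x * a⁻¹ * (a * x * a⁻¹) = a * (x * x) * a⁻¹ := fun x => by group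
  refine ⟨cover_conj h haH F.cov, hT.1 (by simpa [mul_assoc] using F.vT), fun R hR hRle => ?_, ?_, ?_, ?_, ?_, ?_,
    mem_map_conj.2 (hu.symm ▸ F.umem), ?_, ?_, ?_, ?_⟩
  · obtain ⟨k, hk, hkR⟩ := F.syl (R.map (MulAut.conj a⁻¹).toMonoidHom) (hR.map _) (by
      rintro _ ⟨r, hr, rfl⟩
      have h1 := hRle hr
      refine ⟨?_, H.mul_mem (H.mul_mem (H.inv_mem haH) h1.2) (by simpa using haH)⟩
      simpa using (st_conj haH).1 h1.1)
    refine ⟨a * k * a⁻¹, ⟨(st_conj haH).2 ?_, H.mul_mem (H.mul_mem haH hk.2) (H.inv_mem haH)⟩, fun r hr => hT.1 ?_⟩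
    · rw [show a⁻¹ * (a * k * a⁻¹) * a = k by group]
      exact hk.1
    · have h1 := hkR _ ⟨r, hr, rfl⟩
      rw [MulEquiv.coe_toMonoidHom, MulAut.conj_apply, inv_inv] at h1
      rwa [show a⁻¹ * (a * k * a⁻¹ * r * (a * k * a⁻¹)⁻¹) * a = k * (a⁻¹ * r * a) * k⁻¹ by group]
  · rintro _ ⟨q, hq, rfl⟩
    rw [MulEquiv.coe_toMonoidHom, MulAut.conj_apply]
    refine ⟨(T : Subgroup C).mul_mem ((T : Subgroup C).mul_mem ha (F.leT hq).1) ((T : Subgroup C).inv_mem ha),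
      (st_conj haH).2 ?_⟩
    rw [show a⁻¹ * (a * q * a⁻¹) * a = q by group]
    exact (F.leT hq).2
  · rw [card_map_of_injective (MulAut.conj a).injective]
    exact F.card
  · intro q hq hqq
    rcases F.uniq _ (mem_map_conj.1 hq) (by rw [hsq, hqq, mul_one, inv_mul_cancel]) with e | e
    · exact Or.inl (by simpa [mul_assoc, inv_mul_eq_one] using e)
    · exact Or.inr (by rw [show q = a * (a⁻¹ * q * a) * a⁻¹ by group, e, huu])
  · rintro _ ⟨q, hq, rfl⟩
    rw [MulEquiv.coe_toMonoidHom, MulAut.conj_apply, hsq']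
    rcases F.sq q hq with e | e <;> rw [e]
    exacts [Or.inl (by rw [mul_one, mul_inv_cancel]), Or.inr huu]
  · rintro _ ⟨q, hq, rfl⟩ hqq
    rw [MulEquiv.coe_toMonoidHom, MulAut.conj_apply, hsq'] at hqq
    obtain ⟨r, hr, hrr, hrq⟩ := F.anti q hq (by rw [show q * q = a⁻¹ * (a * (q * q) * a⁻¹) * a by group, hqq, hu])
    refine ⟨a * r * a⁻¹, ⟨r, hr, rfl⟩, by rw [hsq', hrr, huu], ?_⟩
    rw [MulEquiv.coe_toMonoidHom, MulAut.conj_apply]
    calc a * r * a⁻¹ * (a * q * a⁻¹) = a * (r * q) * a⁻¹ := by group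
      _ = a * q * r * (u * a⁻¹) := by rw [hrq]; group
      _ = a * q * a⁻¹ * (a * r * a⁻¹) * u := by rw [← (h.cent a⁻¹).eq]; group
  · rintro _ ⟨q, hq, rfl⟩ t ht
    have h1 := (F.comm q hq _ (hT0.1 ht)).map (MulAut.conj a).toMonoidHom
    simpa [mul_assoc] using h1
  · intro x hx
    obtain ⟨i, hi⟩ := mem_zpowers_iff.1 (F.inf ⟨mem_map_conj.1 hx.1, hT0.1 hx.2⟩)
    refine mem_zpowers_iff.2 ⟨i, ?_⟩
    rw [show x = a * (a⁻¹ * x * a) * a⁻¹ by group, ← hi, ← conj_zpow, huu]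
  · intro y hy hy2 hyu
    obtain ⟨q, hq, c, hc, hqq, hcc, e⟩ := F.invol (a⁻¹ * y * a) ⟨hT.2 hy.1, (st_conj haH).1 hy.2⟩
      (by have := orderOf_conj_eq a⁻¹ y; rwa [inv_inv, hy2] at this)
      (fun e => hyu (by rw [show y = a * (a⁻¹ * y * a) * a⁻¹ by group, e, huu]))
    refine ⟨a * q * a⁻¹, ⟨q, hq, rfl⟩, a * c * a⁻¹, hT0.2 (by simpa [mul_assoc] using hc), by rw [hsq', hqq, huu],
      by rw [hsq', hcc, huu], ?_⟩
    rw [show y = a * (a⁻¹ * y * a) * a⁻¹ by group, e]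
    group
  · intro c hc hcc
    obtain ⟨h1, h2⟩ := F.cover0 _ (hT0.1 hc) (by rw [hsq, hcc, hu])
    have h3 := cover_conj h haH h1
    have h4 := comp_conj haH (a⁻¹ * c * a)
    rw [show a * (a⁻¹ * c * a) * a⁻¹ = c by group] at h3 h4
    exact ⟨h3, by rw [h4, h2, comp_conj haH]⟩

/-- A root lies in at most one of two pointwise stabilisers. -/
theorem not_two {v' : C} {Q' : Subgroup C} (F : Five H T u v Q) (F' : Five H T u v' Q')
    (hne : comp H v' ≠ comp H v) {x : C} (hxx : x * x = u) (hx : x ∈ T0 H T v) (hx' : x ∈ T0 H T v') : False :=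
  hne ((F'.cover0 x hx' hxx).2.symm.trans (F.cover0 x hx hxx).2)

/-- An element of `T` outside the stabiliser, normalising its part in `T` and with square in it. -/
structure Swapped (H : Subgroup C) (T : Sylow 2 C) (v a : C) : Prop where
  memT : a ∈ (T : Subgroup C)
  nst : a ∉ st H v
  normP : ∀ p ∈ (T : Subgroup C) ⊓ st H v, a * p * a⁻¹ ∈ (T : Subgroup C) ⊓ st H v
  sqP : a * a ∈ (T : Subgroup C) ⊓ st H v

theorem exists_swapped (hn : ¬ (T : Subgroup C) ≤ st H v) : ∃ a, Swapped H T v a := by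
  classical
  have hlt : (T : Subgroup C) ⊓ st H v < (T : Subgroup C) :=
    lt_of_le_not_ge inf_le_left fun hle => hn (hle.trans inf_le_right)
  obtain ⟨n, hnT, hnN, hnP⟩ := TwistFusion.exists_normalizer_growth T.isPGroup' hlt
  have hex : ∃ j : ℕ, n ^ 2 ^ j ∈ (T : Subgroup C) ⊓ st H v := by
    obtain ⟨k, hk⟩ := T.isPGroup' ⟨n, hnT⟩
    refine ⟨k, ?_⟩
    have h1 := congrArg Subtype.val hk
    rw [Subgroup.coe_pow] at h1
    rw [h1]
    exact one_mem _
  have hj : Nat.find hex ≠ 0 := fun e => hnP (by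
    have h1 := Nat.find_spec hex
    rwa [e, pow_zero, pow_one] at h1)
  obtain ⟨i, hi⟩ := Nat.exists_eq_succ_of_ne_zero hj
  have hmT : n ^ 2 ^ i ∈ (T : Subgroup C) := pow_mem hnT _
  refine ⟨n ^ 2 ^ i, hmT, fun hst => Nat.find_min hex (hi ▸ Nat.lt_succ_self i) ⟨hmT, hst⟩, fun p hp =>
    (mem_normalizer_iff.1 (pow_mem hnN _) p).1 hp, ?_⟩
  have h1 := Nat.find_spec hex
  rwa [hi, pow_succ, pow_mul, pow_two] at h1

namespace Swapped

variable {a : C} (h : TwistC H T u) (h5 : FiveAt H u) (F : Five H T u v Q) (W : Swapped H T v a)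

include W in
theorem inv_conj {p : C} (hp : p ∈ (T : Subgroup C) ⊓ st H v) : a⁻¹ * p * a ∈ (T : Subgroup C) ⊓ st H v := by
  have h1 := Subgroup.mul_mem _ (Subgroup.mul_mem _ (Subgroup.inv_mem _ W.sqP) (W.normP p hp)) W.sqP
  rwa [show (a * a)⁻¹ * (a * p * a⁻¹) * (a * a) = a⁻¹ * p * a by group] at h1

include h W in
theorem other {p : C} : p ∈ (T : Subgroup C) ⊓ st H (a * v * a⁻¹) ↔ p ∈ (T : Subgroup C) ⊓ st H v := by
  have haH := h.le W.memT
  constructor
  · intro hp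
    have h1 : a⁻¹ * p * a ∈ (T : Subgroup C) ⊓ st H v :=
      ⟨(T : Subgroup C).mul_mem ((T : Subgroup C).mul_mem ((T : Subgroup C).inv_mem W.memT) hp.1) W.memT,
        (st_conj haH).1 hp.2⟩
    simpa [mul_assoc] using W.normP _ h1
  · exact fun hp => ⟨hp.1, (st_conj haH).2 (W.inv_conj hp).2⟩

include h W in
theorem comp_ne : comp H (a * v * a⁻¹) ≠ comp H v := fun e => W.nst (by
  rw [comp_conj (h.le W.memT)] at e
  exact e)

include h h5 F W in
theorem roots : Q.map (MulAut.conj a).toMonoidHom ≤ T0 H T v ∧ a * v * a⁻¹ ∈ Q ∧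
    Q ≤ T0 H T (a * v * a⁻¹) ∧ v ∈ Q.map (MulAut.conj a).toMonoidHom := by
  have F' := F.conj h W.memT
  have hne := W.comp_ne h
  have hvP : v ∈ (T : Subgroup C) ⊓ st H v := ⟨F.vT, commute_mem_st (Commute.refl v)⟩
  have h1 := (F.quat_cases h h5 (Five.quatRoot h h5 F') (fun x hx => (W.other h).1 (F'.leT hx))
    ((W.other h).1 ⟨F'.vT, commute_mem_st (Commute.refl _)⟩)).resolve_left fun e => hne e.2.2
  have h2 := (F'.quat_cases h h5 (Five.quatRoot h h5 F) (fun x hx => (W.other h).2 (F.leT hx))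
    ((W.other h).2 hvP)).resolve_left fun e => hne e.2.2.symm
  exact ⟨h1.1, h1.2, h2.1, h2.2⟩

include h h5 F W in
theorem inf : Q ⊓ Q.map (MulAut.conj a).toMonoidHom ≤ zpowers u :=
  (inf_le_inf le_rfl (W.roots h h5 F).1).trans F.inf

include h h5 F W in
theorem root_not_both {q : C} (hq : q ∈ Q) (hq' : q ∈ Q.map (MulAut.conj a).toMonoidHom) : q * q ≠ u :=
  Five.inf_T0 h h5 F hq ((W.roots h h5 F).1 hq')

include h h5 F W in
theorem eq_or_eq {x : C} (hx : x ∈ Q) (hx' : x ∈ Q.map (MulAut.conj a).toMonoidHom) : x = 1 ∨ x = u :=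
  F.uniq x hx ((F.sq x hx).resolve_right (W.root_not_both h h5 F hx hx'))

include h h5 F W in
theorem invol {y : C} (hy : y ∈ (T : Subgroup C) ⊓ st H v) (hy2 : orderOf y = 2) (hyu : y ≠ u) :
    ∃ q ∈ Q, ∃ r ∈ Q.map (MulAut.conj a).toMonoidHom, q * q = u ∧ r * r = u ∧ y = q * r := by
  have F' := F.conj h W.memT
  obtain ⟨q, hq, c, hc, hqq, hcc, rfl⟩ := F.invol y hy hy2 hyu
  have h1 := Five.invol_mem_inn h h5 F' ((W.other h).2 hy) hy2
  have h2 : c ∈ inn H T (a * v * a⁻¹) (Q.map (MulAut.conj a).toMonoidHom) := by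
    have h3 := mul_mem (inv_mem (mem_sup_right ((W.roots h h5 F).2.2.1 hq) :
      q ∈ inn H T (a * v * a⁻¹) (Q.map (MulAut.conj a).toMonoidHom))) h1
    rwa [inv_mul_cancel_left] at h3
  exact ⟨q, hq, c, (Five.root_mem h h5 F' h2 hcc).resolve_right fun e => not_two F F' (W.comp_ne h) hcc hc e,
    hqq, hcc, rfl⟩

include h h5 in
/-- The elements of the stabiliser normalise the quaternion group. -/
theorem norm_Q {v : C} {Q : Subgroup C} (F : Five H T u v Q) {p : C} (hp : p ∈ (T : Subgroup C) ⊓ st H v) {q : C}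
    (hq : q ∈ Q) : p * q * p⁻¹ ∈ Q := by
  have hmem : ∀ x ∈ (T : Subgroup C) ⊓ st H v, p * x * p⁻¹ ∈ (T : Subgroup C) ⊓ st H v := fun x hx =>
    Subgroup.mul_mem _ (Subgroup.mul_mem _ hp hx) (Subgroup.inv_mem _ hp)
  rcases F.quat_cases h h5 (Five.quatRoot h h5 (F.conj h hp.1)) (by
      rintro _ ⟨x, hx, rfl⟩
      exact hmem x (F.leT hx)) (hmem v ⟨F.vT, commute_mem_st (Commute.refl v)⟩) with e | e
  · exact e.1 ⟨q, hq, rfl⟩
  · refine absurd ?_ (Five.inf_T0 h h5 F e.2 ⟨(hmem v ⟨F.vT, commute_mem_st (Commute.refl v)⟩).1,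
      ker_normal hp.2 (root_mem_ker F.cov.mem)⟩)
    rw [show p * v * p⁻¹ * (p * v * p⁻¹) = p * (v * v) * p⁻¹ by group, F.cov.sq, (h.cent p).eq, mul_inv_cancel_right]

/-- The elements of `T` keeping or exchanging the two components. -/
def span (H : Subgroup C) (T : Sylow 2 C) (v a : C) : Set C :=
  {t | t ∈ (T : Subgroup C) ⊓ st H v ∨ a⁻¹ * t ∈ (T : Subgroup C) ⊓ st H v}

include W in
theorem span_le {t : C} (ht : t ∈ span H T v a) : t ∈ (T : Subgroup C) := by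
  rcases ht with ht | ht
  · exact ht.1
  · simpa using (T : Subgroup C).mul_mem W.memT ht.1

include W in
theorem span_mul {x y : C} (hx : x ∈ span H T v a) (hy : y ∈ span H T v a) :
    x * y ∈ span H T v a ∧
      (x * y ∈ (T : Subgroup C) ⊓ st H v ↔ (x ∈ (T : Subgroup C) ⊓ st H v ↔ y ∈ (T : Subgroup C) ⊓ st H v)) := by
  set P := (T : Subgroup C) ⊓ st H v with hP
  have ha : a ∉ P := fun e => W.nst e.2
  have hout : ∀ {z : C}, a⁻¹ * z ∈ P → z ∉ P := fun {z} hz hzP => ha (by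
    simpa using P.inv_mem (P.mul_mem hz (P.inv_mem hzP)))
  rcases hx with hx | hx <;> rcases hy with hy | hy
  · exact ⟨Or.inl (P.mul_mem hx hy), iff_of_true (P.mul_mem hx hy) (iff_of_true hx hy)⟩
  · have h1 : a⁻¹ * (x * y) ∈ P := by
      rw [show a⁻¹ * (x * y) = a⁻¹ * x * a * (a⁻¹ * y) by group]
      exact P.mul_mem (W.inv_conj hx) hy
    exact ⟨Or.inr h1, iff_of_false (hout h1) fun e => hout hy (e.1 hx)⟩
  · have h1 : a⁻¹ * (x * y) ∈ P := by
      rw [← mul_assoc]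
      exact P.mul_mem hx hy
    exact ⟨Or.inr h1, iff_of_false (hout h1) fun e => hout hx (e.2 hy)⟩
  · have h1 : x * y ∈ P := by
      rw [show x * y = a * a * (a⁻¹ * (a⁻¹ * x) * a) * (a⁻¹ * y) by group]
      exact P.mul_mem (P.mul_mem W.sqP (W.inv_conj hx)) hy
    exact ⟨Or.inl h1, iff_of_true h1 (iff_of_false (hout hx) (hout hy))⟩

include h h5 F W in
theorem span_swap {t : C} (ht : a⁻¹ * t ∈ (T : Subgroup C) ⊓ st H v) :
    (∀ q ∈ Q, t * q * t⁻¹ ∈ Q.map (MulAut.conj a).toMonoidHom) ∧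
      ∀ q ∈ Q.map (MulAut.conj a).toMonoidHom, t * q * t⁻¹ ∈ Q := by
  have F' := F.conj h W.memT
  refine ⟨fun q hq => ⟨_, norm_Q h h5 F ht hq, by simp [mul_assoc]⟩, fun q hq => ?_⟩
  obtain ⟨r, hr, e⟩ := norm_Q h h5 F' ((W.other h).2 ht) hq
  rw [MulEquiv.coe_toMonoidHom, MulAut.conj_apply] at e
  have h1 := norm_Q h h5 F W.sqP hr
  rwa [show a * a * r * (a * a)⁻¹ = a * (a * r * a⁻¹) * a⁻¹ by group, e,
    show a * (a⁻¹ * t * q * (a⁻¹ * t)⁻¹) * a⁻¹ = t * q * t⁻¹ by group] at h1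

include h h5 F W in
/-- An exchanging involution and a product of two roots, one from each group, do not anticommute. -/
theorem no_anti {w q r : C} (hw : a⁻¹ * w ∈ (T : Subgroup C) ⊓ st H v) (hww : w * w = 1) (hq : q ∈ Q)
    (hr : r ∈ Q.map (MulAut.conj a).toMonoidHom) (hanti : q * r * w = w * (q * r) * u) :
    False := by
  have hu1 := ne_one_of_orderOf_two h.two
  obtain ⟨hs, hs'⟩ := W.span_swap h h5 F hw
  have hrT := (W.roots h h5 F).1
  set q₁ := w * q * w⁻¹ with hq₁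
  set r₁ := w * r * w⁻¹ with hr₁
  have hq₁Q : q₁ ∈ Q.map (MulAut.conj a).toMonoidHom := hs q hq
  have hr₁Q : r₁ ∈ Q := hs' r hr
  have e : r₁ * q₁ = q * r * u := by
    rw [(F.comm r₁ hr₁Q q₁ (hrT hq₁Q)).eq, hq₁, hr₁,
      show w * q * w⁻¹ * (w * r * w⁻¹) = w * (q * r) * w⁻¹ by group,
      show w * (q * r) = q * r * w * u by rw [hanti, mul_assoc, h.uu, mul_one],
      show q * r * w * u * w⁻¹ = q * r * (w * u) * w⁻¹ by group, (h.cent w).eq,
      show q * r * (u * w) * w⁻¹ = q * r * u by group]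
  have hz := W.eq_or_eq h h5 F (x := q⁻¹ * r₁) (mul_mem (inv_mem hq) hr₁Q) (by
    rw [show q⁻¹ * r₁ = r * u * q₁⁻¹ by
      calc q⁻¹ * r₁ = q⁻¹ * (r₁ * q₁) * q₁⁻¹ := by group
        _ = r * u * q₁⁻¹ := by rw [e]; group]
    exact mul_mem (mul_mem hr ((F.conj h W.memT).umem)) (inv_mem hq₁Q))
  have hwi : w⁻¹ = w := inv_eq_of_mul_eq_one_right hww
  have hback : r = w * r₁ * w⁻¹ := by
    rw [hr₁, hwi, show w * (w * r * w) * w = w * w * r * (w * w) by group, hww, one_mul, mul_one]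
  refine hu1 (mul_eq_left.1 (show r * u = r from ?_))
  rcases hz with hz | hz
  · have h1 : r₁ = q := (inv_mul_eq_one.1 hz).symm
    rw [h1] at e hback
    have h2 : q₁ = r * u := mul_left_cancel (e.trans (mul_assoc _ _ _))
    rw [← h2]
    exact hback.symm
  · have h1 : r₁ = q * u := inv_mul_eq_iff_eq_mul.1 hz
    rw [h1] at e hback
    have h2 : q₁ = r := by
      have h3 : u * q₁ = r * u := mul_left_cancel (a := q) (by rw [← mul_assoc, e, mul_assoc])
      rw [← (h.cent q₁).eq] at h3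
      exact mul_right_cancel h3
    have h4 : w * (q * u) * w⁻¹ = q₁ * u := by
      rw [hq₁, show w * (q * u) * w⁻¹ = w * q * (u * w⁻¹) by group, ← (h.cent w⁻¹).eq]; group
    rw [h4, h2] at hback
    exact hback.symm

include h h5 F W in
/-- A quaternion group with a root in the span lies in the stabiliser. -/
theorem parity {R : Subgroup C} {z : C} (p : QuatRoot u R z) (hR : ∀ x ∈ R, x ∈ span H T v a)
    (hz : z ∈ span H T v a) : R ≤ (T : Subgroup C) ⊓ st H v ∧ z ∈ (T : Subgroup C) ⊓ st H v := by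
  classical
  set P := (T : Subgroup C) ⊓ st H v with hP
  have hu1 := ne_one_of_orderOf_two h.two
  -- an involution of `P` and an anticommuting one
  have hA : ∀ {d w : C}, d ∈ P → orderOf d = 2 → d ≠ u → w ∈ span H T v a → w * w = 1 → d * w = w * d * u →
      w ∈ P := fun {d w} hd hd2 hdu hw hww e => by
    rcases hw with hw | hw
    · exact hw
    obtain ⟨q, hq, r, hr, -, -, rfl⟩ := W.invol h h5 F hd hd2 hdu
    exact (W.no_anti h h5 F hw hww hq hr e).elim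
  have hpair : ∀ q ∈ R, ∀ r ∈ R, q * q = u → r * r = u → r * q = q * r * u → (q * z ∈ P ↔ r * z ∈ P) := by
    intro q hq r hr hqq hrr e
    obtain ⟨hq2, hqu⟩ := p.mul_root h hq hqq
    obtain ⟨hr2, hru⟩ := p.mul_root h hr hrr
    have hzu : z * z = u := p.vv
    have e' : r * z * (q * z) = q * z * (r * z) * u := by
      calc r * z * (q * z) = r * (z * q) * z := by group
        _ = r * q * (z * z) := by rw [← (p.comm q hq).eq]; group
        _ = q * r * (z * z) * u := by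
          rw [e, hzu]
        _ = q * (r * z) * z * u := by group
        _ = q * (z * r) * z * u := by rw [(p.comm r hr).eq]
        _ = _ := by group
    have e'' : q * z * (r * z) = r * z * (q * z) * u := by rw [e', mul_assoc _ u u, h.uu, mul_one]
    exact ⟨fun hqP => hA hqP hq2 hqu (W.span_mul (hR r hr) hz).1 (mul_self_of_orderOf_two hr2) e'',
      fun hrP => hA hrP hr2 hru (W.span_mul (hR q hq) hz).1 (mul_self_of_orderOf_two hq2) e'⟩
  have hroot : ∀ q ∈ R, q * q = u → q ∈ P := by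
    intro q hq hqq
    obtain ⟨r, hr, hrr, e⟩ := p.anti q hq hqq
    obtain ⟨h3, h4, -⟩ := QuatRoot.mul_anti h hqq hrr e
    have h1 := hpair q hq r hr hqq hrr e
    have h2 := hpair q hq (q * r) (mul_mem hq hr) hqq h3 h4
    rw [(W.span_mul (hR q hq) hz).2, (W.span_mul (hR r hr) hz).2] at h1
    rw [(W.span_mul (hR q hq) hz).2, (W.span_mul (hR _ (mul_mem hq hr)) hz).2,
      (W.span_mul (hR q hq) (hR r hr)).2] at h2
    tauto
  have hRP : R ≤ P := fun q hq => by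
    by_cases hqq : q * q = u
    · exact hroot q hq hqq
    · rcases p.uniq q hq ((p.sq q hq).resolve_right hqq) with rfl | rfl
      exacts [one_mem _, F.leT F.umem]
  refine ⟨hRP, ?_⟩
  rcases hz with hz | hz
  · exact hz
  exfalso
  obtain ⟨i, hi, hii⟩ := p.root
  obtain ⟨j, hj, hjj, e⟩ := p.anti i hi hii
  obtain ⟨x, hx, hxx, hxI⟩ : ∃ x ∈ R, x * x = u ∧ x ∈ inn H T v Q := by
    rcases Five.mul_mem_inn h h5 F (hRP hi) (hRP hj) with e1 | e1 | e1
    exacts [⟨i, hi, hii, e1⟩, ⟨j, hj, hjj, e1⟩, ⟨i * j, mul_mem hi hj, (QuatRoot.mul_anti h hii hjj e).1, e1⟩]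
  have hfix : z * x * z⁻¹ = x := by rw [← (p.comm x hx).eq, mul_inv_cancel_right]
  rcases Five.root_mem h h5 F hxI hxx with hxQ | hxT
  · have h1 := (W.span_swap h h5 F hz).1 x hxQ
    rw [hfix] at h1
    exact W.root_not_both h h5 F hxQ h1 hxx
  · refine not_two F (F.conj h W.memT) (W.comp_ne h) hxx hxT ⟨hxT.1, (ker_conj (h.le W.memT)).2 ?_⟩
    rw [show a⁻¹ * x * a = a⁻¹ * z * x * (a⁻¹ * z)⁻¹ by
      calc a⁻¹ * x * a = a⁻¹ * (z * x * z⁻¹) * a := by rw [hfix]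
        _ = _ := by group]
    exact ker_normal hz.2 hxT.2

include h h5 F W in
/-- `T` keeps or exchanges the two components. -/
theorem mem_span {t : C} (ht : t ∈ (T : Subgroup C)) : t ∈ span H T v a := by
  classical
  set P := (T : Subgroup C) ⊓ st H v with hP
  have hainv : a⁻¹ * a⁻¹ ∈ P := by
    have := P.inv_mem W.sqP
    rwa [mul_inv_rev] at this
  let S₂ : Subgroup C :=
    { carrier := span H T v a
      mul_mem' := fun hx hy => (W.span_mul hx hy).1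
      one_mem' := Or.inl (one_mem _)
      inv_mem' := fun {x} hx => by
        rcases hx with hx | hx
        · exact Or.inl (P.inv_mem hx)
        · refine Or.inr ?_
          rw [show a⁻¹ * x⁻¹ = a⁻¹ * (a⁻¹ * x)⁻¹ * a * (a⁻¹ * a⁻¹) by group]
          exact P.mul_mem (W.inv_conj (P.inv_mem hx)) hainv }
  by_contra hts
  obtain ⟨b, hbT, hbN, hb⟩ := TwistFusion.exists_normalizer_growth T.isPGroup' (T := S₂)
    (lt_of_le_not_ge (fun x hx => W.span_le hx) fun hle => hts (hle ht))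
  have hnorm : ∀ x ∈ span H T v a, b * x * b⁻¹ ∈ span H T v a := fun x hx => (mem_normalizer_iff.1 hbN x).1 hx
  have F' := F.conj h W.memT
  have Fb := F.conj h hbT
  obtain ⟨hR, hz⟩ := W.parity h h5 F (Five.quatRoot h h5 Fb) (by
    rintro _ ⟨x, hx, rfl⟩
    exact hnorm x (Or.inl (F.leT hx))) (hnorm v (Or.inl ⟨F.vT, commute_mem_st (Commute.refl v)⟩))
  have hbH := h.le hbT
  rcases F.quat_cases h h5 (Five.quatRoot h h5 Fb) hR hz with e1 | e1
  · refine hb (Or.inl ⟨hbT, ?_⟩)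
    have h1 := e1.2.2
    rw [comp_conj hbH] at h1
    exact h1
  rcases F'.quat_cases h h5 (Five.quatRoot h h5 Fb) (fun x hx => (W.other h).2 (hR hx)) ((W.other h).2 hz) with e2 | e2
  · refine hb (Or.inr ⟨(T : Subgroup C).mul_mem ((T : Subgroup C).inv_mem W.memT) hbT, ?_⟩)
    have h1 := e2.2.2
    rw [comp_conj hbH, comp_conj (h.le W.memT)] at h1
    have h2 : (a⁻¹ * b) • comp H v = comp H v := by rw [mul_smul, h1, inv_smul_smul]
    exact h2
  · obtain ⟨q, hq, hqq⟩ := (Five.quatRoot h h5 Fb).root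
    exact not_two F F' (W.comp_ne h) hqq (e1.1 hq) (e2.1 hq)

include h h5 F W in
theorem swapPair : SwapPair H T u Q (Q.map (MulAut.conj a).toMonoidHom) a := by
  have F' := F.conj h W.memT
  obtain ⟨hQ', -, hQ, -⟩ := W.roots h h5 F
  refine ⟨fun q hq => (F.leT hq).1, fun q hq => (F'.leT hq).1, W.memT, F.card, F.uniq, W.inf h h5 F,
    fun q hq => ⟨q, hq, rfl⟩, ?_, fun q hq r hr => F.comm q hq r (hQ' hr),
    fun q hq hqq => (F'.cover0 q (hQ hq) hqq).1, fun q hq hqq => (F.cover0 q (hQ' hq) hqq).1, ?_, ?_⟩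
  · rintro _ ⟨q, hq, rfl⟩
    rw [MulEquiv.coe_toMonoidHom, MulAut.conj_apply,
      show a * (a * q * a⁻¹) * a⁻¹ = a * a * q * (a * a)⁻¹ by group]
    exact norm_Q h h5 F W.sqP hq
  · intro t ht
    rcases W.mem_span h h5 F ht with h1 | h1
    · exact Or.inl ⟨fun q hq => norm_Q h h5 F h1 hq, fun q hq => norm_Q h h5 F' ((W.other h).2 h1) hq⟩
    · exact Or.inr (W.span_swap h h5 F h1)
  · intro v₀ hv₀
    obtain ⟨k, hk, a₁, b₁, g⟩ := exists_good h h5 hv₀
    obtain ⟨Q₁, F₁⟩ := Good.exists_five h h5 g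
    obtain ⟨hR, hz⟩ := W.parity h h5 F (Five.quatRoot h h5 F₁)
      (fun x hx => W.mem_span h h5 F (F₁.leT hx).1) (W.mem_span h h5 F F₁.vT)
    refine ⟨k, hk, ?_⟩
    rcases F.quat_cases h h5 (Five.quatRoot h h5 F₁) hR hz with e | e
    · refine Or.inr ?_
      rcases F'.quat_cases h h5 (Five.quatRoot h h5 F₁) (fun x hx => (W.other h).2 (hR hx))
        ((W.other h).2 hz) with e' | e'
      · exact absurd (e'.2.2.symm.trans e.2.2) (W.comp_ne h)
      · exact e'.2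
    · exact Or.inl e.2

end Swapped

/-- If `T` stabilises the component then the part fixing it pointwise is not commutative. -/
theorem noncomm_of_stable (h : TwistC H T u) (h5 : FiveAt H u) (F : Five H T u v Q)
    (hst : (T : Subgroup C) ≤ st H v) : ¬ ∀ x y : ↥(T0 H T v), Commute x y := by
  classical
  intro hab
  obtain ⟨E, hET, hE, hEc⟩ := h.eight
  have hcomE : ∀ x ∈ E, ∀ y ∈ E, Commute x y := fun x hx y hy =>
    congrArg Subtype.val (hE.1.is_comm.comm ⟨x, hx⟩ ⟨y, hy⟩)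
  have hE2 : ∀ y ∈ E, y ≠ 1 → orderOf y = 2 := fun y hy hy1 => orderOf_two_iff.2 ⟨by
    rw [← pow_two]; exact hE.2 y hy, hy1⟩
  have hinv : ∀ y ∈ E, y ≠ 1 → y ≠ u → ∃ q ∈ Q, ∃ c ∈ T0 H T v, q * q = u ∧ c * c = u ∧ y = q * c :=
    fun y hy hy1 hyu => F.invol y ⟨hET hy, hst (hET hy)⟩ (hE2 y hy hy1) hyu
  obtain ⟨y₀, hy₀, hy₀1, hy₀u⟩ : ∃ y ∈ E, y ≠ 1 ∧ y ≠ u := by
    by_contra hno
    push Not at hno
    have h1 : (E : Set C) ⊆ ({1, u} : Set C) := fun y hy => by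
      by_cases hy1 : y = 1
      · exact Or.inl hy1
      · exact Or.inr (hno y hy hy1)
    have h2 := (Set.ncard_le_ncard h1 (Set.toFinite _)).trans (Set.ncard_insert_le _ _)
    rw [← Nat.card_coe_set_eq, Set.ncard_singleton] at h2
    simp only [SetLike.coe_sort_coe] at h2
    omega
  obtain ⟨q₀, hq₀, c₀, hc₀, hq₀q, hc₀c, e₀⟩ := hinv y₀ hy₀ hy₀1 hy₀u
  have hsub : (E : Set C) ⊆ ({1, u, y₀, y₀ * u} : Set C) := by
    intro y hy
    by_cases hy1 : y = 1
    · exact Or.inl hy1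
    by_cases hyu : y = u
    · exact Or.inr (Or.inl hyu)
    obtain ⟨q, hq, c, hc, hqq, hcc, e⟩ := hinv y hy hy1 hyu
    have hcc₀ : Commute c₀ c := congrArg Subtype.val (hab ⟨c₀, hc₀⟩ ⟨c, hc⟩).eq
    have h1 : Commute q₀ q := by
      have h2 : q₀ * q * (c₀ * c) = q * q₀ * (c₀ * c) := by
        calc q₀ * q * (c₀ * c) = q₀ * (q * c₀) * c := by group
          _ = q₀ * c₀ * (q * c) := by rw [(F.comm q hq c₀ hc₀).eq]; group
          _ = q * c * (q₀ * c₀) := by rw [← e₀, ← e, (hcomE y₀ hy₀ y hy).eq]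
          _ = q * (c * q₀) * c₀ := by group
          _ = q * q₀ * (c₀ * c) := by rw [← (F.comm q₀ hq₀ c hc).eq, hcc₀.eq]; group
      exact mul_right_cancel h2
    have key : ∀ {x w : C}, x * x = u → w * w = u → Commute x w → x * w * (x * w) = 1 := fun {x w} hx hw hxw => by
      rw [show x * w * (x * w) = x * (w * x) * w by group, ← hxw.eq, show x * (x * w) * w = x * x * (w * w) by group,
        hx, hw, h.uu]
    have hcase : ∀ {x w : C}, x * x = u → (x * w = 1 ∨ x * w = u) → w = x ∨ w = x * u := fun {x w} hx h0 => by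
      rcases h0 with h0 | h0
      · exact Or.inr ((inv_eq_of_mul_eq_one_right h0).symm.trans
          (inv_eq_of_mul_eq_one_right (by rw [← mul_assoc, hx, h.uu])))
      · exact Or.inl (mul_left_cancel (a := x) (h0.trans hx.symm))
    rcases hcase hq₀q (F.uniq _ (mul_mem hq₀ hq) (key hq₀q hqq h1)) with rfl | rfl <;>
      rcases hcase hc₀c (ker_uniq h h5 F.cov (mul_mem hc₀.2 hc.2) (key hc₀c hcc hcc₀)) with rfl | rfl
    · exact Or.inr (Or.inr (Or.inl (e.trans e₀.symm)))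
    · exact Or.inr (Or.inr (Or.inr (by rw [Set.mem_singleton_iff, e, e₀, mul_assoc])))
    · exact Or.inr (Or.inr (Or.inr (by
        rw [Set.mem_singleton_iff, e, e₀, mul_assoc, mul_assoc, (h.cent c).eq])))
    · refine Or.inr (Or.inr (Or.inl ?_))
      rw [e, e₀]
      calc q₀ * u * (c₀ * u) = q₀ * (u * c₀) * u := by group
        _ = q₀ * c₀ * (u * u) := by rw [← (h.cent c₀).eq]; group
        _ = q₀ * c₀ := by rw [h.uu, mul_one]
  have h3 := Set.ncard_le_ncard hsub (Set.toFinite _)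
  have h4 : ({1, u, y₀, y₀ * u} : Set C).ncard ≤ 4 := by
    have h5 := Set.ncard_insert_le (1 : C) ({u, y₀, y₀ * u} : Set C)
    have h6 := Set.ncard_insert_le u ({y₀, y₀ * u} : Set C)
    have h7 := Set.ncard_insert_le y₀ ({y₀ * u} : Set C)
    rw [Set.ncard_singleton] at h7
    omega
  rw [← Nat.card_coe_set_eq] at h3
  simp only [SetLike.coe_sort_coe] at h3
  omega

end Comp

open Comp in
/-- Section 3 of the twisted case: two exchanged components and `u` fused to a product of roots. -/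
theorem exists_swapPair {G : Type*} [Group G] [Finite G] (S : Sylow 2 G) {u₀ : G} (hu : u₀ ∈ (S : Subgroup G))
    (hu2 : orderOf u₀ = 2) (hcu : ∀ s ∈ (S : Subgroup G), Commute s u₀)
    (huniq : ∀ a ∈ (S : Subgroup G), orderOf a = 2 → (∀ s ∈ (S : Subgroup G), Commute s a) → a = u₀)
    (h : TwistC H T u) (h5 : FiveAt H u) (hcover : ∃ v, CoverRoot H u v)
    (e : ↥(S : Subgroup G) ≃* ↥(T : Subgroup C)) (he : (e ⟨u₀, hu⟩ : C) = u)
    (htw : ∀ x ∈ (S : Subgroup G), orderOf x = 2 → x ≠ u₀ → IsConj u₀ x → IsConj u₀ (x * u₀))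
    (hfused : ∃ x ∈ (S : Subgroup G), x ≠ u₀ ∧ IsConj u₀ x) :
    ∃ Q Q' : Subgroup C, ∃ a : C, SwapPair H T u Q Q' a ∧ (∀ q ∈ Q, q * q = 1 ∨ q * q = u) ∧
      ∃ s : ↥(S : Subgroup G), orderOf (s : G) = 2 ∧
      (s : G) ≠ u₀ ∧ IsConj u₀ (s : G) ∧ ∃ q ∈ Q, ∃ r ∈ Q', q * q = u ∧ r * r = u ∧ (e s : C) = q * r := by
  classical
  obtain ⟨v₀, hv₀⟩ := hcover
  obtain ⟨k, -, a₁, b₁, g⟩ := exists_good h h5 hv₀
  obtain ⟨Q, F⟩ := Good.exists_five h h5 g
  generalize k * v₀ * k⁻¹ = v at F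
  let φ : ↥(S : Subgroup G) →* C := (T : Subgroup C).subtype.comp e.toMonoidHom
  have hφ : Function.Injective φ := fun x y hxy => e.injective (Subtype.ext hxy)
  let back : Subgroup C → Subgroup G := fun X => (X.comap φ).map (S : Subgroup G).subtype
  have hback : ∀ {X : Subgroup C} {x : G}, x ∈ back X → ∃ s : ↥(S : Subgroup G), φ s ∈ X ∧ (s : G) = x :=
    fun {X x} hx => hx
  have hle : ∀ X : Subgroup C, back X ≤ (S : Subgroup G) := fun X => map_subtype_le _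
  have hlift : ∀ {X : Subgroup C} {x : C}, x ∈ X → x ∈ (T : Subgroup C) →
      ∃ s : ↥(S : Subgroup G), φ s = x ∧ (s : G) ∈ back X := fun {X x} hx hxT => by
    have h1 : φ (e.symm ⟨x, hxT⟩) = x := congrArg Subtype.val (e.apply_symm_apply ⟨x, hxT⟩)
    exact ⟨_, h1, ⟨_, show φ _ ∈ X by rw [h1]; exact hx, rfl⟩⟩
  have hφu : φ ⟨u₀, hu⟩ = u := he
  have hcoe : ∀ {s t : ↥(S : Subgroup G)}, φ s = φ t → (s : G) = t := fun {s t} hst => congrArg Subtype.val (hφ hst)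
  have hcomm : ∀ {X Y : Subgroup C}, (∀ x ∈ X, ∀ y ∈ Y, Commute x y) → ∀ x ∈ back X, ∀ y ∈ back Y, Commute x y := by
    intro X Y hXY x hx y hy
    obtain ⟨s, hs, rfl⟩ := hback hx
    obtain ⟨t, ht, rfl⟩ := hback hy
    exact hcoe (s := s * t) (t := t * s) (by rw [map_mul, map_mul]; exact (hXY _ hs _ ht).eq)
  have hsqu : ∀ {s : ↥(S : Subgroup G)}, φ s * φ s = u → (s : G) * s = u₀ := fun {s} hs =>
    hcoe (s := s * s) (t := ⟨u₀, hu⟩) (by rw [map_mul, hs, hφu])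
  have hsqu' : ∀ {s : ↥(S : Subgroup G)}, (s : G) * s = u₀ → φ s * φ s = u := fun {s} hs => by
    rw [← map_mul, ← hφu]
    exact congrArg φ (Subtype.ext hs)
  have hsq1 : ∀ {s : ↥(S : Subgroup G)}, (s : G) * s = 1 → φ s * φ s = 1 := fun {s} hs => by
    rw [← map_mul, ← map_one φ]
    exact congrArg φ (Subtype.ext hs)
  have hinfb : ∀ {X Y : Subgroup C}, X ⊓ Y ≤ zpowers u → back X ⊓ back Y ≤ zpowers u₀ := by
    intro X Y hXY x hx
    obtain ⟨s, hs, rfl⟩ := hback hx.1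
    obtain ⟨t, ht, hst⟩ := hback hx.2
    rw [Subtype.ext hst] at ht
    obtain ⟨i, hi⟩ := mem_zpowers_iff.1 (hXY ⟨hs, ht⟩)
    refine mem_zpowers_iff.2 ⟨i, ?_⟩
    have h1 := hcoe (s := (⟨u₀, hu⟩ : ↥(S : Subgroup G)) ^ i) (t := s) (by rw [map_zpow, hφu, hi])
    simpa using h1
  have hinvb : ∀ {x : G} (hx : x ∈ (S : Subgroup G)), orderOf x = 2 → x ≠ u₀ →
      orderOf (φ ⟨x, hx⟩) = 2 ∧ φ ⟨x, hx⟩ ≠ u := fun {x} hx hx2 hxu =>
    ⟨by rw [orderOf_injective φ hφ, ← Subgroup.orderOf_coe]; exact hx2, fun h1 => hxu (hcoe (h1.trans hφu.symm))⟩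
  by_cases hst : (T : Subgroup C) ≤ st H v
  · exfalso
    have hR := oneInv h h5 F.cov
    have hn := noncomm_of_stable h h5 F hst
    refine TwistFusion.false_of_inner S hu hu2 hcu huniq (Q := back Q) (T₀ := back (T0 H T v)) (hle _) (hle _)
      (hcomm F.comm) ?_ ?_ ?_ ?_ ?_ (hinfb F.inf) ?_ hfused
    · intro x hx hxx
      obtain ⟨s, hs, rfl⟩ := hback hx
      rcases F.uniq _ hs (hsq1 hxx) with e1 | e1
      · exact Or.inl (hcoe (t := 1) (by rw [e1, map_one]))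
      · exact Or.inr (hcoe (t := ⟨u₀, hu⟩) (by rw [e1, hφu]))
    · intro x hx
      obtain ⟨s, hs, rfl⟩ := hback hx
      rcases F.sq _ hs with e1 | e1
      · exact Or.inl (hcoe (s := s * s) (t := 1) (by rw [map_mul, e1, map_one]))
      · exact Or.inr (hsqu e1)
    · intro x hx hxx
      obtain ⟨s, hs, rfl⟩ := hback hx
      obtain ⟨r, hr, hrr, hrs⟩ := F.anti _ hs (hsqu' hxx)
      obtain ⟨t, rfl, ht⟩ := hlift hr (F.leT hr).1
      exact ⟨t, ht, hsqu hrr, hcoe (s := t * s) (t := s * t * ⟨u₀, hu⟩)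
        (by rw [map_mul, map_mul, map_mul, hrs, hφu])⟩
    · intro x hx hxx
      obtain ⟨s, hs, rfl⟩ := hback hx
      rcases ker_uniq h h5 F.cov hs.2 (hsq1 hxx) with e1 | e1
      · exact Or.inl (hcoe (t := 1) (by rw [e1, map_one]))
      · exact Or.inr (hcoe (t := ⟨u₀, hu⟩) (by rw [e1, hφu]))
    · intro x hx hxx
      obtain ⟨s, hs, rfl⟩ := hback hx
      obtain ⟨r, hrr, hrs⟩ := hR.exists_anti hn (c := ⟨_, hs⟩) (Subtype.ext (hsqu' hxx))
      obtain ⟨t, ht', ht⟩ := hlift r.2 r.2.1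
      have hrs' : (r : C) * φ s = φ s * r * u := congrArg Subtype.val hrs
      refine ⟨t, ht, hsqu ?_, hcoe (s := t * s) (t := s * t * ⟨u₀, hu⟩)
        (by rw [map_mul, map_mul, map_mul, ht', hrs', hφu])⟩
      rw [ht']
      exact congrArg Subtype.val hrr
    · intro x hx hx2 hxu
      obtain ⟨h1, h2⟩ := hinvb hx hx2 hxu
      obtain ⟨q, hq, c, hc, hqq, hcc, e1⟩ := F.invol _ ⟨(e ⟨x, hx⟩).2, hst (e ⟨x, hx⟩).2⟩ h1 h2
      obtain ⟨s, rfl, hs⟩ := hlift hq (F.leT hq).1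
      obtain ⟨t, rfl, ht⟩ := hlift hc hc.1
      exact ⟨s, hs, t, ht, hsqu hqq, hsqu hcc, hcoe (s := ⟨x, hx⟩) (t := s * t) (by rw [map_mul]; exact e1)⟩
  obtain ⟨a, W⟩ := exists_swapped hst
  have hsp := W.swapPair h h5 F
  set Q' := Q.map (MulAut.conj a).toMonoidHom with hQ'
  set P := (T : Subgroup C) ⊓ st H v with hP
  have hmemP : ∀ {x : G} (hx : x ∈ (S : Subgroup G)), φ ⟨x, hx⟩ ∈ P → x ∈ back P := fun {x} hx hxP =>
    ⟨⟨x, hx⟩, hxP, rfl⟩
  have hout : ∀ {x : G} (hx : x ∈ (S : Subgroup G)), x ∉ back P →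
      a⁻¹ * φ ⟨x, hx⟩ ∈ (T : Subgroup C) ⊓ st H v := fun {x} hx hxP =>
    (W.mem_span h h5 F (e ⟨x, hx⟩).2).resolve_left fun h1 => hxP (hmemP hx h1)
  have hswap : ∀ {X Y : Subgroup C}, Y ≤ (T : Subgroup C) → ∀ {x : G} (hx : x ∈ (S : Subgroup G)),
      (∀ q ∈ X, φ ⟨x, hx⟩ * q * (φ ⟨x, hx⟩)⁻¹ ∈ Y) → ∀ q ∈ back X, x * q * x⁻¹ ∈ back Y := by
    intro X Y hY x hx hXY q hq
    obtain ⟨s, hs, rfl⟩ := hback hq
    obtain ⟨t, ht, htY⟩ := hlift (hXY _ hs) (hY (hXY _ hs))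
    have h1 := hcoe (s := t) (t := ⟨x, hx⟩ * s * ⟨x, hx⟩⁻¹) (by rw [map_mul, map_mul, map_inv, ht])
    simp only [Subgroup.coe_mul, Subgroup.coe_inv] at h1
    rwa [← h1]
  obtain ⟨q₀, hq₀, hq₀q⟩ := (Five.quatRoot h h5 F).root
  obtain ⟨s₀, rfl, hs₀⟩ := hlift hq₀ (F.leT hq₀).1
  obtain ⟨x, hx, y, hy, hxx, hyy, hconj⟩ := TwistFusion.exists_diag_fused S hu hu2 hcu huniq
    (P := back P) (Q := back Q) (Q' := back Q') (map_mono (comap_mono F.leT))
    (map_mono (comap_mono fun q hq => (W.other h).1 ((F.conj h W.memT).leT hq))) (hle _)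
    (hcomm hsp.comm) (hinfb hsp.inf) ⟨s₀, hs₀, hsqu hq₀q⟩
    (fun x hx y hy hxP hyP => hmemP (mul_mem hx hy) (by
      rw [show φ ⟨x * y, mul_mem hx hy⟩ = φ ⟨x, hx⟩ * φ ⟨y, hy⟩ from map_mul φ ⟨x, hx⟩ ⟨y, hy⟩]
      refine ((W.span_mul (Or.inr (hout hx hxP)) (Or.inr (hout hy hyP))).2).2
        (iff_of_false (fun h1 => hxP (hmemP hx h1)) fun h1 => hyP (hmemP hy h1))))
    (fun x hx hxP => hswap hsp.leT' hx (W.span_swap h h5 F (hout hx hxP)).1)
    (fun x hx hxP => hswap hsp.leT hx (W.span_swap h h5 F (hout hx hxP)).2)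
    (by
      intro x hxP hx2 hxu
      obtain ⟨s, hs, rfl⟩ := hback hxP
      obtain ⟨h1, h2⟩ := hinvb s.2 hx2 hxu
      obtain ⟨q, hq, r, hr, hqq, hrr, e1⟩ := W.invol h h5 F hs h1 h2
      obtain ⟨t, rfl, ht⟩ := hlift hq (hsp.leT hq)
      obtain ⟨t', rfl, ht'⟩ := hlift hr (hsp.leT' hr)
      exact ⟨t, ht, t', ht', hsqu hqq, hsqu hrr, hcoe (t := t * t') (by rw [map_mul]; exact e1)⟩)
    htw hfused
  obtain ⟨s, hs, rfl⟩ := hback hx
  obtain ⟨t, ht, rfl⟩ := hback hy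
  refine ⟨Q, Q', a, hsp, F.sq, s * t, ?_, ?_, hconj, φ s, hs, φ t, ht, hsqu' hxx, hsqu' hyy, map_mul φ s t⟩
  · obtain ⟨g, hg⟩ := isConj_iff.1 hconj
    rw [Subgroup.coe_mul, ← hg, orderOf_conj_eq, hu2]
  · intro h1
    have h2 : φ s * φ t = u := by
      rw [← map_mul, ← hφu]
      exact congrArg φ (Subtype.ext h1)
    have h3 : φ s ∈ Q' := by
      rw [eq_mul_inv_of_mul_eq h2]
      exact mul_mem (F.conj h W.memT).umem (inv_mem ht)
    exact W.root_not_both h h5 F hs h3 (hsqu' hxx)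

end Cfsg.Agent.Invol.Core2
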