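import Cfsg.Agent.Lib.Invol.Core2.Setting
import Cfsg.Agent.Lib.Grp.Cores
import Cfsg.Prelude.Def_Transfer
import Cfsg.Prelude.Def_CaseTheorems

/-!
# Twisted bad involution: the setting modulo the odd core

`C` stands for `C(u)` modulo its odd core, `H` for the image of `C(u) ∩ M` and `T` for a Sylow 2-subgroup inside
`H`. A root is a square root of `u`; a cover root is one whose centraliser moves the base point and contains two
anticommuting involutions. The interfaces between the sections of notes_h6/TWIST_PROOF.md are stated here.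
-/

set_option autoImplicit false
set_option linter.unusedSectionVars false

namespace Cfsg.Agent.Invol.Core2

open Subgroup

variable {C : Type*} [Group C] [Finite C]

/-- The twisted local setting. -/
structure TwistC (H : Subgroup C) (T : Sylow 2 C) (u : C) : Prop where
  two : orderOf u = 2
  cent : ∀ c : C, Commute c u
  le : (T : Subgroup C) ≤ H
  proper : H ≠ ⊤
  core : Cfsg.oddCore C = ⊥
  fix : ∀ y ∈ H, orderOf y = 2 → y ≠ u → ∀ c : C, c * y * c⁻¹ ∈ H → c ∈ H
  twist : ∀ y ∈ H, orderOf y = 2 → y ≠ u → ∃ h ∈ H, h * y * h⁻¹ = y * u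
  eight : ∃ E : Subgroup C, E ≤ (T : Subgroup C) ∧ Cfsg.IsElementaryAbelian 2 E ∧ Nat.card E = 8
  uniq : ∀ a ∈ (T : Subgroup C), orderOf a = 2 → (∀ s ∈ (T : Subgroup C), Commute s a) → a = u

/-- A cover root: a square root of `u` in `H` whose centraliser is not in `H` and contains two anticommuting
involutions. -/
structure CoverRoot (H : Subgroup C) (u v : C) : Prop where
  mem : v ∈ H
  sq : v * v = u
  moves : ¬ centralizer ({v} : Set C) ≤ H
  anti : ∃ a b : C, orderOf a = 2 ∧ orderOf b = 2 ∧ Commute a v ∧ Commute b v ∧ b * a = a * b * u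

/-- The component of a root: the orbit of the base point under its centraliser. -/
def comp (H : Subgroup C) (v : C) : Set (C ⧸ H) :=
  {p | ∃ c : C, Commute c v ∧ (QuotientGroup.mk c : C ⧸ H) = p}

/-- Input from section 2: the component of a cover root has five points. -/
def FiveAt (H : Subgroup C) (u : C) : Prop :=
  ∀ v : C, CoverRoot H u v → (comp H v).ncard = 5

/-- The local fact at `y`: an odd subgroup of `H` normalised by the centraliser of `y` is trivial. -/
def LocAt (H : Subgroup C) (y : C) : Prop :=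
  ∀ D : Subgroup C, Odd (Nat.card D) → D ≤ H → (∀ c : C, Commute c y → ∀ d ∈ D, c * d * c⁻¹ ∈ D) → D = ⊥

/-- Two components exchanged by `T`, each with a quaternion group of cover roots of the other: the input of
section 4. -/
structure SwapPair (H : Subgroup C) (T : Sylow 2 C) (u : C) (Q Q' : Subgroup C) (a : C) : Prop where
  leT : Q ≤ (T : Subgroup C)
  leT' : Q' ≤ (T : Subgroup C)
  memT : a ∈ (T : Subgroup C)
  card : Nat.card Q = 8
  uniq : ∀ q ∈ Q, q * q = 1 → q = 1 ∨ q = u
  inf : Q ⊓ Q' ≤ zpowers u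
  conj : ∀ q ∈ Q, a * q * a⁻¹ ∈ Q'
  conj' : ∀ q ∈ Q', a * q * a⁻¹ ∈ Q
  comm : ∀ q ∈ Q, ∀ r ∈ Q', Commute q r
  cover : ∀ q ∈ Q, q * q = u → CoverRoot H u q
  cover' : ∀ q ∈ Q', q * q = u → CoverRoot H u q
  stab : ∀ t ∈ (T : Subgroup C), ((∀ q ∈ Q, t * q * t⁻¹ ∈ Q) ∧ ∀ q ∈ Q', t * q * t⁻¹ ∈ Q') ∨
    ((∀ q ∈ Q, t * q * t⁻¹ ∈ Q') ∧ ∀ q ∈ Q', t * q * t⁻¹ ∈ Q)
  single : ∀ v : C, CoverRoot H u v → ∃ h ∈ H, h * v * h⁻¹ ∈ Q ∨ h * v * h⁻¹ ∈ Q'

end Cfsg.Agent.Invol.Core2
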