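import Cfsg.Agent.Lib.Invol.Core2.TwistCore
import Cfsg.Agent.Lib.Invol.Core2.TwistSetting
import Cfsg.Agent.Lib.Grp.PComponents

/-!
# From `C(u)` to the twisted setting modulo the odd core

`CBar u` is `C(u)` modulo its odd core. When the core lies in `M` the image of `C(u) ∩ M` and the image of `S`
satisfy `TwistC`, and the local fact at the image of an involution fused to `u` gives `LocSome`.
-/

set_option autoImplicit false
set_option linter.unusedSectionVars false
set_option linter.style.haveILetI false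
set_option linter.unusedVariables false

namespace Cfsg.Agent.Invol.Core2

open Subgroup

universe v

attribute [local instance] Grp.pPrimeCore_isNormal

variable {G : Type v} [Group G] [Finite G]

/-- The centraliser of `u` modulo its odd core. -/
abbrev CBar (u : G) : Type v :=
  ↥(centralizer ({u} : Set G)) ⧸ Cfsg.pPrimeCore 2 ↥(centralizer ({u} : Set G))

/-- The projection. -/
def toCBar (u : G) : ↥(centralizer ({u} : Set G)) →* CBar u := QuotientGroup.mk' _

/-- The image of `C(u) ∩ M`. -/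
def hBar (M : Subgroup G) (u : G) : Subgroup (CBar u) :=
  (M.subgroupOf (centralizer ({u} : Set G))).map (toCBar u)

/-- The image of `u`. -/
def uBar (u : G) : CBar u := toCBar u ⟨u, mem_centralizer_singleton_iff.2 rfl⟩

/-- The image of a Sylow subgroup centralising `u`. -/
noncomputable def sBar (S : Sylow 2 G) {u : G} (hS : (S : Subgroup G) ≤ centralizer ({u} : Set G)) :
    Sylow 2 (CBar u) :=
  (S.subtype hS).mapSurjective (QuotientGroup.mk'_surjective _)

theorem toCBar_surjective (u : G) : Function.Surjective (toCBar u) := QuotientGroup.mk'_surjective _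

theorem toCBar_ker_odd (u : G) : Odd (Nat.card (toCBar u).ker) := by
  rw [toCBar, QuotientGroup.ker_mk']
  exact Nat.coprime_two_right.1 Grp.pPrimeCore_coprime

theorem toCBar_eq_one {u : G} {x : ↥(centralizer ({u} : Set G))} : toCBar u x = 1 ↔ (x : G) ∈ coreC u := by
  refine (QuotientGroup.eq_one_iff x).trans ⟨fun h => ⟨x, h, rfl⟩, ?_⟩
  rintro ⟨y, hy, e⟩
  rwa [← show y = x from Subtype.ext e]

theorem uBar_commute (u : G) (x : CBar u) : Commute x (uBar u) := by
  obtain ⟨k, rfl⟩ := toCBar_surjective u x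
  exact (show Commute k ⟨u, mem_centralizer_singleton_iff.2 rfl⟩ from
    Subtype.ext (mem_centralizer_singleton_iff.1 k.2)).map (toCBar u)

/-- The data of the twisted case before the local fact. -/
structure TwistPre (M W : Subgroup G) (S : Sylow 2 G) (u : G) : Prop where
  ax : AX M W
  le : (S : Subgroup G) ≤ M
  mem : u ∈ (S : Subgroup G)
  two_u : orderOf u = 2
  cent : ∀ s ∈ (S : Subgroup G), Commute s u
  uniq : ∀ a ∈ (S : Subgroup G), orderOf a = 2 → (∀ s ∈ (S : Subgroup G), Commute s a) → a = u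
  bad : ∃ c : G, Commute c u ∧ c ∉ M
  core_le : coreC u ≤ M
  eight : HasEight S

/-- The data follow from the axioms at an only central involution in rank three. -/
theorem TwistPre.of_ax {M W : Subgroup G} {S : Sylow 2 G} {u : G} (h : AX M W) (hS : (S : Subgroup G) ≤ M)
    (h8 : HasEight S) (hu : u ∈ (S : Subgroup G)) (hu2 : orderOf u = 2)
    (hcu : ∀ s ∈ (S : Subgroup G), Commute s u)
    (huniq : ∀ a ∈ (S : Subgroup G), orderOf a = 2 → (∀ s ∈ (S : Subgroup G), Commute s a) → a = u)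
    (hbad : ∃ c : G, Commute c u ∧ c ∉ M) : TwistPre M W S u :=
  ⟨h, hS, hu, hu2, hcu, huniq, hbad, h.coreC_le_M hS h8 hcu, h8⟩

namespace TwistPre

variable {M W : Subgroup G} {S : Sylow 2 G} {u : G}

theorem le_cent (c : TwistPre M W S u) : (S : Subgroup G) ≤ centralizer ({u} : Set G) :=
  fun s hs => mem_centralizer_singleton_iff.2 (c.cent s hs).eq

theorem back (c : TwistPre M W S u) {k : ↥(centralizer ({u} : Set G))} (hk : toCBar u k ∈ hBar M u) :
    (k : G) ∈ M := by
  obtain ⟨m, hm, e⟩ := hk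
  have h1 : toCBar u (m⁻¹ * k) = 1 := by rw [map_mul, map_inv, e, inv_mul_cancel]
  have h2 := mul_mem (show (m : G) ∈ M from hm) (c.core_le (toCBar_eq_one.1 h1))
  simpa using h2

theorem inj (c : TwistPre M W S u) {k : ↥(centralizer ({u} : Set G))} (hk : (k : G) ∈ (S : Subgroup G))
    (h1 : toCBar u k = 1) : (k : G) = 1 := by
  haveI : Fact (Nat.Prime 2) := ⟨Nat.prime_two⟩
  obtain ⟨n, hn⟩ := S.isPGroup'.exists_card_eq
  have hd : (S : Subgroup G) ⊓ coreC u = ⊥ := Grp.inf_eq_bot_of_coprime (by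
    rw [hn]; exact (Nat.coprime_two_left.2 (coreC_odd u)).pow_left n)
  exact mem_bot.1 (hd ▸ ⟨hk, toCBar_eq_one.1 h1⟩)

/-- The image of `S`. -/
noncomputable def bar (c : TwistPre M W S u) : Sylow 2 (CBar u) := sBar S c.le_cent

theorem exists_lift_sylow (c : TwistPre M W S u) {x : CBar u} (hx : x ∈ (c.bar : Subgroup (CBar u))) :
    ∃ s : ↥(centralizer ({u} : Set G)), (s : G) ∈ (S : Subgroup G) ∧ toCBar u s = x := by
  rw [bar, sBar, Sylow.coe_mapSurjective] at hx
  obtain ⟨s, hs, rfl⟩ := hx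
  exact ⟨s, hs, rfl⟩

theorem mem_bar (c : TwistPre M W S u) {s : ↥(centralizer ({u} : Set G))} (hs : (s : G) ∈ (S : Subgroup G)) :
    toCBar u s ∈ (c.bar : Subgroup (CBar u)) := by
  rw [bar, sBar, Sylow.coe_mapSurjective]
  exact mem_map_of_mem _ hs

theorem eq_of_bar_eq (c : TwistPre M W S u) {s t : ↥(centralizer ({u} : Set G))}
    (hs : (s : G) ∈ (S : Subgroup G)) (ht : (t : G) ∈ (S : Subgroup G)) (e : toCBar u s = toCBar u t) :
    (s : G) = t := by
  have h1 := c.inj (k := s⁻¹ * t) (mul_mem (inv_mem hs) ht) (by rw [map_mul, map_inv, e, inv_mul_cancel])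
  rw [Subgroup.coe_mul, Subgroup.coe_inv, inv_mul_eq_one] at h1
  exact h1

/-- The projection of `S` onto its image. -/
noncomputable def sylowEquiv (c : TwistPre M W S u) : ↥(S : Subgroup G) ≃* ↥(c.bar : Subgroup (CBar u)) :=
  MulEquiv.ofBijective
    ({ toFun := fun x => ⟨toCBar u ⟨x, c.le_cent x.2⟩, c.mem_bar x.2⟩
       map_one' := Subtype.ext (map_one (toCBar u))
       map_mul' := fun x y => Subtype.ext (map_mul (toCBar u) ⟨x, c.le_cent x.2⟩ ⟨y, c.le_cent y.2⟩) } :
      ↥(S : Subgroup G) →* ↥(c.bar : Subgroup (CBar u)))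
    ⟨fun x y e => Subtype.ext (c.eq_of_bar_eq x.2 y.2 (congrArg Subtype.val e)), fun x => by
      obtain ⟨s, hs, e⟩ := c.exists_lift_sylow x.2
      exact ⟨⟨s, hs⟩, Subtype.ext e⟩⟩

theorem sylowEquiv_apply (c : TwistPre M W S u) (x : ↥(S : Subgroup G)) :
    (c.sylowEquiv x : CBar u) = toCBar u ⟨x, c.le_cent x.2⟩ := rfl

/-- An involution of `H` other than the image of `u` comes from an involution of `M` other than `u`. -/
theorem exists_lift_invol (c : TwistPre M W S u) {x : CBar u} (hx : x ∈ hBar M u) (hx2 : orderOf x = 2)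
    (hxu : x ≠ uBar u) :
    ∃ a : ↥(centralizer ({u} : Set G)), (a : G) ∈ M ∧ orderOf (a : G) = 2 ∧ (a : G) ≠ u ∧ toCBar u a = x := by
  obtain ⟨m, hm, rfl⟩ := hx
  obtain ⟨a, haz, haa, hax⟩ := exists_invol_lift (toCBar u) (toCBar_ker_odd u) (mul_self_of_orderOf_two hx2)
  refine ⟨a, (zpowers_le.2 hm : zpowers m ≤ M.subgroupOf _) haz, ?_, fun e => hxu ?_, hax⟩
  · rw [Subgroup.orderOf_coe]
    exact orderOf_two_iff.2 ⟨haa, fun e => ne_one_of_orderOf_two hx2 (by rw [← hax, e, map_one])⟩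
  · rw [← hax]
    exact congrArg (toCBar u) (Subtype.ext e)

theorem orderOf_uBar (c : TwistPre M W S u) : orderOf (uBar u) = 2 := by
  refine orderOf_two_iff.2 ⟨?_, fun e => ne_one_of_orderOf_two c.two_u (c.inj c.mem e)⟩
  rw [uBar, ← map_mul, show (⟨u, _⟩ : ↥(centralizer ({u} : Set G))) * ⟨u, _⟩ = 1 from
    Subtype.ext (mul_self_of_orderOf_two c.two_u), map_one]

/-- The twisted setting modulo the odd core. -/
theorem twistC (c : TwistPre M W S u) : TwistC (hBar M u) c.bar (uBar u) := by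
  classical
  haveI : Fact (Nat.Prime 2) := ⟨Nat.prime_two⟩
  refine ⟨c.orderOf_uBar, uBar_commute u, ?_, ?_, Grp.pPrimeCore_quotient_bot, ?_, ?_, ?_, ?_⟩
  · intro x hx
    obtain ⟨s, hs, rfl⟩ := c.exists_lift_sylow hx
    exact mem_map_of_mem _ (show s ∈ M.subgroupOf _ from c.le hs)
  · intro e
    obtain ⟨d, hd, hdM⟩ := c.bad
    exact hdM (c.back (k := ⟨d, mem_centralizer_singleton_iff.2 hd.eq⟩) (e ▸ mem_top _))
  · intro y hy hy2 hyu g hg
    obtain ⟨a, haM, ha2, hau, rfl⟩ := c.exists_lift_invol hy hy2 hyu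
    obtain ⟨k, rfl⟩ := toCBar_surjective u g
    have h1 := c.back (k := k * a * k⁻¹) (by rw [map_mul, map_mul, map_inv]; exact hg)
    exact mem_map_of_mem _ (show k ∈ M.subgroupOf _ from c.ax.bad_fix c.two_u (c.le c.mem) ha2 haM hau
      (mem_centralizer_singleton_iff.1 a.2) (mem_centralizer_singleton_iff.1 k.2) h1)
  · intro y hy hy2 hyu
    obtain ⟨a, haM, ha2, hau, rfl⟩ := c.exists_lift_invol hy hy2 hyu
    obtain ⟨f, hf, hf2, hfu, hmove⟩ := exists_normal_second_core S c.eight c.mem c.two_u c.cent c.uniq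
    obtain ⟨s, hs, hsf⟩ : ∃ s ∈ (S : Subgroup G), ¬ Commute s f := by
      by_contra hcon
      push Not at hcon
      exact hfu (c.uniq f hf hf2 hcon)
    have hsfu : s * f * s⁻¹ = f * u := (hmove s hs).resolve_left fun e => hsf (mul_inv_eq_iff_eq_mul.1 e)
    obtain ⟨d, hdu, hd⟩ := c.ax.conj_mul c.two_u (c.le c.mem)
      (fun hle => by obtain ⟨x, hx, hxM⟩ := c.bad; exact hxM (hle (mem_centralizer_singleton_iff.2 hx.eq)))
      hf2 (c.le hf) hfu (c.cent f hf).eq ⟨s, (c.cent s hs).eq, hsfu⟩ ha2 haM hau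
      (mem_centralizer_singleton_iff.1 a.2)
    have hdM : d ∈ M := c.ax.bad_fix c.two_u (c.le c.mem) ha2 haM hau (mem_centralizer_singleton_iff.1 a.2) hdu
      (by rw [hd]; exact mul_mem haM (c.le c.mem))
    refine ⟨toCBar u ⟨d, mem_centralizer_singleton_iff.2 hdu⟩, mem_map_of_mem _ hdM, ?_⟩
    rw [uBar, ← map_inv, ← map_mul, ← map_mul, ← map_mul]
    exact congrArg (toCBar u) (Subtype.ext hd)
  · obtain ⟨F, hFS, hF, hF8⟩ := c.eight
    have hFC : F ≤ centralizer ({u} : Set G) := hFS.trans c.le_cent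
    let φ : ↥F →* CBar u := (toCBar u).comp (Subgroup.inclusion hFC)
    have hφ : Function.Injective φ := (injective_iff_map_eq_one φ).2 fun x hx =>
      Subtype.ext (c.inj (k := Subgroup.inclusion hFC x) (hFS x.2) hx)
    have hr : φ.range = (F.subgroupOf (centralizer ({u} : Set G))).map (toCBar u) := by
      rw [MonoidHom.range_comp, Subgroup.inclusion_range]
    refine ⟨(F.subgroupOf (centralizer ({u} : Set G))).map (toCBar u), ?_, CoreConsumers.elemAb_map (toCBar u)
      ⟨⟨⟨fun a b => Subtype.ext (Subtype.ext (Grp.elemAb_comm hF _ a.2 _ b.2))⟩⟩,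
        fun x hx => Subtype.ext (hF.2 _ hx)⟩, ?_⟩
    · rintro _ ⟨x, hx, rfl⟩
      exact c.mem_bar (hFS hx)
    · rw [← hr, ← Nat.card_congr (MonoidHom.ofInjective hφ).toEquiv, hF8]
  · intro a ha ha2 hac
    obtain ⟨s, hs, rfl⟩ := c.exists_lift_sylow ha
    have hss : (s : G) * s = 1 := c.inj (k := s * s) (mul_mem hs hs)
      (by rw [map_mul]; exact mul_self_of_orderOf_two ha2)
    have hs2 : orderOf (s : G) = 2 := orderOf_two_iff.2 ⟨hss, fun e => ne_one_of_orderOf_two ha2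
      (by rw [show s = 1 from Subtype.ext e, map_one])⟩
    refine congrArg (toCBar u) (Subtype.ext (c.uniq s hs hs2 fun t ht => ?_))
    have h1 := hac _ (c.mem_bar (s := ⟨t, c.le_cent ht⟩) ht)
    exact c.eq_of_bar_eq (s := ⟨t, c.le_cent ht⟩ * s) (t := s * ⟨t, c.le_cent ht⟩) (mul_mem ht hs)
      (mul_mem hs ht) (by rw [map_mul, map_mul]; exact h1.eq)

/-- The local fact modulo the core in `G`. -/
theorem le_coreC (c : TwistPre M W S u) {y : ↥(centralizer ({u} : Set G))} (hy2 : orderOf (y : G) = 2)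
    (hloc : LocAt (hBar M u) (toCBar u y)) {D : Subgroup G} (hDo : Odd (Nat.card D))
    (hDu : D ≤ centralizer ({u} : Set G)) (hDM : D ≤ M)
    (hDn : ∀ g : G, Commute g u → Commute g (y : G) → ∀ d ∈ D, g * d * g⁻¹ ∈ D) : D ≤ coreC u := by
  intro d hd
  suffices h : (D.subgroupOf (centralizer ({u} : Set G))).map (toCBar u) = ⊥ from
    toCBar_eq_one.1 (mem_bot.1 (h ▸ mem_map_of_mem (toCBar u)
      (show (⟨d, hDu hd⟩ : ↥(centralizer ({u} : Set G))) ∈ D.subgroupOf _ from hd)))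
  refine hloc _ ?_ (map_mono fun x hx => hDM hx) ?_
  · exact (hDo.of_dvd_nat (card_comap_dvd_of_injective D _ (subtype_injective _))).of_dvd_nat
      (card_map_dvd (D.subgroupOf _) (toCBar u))
  · intro g hg x hx
    obtain ⟨k, rfl⟩ := toCBar_surjective u g
    obtain ⟨e, he, rfl⟩ := hx
    obtain ⟨r, hr, hrc⟩ := exists_comm_lift (toCBar u) (toCBar_ker_odd u) (a := y) (k := k)
      (by rwa [← Subgroup.orderOf_coe]) hg
    have hrk : toCBar u (r⁻¹ * k) = toCBar u k := by
      rw [map_mul, map_inv, MonoidHom.mem_ker.1 hr, inv_one, one_mul]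
    rw [← hrk, ← map_inv, ← map_mul, ← map_mul]
    exact mem_map_of_mem _ (show r⁻¹ * k * e * (r⁻¹ * k)⁻¹ ∈ D.subgroupOf _ from
      hDn _ (mem_centralizer_singleton_iff.1 (r⁻¹ * k).2) (congrArg Subtype.val hrc.eq) _ he)

/-- The local fact modulo the core gives the local fact at `y`. -/
theorem locOn (c : TwistPre M W S u) {y : ↥(centralizer ({u} : Set G))} (hy2 : orderOf (y : G) = 2)
    (hloc : LocAt (hBar M u) (toCBar u y)) : LocOn M u (y : G) :=
  fun _ hDo hDu hDM hDn _ => c.le_coreC hy2 hloc hDo hDu hDM hDn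

/-- An involution of `M` commuting with `u` and conjugate to `u` is moved to `u` by `M`. -/
theorem exists_move (c : TwistPre M W S u) {z : G} (hzM : z ∈ M) (hzu : Commute z u) (hzne : z ≠ u)
    (hconj : IsConj u z) : ∃ m ∈ M, m * z * m⁻¹ = u := by
  haveI : Fact (Nat.Prime 2) := ⟨Nat.prime_two⟩
  obtain ⟨g, hg⟩ := isConj_iff.1 hconj
  obtain ⟨w, hw⟩ : ∃ w, w = g⁻¹ * u * g := ⟨_, rfl⟩
  have hw2 : orderOf w = 2 := by
    have := orderOf_conj_eq g⁻¹ u
    rwa [inv_inv, c.two_u, ← hw] at this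
  have hwu : Commute w u := by
    have := hzu.map (MulAut.conj g⁻¹).toMonoidHom
    rw [← hg] at this
    simp only [MulEquiv.coe_toMonoidHom, MulAut.conj_apply, inv_inv] at this
    rw [hw]
    simpa [mul_assoc] using this.symm
  obtain ⟨k, hk⟩ := exists_conj_mem_sylow
    (x := (⟨w, mem_centralizer_singleton_iff.2 hwu.eq⟩ : ↥(centralizer ({u} : Set G)))) (p := 2) (n := 1)
    (by rw [← Subgroup.orderOf_coe, pow_one]; exact hw2) (S.subtype c.le_cent)
  have hku : Commute (k : G) u := mem_centralizer_singleton_iff.1 k.2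
  obtain ⟨t, ht⟩ : ∃ t, t = (k : G) * w * (k : G)⁻¹ := ⟨_, rfl⟩
  have htS : t ∈ (S : Subgroup G) := ht ▸ hk
  have htne : t ≠ u := fun e => hzne (by
    have h1 : w = u := by
      calc w = (k : G)⁻¹ * t * k := by rw [ht]; group
        _ = u := by rw [e, mul_assoc, ← hku.eq, inv_mul_cancel_left]
    calc z = g * u * g⁻¹ := hg.symm
      _ = g * w * g⁻¹ := by rw [h1]
      _ = u := by rw [hw]; group)
  have e1 : g * (k : G)⁻¹ * u * (g * (k : G)⁻¹)⁻¹ = z := by
    calc g * (k : G)⁻¹ * u * (g * (k : G)⁻¹)⁻¹ = g * ((k : G)⁻¹ * (u * k)) * g⁻¹ := by group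
      _ = z := by rw [← hku.eq, inv_mul_cancel_left, hg]
  have e2 : g * (k : G)⁻¹ * t * (g * (k : G)⁻¹)⁻¹ = u := by rw [ht, hw]; group
  have hm := c.ax.move u t (g * (k : G)⁻¹) c.two_u (by rw [ht, orderOf_conj_eq, hw2]) htne.symm
    (c.cent t htS).symm.eq (c.le c.mem) (c.le htS) (by rw [e1]; exact hzM) (by rw [e2]; exact c.le c.mem)
  refine ⟨(g * (k : G)⁻¹)⁻¹, inv_mem hm, ?_⟩
  rw [← e1]
  group

/-- The local fact at the image of a fused involution. -/
theorem locSome (c : TwistPre M W S u) {z : ↥(centralizer ({u} : Set G))} (hzM : (z : G) ∈ M)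
    (hz2 : orderOf (z : G) = 2) (hzne : (z : G) ≠ u) (hconj : IsConj u (z : G))
    (hloc : LocAt (hBar M u) (toCBar u z)) : LocSome M u :=
  ⟨z, hzM, hz2, mem_centralizer_singleton_iff.1 z.2, hzne,
    c.exists_move hzM (mem_centralizer_singleton_iff.1 z.2) hzne hconj, c.locOn hz2 hloc⟩

/-- `u` is conjugate to another involution of `S`. -/
theorem exists_fused (c : TwistPre M W S u) (hO : Cfsg.oddCore G = ⊥) (hW : W ≠ ⊥) (hfix : FixNormal W S) :
    ∃ x ∈ (S : Subgroup G), x ≠ u ∧ IsConj u x := by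
  haveI : Fact (Nat.Prime 2) := ⟨Nat.prime_two⟩
  obtain ⟨g, hg, hne⟩ : ∃ g : G, Commute u (g * u * g⁻¹) ∧ g * u * g⁻¹ ≠ u := by
    by_contra hcon
    push Not at hcon
    obtain ⟨N, hNn, hNo, hN⟩ := Cfsg.Agent.ZStar.exists_odd_normal (t := u) ⟨c.two_u, hcon⟩
    have hN1 : N = ⊥ := le_bot_iff.1 (hO ▸ Grp.le_pPrimeCore hNn (Nat.coprime_two_right.2 hNo))
    have hcent : ∀ x : G, Commute x u := fun x => by
      have h1 := hN x
      rw [hN1, mem_bot, mul_inv_eq_one, mul_inv_eq_iff_eq_mul] at h1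
      exact (show Commute u x from h1).symm
    have hn : W.Normal := ⟨fun w hw x => (hfix u c.mem c.two_u x (hcent x) w
      ⟨hw, mem_centralizer_singleton_iff.2 (hcent w).eq⟩).1⟩
    exact hW (le_bot_iff.1 (hO ▸ Grp.le_pPrimeCore hn (Nat.coprime_two_right.2 c.ax.odd)))
  obtain ⟨k, hk⟩ := exists_conj_mem_sylow
    (x := (⟨g * u * g⁻¹, mem_centralizer_singleton_iff.2 hg.symm.eq⟩ : ↥(centralizer ({u} : Set G)))) (p := 2)
    (n := 1) (by rw [← Subgroup.orderOf_coe, pow_one]; show orderOf (g * u * g⁻¹) = 2; rw [orderOf_conj_eq, c.two_u])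
    (S.subtype c.le_cent)
  have hku : Commute (k : G) u := mem_centralizer_singleton_iff.1 k.2
  refine ⟨(k : G) * (g * u * g⁻¹) * (k : G)⁻¹, hk, fun e => hne ?_, isConj_iff.2 ⟨(k : G) * g, by group⟩⟩
  calc g * u * g⁻¹ = (k : G)⁻¹ * ((k : G) * (g * u * g⁻¹) * (k : G)⁻¹) * k := by group
    _ = u := by rw [e, mul_assoc, ← hku.eq, inv_mul_cancel_left]

/-- With a conjugate of `u` also its product with `u` is one. -/
theorem conj_mul_fused (c : TwistPre M W S u) {x : G} (hx : x ∈ (S : Subgroup G)) (hx2 : orderOf x = 2)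
    (hxu : x ≠ u) (hconj : IsConj u x) : IsConj u (x * u) := by
  obtain ⟨f, hf, hf2, hfu, hmove⟩ := exists_normal_second_core S c.eight c.mem c.two_u c.cent c.uniq
  obtain ⟨s, hs, hsf⟩ : ∃ s ∈ (S : Subgroup G), ¬ Commute s f := by
    by_contra hcon
    push Not at hcon
    exact hfu (c.uniq f hf hf2 hcon)
  have hsfu : s * f * s⁻¹ = f * u := (hmove s hs).resolve_left fun e => hsf (mul_inv_eq_iff_eq_mul.1 e)
  obtain ⟨d, -, hd⟩ := c.ax.conj_mul c.two_u (c.le c.mem)
    (fun hle => by obtain ⟨y, hy, hyM⟩ := c.bad; exact hyM (hle (mem_centralizer_singleton_iff.2 hy.eq)))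
    hf2 (c.le hf) hfu (c.cent f hf).eq ⟨s, (c.cent s hs).eq, hsfu⟩ hx2 (c.le hx) hxu (c.cent x hx).eq
  exact hconj.trans (isConj_iff.2 ⟨d, hd⟩)

/-- The local fact at the image of a conjugate of `u` in `S`. -/
theorem locSome_of_mem (c : TwistPre M W S u) (x : ↥(S : Subgroup G)) (hx2 : orderOf (x : G) = 2)
    (hxu : (x : G) ≠ u) (hconj : IsConj u (x : G)) (hloc : LocAt (hBar M u) (c.sylowEquiv x : CBar u)) :
    LocSome M u :=
  c.locSome (z := ⟨x, c.le_cent x.2⟩) (c.le x.2) hx2 hxu hconj hloc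

/-- Without cover roots the local fact holds at every involution: any conjugate of `u` in `S` will do. -/
theorem locSome_of_all (c : TwistPre M W S u) (hO : Cfsg.oddCore G = ⊥) (hW : W ≠ ⊥) (hfix : FixNormal W S)
    (hall : ∀ y ∈ hBar M u, orderOf y = 2 → y ≠ uBar u → LocAt (hBar M u) y) : LocSome M u := by
  obtain ⟨x, hx, hxu, hconj⟩ := c.exists_fused hO hW hfix
  obtain ⟨g, hg⟩ := isConj_iff.1 hconj
  have hx2 : orderOf x = 2 := by rw [← hg, orderOf_conj_eq, c.two_u]
  refine c.locSome_of_mem ⟨x, hx⟩ hx2 hxu hconj (hall _ (c.twistC.le (c.sylowEquiv ⟨x, hx⟩).2) ?_ fun e => hxu ?_)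
  · rw [Subgroup.orderOf_coe, MulEquiv.orderOf_eq, ← Subgroup.orderOf_coe]
    exact hx2
  · exact c.eq_of_bar_eq (s := ⟨x, c.le_cent hx⟩) (t := ⟨u, c.le_cent c.mem⟩) hx c.mem e

end TwistPre

end Cfsg.Agent.Invol.Core2
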