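import Cfsg.Agent.Lib.Invol.Core2.TwistFiveAt
import Cfsg.Agent.Lib.Invol.Core2.TwistSwapPair
import Cfsg.Agent.Lib.Invol.Core2.TwistSwapLoc
import Cfsg.Agent.Lib.Invol.Core2.TwistTransfer
import Cfsg.Agent.Lib.Invol.Core2.TwistCoreWiring

/-!
# The local input from the level without cover roots

With a cover root, `u` is fused to a product of two roots from exchanged components and the local fact holds there.
-/

set_option autoImplicit false

namespace Cfsg.Agent.Invol.Core2

open Subgroup

universe u

/-- The level without cover roots: the local fact holds at every involution other than `u`. -/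
def TwistBottomInput : Prop :=
  ∀ (C : Type u) [Group C] [Finite C] (H : Subgroup C) (T : Sylow 2 C) (u : C), TwistC H T u →
    (¬ ∃ v, CoverRoot H u v) → ∀ y ∈ H, orderOf y = 2 → y ≠ u → LocAt H y

/-- The local input of the induction from the level without cover roots. -/
theorem locPrimeInput_of_bottom (hB : TwistBottomInput.{u}) : LocPrimeInput.{u} := by
  intro G _ _ hO _ M W S hS h hN hW hfix h8 u hu hu2 hcu huniq hbad _
  have c := TwistPre.of_ax h hS h8 hu hu2 hcu huniq hbad
  have hC := c.twistC
  by_cases hcov : ∃ v, CoverRoot (hBar M u) (uBar u) v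
  · have h5 := hC.fiveAt
    obtain ⟨Q, Q', a, hsp, hsq, s, hs2, hsu, hconj, q, hq, r, hr, hqq, hrr, hsqr⟩ :=
      exists_swapPair S hu hu2 hcu huniq hC h5 hcov c.sylowEquiv (c.sylowEquiv_apply ⟨u, hu⟩)
        (fun x hx hx2 hxu hxc => c.conj_mul_fused hx hx2 hxu hxc) (c.exists_fused hO hW hfix)
    refine c.locSome_of_mem s hs2 hsu hconj ?_
    rw [hsqr]
    exact hC.loc_of_swapPair h5 hsp hsq hq hr hqq hrr
  · exact c.locSome_of_all hO hW hfix (hB _ _ _ _ hC hcov)

end Cfsg.Agent.Invol.Core2
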