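import Cfsg.Agent.Lib.Invol.Core2.TwistBottom
import Cfsg.Agent.Lib.Invol.Core2.TwistLocPrime

/-!
# The local input of the induction holds
-/

set_option autoImplicit false

namespace Cfsg.Agent.Invol.Core2

universe u

/-- The level without cover roots. -/
theorem twistBottomInput : TwistBottomInput.{u} := fun _ _ _ _ _ _ h hno _ hy hy2 hyu =>
  h.bottom_loc (fun v hv => hno ⟨v, hv⟩) hy hy2 hyu

/-- The local input of the induction. -/
theorem locPrimeInput_holds : LocPrimeInput.{u} := locPrimeInput_of_bottom twistBottomInput

end Cfsg.Agent.Invol.Core2
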