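import Cfsg.Agent.Lib.Invol.Core2.BalanceLocal
import Cfsg.Agent.Lib.Invol.Core2.GoodCentre
import Cfsg.Agent.Lib.Invol.ZStar

/-!
# Two-generated core: the normaliser of `W`, two involutions in the centre of a Sylow subgroup

`M` may be replaced by the normaliser of `W`; two involutions of `Z(S)` are not conjugate to each other's product
in the centralisers; a bad involution of `Z(S)` has more than two partners in `Ω₁(S)`.
-/

set_option autoImplicit false
set_option linter.unusedSectionVars false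
set_option linter.style.haveILetI false

namespace Cfsg.Agent.Invol.Core2

open Subgroup

universe u

variable {G : Type u} [Group G] [Finite G] {M W : Subgroup G}

/-- Commuting involutions of an overgroup of `S` are conjugate there into `S`. -/
theorem exists_conj_pair {K : Subgroup G} (S : Sylow 2 G) (hSK : (S : Subgroup G) ≤ K) {a b : G} (ha : a ∈ K)
    (hb : b ∈ K) (ha2 : orderOf a = 2) (hb2 : orderOf b = 2) (hne : a ≠ b) (hab : Commute a b) :
    ∃ k ∈ K, k * a * k⁻¹ ∈ (S : Subgroup G) ∧ k * b * k⁻¹ ∈ (S : Subgroup G) := by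
  haveI : Fact (Nat.Prime 2) := ⟨Nat.prime_two⟩
  have hab2 : orderOf (a * b) = 2 ^ 1 := by
    rw [pow_one]
    refine orderOf_two_iff.2 ⟨?_, mul_ne_one_of_ne ha2 hne⟩
    calc a * b * (a * b) = a * (b * a) * b := by group
      _ = a * a * (b * b) := by rw [← hab.eq]; group
      _ = 1 := by rw [mul_self_of_orderOf_two ha2, mul_self_of_orderOf_two hb2, one_mul]
  have hp := (isPGroup_closure_pair ha2 hb2 hab2).comap_subtype (K := K)
  obtain ⟨k, hk⟩ := exists_conj_subset_sylow hp (S.subtype hSK)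
  exact ⟨k, k.2, hk ⟨a, ha⟩ (subset_closure (Or.inl rfl)), hk ⟨b, hb⟩ (subset_closure (Or.inr rfl))⟩

/-- `M` may be replaced by the normaliser of `W`. -/
theorem AX.normalizer_ax (h : AX M W) (hO : Cfsg.oddCore G = ⊥) (S : Sylow 2 G) (hS : (S : Subgroup G) ≤ M)
    (hW : W ≠ ⊥) : AX (normalizer (W : Set G)) W := by
  haveI : Fact (Nat.Prime 2) := ⟨Nat.prime_two⟩
  have hSK : (S : Subgroup G) ≤ normalizer (W : Set G) := hS.trans h.norm
  refine ⟨fun e => ?_, h.odd, le_normalizer, le_rfl, ?_, ?_⟩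
  · haveI : W.Normal := normalizer_eq_top_iff.1 e
    exact hW (le_bot_iff.1 (hO ▸ Grp.le_pPrimeCore inferInstance (Nat.coprime_two_right.2 h.odd)))
  · intro a b g ha2 hb2 hne hab haK hbK hga hgb
    obtain ⟨k, hk, hka, hkb⟩ := exists_conj_pair S hSK haK hbK ha2 hb2 hne hab
    obtain ⟨l, hl, hla, hlb⟩ := exists_conj_pair S hSK hga hgb (by rwa [orderOf_conj_eq])
      (by rwa [orderOf_conj_eq]) (fun e => hne (by simpa using e))
      ((show Commute a b from hab).map (MulAut.conj g).toMonoidHom)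
    have h1 : l * g * k⁻¹ ∈ M := by
      refine h.move (k * a * k⁻¹) (k * b * k⁻¹) _ (by rwa [orderOf_conj_eq]) (by rwa [orderOf_conj_eq])
        (fun e => hne (by simpa using e)) ((show Commute a b from hab).map (MulAut.conj k).toMonoidHom).eq
        (hS hka) (hS hkb) ?_ ?_
      · rw [show l * g * k⁻¹ * (k * a * k⁻¹) * (l * g * k⁻¹)⁻¹ = l * (g * a * g⁻¹) * l⁻¹ by group]
        exact hS hla
      · rw [show l * g * k⁻¹ * (k * b * k⁻¹) * (l * g * k⁻¹)⁻¹ = l * (g * b * g⁻¹) * l⁻¹ by group]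
        exact hS hlb
    have h2 := mul_mem (mul_mem (inv_mem hl) (h.norm h1)) hk
    rwa [show l⁻¹ * (l * g * k⁻¹) * k = g by group] at h2
  · intro a ha ha2
    obtain ⟨k, hk⟩ := exists_conj_mem_sylow (x := (⟨a, ha⟩ : ↥(normalizer (W : Set G)))) (p := 2) (n := 1)
      (by rw [← Subgroup.orderOf_coe, pow_one]; exact ha2) (S.subtype hSK)
    have hks : (k : G) * a * (k : G)⁻¹ ∈ (S : Subgroup G) := hk
    obtain ⟨b, hb, hb2, hne, hab⟩ := h.pair _ (hS hks) (by rw [orderOf_conj_eq, ha2])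
    refine ⟨(k : G)⁻¹ * b * k, mul_mem (mul_mem (inv_mem k.2) (h.norm hb)) k.2, ?_, ?_, ?_⟩
    · have := orderOf_conj_eq (k : G)⁻¹ b
      rwa [inv_inv, hb2] at this
    · intro e
      exact hne (by rw [e]; group)
    · calc a * ((k : G)⁻¹ * b * k) = (k : G)⁻¹ * ((k : G) * a * (k : G)⁻¹ * b) * k := by group
        _ = (k : G)⁻¹ * b * k * a := by rw [hab]; group

/-- Two involutions of `Z(S)`: the second is not conjugate to the product in the centraliser of the first. -/
theorem notMem_class_of_central (S : Sylow 2 G) {u f : G} (hu : u ∈ (S : Subgroup G)) (hu2 : orderOf u = 2)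
    (hf : f ∈ (S : Subgroup G)) (hcu : ∀ s ∈ (S : Subgroup G), Commute s u)
    (hcf : ∀ s ∈ (S : Subgroup G), Commute s f) : f * u ∉ classIn u f := by
  haveI : Fact (Nat.Prime 2) := ⟨Nat.prime_two⟩
  rintro ⟨c, hc, hcf'⟩
  set C := centralizer ({u} : Set G) with hC
  have hSC : (S : Subgroup G) ≤ C := fun s hs => mem_centralizer_singleton_iff.2 (hcu s hs).eq
  set Q := S.subtype hSC with hQ
  let F : C := ⟨f, hSC hf⟩
  let U : C := ⟨u, hSC hu⟩
  have hcomm : ∀ q ∈ (Q : Subgroup C), Commute q F := fun q hq => Subtype.ext (hcf q hq).eq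
  have hconj : (⟨c, mem_centralizer_singleton_iff.2 hc.eq⟩ : C) * F *
      (⟨c, mem_centralizer_singleton_iff.2 hc.eq⟩ : C)⁻¹ = F * U := Subtype.ext hcf'
  have hFU : F * U ∈ centralizer ((Q : Subgroup C) : Set C) := mem_centralizer_iff.2 fun q hq =>
    ((hcomm q hq).mul_right (Subtype.ext (hcu q hq).eq)).eq
  obtain ⟨n, hn, hne⟩ := Sylow.conj_eq_normalizer_conj_of_mem_centralizer Q F
    (⟨c, mem_centralizer_singleton_iff.2 hc.eq⟩ : C)⁻¹ (mem_centralizer_iff.2 fun q hq => (hcomm q hq).eq)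
    (by rw [inv_inv, hconj]; exact hFU)
  rw [inv_inv, hconj] at hne
  have hUU : U * U = 1 := Subtype.ext (mul_self_of_orderOf_two hu2)
  have hnU : Commute n U := Subtype.ext (mem_centralizer_singleton_iff.1 n.2)
  have hn2 : Commute (n * n) F := by
    have h1 : n⁻¹ * (n⁻¹ * F * n) * n = F := by
      calc n⁻¹ * (n⁻¹ * F * n) * n = n⁻¹ * (F * U) * n := by rw [← hne]
        _ = n⁻¹ * F * (U * n) := by group
        _ = n⁻¹ * F * (n * U) := by rw [hnU.eq]
        _ = (n⁻¹ * F * n) * U := by group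
        _ = F := by rw [← hne, mul_assoc, hUU, mul_one]
    show n * n * F = F * (n * n)
    calc n * n * F = n * n * (n⁻¹ * (n⁻¹ * F * n) * n) := by rw [h1]
      _ = F * (n * n) := by group
  obtain ⟨k, m₀, hm₀, hord⟩ := Nat.exists_eq_pow_mul_and_not_dvd (orderOf_pos n).ne' 2 (by norm_num)
  obtain ⟨i, hi⟩ : Odd m₀ := Nat.odd_iff.2 (Nat.two_dvd_ne_zero.1 hm₀)
  have hnm : IsPGroup 2 ↥(zpowers (n ^ m₀)) := by
    refine IsPGroup.of_card (n := k) ?_
    rw [Nat.card_zpowers, orderOf_pow' n (by omega), hord, Nat.gcd_eq_right (Dvd.intro_left _ rfl),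
      Nat.mul_div_cancel _ (by omega)]
  have hnQ : n ^ m₀ ∈ (Q : Subgroup C) := by
    have h1 : IsPGroup 2 ↥(zpowers (n ^ m₀) ⊔ (Q : Subgroup C) : Subgroup C) :=
      hnm.to_sup_of_normal_right' Q.isPGroup' (zpowers_le.2 (pow_mem hn _))
    rw [← Q.is_maximal' h1 le_sup_right]
    exact mem_sup_left (mem_zpowers _)
  have hfix : Commute (n ^ m₀) F := hcomm _ hnQ
  rw [hi, pow_succ, pow_mul, pow_two] at hfix
  have h3 : Commute n F := by
    have h4 := (hn2.pow_left i).inv_left.mul_left hfix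
    rwa [inv_mul_cancel_left] at h4
  have h5 : F = F * U := by rw [hne, mul_assoc, ← h3.eq, inv_mul_cancel_left]
  exact ne_one_of_orderOf_two hu2 (congrArg Subtype.val (mul_eq_left.1 h5.symm))

/-- A bad involution of `Z(S)` with `coreC` in `M` needs more than three involutions in `S`. -/
theorem AX.false_of_three (h : AX M W) (S : Sylow 2 G) (hle : (S : Subgroup G) ≤ M) {u f : G}
    (hu : u ∈ (S : Subgroup G)) (hu2 : orderOf u = 2) (hbad : ∃ c : G, Commute c u ∧ c ∉ M)
    (hX : coreC u ≤ M) (hf : f ∈ (S : Subgroup G)) (hf2 : orderOf f = 2) (hne : f ≠ u)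
    (hcu : ∀ s ∈ (S : Subgroup G), Commute s u) (hcf : ∀ s ∈ (S : Subgroup G), Commute s f)
    (h3 : ∀ y ∈ (S : Subgroup G), orderOf y = 2 → y = u ∨ y = f ∨ y = f * u) : False := by
  classical
  haveI : Fact (Nat.Prime 2) := ⟨Nat.prime_two⟩
  have hff := notMem_class_of_central S hu hu2 hf hcu hcf
  set C := centralizer ({u} : Set G) with hC
  have hSC : (S : Subgroup G) ≤ C := fun s hs => mem_centralizer_singleton_iff.2 (hcu s hs).eq
  set D := C ⊓ centralizer ({f} : Set G) with hD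
  have hSD : (S : Subgroup G) ≤ D := le_inf hSC fun s hs => mem_centralizer_singleton_iff.2 (hcf s hs).eq
  let F : C := ⟨f, hSC hf⟩
  -- `f` is isolated in `C(u)`
  have hiso : Cfsg.IsIsolatedInvolution F := by
    refine ⟨by rw [← Subgroup.orderOf_coe]; exact hf2, fun g hg => ?_⟩
    by_contra hne'
    have hgu : Commute (g : G) u := mem_centralizer_singleton_iff.1 g.2
    set y := g * F * g⁻¹ with hy
    have hy2 : orderOf (y : G) = 2 := by
      show orderOf ((g : G) * f * (g : G)⁻¹) = 2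
      rw [orderOf_conj_eq, hf2]
    have hyD : (y : G) ∈ D := ⟨y.2, mem_centralizer_singleton_iff.2 (congrArg Subtype.val hg.eq.symm)⟩
    obtain ⟨d, hd⟩ := exists_conj_mem_sylow (x := (⟨(y : G), hyD⟩ : D)) (p := 2) (n := 1)
      (by rw [← Subgroup.orderOf_coe, pow_one]; exact hy2) (S.subtype hSD)
    have hdy : (d : G) * y * (d : G)⁻¹ ∈ (S : Subgroup G) := hd
    have hdu : Commute (d : G) u := mem_centralizer_singleton_iff.1 d.2.1
    have hdf : Commute (d : G) f := mem_centralizer_singleton_iff.1 d.2.2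
    rcases h3 _ hdy (by rw [orderOf_conj_eq, hy2]) with e | e | e
    · have e1 : (d : G) * y * (d : G)⁻¹ = (d : G) * u * (d : G)⁻¹ := by
        rw [e, hdu.eq, mul_inv_cancel_right]
      have e2 : (g : G) * f * (g : G)⁻¹ = (g : G) * u * (g : G)⁻¹ := by
        rw [hgu.eq, mul_inv_cancel_right]
        exact mul_left_cancel (mul_right_cancel e1)
      exact hne (mul_left_cancel (mul_right_cancel e2))
    · refine hne' (Subtype.ext ?_)
      have e1 : (d : G) * y * (d : G)⁻¹ = (d : G) * f * (d : G)⁻¹ := by rw [e, hdf.eq, mul_inv_cancel_right]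
      exact mul_left_cancel (mul_right_cancel e1)
    · refine hff ⟨(d : G) * g, hdu.mul_left hgu, ?_⟩
      rw [← e]
      show (d : G) * g * f * ((d : G) * g)⁻¹ = (d : G) * ((g : G) * f * (g : G)⁻¹) * (d : G)⁻¹
      group
  obtain ⟨c, hc, hcM⟩ := hbad
  have hcC : c ∈ C := mem_centralizer_singleton_iff.2 hc.eq
  have hz := ZStar.commutator_mem_oddCore _ ↥C rfl F hiso ⟨c, hcC⟩
  have hmem : f * c * f⁻¹ * c⁻¹ ∈ coreC u := ⟨_, hz, rfl⟩
  have h2 : c * f * c⁻¹ ∈ M := by
    have h1 := mul_mem (inv_mem (hle hf)) (hX hmem)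
    rw [show f⁻¹ * (f * c * f⁻¹ * c⁻¹) = c * f⁻¹ * c⁻¹ by group, inv_of_orderOf_two hf2] at h1
    exact h1
  exact hcM (h.bad_fix hu2 (hle hu) hf2 (hle hf) hne (hcu f hf).eq hc.eq h2)

end Cfsg.Agent.Invol.Core2
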