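import Mathlib

/-!
# Two-generated core: bad involutions of split type
-/

set_option autoImplicit false

namespace Cfsg.Agent.Invol.Core2

variable {G : Type*} [Group G]

/-- The class of `f` in the centralizer of `u`. -/
def classIn (u f : G) : Set G := {x | ∃ c : G, Commute c u ∧ c * f * c⁻¹ = x}

/-- In the centralizer of `u` every other involution is, up to multiplication by `u`, in the class of `f`; when
`f` is good and `f * u` is bad, `u` is not a product of members of that class. -/
structure Split (M : Subgroup G) (u f : G) : Prop where
  /-- Every involution other than `u` is covered by the class. -/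
  covers : ∀ y : G, orderOf y = 2 → Commute y u → y ≠ u → y ∈ classIn u f ∨ y * u ∈ classIn u f
  /-- `u` is outside the group generated by the class. -/
  notMem : (∀ c : G, Commute c f → c ∈ M) → (∃ c : G, Commute c (f * u) ∧ c ∉ M) →
    u ∉ Subgroup.closure (classIn u f)

end Cfsg.Agent.Invol.Core2
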