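import Cfsg.Agent.Lib.Invol.Core2.Setting
import Cfsg.Agent.Lib.Invol.Core2.Split
import Cfsg.Agent.Lib.Invol.StronglyEmbedded
import Cfsg.Agent.Lib.Grp.BalanceReduction
import Cfsg.Agent.Lib.Grp.CoprimeAbelian
import Cfsg.Agent.Lib.Grp.Cores
import Cfsg.Agent.S1221

/-!
# Two-generated core, central involutions all bad and of split type: local balance

For a bad involution `u` of split type and a commuting involution `y`, an odd subgroup of `C(u, y)` normalised
by `C(u, y)` lies in the core `O(C(u))`.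
-/

set_option autoImplicit false
set_option linter.unusedSectionVars false
set_option linter.style.haveILetI false

namespace Cfsg.Agent.Invol.Core2

open Subgroup

universe u

variable {G : Type u} [Group G] [Finite G] {M W : Subgroup G}

/-- The core of the centraliser of an involution. -/
abbrev coreC (x : G) : Subgroup G := Cfsg.centralizerPPrimeCore 2 x

/-- The local data of split type at the central involutions of a Sylow subgroup. -/
structure CentralData (M : Subgroup G) (S : Sylow 2 G) : Prop where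
  le : (S : Subgroup G) ≤ M
  bad : ∀ a ∈ (S : Subgroup G), orderOf a = 2 → ∃ c : G, Commute c a ∧ c ∉ M
  cen : ∀ a ∈ (S : Subgroup G), orderOf a = 2 → ∀ s ∈ (S : Subgroup G), Commute s a
  coreLe : ∀ u ∈ (S : Subgroup G), orderOf u = 2 → coreC u ≤ M
  core : ∀ u ∈ (S : Subgroup G), orderOf u = 2 → ∀ a ∈ (S : Subgroup G), orderOf a = 2 →
    ∀ h : G, Commute h u → h ∈ M → ∃ b ∈ (S : Subgroup G), b * b = 1 ∧ h * a * h⁻¹ * b⁻¹ ∈ coreC u
  cls : ∀ u ∈ (S : Subgroup G), orderOf u = 2 → ∃ f ∈ (S : Subgroup G), orderOf f = 2 ∧ f ≠ u ∧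
    u ∉ closure (classIn u f) ∧
    ∀ y : G, orderOf y = 2 → Commute y u → y ≠ u → y ∈ classIn u f ∨ y * u ∈ classIn u f

theorem eq_pow_sq {x : G} {n : ℕ} (hn : Odd n) (hx : x ^ n = 1) : x = (x * x) ^ ((n + 1) / 2) := by
  obtain ⟨k, hk⟩ := hn
  rw [← pow_two, ← pow_mul, show 2 * ((n + 1) / 2) = n + 1 by omega, pow_succ, hx, one_mul]

theorem coreC_odd (x : G) : Odd (Nat.card ↥(coreC x)) :=
  Nat.coprime_two_right.1 (Grp.centralizerPPrimeCore_coprime (p := 2) x)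

/-- An element moved by the involution `y` inside `X` is adjusted by `X` to centralise `y`. -/
theorem exists_adjust {X : Subgroup G} (hXo : Odd (Nat.card X)) {y h : G} (hy : orderOf y = 2)
    (hx : h * y * h⁻¹ * y⁻¹ ∈ X) : ∃ s ∈ X, Commute (s⁻¹ * h) y := by
  obtain ⟨x, hxdef⟩ : ∃ x, x = h * y * h⁻¹ * y⁻¹ := ⟨_, rfl⟩
  rw [← hxdef] at hx
  have hyy := mul_self_of_orderOf_two hy
  have hyi := inv_of_orderOf_two hy
  obtain ⟨k, hk⟩ := hXo
  have hx1 : x ^ (2 * k + 1) = 1 := hk ▸ orderOf_dvd_iff_pow_eq_one.1 (X.orderOf_dvd_natCard hx)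
  have hinv : y * x * y⁻¹ = x⁻¹ := by
    rw [hxdef, hyi]
    simp only [mul_inv_rev, inv_inv, hyi, ← mul_assoc]
    rw [mul_assoc (y * h * y * h⁻¹) y y, hyy, mul_one]
  obtain ⟨s, hsdef⟩ : ∃ s, s = x ^ (k + 1) := ⟨_, rfl⟩
  refine ⟨s, hsdef ▸ pow_mem hx _, ?_⟩
  have hss : s * s = x := by
    rw [hsdef, ← pow_add, show k + 1 + (k + 1) = 2 * k + 1 + 1 by omega, pow_succ, hx1, one_mul]
  have hys : y * s * y⁻¹ = s⁻¹ := by rw [hsdef, ← conj_pow, hinv, inv_pow]
  have h1 : h * y * h⁻¹ = x * y := by rw [hxdef, inv_mul_cancel_right]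
  show s⁻¹ * h * y = y * (s⁻¹ * h)
  calc s⁻¹ * h * y = s⁻¹ * (h * y * h⁻¹) * h := by group
    _ = s⁻¹ * (s * s * y) * h := by rw [h1, hss]
    _ = s * y * h := by group
    _ = (y * s * y⁻¹)⁻¹ * y * h := by rw [hys, inv_inv]
    _ = y * (s⁻¹ * h) := by group

namespace CentralData

variable {S : Sylow 2 G}

theorem commute (d : CentralData M S) {a b : G} (ha : a ∈ (S : Subgroup G)) (hb : b ∈ (S : Subgroup G))
    (hb2 : orderOf b = 2) : Commute a b := d.cen b hb hb2 a ha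

theorem core_le_of_third (h : AX M W) (hle : (S : Subgroup G) ≤ M)
    (hcen : ∀ a ∈ (S : Subgroup G), orderOf a = 2 → ∀ s ∈ (S : Subgroup G), Commute s a)
    (third : ∀ a ∈ (S : Subgroup G), ∀ b ∈ (S : Subgroup G), orderOf a = 2 → orderOf b = 2 →
      ∃ c ∈ (S : Subgroup G), orderOf c = 2 ∧ c ≠ a ∧ c ≠ b ∧ c ≠ a * b)
    {u : G} (hu : u ∈ (S : Subgroup G)) (hu2 : orderOf u = 2) : coreC u ≤ M := by
  classical
  have dc : ∀ {a b : G}, a ∈ (S : Subgroup G) → b ∈ (S : Subgroup G) → orderOf b = 2 → Commute a b :=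
    fun ha hb hb2 => hcen _ hb hb2 _ ha
  obtain ⟨a, ha, ha2, hau, -, -⟩ := third u hu u hu hu2 hu2
  obtain ⟨b, hb, hb2, hbu, hba, hbau⟩ := third u hu a ha hu2 ha2
  set A : Subgroup G := closure ({a, b} : Set G) with hA
  haveI : IsMulCommutative A := isMulCommutative_closure (by
    rintro x (rfl | rfl) z (rfl | rfl)
    exacts [rfl, (dc ha hb hb2).eq, (dc ha hb hb2).eq.symm, rfl])
  have hAc : A ≤ centralizer ({u} : Set G) := (closure_le _).2 fun x hx => mem_centralizer_singleton_iff.2 (by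
    rcases hx with rfl | rfl
    exacts [(dc ha hu hu2).eq, (dc hb hu hu2).eq])
  have hAn : A ≤ normalizer (coreC u : Set G) := fun x hx => by
    have hc : x * u = u * x := mem_centralizer_singleton_iff.1 (hAc hx)
    refine mem_normalizer_iff.2 fun z => ⟨fun hz => Grp.centralizerPPrimeCore_conj hc hz, fun hz => ?_⟩
    have := Grp.centralizerPPrimeCore_conj (c := x⁻¹) (show Commute x u from hc).inv_left.eq hz
    simpa [mul_assoc] using this
  have hexp : ∀ x ∈ A, x * x = 1 := fun x hx => by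
    induction hx using closure_induction with
    | mem x hx =>
      rcases hx with rfl | rfl
      exacts [mul_self_of_orderOf_two ha2, mul_self_of_orderOf_two hb2]
    | one => rw [one_mul]
    | mul x z hx hz ex ez =>
      have : x * z = z * x := congrArg Subtype.val (mul_comm' (⟨x, hx⟩ : A) ⟨z, hz⟩)
      calc x * z * (x * z) = x * (z * x) * z := by group
        _ = (x * x) * (z * z) := by rw [← this]; group
        _ = 1 := by rw [ex, ez, one_mul]
    | inv x _ ex => rw [← mul_inv_rev, ex, inv_one]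
  have hA2 : IsPGroup 2 A := fun x => ⟨1, Subtype.ext (by
    rw [pow_one, pow_two]; exact hexp x x.2)⟩
  have hncyc : ¬ IsCyclic A := fun hc => by
    obtain ⟨g, hg⟩ := hc.exists_generator
    have key : ∀ x : A, x = 1 ∨ x = g := fun x => by
      obtain ⟨i, rfl⟩ := mem_zpowers_iff.1 (hg x)
      have hgg : g * g = 1 := Subtype.ext (hexp g g.2)
      rcases Int.even_or_odd i with ⟨j, rfl⟩ | ⟨j, rfl⟩
      · exact Or.inl (by rw [← two_mul, zpow_mul, zpow_two, hgg, one_zpow])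
      · exact Or.inr (by rw [zpow_add, zpow_mul, zpow_two, hgg, one_zpow, one_mul, zpow_one])
    have ka := key ⟨a, subset_closure (Or.inl rfl)⟩
    have kb := key ⟨b, subset_closure (Or.inr rfl)⟩
    rcases ka with e | e
    · exact ne_one_of_orderOf_two ha2 (congrArg Subtype.val e)
    rcases kb with e' | e'
    · exact ne_one_of_orderOf_two hb2 (congrArg Subtype.val e')
    exact hba (congrArg Subtype.val (e'.trans e.symm))
  have hune : ∀ x ∈ A, x ≠ u := fun x hx e => by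
    subst e
    have key : ∀ z ∈ A, z = 1 ∨ z = a ∨ z = b ∨ z = a * b := fun z hz => by
      induction hz using closure_induction with
      | mem z hz => rcases hz with rfl | rfl <;> simp
      | one => exact Or.inl rfl
      | mul z w _ _ ez ew =>
        have hab := (dc ha hb hb2).eq
        have haa := mul_self_of_orderOf_two ha2
        have hbb := mul_self_of_orderOf_two hb2
        have haab : a * (a * b) = b := by rw [← mul_assoc, haa, one_mul]
        have hbab : b * (a * b) = a := by rw [hab, ← mul_assoc, hbb, one_mul]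
        have haba : a * b * a = b := by rw [mul_assoc, ← hab, ← mul_assoc, haa, one_mul]
        have habb : a * b * b = a := by rw [mul_assoc, hbb, mul_one]
        have habab : a * b * (a * b) = 1 := by rw [← mul_assoc, haba, hbb]
        rcases ez with rfl | rfl | rfl | rfl <;> rcases ew with rfl | rfl | rfl | rfl <;>
          simp [haa, hbb, haab, hbab, haba, habb, habab, hab.symm]
      | inv z hz ez => rwa [inv_eq_of_mul_eq_one_right (hexp z hz)]
    rcases key x hx with e | e | e | e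
    · exact ne_one_of_orderOf_two hu2 e
    · exact hau e.symm
    · exact hbu e.symm
    · refine hbau ?_
      rw [e, mul_assoc, ← (dc ha hb hb2).eq, ← mul_assoc, mul_assoc, ← mul_assoc, mul_self_of_orderOf_two ha2,
        one_mul]
  have hcop : (Nat.card A).Coprime (Nat.card ↥(coreC u)) := by
    obtain ⟨k, hk⟩ := hA2.exists_card_eq
    rw [hk]
    exact (Nat.coprime_two_left.2 (coreC_odd u)).pow_left k
  rw [← Grp.generated_by_centralizers A (coreC u) hncyc hAn hcop]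
  refine iSup₂_le fun x hx z hz => ?_
  have hxM : x ∈ M := (closure_le M).2 (by
    rintro w (rfl | rfl)
    exacts [hle ha, hle hb]) hx.1
  refine h.bad_fix hu2 (hle hu) (orderOf_two_iff.2 ⟨hexp x hx.1, hx.2⟩) hxM (hune x hx.1)
    (mem_centralizer_singleton_iff.1 (hAc hx.1)) (Grp.centralizerPPrimeCore_commute hz.1) ?_
  rw [mem_centralizer_singleton_iff.1 hz.2, mul_inv_cancel_right]
  exact hxM

/-- Local balance. -/
theorem le_core (h : AX M W) (d : CentralData M S) {u y : G} (hu : u ∈ (S : Subgroup G)) (hu2 : orderOf u = 2)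
    (hy : y ∈ (S : Subgroup G)) (hy2 : orderOf y = 2) (hne : y ≠ u) {D : Subgroup G} (hDo : Odd (Nat.card D))
    (hDu : ∀ x ∈ D, Commute x u) (hDy : ∀ x ∈ D, Commute x y)
    (hDn : ∀ c : G, Commute c u → Commute c y → ∀ x ∈ D, c * x * c⁻¹ ∈ D) : D ≤ coreC u := by
  haveI : Fact (Nat.Prime 2) := ⟨Nat.prime_two⟩
  have huM := d.le hu
  have hyM := d.le hy
  have hyu : Commute y u := d.commute hy hu hu2
  set X := coreC u with hXdef
  have hXM : X ≤ M := d.coreLe u hu hu2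
  have hXu : ∀ x ∈ X, Commute x u := fun x hx => Grp.centralizerPPrimeCore_commute hx
  have hXn : ∀ c : G, Commute c u → ∀ x ∈ X, c * x * c⁻¹ ∈ X := fun c hc x hx =>
    Grp.centralizerPPrimeCore_conj hc.eq hx
  have hXo := coreC_odd u
  set C : Subgroup G := centralizer ({u} : Set G) with hC
  have hCu : ∀ {c : G}, c ∈ C → Commute c u := fun hc => mem_centralizer_singleton_iff.1 hc
  have hDM : ∀ x ∈ D, x ∈ M := fun x hx => h.bad_fix hu2 huM hy2 hyM hne hyu.eq (hDu x hx).eq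
    (by rw [(hDy x hx).eq, mul_inv_cancel_right]; exact hyM)
  -- the elements of `H` moving the central involutions inside `X`
  let CX : Subgroup G :=
    { carrier := {c | c ∈ M ∧ Commute c u ∧ ∀ a ∈ (S : Subgroup G), orderOf a = 2 → c * a * c⁻¹ * a⁻¹ ∈ X}
      one_mem' := ⟨one_mem _, Commute.one_left u, fun a _ _ => by simpa using one_mem X⟩
      mul_mem' := fun {c e} hc he => by
        refine ⟨mul_mem hc.1 he.1, hc.2.1.mul_left he.2.1, fun a ha ha2 => ?_⟩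
        have h1 := mul_mem (hXn c hc.2.1 _ (he.2.2 a ha ha2)) (hc.2.2 a ha ha2)
        rwa [show c * (e * a * e⁻¹ * a⁻¹) * c⁻¹ * (c * a * c⁻¹ * a⁻¹) = c * e * a * (c * e)⁻¹ * a⁻¹ by group] at h1
      inv_mem' := fun {c} hc => by
        refine ⟨inv_mem hc.1, hc.2.1.inv_left, fun a ha ha2 => ?_⟩
        have h1 := hXn c⁻¹ hc.2.1.inv_left _ (inv_mem (hc.2.2 a ha ha2))
        rwa [show c⁻¹ * (c * a * c⁻¹ * a⁻¹)⁻¹ * c⁻¹⁻¹ = c⁻¹ * a * c⁻¹⁻¹ * a⁻¹ by group] at h1 }
  have hXCX : X ≤ CX := fun x hx => ⟨hXM hx, hXu x hx, fun a ha ha2 => by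
    have h1 := mul_mem hx (hXn a (d.commute ha hu hu2) _ (inv_mem hx))
    rwa [show x * (a * x⁻¹ * a⁻¹) = x * a * x⁻¹ * a⁻¹ by group] at h1⟩
  have hDCX : D ≤ CX := fun x hx => ⟨hDM x hx, hDu x hx, fun a ha ha2 => by
    have hau := d.commute ha hu hu2
    have hay := d.commute ha hy hy2
    obtain ⟨b, hb, hbb, hbX⟩ := d.core u hu hu2 a ha ha2 x (hDu x hx) (hDM x hx)
    obtain ⟨e, hedef⟩ : ∃ e, e = x * a * x⁻¹ * a⁻¹ := ⟨_, rfl⟩
    rw [← hedef]
    have heD : e ∈ D := by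
      have h1 := mul_mem hx (hDn a hau hay _ (inv_mem hx))
      rwa [show x * (a * x⁻¹ * a⁻¹) = x * a * x⁻¹ * a⁻¹ by group, ← hedef] at h1
    obtain ⟨k, hkdef⟩ : ∃ k, k = b * a⁻¹ := ⟨_, rfl⟩
    have he : e = x * a * x⁻¹ * b⁻¹ * k := by rw [hedef, hkdef]; group
    have hkk : k * k = 1 := by
      rw [hkdef, inv_of_orderOf_two ha2]
      calc b * a * (b * a) = b * (a * b) * a := by group
        _ = b * (b * a) * a := by rw [(d.commute hb ha ha2).eq]
        _ = b * b * (a * a) := by group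
        _ = 1 := by rw [hbb, mul_self_of_orderOf_two ha2, one_mul]
    have hku : Commute k u := hkdef ▸ (d.commute hb hu hu2).mul_left hau.inv_left
    have hee : e * e ∈ X := by
      have h1 := mul_mem (mul_mem hbX (hXn k hku _ hbX)) (show k * k ∈ X by rw [hkk]; exact one_mem X)
      rwa [show x * a * x⁻¹ * b⁻¹ * (k * (x * a * x⁻¹ * b⁻¹) * k⁻¹) * (k * k) =
        x * a * x⁻¹ * b⁻¹ * k * (x * a * x⁻¹ * b⁻¹ * k) by group, ← he] at h1
    rw [eq_pow_sq hDo (orderOf_dvd_iff_pow_eq_one.1 (D.orderOf_dvd_natCard heD))]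
    exact pow_mem hee _⟩
  have hCXn : ∀ c : G, Commute c u → c ∈ M → ∀ k ∈ CX, c * k * c⁻¹ ∈ CX := by
    intro c hc hcM k hk
    refine ⟨mul_mem (mul_mem hcM hk.1) (inv_mem hcM), (hc.mul_left hk.2.1).mul_left hc.inv_left,
      fun a ha ha2 => ?_⟩
    obtain ⟨b, hb, hbb, hbX⟩ := d.core u hu hu2 a ha ha2 c⁻¹ hc.inv_left (inv_mem hcM)
    rw [inv_inv] at hbX
    obtain ⟨x, hxdef⟩ : ∃ x, x = c⁻¹ * a * c * b⁻¹ := ⟨_, rfl⟩
    rw [← hxdef] at hbX
    have hbk : k * b * k⁻¹ * b⁻¹ ∈ X := by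
      by_cases hb1 : b = 1
      · rw [hb1]; simpa using one_mem X
      · exact hk.2.2 b hb (orderOf_two_iff.2 ⟨hbb, hb1⟩)
    have h1 := hXn c hc _ (mul_mem (mul_mem (hXn k hk.2.1 _ hbX) hbk) (inv_mem hbX))
    rwa [hxdef, show c * (k * (c⁻¹ * a * c * b⁻¹) * k⁻¹ * (k * b * k⁻¹ * b⁻¹) * (c⁻¹ * a * c * b⁻¹)⁻¹) * c⁻¹ =
      c * k * c⁻¹ * a * (c * k * c⁻¹)⁻¹ * a⁻¹ by group] at h1
  -- its odd core
  set D₁ : Subgroup G := (Cfsg.pPrimeCore 2 ↥CX).map CX.subtype with hD₁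
  have hD₁o : Odd (Nat.card D₁) := by
    rw [hD₁, card_map_of_injective CX.subtype_injective]
    exact Nat.coprime_two_right.1 Grp.pPrimeCore_coprime
  have hD₁CX : D₁ ≤ CX := map_subtype_le _
  have hchar : ∀ (K : Subgroup G) (c : G), (∀ k ∈ K, c * k * c⁻¹ ∈ K) →
      ∀ x ∈ (Cfsg.pPrimeCore 2 ↥K).map K.subtype, c * x * c⁻¹ ∈ (Cfsg.pPrimeCore 2 ↥K).map K.subtype := by
    intro K c hc x hx
    obtain ⟨w, hw, rfl⟩ := hx
    have hc' : c ∈ normalizer (K : Set G) := by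
      haveI : Finite ↥K := inferInstance
      exact mem_normalizer_fintype hc
    haveI : (Cfsg.pPrimeCore 2 ↥K).Characteristic := inferInstance
    refine ⟨K.normalizerMonoidHom ⟨c, hc'⟩ w, ?_, rfl⟩
    exact (characteristic_iff_le_comap.1 inferInstance _) hw
  have hD₁n : ∀ c : G, Commute c u → c ∈ M → ∀ x ∈ D₁, c * x * c⁻¹ ∈ D₁ := fun c hc hcM =>
    hchar CX c (hCXn c hc hcM)
  have hXle : X ⊔ D ≤ CX := sup_le hXCX hDCX
  have hDn' : ((X ⊔ D).subgroupOf CX).Normal := by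
    refine ⟨fun z hz k => ?_⟩
    obtain ⟨s, hs, hc⟩ := exists_adjust hXo hy2 (k.2.2.2 y hy hy2)
    obtain ⟨c, hcdef⟩ : ∃ c, c = s⁻¹ * (k : G) := ⟨_, rfl⟩
    rw [← hcdef] at hc
    have hcu : Commute c u := hcdef ▸ (hXu s hs).inv_left.mul_left k.2.2.1
    have hsup : (k : G) * z * (k : G)⁻¹ ∈ X ⊔ D := by
      have hmap : (X ⊔ D).map (MulAut.conj c).toMonoidHom ≤ X ⊔ D := by
        rw [Subgroup.map_sup]
        refine sup_le ?_ ?_
        · rintro _ ⟨x, hx, rfl⟩; exact mem_sup_left (hXn c hcu x hx)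
        · rintro _ ⟨x, hx, rfl⟩; exact mem_sup_right (hDn c hcu hc x hx)
      have h1 := mul_mem (mul_mem (mem_sup_left hs : s ∈ X ⊔ D) (hmap ⟨z, hz, rfl⟩)) (inv_mem (mem_sup_left hs))
      simp only [MulEquiv.toMonoidHom_eq_coe, MonoidHom.coe_coe, MulAut.conj_apply] at h1
      rwa [hcdef, show s * (s⁻¹ * (k : G) * z * (s⁻¹ * (k : G))⁻¹) * s⁻¹ = (k : G) * z * (k : G)⁻¹ by group] at h1
    exact hsup
  have hnorm : D ≤ normalizer (X : Set G) := fun x hx => mem_normalizer_fintype fun z hz => hXn x (hDu x hx) z hz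
  have hXDo : Odd (Nat.card ↥(X ⊔ D : Subgroup G)) :=
    by rw [sup_comm]; exact Nat.coprime_two_right.1 (Grp.card_sup_coprime_to hnorm (Nat.coprime_two_right.2 hDo) (Nat.coprime_two_right.2 hXo))
  have hDD₁ : D ≤ D₁ := fun x hx => by
    refine ⟨⟨x, hDCX hx⟩, Grp.le_pPrimeCore hDn' ?_ (mem_sup_right hx), rfl⟩
    rw [Nat.card_congr (subgroupOfEquivOfLe hXle).toEquiv]
    exact Nat.coprime_two_right.2 hXDo
  -- the class and its group
  obtain ⟨f, hf, hf2, hfu, hnot, -⟩ := d.cls u hu hu2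
  have hfM := d.le hf
  have hfc : Commute f u := d.commute hf hu hu2
  set L := closure (classIn u f) with hL
  have hclC : classIn u f ⊆ (C : Set G) := by
    rintro _ ⟨c, hc, rfl⟩
    exact mem_centralizer_singleton_iff.2 ((hc.mul_left hfc).mul_left hc.inv_left).eq
  have hLC : L ≤ C := (closure_le _).2 hclC
  have hLn : ∀ c : G, Commute c u → ∀ l ∈ L, c * l * c⁻¹ ∈ L := fun c hc l hl => by
    have h1 : L.map (MulAut.conj c).toMonoidHom ≤ L := by
      rw [hL, MonoidHom.map_closure, closure_le]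
      rintro _ ⟨_, ⟨e, he, rfl⟩, rfl⟩
      refine subset_closure ⟨c * e, hc.mul_left he, ?_⟩
      simp [MulAut.conj_apply, mul_assoc]
    exact h1 ⟨l, hl, rfl⟩
  have hfL : f ∈ L := subset_closure ⟨1, Commute.one_left u, by group⟩
  obtain ⟨c₀, hc₀, hc₀M⟩ := d.bad u hu hu2
  have hLM : ¬ L ≤ M := fun hle => hc₀M (h.bad_fix hu2 huM hf2 hfM hfu hfc.eq hc₀.eq
    (hle (subset_closure ⟨c₀, hc₀, rfl⟩)))
  have hinvL : ∀ t ∈ L, orderOf t = 2 → t ∈ M → ∀ g : G, Commute g u → g * t * g⁻¹ ∈ M → g ∈ M :=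
    fun t htL ht2 htM g hg hgt => h.bad_fix hu2 huM ht2 htM (fun e => hnot (e ▸ htL)) (hCu (hLC htL)).eq hg.eq hgt
  have hD₁u : ∀ x ∈ D₁, Commute x u := fun x hx => (hD₁CX hx).2.1
  have hD₁M : ∀ x ∈ D₁, x ∈ M := fun x hx => (hD₁CX hx).1
  have hnL : D₁ ≤ normalizer (L : Set G) := fun x hx => mem_normalizer_fintype fun l hl => hLn x (hD₁u x hx) l hl
  set J : Subgroup G := L ⊔ D₁ with hJ
  have hJC : J ≤ C := sup_le hLC fun x hx => mem_centralizer_singleton_iff.2 (hD₁u x hx).eq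
  have hJdec : ∀ j ∈ J, ∃ l ∈ L, ∃ x ∈ D₁, l * x = j := fun j hj => by
    rw [hJ, ← SetLike.mem_coe, coe_mul_of_right_le_normalizer_left _ _ hnL] at hj
    exact Set.mem_mul.1 hj
  haveI hLJ : (L.subgroupOf J).Normal := ⟨fun a ha g => hLn g (hCu (hJC g.2)) a ha⟩
  have hse : Cfsg.IsStronglyEmbedded (M.subgroupOf J) := by
    refine (Invol.isStronglyEmbedded_iff ?_ ?_).2 ?_
    · intro htop
      exact hLM (le_sup_left.trans (subgroupOf_eq_top.1 htop))
    · exact even_card_of_mem (t := ⟨f, mem_sup_left hfL⟩) (by rw [← Subgroup.orderOf_coe]; exact hf2) hfM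
    · rintro ⟨t, htJ⟩ htM ht2 ⟨g, hgJ⟩ hg
      rw [← Subgroup.orderOf_coe] at ht2
      have ht : (t : G) ∈ L := by
        obtain ⟨l, hl, x, hx, hlx⟩ := hJdec t htJ
        set π := QuotientGroup.mk' (L.subgroupOf J)
        have e1 : π ⟨t, htJ⟩ = π ⟨x, mem_sup_right hx⟩ := by
          rw [show (⟨t, htJ⟩ : J) = ⟨l, mem_sup_left hl⟩ * ⟨x, mem_sup_right hx⟩ from Subtype.ext hlx.symm,
            map_mul, show π ⟨l, mem_sup_left hl⟩ = 1 from (QuotientGroup.eq_one_iff _).2 hl, one_mul]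
        have h2 : orderOf (π ⟨t, htJ⟩) ∣ 2 :=
          (orderOf_map_dvd π _).trans (by rw [← Subgroup.orderOf_coe]; exact ht2.dvd)
        have h3 : orderOf (π ⟨t, htJ⟩) ∣ Nat.card D₁ := by
          rw [e1]
          exact (orderOf_map_dvd π _).trans (by rw [← Subgroup.orderOf_coe]; exact D₁.orderOf_dvd_natCard hx)
        have h4 : π ⟨t, htJ⟩ = 1 :=
          orderOf_eq_one_iff.1 (Nat.eq_one_of_dvd_coprimes (Nat.coprime_two_left.2 hD₁o) h2 h3)
        exact (QuotientGroup.eq_one_iff (N := L.subgroupOf J) (⟨t, htJ⟩ : J)).1 h4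
      obtain ⟨l, hl, x, hx, hlx⟩ := hJdec g hgJ
      have hg' : g⁻¹ * t * g ∈ M := mem_subgroupOf.1 hg
      have h4 : l⁻¹ * t * l ∈ M := by
        have h5 := mul_mem (mul_mem (hD₁M x hx) hg') (inv_mem (hD₁M x hx))
        rw [← hlx] at h5
        simpa [mul_assoc] using h5
      have h6 := hinvL t ht ht2 htM l⁻¹ (hCu (inv_mem (hLC hl))) (by rw [inv_inv]; exact h4)
      show g ∈ M
      rw [← hlx]
      exact mul_mem (inv_mem_iff.1 h6) (hD₁M x hx)
  have hD₁J : ∀ x ∈ D₁, ∃ hx : x ∈ J, (⟨x, hx⟩ : J) ∈ Cfsg.pPrimeCore 2 J := by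
    intro x hx
    refine ⟨mem_sup_right hx, Cfsg.Agent.S1221.result _ hse
      ⟨⟨⟨x, mem_sup_right hx⟩, hD₁M x hx⟩, Grp.le_pPrimeCore (N := (D₁.subgroupOf J).subgroupOf (M.subgroupOf J))
        ⟨fun a ha g => hD₁n _ (hCu (hJC g.1.2)) g.2 _ ha⟩ ?_ hx, rfl⟩⟩
    rw [Nat.card_congr (subgroupOfEquivOfLe (show D₁.subgroupOf J ≤ M.subgroupOf J from
        fun z hz => hD₁M _ hz)).toEquiv, Nat.card_congr (subgroupOfEquivOfLe le_sup_right).toEquiv]
    exact Nat.coprime_two_right.2 hD₁o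
  -- `D₁` centralises `L` modulo `X`
  have hOL : ((Cfsg.pPrimeCore 2 ↥L).map L.subtype : Subgroup G) ≤ X := by
    refine Grp.le_centralizerPPrimeCore (fun z hz => (hCu (hLC (map_subtype_le _ hz))).eq)
      (fun c hc => hchar L c (hLn c hc)) ?_
    rw [card_map_of_injective L.subtype_injective]
    exact Grp.pPrimeCore_coprime
  have hcomm : ∀ x ∈ D₁, ∀ l ∈ L, x * l * x⁻¹ * l⁻¹ ∈ X := by
    intro x hx l hl
    obtain ⟨hxJ, hxO⟩ := hD₁J x hx
    have hlc : x * l * x⁻¹ * l⁻¹ ∈ L := mul_mem (hLn x (hD₁u x hx) l hl) (inv_mem hl)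
    haveI := Grp.pPrimeCore_isNormal (p := 2) (G := ↥J)
    have hcO : (⟨x * l * x⁻¹ * l⁻¹, mem_sup_left hlc⟩ : J) ∈ Cfsg.pPrimeCore 2 J := by
      have h1 := mul_mem hxO (Normal.conj_mem inferInstance _ (inv_mem hxO) ⟨l, mem_sup_left hl⟩)
      convert h1 using 1
      exact Subtype.ext (by simp [mul_assoc])
    refine hOL ⟨⟨_, hlc⟩, ?_, rfl⟩
    let e : L →* J := Subgroup.inclusion le_sup_left
    refine Grp.le_pPrimeCore (N := (Cfsg.pPrimeCore 2 J).comap e) (Normal.comap inferInstance e) ?_ hcO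
    refine (Grp.pPrimeCore_coprime (p := 2) (G := ↥J)).coprime_dvd_left ?_
    exact Subgroup.card_comap_dvd_of_injective _ e (inclusion_injective _)
  let CL : Subgroup G :=
    { carrier := {c | Commute c u ∧ ∀ l ∈ L, c * l * c⁻¹ * l⁻¹ ∈ X}
      one_mem' := ⟨Commute.one_left u, fun l _ => by simpa using one_mem X⟩
      mul_mem' := fun {c e} hc he => by
        refine ⟨hc.1.mul_left he.1, fun l hl => ?_⟩
        have h1 := mul_mem (hXn c hc.1 _ (he.2 l hl)) (hc.2 l hl)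
        rwa [show c * (e * l * e⁻¹ * l⁻¹) * c⁻¹ * (c * l * c⁻¹ * l⁻¹) = c * e * l * (c * e)⁻¹ * l⁻¹ by group] at h1
      inv_mem' := fun {c} hc => by
        refine ⟨hc.1.inv_left, fun l hl => ?_⟩
        have h1 := hXn c⁻¹ hc.1.inv_left _ (inv_mem (hc.2 l hl))
        rwa [show c⁻¹ * (c * l * c⁻¹ * l⁻¹)⁻¹ * c⁻¹⁻¹ = c⁻¹ * l * c⁻¹⁻¹ * l⁻¹ by group] at h1 }
  have hCLM : ∀ c ∈ CL, c ∈ M := fun c hc => by
    refine h.bad_fix hu2 huM hf2 hfM hfu hfc.eq hc.1.eq ?_
    simpa [mul_assoc] using mul_mem (hXM (hc.2 f hfL)) hfM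
  have hCLn : ∀ c : G, Commute c u → ∀ k ∈ CL, c * k * c⁻¹ ∈ CL := fun c hc k hk =>
    ⟨(hc.mul_left hk.1).mul_left hc.inv_left, fun l hl => by
      have h1 := hXn c hc _ (hk.2 _ (hLn c⁻¹ hc.inv_left l hl))
      rwa [show c * (k * (c⁻¹ * l * c⁻¹⁻¹) * k⁻¹ * (c⁻¹ * l * c⁻¹⁻¹)⁻¹) * c⁻¹ =
        c * k * c⁻¹ * l * (c * k * c⁻¹)⁻¹ * l⁻¹ by group] at h1⟩
  have hD₁CL : D₁ ≤ CL := fun x hx => ⟨hD₁u x hx, hcomm x hx⟩
  intro x hx
  have h1 : (⟨x, hD₁CL (hDD₁ hx)⟩ : CL) ∈ Cfsg.pPrimeCore 2 CL := by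
    refine Grp.le_pPrimeCore (N := D₁.subgroupOf CL) ⟨fun a ha k => hD₁n k k.2.1 (hCLM k k.2) a ha⟩ ?_ (hDD₁ hx)
    rw [Nat.card_congr (subgroupOfEquivOfLe hD₁CL).toEquiv]
    exact Nat.coprime_two_right.2 hD₁o
  refine Grp.le_centralizerPPrimeCore (N := (Cfsg.pPrimeCore 2 ↥CL).map CL.subtype)
    (fun z hz => (map_subtype_le _ hz : z ∈ CL).1.eq) (fun c hc => hchar CL c (hCLn c hc)) ?_
    ⟨_, h1, rfl⟩
  rw [card_map_of_injective CL.subtype_injective]
  exact Grp.pPrimeCore_coprime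

end CentralData

end Cfsg.Agent.Invol.Core2
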