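import Cfsg.Agent.Lib.Invol.Core2.CentralFalse
import Cfsg.Agent.Lib.Invol.Core2.TwistBasic
import Cfsg.Agent.Lib.Invol.Core2.CentreBasics

/-!
# Two-generated core, one central involution: contradiction from local balance

If the bad involution `u` is central in `S`, every involution of `S` is fused to it in `M` and odd subgroups of
`C(u) ∩ M` normalised by the centraliser of a second involution lie in `O(C(u))`, then the chain argument of the
central case applies.
-/

set_option autoImplicit false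
set_option linter.unusedSectionVars false
set_option linter.style.haveILetI false

namespace Cfsg.Agent.Invol.Core2

open Subgroup

universe v

variable {G : Type v} [Group G] [Finite G] {M W : Subgroup G} {S : Sylow 2 G} {u : G}

theorem orderOf_two_mul {a b : G} (ha : orderOf a = 2) (hb : orderOf b = 2) (hne : a ≠ b) (hc : Commute a b) :
    orderOf (a * b) = 2 := orderOf_two_iff.2 ⟨by
  calc a * b * (a * b) = a * (b * a) * b := by group
    _ = a * a * (b * b) := by rw [← hc.eq]; group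
    _ = 1 := by rw [mul_self_of_orderOf_two ha, mul_self_of_orderOf_two hb, one_mul],
  mul_ne_one_of_ne ha hne⟩

/-- The local facts at a single central bad involution. -/
structure TwistCase (M W : Subgroup G) (S : Sylow 2 G) (u : G) : Prop where
  ax : AX M W
  le : (S : Subgroup G) ≤ M
  maxM : normalizer (W : Set G) ≤ M
  mem : u ∈ (S : Subgroup G)
  two_u : orderOf u = 2
  cent : ∀ s ∈ (S : Subgroup G), Commute s u
  bad : ∃ c : G, Commute c u ∧ c ∉ M
  fixW : ∀ a ∈ (S : Subgroup G), orderOf a = 2 → W ⊓ centralizer ({a} : Set G) = coreC a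
  fused : ∀ a ∈ (S : Subgroup G), orderOf a = 2 → ∃ m ∈ M, m * u * m⁻¹ = a
  third : ∀ a ∈ (S : Subgroup G), orderOf a = 2 → a ≠ u →
    ∃ w ∈ M, orderOf w = 2 ∧ Commute w u ∧ Commute w a ∧ w ≠ u ∧ w ≠ a ∧ w ≠ a * u
  loc : ∀ y ∈ M, orderOf y = 2 → Commute y u → y ≠ u → ∀ D : Subgroup G, Odd (Nat.card D) →
    D ≤ centralizer ({u} : Set G) → D ≤ M →
    (∀ g : G, Commute g u → Commute g y → ∀ d ∈ D, g * d * g⁻¹ ∈ D) → D ≤ coreC u

namespace TwistCase

theorem core_le_W (c : TwistCase M W S u) : coreC u ≤ W := c.fixW u c.mem c.two_u ▸ inf_le_left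

/-- A second involution of `S`. -/
theorem exists_second (c : TwistCase M W S u) :
    ∃ y ∈ (S : Subgroup G), orderOf y = 2 ∧ y ≠ u := by
  obtain ⟨b, hb, hb2, hne, hab⟩ := c.ax.pair u (c.le c.mem) c.two_u
  obtain ⟨k, -, hk1, hk2⟩ := exists_conj_pair S c.le (c.le c.mem) hb c.two_u hb2 hne hab
  by_cases e : k * u * k⁻¹ = u
  · exact ⟨_, hk2, by rw [orderOf_conj_eq, hb2], fun e' => hne (by
      have := e.trans e'.symm
      simpa using this)⟩
  · exact ⟨_, hk1, by rw [orderOf_conj_eq, c.two_u], e⟩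

/-- Each involution of `S` has a partner in `S`. -/
theorem exists_partner_mem (c : TwistCase M W S u) {a : G} (ha : a ∈ (S : Subgroup G)) (_ha2 : orderOf a = 2) :
    ∃ s ∈ (S : Subgroup G), orderOf s = 2 ∧ s ≠ a ∧ Commute s a := by
  by_cases e : a = u
  · obtain ⟨y, hy, hy2, hyu⟩ := c.exists_second
    exact ⟨y, hy, hy2, e ▸ hyu, e ▸ c.cent y hy⟩
  · exact ⟨u, c.mem, c.two_u, fun e' => e e'.symm, (c.cent a ha).symm⟩

/-- An odd subgroup of `C(a)` normalised by `C(u) ∩ C(a)` lies in `W`. -/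
theorem le_W (c : TwistCase M W S u) {a : G} (ha : a ∈ (S : Subgroup G)) (ha2 : orderOf a = 2)
    {Y : Subgroup G} (hYo : Odd (Nat.card Y)) (hYa : ∀ y ∈ Y, Commute y a)
    (hYn : ∀ g : G, Commute g u → Commute g a → ∀ y ∈ Y, g * y * g⁻¹ ∈ Y) : Y ≤ W := by
  by_cases hau : a = u
  · subst hau
    refine le_trans ?_ c.core_le_W
    exact Grp.le_centralizerPPrimeCore (fun y hy => (hYa y hy).eq) (fun g hg => hYn g hg hg)
      (Nat.coprime_two_right.2 hYo)
  obtain ⟨w, hw, hw2, huw, hwa, hwu, hwne, hwau⟩ := c.third a ha ha2 hau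
  have hua : Commute u a := (c.cent a ha).symm
  -- `Y` lies in `M`
  have hin : ∀ z : G, z ∈ M → orderOf z = 2 → z ≠ a → Commute z a →
      Y ⊓ centralizer ({z} : Set G) ≤ M := fun z hz hz2 hza hzc y hy => by
    refine c.ax.bad_fix ha2 (c.le ha) hz2 hz hza hzc.eq (hYa y hy.1).eq ?_
    rw [mem_centralizer_singleton_iff.1 hy.2, mul_inv_cancel_right]
    exact hz
  have hYM : Y ≤ M := le_of_four hYo c.two_u hw2 hwu huw
    (mem_normalizer_fintype fun y hy => hYn u (Commute.refl u) hua y hy)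
    (mem_normalizer_fintype fun y hy => hYn w huw hwa y hy)
    (hin u (c.le c.mem) c.two_u (Ne.symm hau) hua) (hin w hw hw2 hwne hwa)
    (hin _ (mul_mem hw (c.le c.mem)) (orderOf_two_mul hw2 c.two_u hwu huw) (fun e => hwau (by
      rw [← e, mul_assoc, mul_self_of_orderOf_two c.two_u, mul_one])) (hwa.mul_left hua))
  -- move `a` to `u`
  obtain ⟨m, hm, rfl⟩ := c.fused a ha ha2
  have hmem : ∀ {x : G}, x ∈ Y.map (MulAut.conj m⁻¹).toMonoidHom → m * x * m⁻¹ ∈ Y := by
    rintro _ ⟨y, hy, rfl⟩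
    simpa [mul_assoc] using hy
  have hD : Y.map (MulAut.conj m⁻¹).toMonoidHom ≤ coreC u := by
    refine c.loc (m⁻¹ * u * m) (mul_mem (mul_mem (inv_mem hm) (c.le c.mem)) hm) ?_ ?_ ?_ _ ?_ ?_ ?_ ?_
    · have := orderOf_conj_eq m⁻¹ u
      rwa [inv_inv, c.two_u] at this
    · have := hua.map (MulAut.conj m⁻¹).toMonoidHom
      simpa [mul_assoc] using this
    · intro e
      refine hau ?_
      calc m * u * m⁻¹ = m * (m⁻¹ * u * m) * m⁻¹ := by rw [e]
        _ = u := by group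
    · rwa [card_map_of_injective (MulAut.conj m⁻¹).injective]
    · intro x hx
      have := (hYa _ (hmem hx)).map (MulAut.conj m⁻¹).toMonoidHom
      exact mem_centralizer_singleton_iff.2 (by simpa [mul_assoc] using this.eq)
    · intro x hx
      have := mul_mem (mul_mem (inv_mem hm) (hYM (hmem hx))) hm
      simpa [mul_assoc] using this
    · intro g hgu hgy x hx
      refine ⟨m * g * m⁻¹ * (m * x * m⁻¹) * (m * g * m⁻¹)⁻¹, hYn _ ?_ ?_ _ (hmem hx), ?_⟩
      · have := hgy.map (MulAut.conj m).toMonoidHom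
        simpa [mul_assoc] using this
      · have := hgu.map (MulAut.conj m).toMonoidHom
        simpa using this
      · simp [mul_assoc]
  intro y hy
  have h1 := c.core_le_W (hD (mem_map_of_mem _ hy))
  exact (mem_normalizer_iff.1 (c.ax.norm (inv_mem hm)) y).2 (by simpa using h1)

/-- No central involution inverts a nontrivial `O_p(W)`. -/
theorem exists_fixed (c : TwistCase M W S u) {P : Subgroup G} (hPo : Odd (Nat.card P)) (hP : P ≠ ⊥)
    (hPM : ∀ m ∈ M, ∀ x ∈ P, m * x * m⁻¹ ∈ P) : ∃ x ∈ P, x ≠ 1 ∧ Commute x u := by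
  classical
  obtain ⟨y, hy, hy2, hyu⟩ := c.exists_second
  have hyu' := c.cent y hy
  have hnormP : ∀ s ∈ (S : Subgroup G), s ∈ normalizer (P : Set G) := fun s hs =>
    mem_normalizer_fintype (hPM s (c.le hs))
  by_contra hfix
  push Not at hfix
  have hbot : ∀ a ∈ (S : Subgroup G), orderOf a = 2 → P ⊓ centralizer ({a} : Set G) ≤ ⊥ := by
    intro a ha ha2 x hx
    obtain ⟨m, hm, rfl⟩ := c.fused a ha ha2
    refine mem_bot.2 (by_contra fun hx1 => hfix (m⁻¹ * x * m) ?_ ?_ ?_)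
    · simpa using hPM m⁻¹ (inv_mem hm) x hx.1
    · intro e
      refine hx1 ?_
      calc x = m * (m⁻¹ * x * m) * m⁻¹ := by group
        _ = 1 := by rw [e, mul_one, mul_inv_cancel]
    · have := (show Commute x (m * u * m⁻¹) from mem_centralizer_singleton_iff.1 hx.2).map
        (MulAut.conj m⁻¹).toMonoidHom
      simpa [mul_assoc] using this
  exact hP (le_bot_iff.1 (le_of_four hPo c.two_u hy2 hyu hyu' (hnormP u c.mem) (hnormP y hy)
    (hbot u c.mem c.two_u) (hbot y hy hy2) (hbot _ (mul_mem hy c.mem) (orderOf_two_mul hy2 c.two_u hyu hyu'))))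

theorem eq_bot_of_core (c : TwistCase M W S u) (e : coreC u = ⊥) : W = ⊥ := by
  classical
  by_contra hW
  obtain ⟨x, hx, hx1, hxu⟩ := c.exists_fixed c.ax.odd hW fun m hm x hx =>
    (mem_normalizer_iff.1 (c.ax.norm hm) x).1 hx
  have h1 : x ∈ coreC u := by
    rw [← c.fixW u c.mem c.two_u]
    exact ⟨hx, mem_centralizer_singleton_iff.2 hxu.eq⟩
  rw [e, mem_bot] at h1
  exact hx1 h1

/-- The normaliser in `W` of a subgroup normalised by `C(u)` is normalised by `C(u)`. -/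
theorem step (c : TwistCase M W S u) (hO : Cfsg.oddCore G = ⊥) (IH : IHyp.{v} (Nat.card G))
    {Q : Subgroup G} (hQ1 : Q ≠ ⊥) (hQW : Q ≤ W)
    (hQn : ∀ g : G, Commute g u → ∀ q ∈ Q, g * q * g⁻¹ ∈ Q) :
    ∀ g : G, Commute g u → ∀ y ∈ W ⊓ normalizer (Q : Set G), g * y * g⁻¹ ∈ W ⊓ normalizer (Q : Set G) := by
  classical
  haveI : Fact (Nat.Prime 2) := ⟨Nat.prime_two⟩
  have hu := c.mem
  have hu2 := c.two_u
  set K := normalizer (Q : Set G) with hKdef
  have hCK : ∀ g : G, Commute g u → g ∈ K := fun g hg => mem_normalizer_fintype fun q hq => hQn g hg q hq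
  have hSK : (S : Subgroup G) ≤ K := fun s hs => hCK s (c.cent s hs)
  have hKtop : K ≠ ⊤ := fun e => by
    haveI : Q.Normal := normalizer_eq_top_iff.1 e
    refine hQ1 (le_bot_iff.1 (hO ▸ Grp.le_pPrimeCore inferInstance ?_))
    exact Nat.coprime_two_right.2 (c.ax.odd.of_dvd_nat (card_dvd_of_le hQW))
  haveI := Grp.pPrimeCore_isNormal (p := 2) (G := ↥K)
  set π := QuotientGroup.mk' (Cfsg.pPrimeCore 2 ↥K) with hπdef
  have hπ : Function.Surjective π := QuotientGroup.mk'_surjective _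
  have hker : π.ker = Cfsg.pPrimeCore 2 ↥K := QuotientGroup.ker_mk' _
  have hkero : Odd (Nat.card π.ker) := by
    rw [hker]; exact Nat.coprime_two_right.1 Grp.pPrimeCore_coprime
  set R := π.ker.map K.subtype with hRdef
  have hRo : Odd (Nat.card R) := by rw [hRdef, card_map_of_injective K.subtype_injective]; exact hkero
  have hRn : ∀ g ∈ K, ∀ y ∈ R, g * y * g⁻¹ ∈ R := by
    rintro g hg _ ⟨k, hk, rfl⟩
    exact ⟨_, (π.normal_ker).conj_mem k hk ⟨g, hg⟩, rfl⟩
  have hRW : R ≤ W := by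
    obtain ⟨y, hy, hy2, hyu⟩ := c.exists_second
    have hRC : ∀ z ∈ (S : Subgroup G), orderOf z = 2 → R ⊓ centralizer ({z} : Set G) ≤ W := fun z hz hz2 =>
      c.le_W hz hz2 (hRo.of_dvd_nat (card_dvd_of_le inf_le_left)) (fun y hy => mem_centralizer_singleton_iff.1 hy.2)
        (fun g hg hgz y hy => ⟨hRn g (hCK g hg) y hy.1, mem_centralizer_singleton_iff.2
          ((hgz.mul_left (mem_centralizer_singleton_iff.1 hy.2)).mul_left hgz.inv_left).eq⟩)
    exact le_of_four hRo hu2 hy2 hyu (c.cent y hy)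
      (mem_normalizer_fintype (hRn u (hSK hu))) (mem_normalizer_fintype (hRn y (hSK hy)))
      (hRC u hu hu2) (hRC y hy hy2) (hRC _ (mul_mem hy hu) (orderOf_two_mul hy2 hu2 hyu (c.cent y hy)))
  have hkW : ∀ k : ↥K, k ∈ π.ker → (k : G) ∈ W := fun k hk => hRW ⟨k, hk, rfl⟩
  set M' := (M.subgroupOf K).map π with hM'
  set W' := (W.subgroupOf K).map π with hW'
  have hback : ∀ k : ↥K, π k ∈ M' → (k : G) ∈ M := by
    rintro k ⟨m, hm, e⟩
    have h1 : m⁻¹ * k ∈ π.ker := by rw [MonoidHom.mem_ker, map_mul, map_inv, e, inv_mul_cancel]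
    have h2 := mul_mem (show (m : G) ∈ M from hm) (c.ax.le (hkW _ h1))
    simpa using h2
  set S₀ : Sylow 2 ↥K := S.subtype hSK with hS₀
  set S' : Sylow 2 (↥K ⧸ Cfsg.pPrimeCore 2 ↥K) := S₀.mapSurjective hπ with hS'
  have hS'mem : ∀ x ∈ (S' : Subgroup (↥K ⧸ Cfsg.pPrimeCore 2 ↥K)), ∃ s : ↥K, (s : G) ∈ S ∧ π s = x := by
    intro x hx
    rw [hS', Sylow.coe_mapSurjective] at hx
    obtain ⟨s, hs, rfl⟩ := hx
    exact ⟨s, hs, rfl⟩
  have hinj : ∀ s : ↥K, (s : G) ∈ S → π s = 1 → (s : G) = 1 := fun s hs h1 => by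
    obtain ⟨k, hk⟩ := S.isPGroup'.exists_card_eq
    have hd : (S : Subgroup G) ⊓ W = ⊥ := Grp.inf_eq_bot_of_coprime (by
      rw [hk]; exact (Nat.coprime_two_left.2 c.ax.odd).pow_left k)
    exact mem_bot.1 (hd ▸ ⟨hs, hkW s h1⟩)
  -- lifting an involution of `M'`
  have hlift : ∀ x, orderOf x = 2 → x ∈ M' →
      ∃ a : ↥K, (a : G) ∈ M ∧ orderOf (a : G) = 2 ∧ π a = x := by
    rintro x hx ⟨m, hm, rfl⟩
    obtain ⟨a, haz, haa, hax⟩ := exists_invol_lift π hkero (mul_self_of_orderOf_two hx)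
    refine ⟨a, (zpowers_le.2 hm : zpowers m ≤ M.subgroupOf K) haz, ?_, hax⟩
    rw [Subgroup.orderOf_coe]
    exact orderOf_two_iff.2 ⟨haa, fun e => ne_one_of_orderOf_two hx (by rw [← hax, e, map_one])⟩
  have hM'top : M' ≠ ⊤ := fun e => by
    obtain ⟨d, hd, hdM⟩ := c.bad
    exact hdM (hback ⟨d, hCK d hd⟩ (e ▸ mem_top _))
  have hW'odd : Odd (Nat.card W') :=
    (c.ax.odd.of_dvd_nat (card_comap_dvd_of_injective W K.subtype K.subtype_injective)).of_dvd_nat
      (card_map_dvd (W.subgroupOf K) π)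
  have hM'n : M' ≤ normalizer (W' : Set (↥K ⧸ Cfsg.pPrimeCore 2 ↥K)) := by
    rintro _ ⟨m, hm, rfl⟩
    refine mem_normalizer_fintype ?_
    rintro _ ⟨w, hw, rfl⟩
    exact ⟨m * w * m⁻¹, (mem_normalizer_iff.1 (c.ax.norm hm) w).1 hw, by simp⟩
  have hax : AX M' W' := by
    refine ⟨hM'top, hW'odd, map_mono fun x hx => c.ax.le hx, hM'n, ?_, ?_⟩
    · intro x y g hx hy hne hxy hxM hyM hgx hgy
      obtain ⟨a, haM, ha2, rfl⟩ := hlift x hx hxM
      obtain ⟨k, hkM, rfl⟩ := hyM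
      obtain ⟨r, hr, hrc⟩ := exists_comm_lift π hkero (a := a) (k := k) (by rwa [← Subgroup.orderOf_coe])
        hxy.symm
      have hπk : π (r⁻¹ * k) = π k := by
        rw [map_mul, map_inv, MonoidHom.mem_ker.1 hr, inv_one, one_mul]
      have hrkM : r⁻¹ * k ∈ M.subgroupOf K := mul_mem (inv_mem (c.ax.le (hkW r hr))) hkM
      obtain ⟨b, hbz, hbb, hbπ⟩ := exists_invol_lift π hkero (k := r⁻¹ * k)
        (by rw [hπk]; exact mul_self_of_orderOf_two hy)
      obtain ⟨i, rfl⟩ := mem_zpowers_iff.1 hbz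
      have hb2 : orderOf (((r⁻¹ * k) ^ i : ↥K) : G) = 2 := by
        rw [Subgroup.orderOf_coe]
        exact orderOf_two_iff.2 ⟨hbb, fun e => ne_one_of_orderOf_two hy (by rw [← hπk, ← hbπ, e, map_one])⟩
      obtain ⟨g', rfl⟩ := hπ g
      refine mem_map_of_mem π (show g' ∈ M.subgroupOf K from ?_)
      refine c.ax.move a (((r⁻¹ * k) ^ i : ↥K) : G) g' ha2 hb2 ?_ ?_ haM
        (zpow_mem hrkM i : _) ?_ ?_
      · intro e
        exact hne (by rw [Subtype.ext e, hbπ, hπk])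
      · exact congrArg Subtype.val (hrc.zpow_left i).eq.symm
      · have h1 := hback (g' * a * g'⁻¹) (by rw [map_mul, map_mul, map_inv]; exact hgx)
        simpa using h1
      · have h1 := hback (g' * (r⁻¹ * k) ^ i * g'⁻¹) (by
          rw [map_mul, map_mul, map_inv, hbπ, hπk]; exact hgy)
        simpa using h1
    · intro x hxM hx
      obtain ⟨a, haM, ha2, rfl⟩ := hlift x hx hxM
      set H := M ⊓ K with hH
      obtain ⟨m, hm⟩ := exists_conj_mem_sylow (x := (⟨(a : G), haM, a.2⟩ : ↥H)) (p := 2) (n := 1)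
        (by rw [← Subgroup.orderOf_coe, pow_one]; exact ha2) (S.subtype (le_inf c.le hSK))
      have hms : (m : G) * a * (m : G)⁻¹ ∈ (S : Subgroup G) := hm
      obtain ⟨s, hs, hs2, hsne, hst⟩ := c.exists_partner_mem hms (by rw [orderOf_conj_eq, ha2])
      let t : ↥K := ⟨s, hSK hs⟩
      let m' : ↥K := ⟨m, m.2.2⟩
      refine ⟨π (m'⁻¹ * t * m'), mem_map_of_mem π (show _ ∈ M.subgroupOf K from
        mul_mem (mul_mem (inv_mem m.2.1) (c.le hs)) m.2.1), ?_, ?_, ?_⟩
      · have ht : orderOf t = 2 := by rw [← Subgroup.orderOf_coe]; exact hs2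
        refine orderOf_two_iff.2 ⟨?_, fun e => ?_⟩
        · rw [← map_mul, show m'⁻¹ * t * m' * (m'⁻¹ * t * m') = m'⁻¹ * (t * t) * m' by group,
            mul_self_of_orderOf_two ht, mul_one, inv_mul_cancel, map_one]
        · refine ne_one_of_orderOf_two hs2 (hinj t hs ?_)
          rw [map_mul, map_mul, map_inv] at e
          calc π t = π m' * ((π m')⁻¹ * π t * π m') * (π m')⁻¹ := by group
            _ = 1 := by rw [e, mul_one, mul_inv_cancel]
      · intro e
        refine hsne ?_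
        have h1 : π (t⁻¹ * (m' * a * m'⁻¹)) = 1 := by
          rw [map_mul, map_mul, map_mul, map_inv, map_inv, e, map_mul, map_mul, map_inv]
          group
        have h2 := hinj _ (by show _ ∈ (S : Subgroup G); simpa [t, m', mul_assoc] using mul_mem (inv_mem hs) hms) h1
        simp only [t, m', Subgroup.coe_mul, Subgroup.coe_inv, inv_mul_eq_one] at h2
        exact h2
      · rw [← map_mul, ← map_mul]
        refine congrArg π (Subtype.ext ?_)
        simp only [t, m', Subgroup.coe_mul, Subgroup.coe_inv]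
        calc (a : G) * ((m : G)⁻¹ * s * m) = (m : G)⁻¹ * ((m : G) * a * (m : G)⁻¹ * s) * m := by group
          _ = (m : G)⁻¹ * s * m * a := by rw [← hst.eq]; group
  have hS'le : (S' : Subgroup (↥K ⧸ Cfsg.pPrimeCore 2 ↥K)) ≤ M' := fun x hx => by
    obtain ⟨s, hs, rfl⟩ := hS'mem x hx
    exact mem_map_of_mem π (show s ∈ M.subgroupOf K from c.le hs)
  have hfix : ∀ x ∈ (S' : Subgroup (↥K ⧸ Cfsg.pPrimeCore 2 ↥K)), orderOf x = 2 →
      W' ⊓ centralizer ({x} : Set (↥K ⧸ Cfsg.pPrimeCore 2 ↥K)) = coreC x := by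
    intro x hx hx2
    obtain ⟨s, hs, rfl⟩ := hS'mem x hx
    have hss : (s : G) * s = 1 := hinj (s * s) (mul_mem hs hs) (by
      rw [map_mul]; exact mul_self_of_orderOf_two hx2)
    have hs2 : orderOf (s : G) = 2 := orderOf_two_iff.2 ⟨hss, fun e =>
      ne_one_of_orderOf_two hx2 (by rw [show s = 1 from Subtype.ext e, map_one])⟩
    have hs2' : orderOf s = 2 := by rw [← Subgroup.orderOf_coe]; exact hs2
    have hC : ∀ y : ↥K, Commute (π y) (π s) → ∃ r ∈ π.ker, Commute (r⁻¹ * y) s ∧ π (r⁻¹ * y) = π y :=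
      fun y hy => by
        obtain ⟨r, hr, hrc⟩ := exists_comm_lift π hkero hs2' hy
        exact ⟨r, hr, hrc, by rw [map_mul, map_inv, MonoidHom.mem_ker.1 hr, inv_one, one_mul]⟩
    refine le_antisymm ?_ ?_
    · set N := ((coreC (s : G)).subgroupOf K).map π with hN
      have hNle : N ≤ coreC (π s) := by
        refine Grp.le_centralizerPPrimeCore ?_ ?_ ?_
        · rintro _ ⟨y, hy, rfl⟩
          rw [← map_mul, ← map_mul]
          exact congrArg π (Subtype.ext (Grp.centralizerPPrimeCore_commute hy))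
        · rintro d hd _ ⟨y, hy, rfl⟩
          obtain ⟨d', rfl⟩ := hπ d
          obtain ⟨r, -, hrc, hrπ⟩ := hC d' hd
          refine ⟨r⁻¹ * d' * y * (r⁻¹ * d')⁻¹, ?_, by rw [map_mul, map_mul, map_inv, hrπ]⟩
          exact Grp.centralizerPPrimeCore_conj (a := (s : G)) (c := ((r⁻¹ * d' : ↥K) : G))
            (congrArg Subtype.val hrc.eq) hy
        · exact Nat.coprime_two_right.2 (((coreC_odd (s : G)).of_dvd_nat
            (card_comap_dvd_of_injective _ K.subtype K.subtype_injective)).of_dvd_nat (card_map_dvd _ π))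
      rintro _ ⟨⟨w, hw, rfl⟩, hwc⟩
      obtain ⟨r, hr, hrc, hrπ⟩ := hC w (mem_centralizer_singleton_iff.1 hwc)
      rw [← hrπ]
      refine hNle (mem_map_of_mem π ?_)
      show ((r⁻¹ * w : ↥K) : G) ∈ coreC (s : G)
      rw [← c.fixW s hs hs2]
      exact Subgroup.mem_inf.2 ⟨mul_mem (inv_mem (hkW r hr)) hw, mem_centralizer_singleton_iff.2 (congrArg Subtype.val hrc.eq)⟩
    · intro y hy
      have hyc : Commute y (π s) := Grp.centralizerPPrimeCore_commute hy
      refine ⟨?_, mem_centralizer_singleton_iff.2 hyc.eq⟩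
      obtain ⟨k, rfl⟩ := hπ y
      obtain ⟨r, -, hrc, hrπ⟩ := hC k hyc
      rw [← hrπ] at hy ⊢
      set Z : Subgroup G := ((coreC (π s)).comap π).map K.subtype ⊓ centralizer ({(s : G)} : Set G) with hZ
      have hZo : Odd (Nat.card Z) := Nat.not_even_iff_odd.1 fun hev => by
        obtain ⟨t, ⟨⟨t', ht', rfl⟩, -⟩, ht2⟩ := exists_orderOf_two_mem hev
        have h1 : π t' * π t' = 1 := by
          rw [← map_mul, show t' * t' = 1 from Subtype.ext (mul_self_of_orderOf_two ht2), map_one]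
        have h2 := eq_pow_sq (coreC_odd (π s)) (orderOf_dvd_iff_pow_eq_one.1
          ((coreC (π s)).orderOf_dvd_natCard ht'))
        rw [h1, one_pow] at h2
        exact (Nat.not_even_iff_odd.2 c.ax.odd) (even_card_of_mem ht2 (hkW t' (MonoidHom.mem_ker.2 h2)))
      have hZW : Z ≤ W := c.le_W hs hs2 hZo (fun z hz => mem_centralizer_singleton_iff.1 hz.2) (by
        intro g hgu hgs z hz
        obtain ⟨⟨z', hz', rfl⟩, hzc⟩ := hz
        refine ⟨⟨⟨g, hCK g hgu⟩ * z' * ⟨g, hCK g hgu⟩⁻¹, ?_, rfl⟩, mem_centralizer_singleton_iff.2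
          ((hgs.mul_left (mem_centralizer_singleton_iff.1 hzc)).mul_left hgs.inv_left).eq⟩
        show π (⟨g, hCK g hgu⟩ * z' * ⟨g, hCK g hgu⟩⁻¹) ∈ coreC (π s)
        rw [map_mul, map_mul, map_inv]
        exact Grp.centralizerPPrimeCore_conj
          ((show Commute (⟨g, hCK g hgu⟩ : ↥K) s from Subtype.ext hgs).map π).eq hz')
      refine mem_map_of_mem π (hZW ?_)
      exact ⟨⟨_, hy, rfl⟩, mem_centralizer_singleton_iff.2 (congrArg Subtype.val hrc.eq)⟩
  have hcard : Nat.card (↥K ⧸ Cfsg.pPrimeCore 2 ↥K) < Nat.card G :=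
    (Nat.card_le_card_of_surjective π hπ).trans_lt
      ((card_le_card_group K).lt_of_ne fun e => hKtop (eq_top_of_card_eq _ e))
  have hbot := IH _ hcard Grp.pPrimeCore_quotient_bot M' W' S' hS'le hax hfix
  intro g hg y hy
  have h1 : (⟨y, hy.2⟩ : ↥K) ∈ π.ker := MonoidHom.mem_ker.2 (mem_bot.1 (hbot ▸
    mem_map_of_mem π (show (⟨y, hy.2⟩ : ↥K) ∈ W.subgroupOf K from hy.1)))
  exact Subgroup.mem_inf.2 ⟨hkW _ (π.normal_ker.conj_mem _ h1 ⟨g, hCK g hg⟩),
    mul_mem (mul_mem (hCK g hg) hy.2) (inv_mem (hCK g hg))⟩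

/-- The twisted case is impossible. -/
theorem false_of_twist (c : TwistCase M W S u) (hO : Cfsg.oddCore G = ⊥) (hW : W ≠ ⊥)
    (IH : IHyp.{v} (Nat.card G)) : False := by
  classical
  have hu := c.mem
  have hu2 := c.two_u
  have hcu : coreC u ≠ ⊥ := fun e => hW (c.eq_bot_of_core e)
  -- a maximal member containing it
  have hfam : ({Q : Subgroup G | coreC u ≤ Q ∧ Q ≤ W ∧ ∀ g : G, Commute g u → ∀ q ∈ Q, g * q * g⁻¹ ∈ Q}).Nonempty :=
    ⟨coreC u, le_rfl, c.core_le_W, fun g hg q hq => Grp.centralizerPPrimeCore_conj hg.eq hq⟩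
  obtain ⟨Q, ⟨hQu, hQW, hQn⟩, hmax⟩ := Set.Finite.exists_maximal (Set.toFinite _) hfam
  have hQ1 : Q ≠ ⊥ := fun e => hcu (le_bot_iff.1 (e ▸ hQu))
  have hQtop : Q.subgroupOf W ≠ ⊤ := fun e => by
    have hWQ : W ≤ Q := subgroupOf_eq_top.1 e
    obtain ⟨d, hd, hdM⟩ := c.bad
    exact hdM (c.maxM (mem_normalizer_fintype fun w hw => hQW (hQn d hd w (hWQ hw))))
  refine false_of_member (X := ↥W) c.ax.odd hQtop ?_ ?_ ?_
  · intro e
    exact hQ1 (le_bot_iff.1 fun q hq => by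
      have h1 : (⟨q, hQW hq⟩ : ↥W) ∈ (⊥ : Subgroup ↥W) := e ▸ hq
      exact congrArg Subtype.val (mem_bot.1 h1 : _))
  · intro N hN hN1
    set N₁ : Subgroup G := (N.map (Q.subgroupOf W).subtype).map W.subtype with hN₁
    have hN₁Q : N₁ ≤ Q := by rintro _ ⟨_, ⟨x, -, rfl⟩, rfl⟩; exact x.2
    have hN₁ne : N₁ ≠ ⊥ := fun e => hN1 ((map_eq_bot_iff_of_injective _ (Q.subgroupOf W).subtype_injective).1
      ((map_eq_bot_iff_of_injective _ W.subtype_injective).1 e))
    have hN₁n : ∀ g : G, Commute g u → ∀ x ∈ N₁, g * x * g⁻¹ ∈ N₁ := by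
      rintro g hg _ ⟨_, ⟨x, hx, rfl⟩, rfl⟩
      have hgQ : g ∈ normalizer (Q : Set G) := mem_normalizer_fintype fun q hq => hQn g hg q hq
      let e := subgroupOfEquivOfLe hQW
      let φ : ↥(Q.subgroupOf W) ≃* ↥(Q.subgroupOf W) :=
        (e.trans (Q.normalizerMonoidHom ⟨g, hgQ⟩)).trans e.symm
      exact ⟨_, mem_map_of_mem _ ((characteristic_iff_le_comap.1 hN φ) hx), rfl⟩
    have hst := c.step hO IH hN₁ne (hN₁Q.trans hQW) hN₁n
    have hQN : Q ≤ W ⊓ normalizer (N₁ : Set G) := fun q hq => by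
      refine ⟨hQW hq, mem_normalizer_fintype ?_⟩
      rintro _ ⟨_, ⟨x, hx, rfl⟩, rfl⟩
      let q' : ↥(Q.subgroupOf W) := ⟨⟨q, hQW hq⟩, hq⟩
      haveI : N.Normal := normal_of_characteristic N
      exact ⟨_, mem_map_of_mem _ (Subgroup.Normal.conj_mem inferInstance x hx q'), rfl⟩
    intro y hy
    have h1 : (y : G) ∈ W ⊓ normalizer (N₁ : Set G) := by
      refine ⟨y.2, mem_normalizer_fintype ?_⟩
      rintro _ ⟨z, hz, rfl⟩
      exact ⟨y * z * y⁻¹, (mem_normalizer_iff.1 hy z).1 hz, rfl⟩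
    exact hmax ⟨hQu.trans hQN, inf_le_left, hst⟩ hQN h1
  · intro p hp hP
    haveI := Fact.mk hp
    set P := (Cfsg.pCore p ↥W).map W.subtype with hPdef
    obtain ⟨x, hxP, hx1, hxu⟩ := c.exists_fixed (P := P)
      (by rw [hPdef, card_map_of_injective W.subtype_injective]
          exact c.ax.odd.of_dvd_nat (card_subgroup_dvd_card _))
      (fun e => hP ((map_eq_bot_iff_of_injective _ W.subtype_injective).1 e))
      (fun m hm y hy => by
        obtain ⟨v, hv, rfl⟩ := hy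
        exact ⟨_, (characteristic_iff_le_comap.1 inferInstance
          (W.normalizerMonoidHom ⟨m, c.ax.norm hm⟩)) hv, rfl⟩)
    obtain ⟨v, hv, rfl⟩ := hxP
    intro e
    have hvQ : (v : G) ∈ Q := hQu (c.fixW u hu hu2 ▸ ⟨v.2, mem_centralizer_singleton_iff.2 hxu.eq⟩)
    have h1 : v ∈ (⊥ : Subgroup ↥W) := e ▸ ⟨hv, hvQ⟩
    exact hx1 (congrArg Subtype.val (mem_bot.1 h1) : _)

end TwistCase

end Cfsg.Agent.Invol.Core2
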