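import Cfsg.Agent.Lib.Invol.Core2.BalanceLocal
import Cfsg.Agent.Lib.Invol.ZStar
import Cfsg.Agent.Lib.Local.CoreConsumers.Connected
import Cfsg.Prelude.Def_TwoFusion

/-!
# Two-generated core, central involutions all bad: tools

An odd subgroup of `C(a)` normalised by `C(u) ∩ C(a)` lies in `W`, and no central involution inverts a
nontrivial `O_p(W)`.
-/

set_option autoImplicit false
set_option linter.unusedSectionVars false
set_option linter.style.haveILetI false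

namespace Cfsg.Agent.Invol.Core2

open Subgroup

universe u

variable {G : Type u} [Group G] [Finite G] {M W : Subgroup G} {S : Sylow 2 G}

/-- The hypotheses of the case of central bad involutions. -/
structure CentralCase (M W : Subgroup G) (S : Sylow 2 G) : Prop where
  ax : AX M W
  data : CentralData M S
  rank : ∀ a ∈ (S : Subgroup G), ∀ b ∈ (S : Subgroup G), orderOf a = 2 → orderOf b = 2 →
    ∃ c ∈ (S : Subgroup G), orderOf c = 2 ∧ c ≠ a ∧ c ≠ b ∧ c ≠ a * b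
  fixW : ∀ a ∈ (S : Subgroup G), orderOf a = 2 → W ⊓ centralizer ({a} : Set G) = coreC a
  maxM : normalizer (W : Set G) ≤ M

namespace CentralCase

/-- The involutions of `S` and `1`. -/
def B (c : CentralCase M W S) : Subgroup G where
  carrier := {x | x ∈ (S : Subgroup G) ∧ x * x = 1}
  one_mem' := ⟨one_mem _, one_mul 1⟩
  mul_mem' := fun {x y} hx hy => by
    refine ⟨mul_mem hx.1 hy.1, ?_⟩
    rcases eq_or_ne y 1 with rfl | hy1
    · simpa using hx.2
    · have hc : Commute x y := c.data.cen y hy.1 (orderOf_two_iff.2 ⟨hy.2, hy1⟩) x hx.1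
      calc x * y * (x * y) = x * (y * x) * y := by group
        _ = x * x * (y * y) := by rw [← hc.eq]; group
        _ = 1 := by rw [hx.2, hy.2, one_mul]
  inv_mem' := fun {x} hx => ⟨inv_mem hx.1, by rw [← mul_inv_rev, hx.2, inv_one]⟩

theorem mem_B (c : CentralCase M W S) {x : G} : x ∈ c.B ↔ x ∈ (S : Subgroup G) ∧ x * x = 1 := Iff.rfl

theorem orderOf_of_B (c : CentralCase M W S) {x : G} (hx : x ∈ c.B) (h1 : x ≠ 1) : orderOf x = 2 :=
  orderOf_two_iff.2 ⟨hx.2, h1⟩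

theorem mem_B_of (c : CentralCase M W S) {x : G} (hx : x ∈ (S : Subgroup G)) (h2 : orderOf x = 2) : x ∈ c.B :=
  ⟨hx, mul_self_of_orderOf_two h2⟩

theorem B_comm (c : CentralCase M W S) {x y : G} (hx : x ∈ (S : Subgroup G)) (hy : y ∈ c.B) : Commute x y := by
  rcases eq_or_ne y 1 with rfl | h1
  · exact Commute.one_right x
  · exact c.data.cen y hy.1 (c.orderOf_of_B hy h1) x hx

theorem core_le (c : CentralCase M W S) {a : G} (ha : a ∈ (S : Subgroup G)) (ha2 : orderOf a = 2) :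
    coreC a ≤ W :=
  c.fixW a ha ha2 ▸ inf_le_left

theorem B_normalizes (c : CentralCase M W S) {x : G} (hx : x ∈ c.B) {D : Subgroup G}
    (hD : ∀ s ∈ c.B, ∀ d ∈ D, s * d * s⁻¹ ∈ D) : x ∈ normalizer (D : Set G) :=
  mem_normalizer_fintype fun d hd => hD x hx d hd

/-- Generation by the centralisers of the involutions of a four group avoiding `a`. -/
theorem le_of_four (c : CentralCase M W S) {a : G} {D K : Subgroup G} (hDo : Odd (Nat.card D))
    (hD : ∀ s ∈ c.B, ∀ d ∈ D, s * d * s⁻¹ ∈ D) (ha : a ∈ (S : Subgroup G)) (ha2 : orderOf a = 2)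
    (hK : ∀ z ∈ c.B, z ≠ 1 → z ≠ a → ∀ d ∈ D, Commute d z → d ∈ K) : D ≤ K := by
  classical
  obtain ⟨x, hx, hx2, hxa, -, -⟩ := c.rank a ha a ha ha2 ha2
  obtain ⟨y, hy, hy2, hya, hyx, hyax⟩ := c.rank a ha x hx ha2 hx2
  set A : Subgroup G := closure ({x, y} : Set G) with hA
  have hAB : A ≤ c.B := (closure_le _).2 (by
    rintro z (rfl | rfl)
    exacts [c.mem_B_of hx hx2, c.mem_B_of hy hy2])
  haveI : IsMulCommutative A := ⟨⟨fun p q => Subtype.ext (c.B_comm (hAB p.2).1 (hAB q.2)).eq⟩⟩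
  have hxy : x * y = y * x := (c.B_comm hx (c.mem_B_of hy hy2)).eq
  have hxx := mul_self_of_orderOf_two hx2
  have hyy := mul_self_of_orderOf_two hy2
  have key : ∀ z ∈ A, z = 1 ∨ z = x ∨ z = y ∨ z = x * y := fun z hz => by
    induction hz using closure_induction with
    | mem z hz => rcases hz with rfl | rfl <;> simp
    | one => exact Or.inl rfl
    | mul p q _ _ ep eq =>
      have h1 : x * (x * y) = y := by rw [← mul_assoc, hxx, one_mul]
      have h2 : y * (x * y) = x := by rw [hxy, ← mul_assoc, hyy, one_mul]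
      have h3 : x * y * x = y := by rw [mul_assoc, ← hxy, ← mul_assoc, hxx, one_mul]
      have h4 : x * y * y = x := by rw [mul_assoc, hyy, mul_one]
      have h5 : x * y * (x * y) = 1 := by rw [← mul_assoc, h3, hyy]
      rcases ep with rfl | rfl | rfl | rfl <;> rcases eq with rfl | rfl | rfl | rfl <;>
        simp [hxx, hyy, h1, h2, h3, h4, h5, hxy.symm]
    | inv z hz ez =>
      rwa [inv_eq_of_mul_eq_one_right ((hAB hz).2)]
  have hne : ∀ z ∈ A, z ≠ 1 → z ≠ a := fun z hz h1 e => by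
    rcases key z hz with h | h | h | h
    · exact h1 h
    · exact hxa (h.symm.trans e)
    · exact hya (h.symm.trans e)
    · refine hyax ?_
      rw [← e, h, hxy, mul_assoc, hxx, mul_one]
  have hncyc : ¬ IsCyclic A := fun hc => by
    obtain ⟨g, hg⟩ := hc.exists_generator
    have hgg : g * g = 1 := Subtype.ext (hAB g.2).2
    have k2 : ∀ z : A, z = 1 ∨ z = g := fun z => by
      obtain ⟨i, rfl⟩ := mem_zpowers_iff.1 (hg z)
      rcases Int.even_or_odd i with ⟨j, rfl⟩ | ⟨j, rfl⟩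
      · exact Or.inl (by rw [← two_mul, zpow_mul, zpow_two, hgg, one_zpow])
      · exact Or.inr (by rw [zpow_add, zpow_mul, zpow_two, hgg, one_zpow, one_mul, zpow_one])
    rcases k2 ⟨x, subset_closure (Or.inl rfl)⟩ with e | e
    · exact ne_one_of_orderOf_two hx2 (congrArg Subtype.val e)
    rcases k2 ⟨y, subset_closure (Or.inr rfl)⟩ with e' | e'
    · exact ne_one_of_orderOf_two hy2 (congrArg Subtype.val e')
    exact hyx (congrArg Subtype.val (e'.trans e.symm))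
  have hAn : A ≤ normalizer (D : Set G) := fun z hz => c.B_normalizes (hAB hz) hD
  have hp : IsPGroup 2 A := fun z => ⟨1, Subtype.ext (by rw [pow_one, pow_two]; exact (hAB z.2).2)⟩
  obtain ⟨k, hk⟩ := hp.exists_card_eq
  have hcop : (Nat.card A).Coprime (Nat.card D) := by rw [hk]; exact (Nat.coprime_two_left.2 hDo).pow_left k
  rw [← Grp.generated_by_centralizers A D hncyc hAn hcop]
  exact iSup₂_le fun z hz d hd =>
    hK z (hAB hz.1) hz.2 (hne z hz.1 hz.2) d hd.1 (mem_centralizer_singleton_iff.1 hd.2)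

/-- An odd subgroup of `C(a)` normalised by `S` and by `C(u) ∩ C(a)` lies in `W`. -/
theorem le_W (c : CentralCase M W S) {u a : G} (hu : u ∈ (S : Subgroup G)) (hu2 : orderOf u = 2)
    (ha : a ∈ (S : Subgroup G)) (ha2 : orderOf a = 2) {Y : Subgroup G} (hYo : Odd (Nat.card Y))
    (hYa : ∀ y ∈ Y, Commute y a) (hYn : ∀ g : G, Commute g u → Commute g a → ∀ y ∈ Y, g * y * g⁻¹ ∈ Y) :
    Y ≤ W := by
  by_cases hau : a = u
  · subst hau
    refine le_trans ?_ (c.core_le ha ha2)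
    exact Grp.le_centralizerPPrimeCore (fun y hy => (hYa y hy).eq) (fun g hg => hYn g hg hg)
      (Nat.coprime_two_right.2 hYo)
  have hYB : ∀ s ∈ c.B, ∀ d ∈ Y, s * d * s⁻¹ ∈ Y := fun s hs =>
    hYn s (c.B_comm hu hs).symm (c.B_comm ha hs).symm
  have hYM : Y ≤ M := c.le_of_four hYo hYB ha ha2 fun z hz hz1 hza d hd hdz =>
    c.ax.bad_fix ha2 (c.data.le ha) (c.orderOf_of_B hz hz1) (c.data.le hz.1) hza (c.B_comm ha hz).symm.eq
      (hYa d hd).eq (by rw [hdz.eq, mul_inv_cancel_right]; exact c.data.le hz.1)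
  have hYu : ∀ y ∈ Y, Commute y u → y ∈ coreC u := fun y hy hyu => by
    refine CentralData.le_core c.ax c.data hu hu2 ha ha2 hau (D := Y ⊓ centralizer ({u} : Set G))
      (hYo.of_dvd_nat (card_dvd_of_le inf_le_left)) (fun x hx => mem_centralizer_singleton_iff.1 hx.2)
      (fun x hx => hYa x hx.1) (fun g hg hg' x hx => ⟨hYn g hg hg' x hx.1, mem_centralizer_singleton_iff.2
        ((hg.mul_left (mem_centralizer_singleton_iff.1 hx.2)).mul_left hg.inv_left).eq⟩)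
      ⟨hy, mem_centralizer_singleton_iff.2 hyu.eq⟩
  intro r hr
  have hua : Commute u a := c.B_comm hu (c.mem_B_of ha ha2)
  have he : r * u * r⁻¹ * u⁻¹ ∈ coreC a ⊓ Y := by
    obtain ⟨b, hb, hbb, hbX⟩ := c.data.core a ha ha2 u hu hu2 r (hYa r hr) (hYM hr)
    obtain ⟨e, hedef⟩ : ∃ e, e = r * u * r⁻¹ * u⁻¹ := ⟨_, rfl⟩
    rw [← hedef]
    have heY : e ∈ Y := by
      have h1 := mul_mem hr (hYn u (Commute.refl u) hua _ (inv_mem hr))
      rwa [show r * (u * r⁻¹ * u⁻¹) = r * u * r⁻¹ * u⁻¹ by group, ← hedef] at h1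
    refine ⟨?_, heY⟩
    obtain ⟨k, hkdef⟩ : ∃ k, k = b * u⁻¹ := ⟨_, rfl⟩
    have he : e = r * u * r⁻¹ * b⁻¹ * k := by rw [hedef, hkdef]; group
    have hkB : k ∈ c.B := hkdef ▸ mul_mem (show b ∈ c.B from ⟨hb, hbb⟩) (inv_mem (c.mem_B_of hu hu2))
    have hka : Commute k a := c.B_comm hkB.1 (c.mem_B_of ha ha2)
    have hee : e * e ∈ coreC a := by
      have h1 := mul_mem (mul_mem hbX (Grp.centralizerPPrimeCore_conj hka.eq hbX))
        (show k * k ∈ coreC a by rw [hkB.2]; exact one_mem _)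
      rwa [show r * u * r⁻¹ * b⁻¹ * (k * (r * u * r⁻¹ * b⁻¹) * k⁻¹) * (k * k) =
        r * u * r⁻¹ * b⁻¹ * k * (r * u * r⁻¹ * b⁻¹ * k) by group, ← he] at h1
    rw [eq_pow_sq hYo (orderOf_dvd_iff_pow_eq_one.1 (Y.orderOf_dvd_natCard heY))]
    exact pow_mem hee _
  obtain ⟨s, hs, hsc⟩ := exists_adjust ((coreC_odd a).of_dvd_nat (card_dvd_of_le inf_le_left)) hu2 he
  have h2 := c.core_le hu hu2 (hYu _ (mul_mem (inv_mem hs.2) hr) hsc)
  have h3 := mul_mem (c.core_le ha ha2 hs.1) h2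
  rwa [mul_inv_cancel_left] at h3

/-- No central involution inverts a nontrivial `O_p(W)`. -/
theorem exists_fixed (c : CentralCase M W S) {u : G} (hu : u ∈ (S : Subgroup G)) (hu2 : orderOf u = 2)
    {P : Subgroup G} (hPo : Odd (Nat.card P)) (hP : P ≠ ⊥) (hPM : ∀ m ∈ M, ∀ x ∈ P, m * x * m⁻¹ ∈ P) :
    ∃ x ∈ P, x ≠ 1 ∧ Commute x u := by
  classical
  haveI : Fact (Nat.Prime 2) := ⟨Nat.prime_two⟩
  by_contra hfix
  push Not at hfix
  have huM := c.data.le hu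
  -- `u` inverts `P`
  have hinv : ∀ x ∈ P, u * x * u⁻¹ = x⁻¹ := by
    have huu := mul_self_of_orderOf_two hu2
    have hui := inv_of_orderOf_two hu2
    let φ : P → P := fun x => ⟨(x : G)⁻¹ * (u * x * u⁻¹), mul_mem (inv_mem x.2) (hPM u huM x x.2)⟩
    have hinj : Function.Injective φ := fun x y e => by
      have e' : (x : G)⁻¹ * (u * x * u⁻¹) = (y : G)⁻¹ * (u * y * u⁻¹) := congrArg Subtype.val e
      have h1 : Commute ((y : G) * (x : G)⁻¹) u := by
        show (y : G) * (x : G)⁻¹ * u = u * ((y : G) * (x : G)⁻¹)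
        calc (y : G) * (x : G)⁻¹ * u = y * ((x : G)⁻¹ * (u * x * u⁻¹)) * u * (x : G)⁻¹ := by group
          _ = y * ((y : G)⁻¹ * (u * y * u⁻¹)) * u * (x : G)⁻¹ := by rw [e']
          _ = u * ((y : G) * (x : G)⁻¹) := by group
      by_contra hne
      refine hfix _ (mul_mem y.2 (inv_mem x.2)) (fun h2 => hne (Subtype.ext (mul_inv_eq_one.1 h2).symm)) h1
    intro x hx
    obtain ⟨y, hy⟩ := (Finite.injective_iff_surjective.1 hinj) ⟨x, hx⟩
    have hy' : (y : G)⁻¹ * (u * y * u⁻¹) = x := congrArg Subtype.val hy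
    rw [← hy', hui]
    calc u * ((y : G)⁻¹ * (u * y * u)) * u = u * (y : G)⁻¹ * u * y * (u * u) := by group
      _ = (u * (y : G) * u)⁻¹ * y := by
          rw [huu, mul_one, _root_.mul_inv_rev, _root_.mul_inv_rev, hui, ← mul_assoc]
      _ = ((y : G)⁻¹ * (u * y * u))⁻¹ := by group
  obtain ⟨x₁, hx₁, hx₁1⟩ := P.ne_bot_iff_exists_ne_one.1 hP |> fun ⟨x, hx⟩ =>
    (⟨x, x.2, fun e => hx (Subtype.ext e)⟩ : ∃ x : G, x ∈ P ∧ x ≠ 1)
  -- nothing both inverts and centralises `P`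
  have hnot : ∀ e : G, (∀ x ∈ P, e * x * e⁻¹ = x⁻¹) → (∀ x ∈ P, e * x * e⁻¹ = x) → False := fun e hi hc => by
    have h1 : x₁ * x₁ = 1 := mul_eq_one_iff_eq_inv.2 ((hc x₁ hx₁).symm.trans (hi x₁ hx₁))
    exact hx₁1 (by
      have h2 := eq_pow_sq hPo (orderOf_dvd_iff_pow_eq_one.1 (P.orderOf_dvd_natCard hx₁))
      rwa [h1, one_pow] at h2)
  obtain ⟨b, hbB, hb1, hbu, hb⟩ : ∃ b ∈ c.B, b ≠ 1 ∧ b ≠ u ∧
      ((∀ x ∈ P, b * x * b⁻¹ = x) ∨ ∀ k ∈ c.B, k ≠ 1 → ¬ ∀ x ∈ P, k * x * k⁻¹ = x) := by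
    by_cases hk : ∃ k ∈ c.B, k ≠ 1 ∧ ∀ x ∈ P, k * x * k⁻¹ = x
    · obtain ⟨k, hkB, hk1, hk⟩ := hk
      exact ⟨k, hkB, hk1, fun e => hnot k (e ▸ hinv) hk, Or.inl hk⟩
    · push Not at hk
      obtain ⟨y, hy, hy2, hyu, -, -⟩ := c.rank u hu u hu hu2 hu2
      refine ⟨y, c.mem_B_of hy hy2, ne_one_of_orderOf_two hy2, hyu, Or.inr fun k hkB hk1 hall => ?_⟩
      obtain ⟨x, hx, hxk⟩ := hk k hkB hk1
      exact hxk (hall x hx)
  have hb2 := c.orderOf_of_B hbB hb1
  have hbM := c.data.le hbB.1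
  have hub : Commute u b := c.B_comm hu hbB
  obtain ⟨f, hf, hf2, hfb, hnotMem, hcov⟩ := c.data.cls b hbB.1 hb2
  set L := closure (classIn b f) with hL
  have hfM := c.data.le hf
  have hfc : Commute f b := c.B_comm hf hbB
  have hclC : classIn b f ⊆ (centralizer ({b} : Set G) : Set G) := by
    rintro _ ⟨g, hg, rfl⟩
    exact mem_centralizer_singleton_iff.2 ((hg.mul_left hfc).mul_left hg.inv_left).eq
  have hLb : ∀ l ∈ L, Commute l b := fun l hl =>
    mem_centralizer_singleton_iff.1 ((closure_le _).2 hclC hl)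
  have hLn : ∀ g : G, Commute g b → ∀ l ∈ L, g * l * g⁻¹ ∈ L := fun g hg l hl => by
    have h1 : L.map (MulAut.conj g).toMonoidHom ≤ L := by
      rw [hL, MonoidHom.map_closure, closure_le]
      rintro _ ⟨_, ⟨e, he, rfl⟩, rfl⟩
      refine subset_closure ⟨g * e, hg.mul_left he, ?_⟩
      simp [MulAut.conj_apply, mul_assoc]
    exact h1 ⟨l, hl, rfl⟩
  -- the member `w₀` of the class among `u`, `u * b`
  obtain ⟨j, hj, w₀, hw₀def, hw₀⟩ : ∃ j, (j = 1 ∨ j = b) ∧ ∃ w₀, w₀ = u * j ∧ w₀ ∈ classIn b f := by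
    rcases hcov u hu2 hub (fun e => hbu e.symm) with h | h
    · exact ⟨1, Or.inl rfl, u, (mul_one u).symm, h⟩
    · exact ⟨b, Or.inr rfl, u * b, rfl, h⟩
  have hjB : j ∈ c.B := by rcases hj with rfl | rfl; exacts [one_mem _, hbB]
  have hw₀B : w₀ ∈ c.B := hw₀def ▸ mul_mem (c.mem_B_of hu hu2) hjB
  have hw₀L : w₀ ∈ L := subset_closure hw₀
  have hw₀1 : w₀ ≠ 1 := fun e => by
    obtain ⟨g, -, hg⟩ := hw₀
    rw [e, conj_eq_one_iff] at hg
    exact ne_one_of_orderOf_two hf2 hg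
  have hw₀2 := c.orderOf_of_B hw₀B hw₀1
  have hw₀b : w₀ ≠ b := fun e => hnotMem (e ▸ hw₀L)
  have hw₀M := c.data.le hw₀B.1
  have hcj : ∀ g : G, Commute g b → g * j * g⁻¹ = j := fun g hg => by
    rcases hj with rfl | rfl
    · simp
    · rw [hg.eq, mul_inv_cancel_right]
  -- conjugates of `u` by elements of `M` invert `P`
  have hinv' : ∀ m ∈ M, ∀ x ∈ P, m * u * m⁻¹ * x * (m * u * m⁻¹)⁻¹ = x⁻¹ := fun m hm x hx => by
    have h1 := hinv (m⁻¹ * x * m) (by simpa using hPM m⁻¹ (inv_mem hm) x hx)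
    calc m * u * m⁻¹ * x * (m * u * m⁻¹)⁻¹ = m * (u * (m⁻¹ * x * m) * u⁻¹) * m⁻¹ := by group
      _ = m * (m⁻¹ * x * m)⁻¹ * m⁻¹ := by rw [h1]
      _ = x⁻¹ := by group
  have hclass : ∀ y ∈ classIn b f, y ∈ M → ∃ g ∈ M, Commute g b ∧ y = g * w₀ * g⁻¹ := by
    rintro _ ⟨g, hg, rfl⟩ hyM
    obtain ⟨g₀, hg₀, hg₀f⟩ := hw₀
    refine ⟨g * g₀⁻¹, ?_, hg.mul_left hg₀.inv_left, by rw [← hg₀f]; group⟩
    refine c.ax.bad_fix hb2 hbM hw₀2 hw₀M hw₀b (c.B_comm hw₀B.1 hbB).eq (hg.mul_left hg₀.inv_left).eq ?_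
    rwa [← hg₀f, show g * g₀⁻¹ * (g₀ * f * g₀⁻¹) * (g * g₀⁻¹)⁻¹ = g * f * g⁻¹ by group]
  -- `w₀` is isolated in `L`
  have hiso : ∀ l ∈ L, Commute w₀ (l * w₀ * l⁻¹) → l * w₀ * l⁻¹ = w₀ := by
    intro l hl hcomm
    obtain ⟨t, htdef⟩ : ∃ t, t = l * w₀ * l⁻¹ := ⟨_, rfl⟩
    rw [← htdef] at hcomm ⊢
    have htL : t ∈ L := htdef ▸ hLn l (hLb l hl) w₀ hw₀L
    have hlb := hLb l hl
    have htM : t ∈ M := c.ax.bad_fix hb2 hbM hw₀2 hw₀M hw₀b (c.B_comm hw₀B.1 hbB).eq (hLb t htL).eq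
      (by rw [← hcomm.eq, mul_inv_cancel_right]; exact hw₀M)
    have hlM : l ∈ M := c.ax.bad_fix hb2 hbM hw₀2 hw₀M hw₀b (c.B_comm hw₀B.1 hbB).eq hlb.eq (htdef ▸ htM)
    by_contra hne
    obtain ⟨e, hedef⟩ : ∃ e, e = t * w₀ := ⟨_, rfl⟩
    have ht2 : orderOf t = 2 := by rw [htdef, orderOf_conj_eq, hw₀2]
    have he2 : orderOf e = 2 := orderOf_two_iff.2 ⟨by
      rw [hedef]
      calc t * w₀ * (t * w₀) = t * (w₀ * t) * w₀ := by group
        _ = t * t * (w₀ * w₀) := by rw [hcomm.eq]; group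
        _ = 1 := by rw [mul_self_of_orderOf_two ht2, mul_self_of_orderOf_two hw₀2, one_mul],
      fun h1 => hne (by rw [hedef, mul_eq_one_iff_eq_inv, inv_of_orderOf_two hw₀2] at h1; exact h1)⟩
    have heu : e = l * u * l⁻¹ * u := by
      have h1 : t = l * u * l⁻¹ * j := by
        rw [htdef, hw₀def]
        calc l * (u * j) * l⁻¹ = l * u * l⁻¹ * (l * j * l⁻¹) := by group
          _ = l * u * l⁻¹ * j := by rw [hcj l hlb]
      rw [hedef, h1, hw₀def, mul_assoc (l * u * l⁻¹) j, show j * (u * j) = u by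
        rw [← mul_assoc, ← (c.B_comm hu hjB).eq, mul_assoc, hjB.2, mul_one]]
    have hecent : ∀ x ∈ P, e * x * e⁻¹ = x := fun x hx => by
      rw [heu]
      calc l * u * l⁻¹ * u * x * (l * u * l⁻¹ * u)⁻¹ = l * u * l⁻¹ * (u * x * u⁻¹) * (l * u * l⁻¹)⁻¹ := by group
        _ = x := by rw [hinv x hx, hinv' l hlM x⁻¹ (inv_mem hx), inv_inv]
    have heM : e ∈ M := hedef ▸ mul_mem htM hw₀M
    rcases hb with hb | hb
    · -- `b` centralises `P`
      have heb : Commute e b := hedef ▸ (hLb t htL).mul_left (c.B_comm hw₀B.1 hbB)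
      have heL : e ∈ L := hedef ▸ mul_mem htL hw₀L
      have hne' : e ≠ b := fun h1 => hnotMem (h1 ▸ heL)
      rcases hcov e he2 heb hne' with h | h
      · obtain ⟨g, hgM, hgb, hge⟩ := hclass e h heM
        refine hnot e (fun x hx => ?_) hecent
        have h1 : e = g * u * g⁻¹ * j := by
          rw [hge, hw₀def]
          calc g * (u * j) * g⁻¹ = g * u * g⁻¹ * (g * j * g⁻¹) := by group
            _ = g * u * g⁻¹ * j := by rw [hcj g hgb]
        have hjx : j * x * j⁻¹ = x := by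
          rcases hj with rfl | rfl
          · simp
          · exact hb x hx
        rw [h1]
        calc g * u * g⁻¹ * j * x * (g * u * g⁻¹ * j)⁻¹ = g * u * g⁻¹ * (j * x * j⁻¹) * (g * u * g⁻¹)⁻¹ := by group
          _ = x⁻¹ := by rw [hjx, hinv' g hgM x hx]
      · exact hnotMem ((mul_mem_cancel_left heL).1 (subset_closure h))
    · -- conjugate `e` into `S`
      obtain ⟨Q, hQ⟩ := (IsPGroup.of_card (n := 1) (show Nat.card ↥(zpowers (⟨e, heM⟩ : M)) = 2 ^ 1 by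
        rw [Nat.card_zpowers, Subgroup.orderOf_mk, he2, pow_one])).exists_le_sylow
      obtain ⟨m, hm⟩ := MulAction.exists_smul_eq M Q (S.subtype c.data.le)
      have hmem : (m : G) * e * (m : G)⁻¹ ∈ (S : Subgroup G) := by
        have h1 : m * ⟨e, heM⟩ * m⁻¹ ∈ ((S.subtype c.data.le : Sylow 2 M) : Subgroup M) := by
          rw [← hm]
          exact ⟨⟨e, heM⟩, hQ (mem_zpowers _), rfl⟩
        exact h1
      refine hb _ (c.mem_B_of hmem (by rw [orderOf_conj_eq, he2]))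
        (fun h1 => ne_one_of_orderOf_two he2 (conj_eq_one_iff.1 h1)) fun x hx => ?_
      have h2 := hecent ((m : G)⁻¹ * x * m) (by simpa using hPM (m : G)⁻¹ (inv_mem m.2) x hx)
      calc (m : G) * e * (m : G)⁻¹ * x * ((m : G) * e * (m : G)⁻¹)⁻¹ =
            m * (e * ((m : G)⁻¹ * x * m) * e⁻¹) * (m : G)⁻¹ := by group
        _ = x := by rw [h2]; group
  -- so `L` lies in `M`
  obtain ⟨c₀, hc₀, hc₀M⟩ := c.data.bad b hbB.1 hb2
  refine hc₀M (c.ax.bad_fix hb2 hbM hf2 hfM hfb hfc.eq hc₀.eq ?_)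
  have hLM : L ≤ M := by
    intro l hl
    have hz := ZStar.commutator_mem_oddCore _ ↥L rfl ⟨w₀, hw₀L⟩
      ⟨by rw [← Subgroup.orderOf_coe]; exact hw₀2, fun g hg => Subtype.ext
        (hiso g g.2 (congrArg Subtype.val hg.eq : _))⟩ ⟨l, hl⟩
    have hOX : (Cfsg.pPrimeCore 2 ↥L).map L.subtype ≤ coreC b := by
      refine Grp.le_centralizerPPrimeCore (fun y hy => (hLb y (map_subtype_le _ hy)).eq) ?_ ?_
      · intro g hg y hy
        obtain ⟨v, hv, rfl⟩ := hy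
        have hgn : g ∈ normalizer (L : Set G) := mem_normalizer_fintype fun l hl => hLn g hg l hl
        exact ⟨L.normalizerMonoidHom ⟨g, hgn⟩ v, (characteristic_iff_le_comap.1 inferInstance _) hv, rfl⟩
      · rw [card_map_of_injective L.subtype_injective]
        exact Grp.pPrimeCore_coprime
    have h1 : w₀ * l * w₀⁻¹ * l⁻¹ ∈ M := c.ax.le (c.core_le hbB.1 hb2 (hOX ⟨_, hz, rfl⟩))
    have h2 : l * w₀⁻¹ * l⁻¹ ∈ M := by
      have := mul_mem (inv_mem hw₀M) h1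
      simpa [mul_assoc] using this
    refine c.ax.bad_fix hb2 hbM hw₀2 hw₀M hw₀b (c.B_comm hw₀B.1 hbB).eq (hLb l hl).eq ?_
    rwa [inv_of_orderOf_two hw₀2] at h2
  exact hLM (subset_closure ⟨c₀, hc₀, rfl⟩)

end CentralCase

end Cfsg.Agent.Invol.Core2
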