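import Cfsg.Agent.Lib.Invol.Core2.ClassHalf
import Cfsg.Agent.Lib.Grp.Frattini

/-!
# Central bad involutions: every involution is central

If the central involutions of the Sylow subgroup `S` are bad and at least three in number, the commutators of `S`
with its involutions lie in every group generated by a closed class, so they avoid the central involutions and are
trivial.
-/

set_option autoImplicit false
set_option linter.unusedSectionVars false
set_option linter.style.haveILetI false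

namespace Cfsg.Agent.Invol.Core2

open Subgroup

universe v

variable {G : Type v} [Group G] [Finite G] {M W : Subgroup G} {S : Sylow 2 G}

/-- Two central involutions of a Sylow subgroup are not fused in the centraliser of their product. -/
theorem not_fused (S : Sylow 2 G) {u f : G} (hu : u ∈ (S : Subgroup G)) (hu2 : orderOf u = 2)
    (huc : ∀ s ∈ (S : Subgroup G), Commute s u) (hf : f ∈ (S : Subgroup G))
    (hfc : ∀ s ∈ (S : Subgroup G), Commute s f) : f * u ∉ classIn u f := by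
  haveI : Fact (Nat.Prime 2) := ⟨Nat.prime_two⟩
  rintro ⟨c, hc, e⟩
  set C := centralizer ({u} : Set G)
  have hSC : (S : Subgroup G) ≤ C := fun s hs => mem_centralizer_singleton_iff.2 (huc s hs).eq
  set R := S.subtype hSC
  have hcent : ∀ z ∈ (S : Subgroup G), (∀ s ∈ (S : Subgroup G), Commute s z) → ∀ hzC : z ∈ C,
      (⟨z, hzC⟩ : C) ∈ centralizer ((R : Subgroup C) : Set C) := fun z _ hzc hzC =>
    mem_centralizer_iff.2 fun r hr => Subtype.ext (hzc r hr).eq
  obtain ⟨n, hn, hn'⟩ := Sylow.conj_eq_normalizer_conj_of_mem_centralizer R (⟨f, hSC hf⟩ : C)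
    (⟨c, mem_centralizer_singleton_iff.2 hc.eq⟩ : C)⁻¹ (hcent f hf hfc _) (by
      rw [inv_inv]
      have h1 : (⟨c, mem_centralizer_singleton_iff.2 hc.eq⟩ : C) * ⟨f, hSC hf⟩ *
          (⟨c, mem_centralizer_singleton_iff.2 hc.eq⟩ : C)⁻¹ = ⟨f * u, hSC (mul_mem hf hu)⟩ := Subtype.ext e
      rw [h1]
      exact hcent _ (mul_mem hf hu) (fun s hs => (hfc s hs).mul_right (huc s hs)) _)
  have hn1 : (n : G)⁻¹ * f * n = f * u := by
    have h1 := congrArg Subtype.val hn'
    simp only [inv_inv, Subgroup.coe_mul, Subgroup.coe_inv] at h1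
    rw [← h1, e]
  have hun : (n : G)⁻¹ * u * n = u := by
    rw [mul_assoc, ← (mem_centralizer_singleton_iff.1 n.2 : (n : G) * u = u * n), inv_mul_cancel_left]
  have hstep : ∀ k : ℕ, (n : G)⁻¹ ^ k * f * (n : G) ^ k = f * u ^ k := fun k => by
    induction k with
    | zero => simp
    | succ k ih =>
      have huk : (n : G)⁻¹ * u ^ k * n = u ^ k := by
        have h1 := congrArg (· ^ k) hun
        have h2 := conj_pow (i := k) (a := (n : G)⁻¹) (b := u)
        rw [inv_inv] at h2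
        rwa [h2] at h1
      calc (n : G)⁻¹ ^ (k + 1) * f * (n : G) ^ (k + 1)
          = (n : G)⁻¹ * ((n : G)⁻¹ ^ k * f * (n : G) ^ k) * n := by rw [pow_succ', pow_succ]; group
        _ = (n : G)⁻¹ * f * n * ((n : G)⁻¹ * u ^ k * n) := by rw [ih]; group
        _ = f * u ^ (k + 1) := by rw [hn1, huk, pow_succ', mul_assoc]
  obtain ⟨i, b, hb, hord⟩ := Nat.exists_eq_two_pow_mul_odd (orderOf_pos n).ne'
  have hnb : n ^ b ∈ (R : Subgroup C) := by
    have h1 : IsPGroup 2 ↥(zpowers (n ^ b) ⊔ (R : Subgroup C)) := by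
      refine (IsPGroup.of_card (n := i) ?_ : IsPGroup 2 ↥(zpowers (n ^ b))).to_sup_of_normal_right' R.isPGroup'
        (zpowers_le.2 (pow_mem hn b))
      rw [Nat.card_zpowers, orderOf_pow' _ hb.pos.ne', hord, Nat.gcd_eq_right ⟨2 ^ i, by ring⟩,
        Nat.mul_div_cancel _ hb.pos]
    rw [← R.is_maximal' h1 le_sup_right]
    exact mem_sup_left (mem_zpowers _)
  have h2 : ((n : G) ^ b) ∈ (S : Subgroup G) := by
    have := hnb
    rwa [show (R : Subgroup C) = (S : Subgroup G).subgroupOf C from rfl, mem_subgroupOf, Subgroup.coe_pow] at this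
  have h3 := hstep b
  rw [inv_pow, mul_assoc, ← (hfc _ h2).eq, inv_mul_cancel_left] at h3
  obtain ⟨k, rfl⟩ := hb
  rw [pow_succ, pow_mul, pow_two, mul_self_of_orderOf_two hu2, one_pow, one_mul, left_eq_mul] at h3
  exact ne_one_of_orderOf_two hu2 h3

/-- The involutions of `S` are central when the central ones are bad and not alone. -/
theorem AX.central_of_bad (h : AX M W) (hle : (S : Subgroup G) ≤ M)
    (hbad : ∀ z ∈ (S : Subgroup G), orderOf z = 2 → (∀ s ∈ (S : Subgroup G), Commute s z) →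
      ∃ c : G, Commute c z ∧ c ∉ M)
    (htwo : ∀ z ∈ (S : Subgroup G), orderOf z = 2 → (∀ s ∈ (S : Subgroup G), Commute s z) →
      ∃ f ∈ (S : Subgroup G), orderOf f = 2 ∧ (∀ s ∈ (S : Subgroup G), Commute s f) ∧ f ≠ z) :
    ∀ a ∈ (S : Subgroup G), orderOf a = 2 → ∀ s ∈ (S : Subgroup G), Commute s a := by
  haveI : Fact (Nat.Prime 2) := ⟨Nat.prime_two⟩
  haveI : Group.IsNilpotent ↥(S : Subgroup G) := S.isPGroup'.isNilpotent
  set D : Subgroup ↥(S : Subgroup G) := closure {d | ∃ s a : ↥(S : Subgroup G), orderOf a = 2 ∧ s * a * s⁻¹ * a⁻¹ = d}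
    with hD
  haveI : D.Normal := ⟨fun d hd r => by
    have h1 : D.map (MulAut.conj r).toMonoidHom ≤ D := by
      rw [hD, MonoidHom.map_closure, closure_le]
      rintro _ ⟨_, ⟨s, a, ha, rfl⟩, rfl⟩
      refine subset_closure ⟨r * s * r⁻¹, r * a * r⁻¹, by rw [orderOf_conj_eq, ha], ?_⟩
      simp only [MulEquiv.toMonoidHom_eq_coe, MonoidHom.coe_coe, MulAut.conj_apply]
      group
    exact h1 ⟨d, hd, rfl⟩⟩
  intro a ha ha2 s hs
  by_contra hne
  have hmem : (⟨s, hs⟩ : ↥(S : Subgroup G)) * ⟨a, ha⟩ * ⟨s, hs⟩⁻¹ * ⟨a, ha⟩⁻¹ ∈ D :=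
    subset_closure ⟨⟨s, hs⟩, ⟨a, ha⟩, by rw [← Subgroup.orderOf_coe]; exact ha2, rfl⟩
  have hD1 : D ≠ ⊥ := fun e => hne (by
    rw [e, mem_bot, mul_inv_eq_one, mul_inv_eq_iff_eq_mul] at hmem
    exact congrArg Subtype.val hmem)
  have hev : Even (Nat.card ↥(D ⊓ center ↥(S : Subgroup G))) := by
    obtain ⟨k, hk⟩ := IsPGroup.iff_card.1 (S.isPGroup'.to_subgroup (D ⊓ center ↥(S : Subgroup G)))
    rcases k with _ | k
    · rw [pow_zero, Subgroup.card_eq_one] at hk
      exact absurd hk (Grp.inf_center_ne_bot D hD1)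
    · exact hk ▸ even_iff_two_dvd.2 (dvd_pow_self 2 k.succ_ne_zero)
  obtain ⟨z, hz, hz2⟩ := exists_orderOf_two_mem hev
  have hzc : ∀ r ∈ (S : Subgroup G), Commute r (z : G) := fun r hr =>
    congrArg Subtype.val (mem_center_iff.1 hz.2 ⟨r, hr⟩)
  have hz2' : orderOf (z : G) = 2 := by rw [Subgroup.orderOf_coe]; exact hz2
  obtain ⟨f, hf, hf2, hfc, hfne⟩ := htwo z z.2 hz2' hzc
  obtain ⟨g, ag, hnot⟩ := AtCentre.exists_notMem (f := f) (S := S)
    ⟨h, hle, z.2, hz2', hzc, hbad z z.2 hz2' hzc, hf, hf2, hfc, hfne, not_fused S z.2 hz2' hzc hf hfc⟩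
  refine hnot (?_ : (z : G) ∈ closure (classIn (z : G) g))
  have hDL : D ≤ (closure (classIn (z : G) g)).comap (S : Subgroup G).subtype := (closure_le _).2 (by
    rintro _ ⟨r, y, hy, rfl⟩
    show (r : G) * y * (r : G)⁻¹ * (y : G)⁻¹ ∈ closure (classIn (z : G) g)
    have hy' : orderOf (y : G) = 2 := by rw [Subgroup.orderOf_coe]; exact hy
    have hru : Commute (r : G) z := hzc r r.2
    have hcomm : ∀ l ∈ closure (classIn (z : G) g), (r : G) * l * (r : G)⁻¹ * l⁻¹ ∈ closure (classIn (z : G) g) :=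
      fun l hl => mul_mem (closure_classIn_conj hru hl) (inv_mem hl)
    rcases ag.invol_cases y.2 (mul_self_of_orderOf_two hy') with e | e | e | e
    · exact absurd e (ne_one_of_orderOf_two hy')
    · rw [e, hru.eq, mul_inv_cancel_right, mul_inv_cancel]; exact one_mem _
    · exact hcomm _ (subset_closure e)
    · have h1 := hcomm _ (subset_closure e)
      rwa [show (r : G) * ((y : G) * z) * (r : G)⁻¹ * ((y : G) * z)⁻¹ =
        (r : G) * y * ((z : G) * (r : G)⁻¹ * (z : G)⁻¹) * (y : G)⁻¹ by group, hru.inv_left.symm.eq,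
        mul_inv_cancel_right] at h1)
  exact hDL hz.1

end Cfsg.Agent.Invol.Core2
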