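import Cfsg.Agent.Lib.Invol.Core2.SectionSE
import Cfsg.Agent.Lib.Fus.UniqueLocal.Bender

/-!
# Bad central involutions: the class in a Sylow subgroup

For two central involutions `u`, `f` of a Sylow subgroup `S`, with `u` bad and `f * u` outside the class of `f` in
`C(u)`, the members of the class in `S` commute with the Sylow subgroup of the group they generate; hence the
involutions of `S` commute pairwise.
-/

set_option autoImplicit false
set_option linter.unusedSectionVars false
set_option linter.style.haveILetI false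

namespace Cfsg.Agent.Invol.Core2

open Subgroup

universe v

variable {G : Type v} [Group G] [Finite G] {M W : Subgroup G} {S : Sylow 2 G}

/-- In a group with a strongly embedded subgroup an involution is central in every 2-subgroup containing it. -/
theorem commute_of_se {X : Type v} [Group X] [Finite X] {Y : Subgroup X} (hY : Cfsg.IsStronglyEmbedded Y)
    {P : Subgroup X} (hP : IsPGroup 2 P) {a r : X} (ha : orderOf a = 2) (haP : a ∈ P) (hr : r ∈ P) :
    Commute a r := by
  haveI : Fact (Nat.Prime 2) := ⟨Nat.prime_two⟩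
  haveI : Nontrivial P := ⟨⟨⟨a, haP⟩, 1, fun e => ne_one_of_orderOf_two ha (congrArg Subtype.val e)⟩⟩
  haveI : Nontrivial (center P) := hP.center_nontrivial
  obtain ⟨z, hz, hz2⟩ := exists_orderOf_two_mem (H := center P) (by
    obtain ⟨k, hk⟩ := IsPGroup.iff_card.1 (hP.to_subgroup (center P))
    rcases k with _ | k
    · exact absurd hk (Finite.one_lt_card (α := center P)).ne'
    · exact hk ▸ even_iff_two_dvd.2 (dvd_pow_self 2 k.succ_ne_zero))
  have hzc : ∀ y ∈ P, Commute y (z : X) := fun y hy =>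
    congrArg Subtype.val (mem_center_iff.1 hz ⟨y, hy⟩)
  by_cases hza : (z : X) = a
  · exact hza ▸ (hzc r hr).symm
  · exact Fus.UniqueLocal.commute_of_stronglyEmbedded hY ha (by rw [Subgroup.orderOf_coe]; exact hz2)
      (hzc a haP) (Ne.symm hza) hP haP hr

theorem classOver_zpowers {u f : G} (hfu : Commute f u) : classOver (zpowers u) u f = classIn u f := by
  refine Set.ext fun x => ⟨And.left, fun hx => ⟨hx, mem_centralizer_iff.2 fun a ha => ?_⟩⟩
  obtain ⟨c, hc, rfl⟩ := hx
  obtain ⟨i, rfl⟩ := mem_zpowers_iff.1 (show a ∈ zpowers u from ha)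
  exact ((hc.mul_left hfu).mul_left hc.inv_left).zpow_right i |>.eq.symm

theorem closure_classIn_conj {u f d : G} (hd : Commute d u) {l : G} (hl : l ∈ closure (classIn u f)) :
    d * l * d⁻¹ ∈ closure (classIn u f) := by
  have h1 : (closure (classIn u f)).map (MulAut.conj d).toMonoidHom ≤ closure (classIn u f) := by
    rw [MonoidHom.map_closure, closure_le]
    rintro _ ⟨x, hx, rfl⟩
    exact subset_closure (by simpa using conj_mem_classIn hd hx)
  exact h1 ⟨l, hl, rfl⟩

/-- Two central involutions of a Sylow subgroup, the first bad, the second not fused with its product by it. -/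
structure AtCentre (M W : Subgroup G) (S : Sylow 2 G) (u f : G) : Prop where
  ax : AX M W
  le : (S : Subgroup G) ≤ M
  uS : u ∈ (S : Subgroup G)
  u2 : orderOf u = 2
  uc : ∀ s ∈ (S : Subgroup G), Commute s u
  bad : ∃ c : G, Commute c u ∧ c ∉ M
  fS : f ∈ (S : Subgroup G)
  f2 : orderOf f = 2
  fc : ∀ s ∈ (S : Subgroup G), Commute s f
  fne : f ≠ u
  ff : f * u ∉ classIn u f

namespace AtCentre

variable {u f : G}

theorem fu (a : AtCentre M W S u f) : Commute f u := a.uc f a.fS

theorem sylow (a : AtCentre M W S u f) (R : Subgroup G) (hR : R ≤ centralizer ({u} : Set G))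
    (hR2 : IsPGroup 2 R) : ∃ c : G, Commute c u ∧ ∀ r ∈ R, c * r * c⁻¹ ∈ (S : Subgroup G) := by
  haveI : Fact (Nat.Prime 2) := ⟨Nat.prime_two⟩
  obtain ⟨c, hc⟩ := exists_conj_subset_sylow (hR2.comap_subtype (K := centralizer ({u} : Set G)))
    (S.subtype (fun s hs => mem_centralizer_singleton_iff.2 (a.uc s hs).eq))
  exact ⟨c, mem_centralizer_singleton_iff.1 c.2, fun r hr => hc ⟨r, hR hr⟩ hr⟩

theorem facts (a : AtCentre M W S u f) {x : G} (hx : x ∈ classIn u f) :
    orderOf x = 2 ∧ Commute x u ∧ x ≠ u ∧ x * u ∉ classIn u f :=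
  classIn_facts a.u2 a.f2 a.fu a.fne a.ff hx

theorem cases_zpowers (a : AtCentre M W S u f) {x : G} (hx : x ∈ zpowers u) : x = 1 ∨ x = u := by
  obtain ⟨i, rfl⟩ := mem_zpowers_iff.1 hx
  have huu := mul_self_of_orderOf_two a.u2
  rcases Int.even_or_odd i with ⟨j, rfl⟩ | ⟨j, rfl⟩
  · exact Or.inl (by rw [← two_mul, zpow_mul, zpow_two, huu, one_zpow])
  · exact Or.inr (by rw [zpow_add, zpow_mul, zpow_two, huu, one_zpow, one_mul, zpow_one])

theorem mem_self (_a : AtCentre M W S u f) : f ∈ classIn u f := ⟨1, Commute.one_left u, by group⟩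

theorem exists_out (a : AtCentre M W S u f) : ∃ t ∈ classIn u f, t ∉ M := by
  obtain ⟨c, hc, hcM⟩ := a.bad
  exact ⟨_, ⟨c, hc, rfl⟩, fun hm => hcM (a.ax.bad_fix a.u2 (a.le a.uS) a.f2 (a.le a.fS) a.fne a.fu.eq hc.eq hm)⟩

/-- The section of the class over `u` has a strongly embedded subgroup. -/
theorem se (a : AtCentre M W S u f) :
    Cfsg.IsStronglyEmbedded ((M.subgroupOf (closure (classOver (zpowers u) u f))).map
      (QuotientGroup.mk' ((zpowers u).subgroupOf (closure (classOver (zpowers u) u f))))) := by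
  haveI : Fact (Nat.Prime 2) := ⟨Nat.prime_two⟩
  obtain ⟨t, ht, htM⟩ := a.exists_out
  exact a.ax.section_se a.u2 (a.le a.uS) a.f2 a.fu a.fne (a.le a.fS) a.ff a.bad (S : Subgroup G) a.sylow a.fc
    (zpowers u) (mem_zpowers u) (zpowers_le.2 (a.le a.uS))
    (IsPGroup.of_card (n := 1) (by rw [Nat.card_zpowers, a.u2, pow_one]))
    (fun x hx y hy => congrArg Subtype.val (mul_comm' (⟨x, hx⟩ : zpowers u) ⟨y, hy⟩))
    (fun x hx _ => a.cases_zpowers hx) ⟨f, classOver_zpowers a.fu ▸ a.mem_self, a.le a.fS⟩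
    ⟨t, classOver_zpowers a.fu ▸ ht, htM⟩

/-- A member of the class in `S` commutes with the elements of `S` in the group generated by the class. -/
theorem class_commute (a : AtCentre M W S u f) {x r : G} (hx : x ∈ classIn u f) (hxS : x ∈ (S : Subgroup G))
    (hr : r ∈ (S : Subgroup G)) (hrL : r ∈ closure (classIn u f)) : Commute x r := by
  have hse := a.se
  have hxO : x ∈ classOver (zpowers u) u f := classOver_zpowers a.fu ▸ hx
  have hrO : r ∈ closure (classOver (zpowers u) u f) := (classOver_zpowers a.fu).symm ▸ hrL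
  set L := closure (classOver (zpowers u) u f)
  set π := QuotientGroup.mk' ((zpowers u).subgroupOf L)
  obtain ⟨hx2, hxu, hxne, hxx⟩ := a.facts hx
  let x' : L := ⟨x, subset_closure hxO⟩
  let r' : L := ⟨r, hrO⟩
  have hx1 : π x' ≠ 1 := fun e => (a.cases_zpowers ((QuotientGroup.eq_one_iff x').1 e)).elim
    (ne_one_of_orderOf_two hx2) hxne
  have hxπ : orderOf (π x') = 2 := orderOf_two_iff.2 ⟨by
    rw [← map_mul, show x' * x' = 1 from Subtype.ext (mul_self_of_orderOf_two hx2), map_one], hx1⟩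
  have hc := commute_of_se hse ((S.isPGroup'.comap_subtype (K := L)).map π) hxπ ⟨x', hxS, rfl⟩
    (r := π r') ⟨r', hr, rfl⟩
  have h1 : π (x'⁻¹ * (r' * x' * r'⁻¹)) = 1 := by
    rw [map_mul, map_mul, map_mul, map_inv, map_inv, ← hc.eq, mul_inv_cancel_right, inv_mul_cancel]
  have h2 : x⁻¹ * (r * x * r⁻¹) ∈ zpowers u := mem_subgroupOf.1
    ((QuotientGroup.eq_one_iff (x'⁻¹ * (r' * x' * r'⁻¹))).1 h1)
  rcases a.cases_zpowers h2 with e | e
  · have e' : r * x * r⁻¹ = x := (inv_mul_eq_one.1 e).symm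
    exact (mul_inv_eq_iff_eq_mul.1 e').symm
  · have e' : r * x * r⁻¹ = x * u := inv_mul_eq_iff_eq_mul.1 e
    exact absurd (e' ▸ conj_mem_classIn (a.uc r hr) hx) hxx

/-- An element of `S` of square one is, up to a power of `u`, trivial or in the class. -/
theorem invol_cases (a : AtCentre M W S u f) {y : G} (hy : y ∈ (S : Subgroup G)) (hyy : y * y = 1) :
    y = 1 ∨ y = u ∨ y ∈ classIn u f ∨ y * u ∈ classIn u f := by
  by_cases hy1 : y = 1
  · exact Or.inl hy1
  by_cases hyu : y = u
  · exact Or.inr (Or.inl hyu)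
  exact Or.inr (Or.inr (a.ax.covers a.u2 (a.le a.uS) a.bad a.f2 (a.le a.fS) a.fne a.fu a.ff y
    (orderOf_two_iff.2 ⟨hyy, hy1⟩) (a.uc y hy) hyu))

/-- The elements of square one of `S` commute pairwise. -/
theorem invol_commute (a : AtCentre M W S u f) {x y : G} (hx : x ∈ (S : Subgroup G)) (hxx : x * x = 1)
    (hy : y ∈ (S : Subgroup G)) (hyy : y * y = 1) : Commute x y := by
  have huu := mul_self_of_orderOf_two a.u2
  have key : ∀ {z : G}, z ∈ (S : Subgroup G) → z * z = 1 →
      ∃ z' ∈ (S : Subgroup G), (z' = 1 ∨ z' ∈ classIn u f) ∧ ∃ i : ℕ, z = z' * u ^ i := fun {z} hz hzz => by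
    rcases a.invol_cases hz hzz with e | e | e | e
    · exact ⟨1, one_mem _, Or.inl rfl, 0, by simp [e]⟩
    · exact ⟨1, one_mem _, Or.inl rfl, 1, by simp [e]⟩
    · exact ⟨z, hz, Or.inr e, 0, by simp⟩
    · exact ⟨z * u, mul_mem hz a.uS, Or.inr e, 1, by rw [pow_one, mul_assoc, huu, mul_one]⟩
  obtain ⟨x', hx', hxc, i, rfl⟩ := key hx hxx
  obtain ⟨y', hy', hyc, j, rfl⟩ := key hy hyy
  have h1 : Commute x' y' := by
    rcases hxc with rfl | hxc
    · exact Commute.one_left _
    rcases hyc with rfl | hyc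
    · exact Commute.one_right _
    exact a.class_commute hxc hx' hy' (subset_closure hyc)
  exact Commute.mul_left (h1.mul_right ((a.uc x' hx').pow_right j))
    (((a.uc y' hy').symm.pow_left i).mul_right ((Commute.refl u).pow_pow i j))

end AtCentre

end Cfsg.Agent.Invol.Core2
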