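import Cfsg.Agent.Lib.Invol.Core2.ClassCentral

/-!
# Bad central involutions: `u` outside the group generated by a class

The normaliser of `S ∩ L` in `L`, acting with odd order and transitively on the members of the class in `S`, fixes
a complement of `⟨u⟩` in the elements of square one of `S`. For the class meeting it the class is closed under
products of commuting members, so `u` is not in the group it generates.
-/

set_option autoImplicit false
set_option linter.unusedSectionVars false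
set_option linter.style.haveILetI false

namespace Cfsg.Agent.Invol.Core2

open Subgroup

universe v

variable {G : Type v} [Group G] [Finite G] {M W : Subgroup G} {S : Sylow 2 G}

namespace AtCentre

variable {u f : G}

/-- A subgroup of index two avoiding `u` in the elements of square one of `S`. -/
theorem exists_avoid (a : AtCentre M W S u f) :
    ∃ H : Subgroup G, u ∉ H ∧ ∀ x ∈ (S : Subgroup G), x * x = 1 → x ∈ H ∨ x * u ∈ H := by
  classical
  let B : Subgroup G :=
    { carrier := {x | x ∈ (S : Subgroup G) ∧ x * x = 1}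
      one_mem' := ⟨one_mem _, one_mul 1⟩
      mul_mem' := fun {x y} hx hy => ⟨mul_mem hx.1 hy.1, by
        rw [show x * y * (x * y) = x * (y * x) * y by group, ← (a.invol_commute hx.1 hx.2 hy.1 hy.2).eq,
          show x * (x * y) * y = x * x * (y * y) by group, hx.2, hy.2, one_mul]⟩
      inv_mem' := fun {x} hx => ⟨inv_mem hx.1, by rw [← mul_inv_rev, hx.2, inv_one]⟩ }
  have hfam : ({H : Subgroup G | H ≤ B ∧ u ∉ H}).Nonempty :=
    ⟨⊥, bot_le, fun e => ne_one_of_orderOf_two a.u2 (mem_bot.1 e)⟩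
  obtain ⟨H, ⟨hHB, huH⟩, hmax⟩ := Set.Finite.exists_maximal (Set.toFinite _) hfam
  refine ⟨H, huH, fun x hx hxx => ?_⟩
  by_contra hno
  rw [not_or] at hno
  have hxB : x ∈ B := ⟨hx, hxx⟩
  let H' : Subgroup G :=
    { carrier := {y | y ∈ B ∧ (y ∈ H ∨ y * x ∈ H)}
      one_mem' := ⟨one_mem B, Or.inl (one_mem H)⟩
      mul_mem' := fun {y z} hy hz => ⟨mul_mem hy.1 hz.1, by
        have hyx : Commute y x := a.invol_commute hy.1.1 hy.1.2 hx hxx
        have hzx : Commute z x := a.invol_commute hz.1.1 hz.1.2 hx hxx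
        rcases hy.2 with h1 | h1 <;> rcases hz.2 with h2 | h2
        · exact Or.inl (mul_mem h1 h2)
        · exact Or.inr (by rw [mul_assoc]; exact mul_mem h1 h2)
        · exact Or.inr (by rw [mul_assoc, hzx.eq, ← mul_assoc]; exact mul_mem h1 h2)
        · refine Or.inl ?_
          have h3 := mul_mem h1 h2
          rwa [show y * x * (z * x) = y * (x * z) * x by group, ← hzx.eq,
            show y * (z * x) * x = y * z * (x * x) by group, hxx, mul_one] at h3⟩
      inv_mem' := fun {y} (hy : y ∈ B ∧ (y ∈ H ∨ y * x ∈ H)) => by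
        rw [Set.mem_setOf_eq, inv_eq_of_mul_eq_one_right hy.1.2]
        exact hy }
  have hHH' : H ≤ H' := fun y hy => ⟨hHB hy, Or.inl hy⟩
  have hxH' : x ∈ H' := ⟨hxB, Or.inr (by rw [hxx]; exact one_mem H)⟩
  by_cases huH' : u ∈ H'
  · rcases huH'.2 with e | e
    · exact huH e
    · exact hno.2 (by rwa [(a.uc x hx).eq])
  · exact hno.1 (hmax ⟨fun y (hy : y ∈ H') => hy.1, huH'⟩ hHH' hxH')

/-- A complement of `u` containing or avoiding all members of the class in `S`. -/
theorem exists_half (a : AtCentre M W S u f) :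
    ∃ p : G → ZMod 2, p u = 1 ∧
      (∀ x ∈ (S : Subgroup G), x * x = 1 → ∀ y ∈ (S : Subgroup G), y * y = 1 → p (x * y) = p x + p y) ∧
      ∀ x ∈ classIn u f, x ∈ (S : Subgroup G) → ∀ y ∈ classIn u f, y ∈ (S : Subgroup G) → p x = p y := by
  classical
  haveI : Fact (Nat.Prime 2) := ⟨Nat.prime_two⟩
  obtain ⟨H, huH, hH⟩ := a.exists_avoid
  set L := closure (classIn u f) with hL
  have hLu : L ≤ centralizer ({u} : Set G) :=
    (closure_le _).2 fun x hx => mem_centralizer_singleton_iff.2 (a.facts hx).2.1.eq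
  -- the Sylow subgroup of `L`
  obtain ⟨R, hR⟩ := (S.isPGroup'.comap_subtype (K := L)).exists_le_sylow
  have hRS : (R : Subgroup L) = (S : Subgroup G).subgroupOf L := by
    obtain ⟨c, hc, hcS⟩ := a.sylow ((R : Subgroup L).map L.subtype) ((map_subtype_le _).trans hLu)
      (R.isPGroup'.map _)
    refine (eq_of_le_of_card_ge hR ?_).symm
    refine Nat.card_le_card_of_injective (fun r : (R : Subgroup L) =>
      (⟨⟨c * (r : L) * c⁻¹, closure_classIn_conj hc (r : L).2⟩, hcS _ ⟨_, r.2, rfl⟩⟩ :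
        ((S : Subgroup G).subgroupOf L : Subgroup L))) fun r r' e => ?_
    have e' : c * ((r : L) : G) * c⁻¹ = c * ((r' : L) : G) * c⁻¹ :=
      congrArg (fun z : ((S : Subgroup G).subgroupOf L : Subgroup L) => ((z : L) : G)) e
    exact Subtype.ext (Subtype.ext (mul_left_cancel (mul_right_cancel e')))
  set N := normalizer ((R : Subgroup L) : Set L) with hNdef
  have hRN : (R : Subgroup L) ≤ N := le_normalizer
  set P := (R : Subgroup L).subgroupOf N with hPdef
  have hodd : Odd P.index := by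
    rw [← Nat.not_even_iff_odd, even_iff_two_dvd]
    exact fun hd => R.not_dvd_index (hd.trans ⟨N.index, (relIndex_mul_index hRN).symm⟩)
  have hclassR : ∀ {x}, x ∈ classIn u f → x ∈ (S : Subgroup G) →
      ∃ hxL : x ∈ L, (⟨x, hxL⟩ : L) ∈ (R : Subgroup L) := fun hx hxS =>
    ⟨subset_closure hx, hRS ▸ hxS⟩
  -- the conjugates by `N` stay among the elements of square one of `S`
  have hconj : ∀ n : N, ∀ v ∈ (S : Subgroup G), v * v = 1 →
      (((n : L) : G))⁻¹ * v * (n : L) ∈ (S : Subgroup G) ∧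
        (((n : L) : G))⁻¹ * v * (n : L) * (((n : L) : G)⁻¹ * v * (n : L)) = 1 := fun n v hv hvv => by
    set g : G := ((n : L) : G) with hg
    have hgu : Commute g u := mem_centralizer_singleton_iff.1 (hLu (n : L).2)
    have hcl : ∀ y ∈ classIn u f, y ∈ (S : Subgroup G) → g⁻¹ * y * g ∈ (S : Subgroup G) := fun y hy hyS => by
      obtain ⟨hyL, hyR⟩ := hclassR hy hyS
      have h1 : ((n : L))⁻¹ * ⟨y, hyL⟩ * (n : L) ∈ (R : Subgroup L) := by
        have h0 := (mem_normalizer_iff.1 (inv_mem n.2) ⟨y, hyL⟩).1 hyR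
        rwa [inv_inv] at h0
      rw [hRS] at h1
      exact mem_subgroupOf.1 h1
    refine ⟨?_, by rw [show g⁻¹ * v * g * (g⁻¹ * v * g) = g⁻¹ * (v * v) * g by group, hvv]; group⟩
    have hgu' : g⁻¹ * u * g = u := by rw [mul_assoc, ← hgu.eq, inv_mul_cancel_left]
    rcases a.invol_cases hv hvv with e | e | e | e
    · rw [e, mul_one, inv_mul_cancel]; exact one_mem _
    · rw [e, hgu']; exact a.uS
    · exact hcl v e hv
    · have h1 := mul_mem (hcl _ e (mul_mem hv a.uS)) a.uS
      rwa [show g⁻¹ * (v * u) * g = g⁻¹ * v * g * (g⁻¹ * u * g) by group, hgu', mul_assoc,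
        mul_self_of_orderOf_two a.u2, mul_one] at h1
  -- the parity and its average
  let χ : G → ZMod 2 := fun v => if v ∈ H then 0 else 1
  have hχ : ∀ x ∈ (S : Subgroup G), x * x = 1 → ∀ y ∈ (S : Subgroup G), y * y = 1 → χ (x * y) = χ x + χ y := by
    intro x hx hxx y hy hyy
    by_cases hxH : x ∈ H
    · by_cases hyH : y ∈ H
      · simp [χ, hxH, hyH, mul_mem hxH hyH]
      · simp [χ, hxH, hyH, show x * y ∉ H from fun e => hyH ((mul_mem_cancel_left hxH).1 e)]
    · by_cases hyH : y ∈ H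
      · simp [χ, hxH, hyH, show x * y ∉ H from fun e => hxH ((mul_mem_cancel_right hyH).1 e)]
      · have h1 := mul_mem ((hH x hx hxx).resolve_left hxH) ((hH y hy hyy).resolve_left hyH)
        rw [show x * u * (y * u) = x * (u * y) * u by group, ← (a.uc y hy).eq,
          show x * (y * u) * u = x * y * (u * u) by group, mul_self_of_orderOf_two a.u2, mul_one] at h1
        simp [χ, hxH, hyH, h1]
        rfl
  letI : Fintype (↥N ⧸ P) := Fintype.ofFinite _
  let φ : ↥N ⧸ P → G → ZMod 2 := fun q v => χ (((q.out : L) : G)⁻¹ * v * ((q.out : L) : G))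
  refine ⟨fun v => ∑ q : ↥N ⧸ P, φ q v, ?_, ?_, ?_⟩
  · have h1 : ∀ q : ↥N ⧸ P, φ q u = 1 := fun q => by
      show χ (((q.out : L) : G)⁻¹ * u * ((q.out : L) : G)) = 1
      rw [mul_assoc, ← (mem_centralizer_singleton_iff.1 (hLu (q.out : L).2) :
        ((q.out : L) : G) * u = u * _), inv_mul_cancel_left]
      simp [χ, huH]
    show ∑ q : ↥N ⧸ P, φ q u = 1
    rw [Finset.sum_congr rfl fun q _ => h1 q, Finset.sum_const, Finset.card_univ, ← Nat.card_eq_fintype_card,
      nsmul_one]
    obtain ⟨k, hk⟩ := hodd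
    rw [← Subgroup.index_eq_card, hk]
    push_cast
    rw [show (2 : ZMod 2) = 0 from rfl, zero_mul, zero_add]
  · intro x hx hxx y hy hyy
    rw [← Finset.sum_add_distrib]
    refine Finset.sum_congr rfl fun q _ => ?_
    obtain ⟨h1, h2⟩ := hconj q.out x hx hxx
    obtain ⟨h3, h4⟩ := hconj q.out y hy hyy
    have h5 := hχ _ h1 h2 _ h3 h4
    show χ _ = χ _ + χ _
    rw [← h5]
    congr 1
    group
  · intro x hx hxS y hy hyS
    obtain ⟨t, ht, htM⟩ := a.exists_out
    obtain ⟨d, hd, hdy⟩ := a.ax.class_conj_in a.u2 (a.le a.uS) a.f2 a.fu a.fne a.ff ⟨t, subset_closure ht, ht, htM⟩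
      hx (subset_closure hx) (a.le hxS) hy (subset_closure hy)
    -- both are centralised by the Sylow subgroup of `L`
    have hcR : ∀ {z}, z ∈ classIn u f → z ∈ (S : Subgroup G) → ∀ hzL : z ∈ L,
        (⟨z, hzL⟩ : L) ∈ centralizer ((R : Subgroup L) : Set L) := fun {z} hz hzS hzL =>
      mem_centralizer_iff.2 fun r hr => by
        have hrS : (r : G) ∈ (S : Subgroup G) := mem_subgroupOf.1 (hRS ▸ hr)
        exact Subtype.ext (a.class_commute hz hzS hrS r.2).eq.symm
    obtain ⟨n, hn, hxy⟩ := Sylow.conj_eq_normalizer_conj_of_mem_centralizer R (⟨y, subset_closure hy⟩ : L)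
      (⟨d, hd⟩ : L)⁻¹ (hcR hy hyS _) (by
        rw [inv_inv]
        have h1 : (⟨d, hd⟩ : L) * ⟨y, subset_closure hy⟩ * (⟨d, hd⟩ : L)⁻¹ = ⟨x, subset_closure hx⟩ :=
          Subtype.ext hdy
        rw [h1]
        exact hcR hx hxS _)
    have hxy' : x = ((n : L) : G)⁻¹ * y * (n : L) := by
      have h1 := congrArg Subtype.val hxy
      simp only [inv_inv, Subgroup.coe_mul, Subgroup.coe_inv] at h1
      rw [← hdy, h1]
    -- values are constant on cosets
    have hwell : ∀ g g' : N, (QuotientGroup.mk g : ↥N ⧸ P) = QuotientGroup.mk g' →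
        χ (((g : L) : G)⁻¹ * y * (g : L)) = χ (((g' : L) : G)⁻¹ * y * (g' : L)) := fun g g' e => by
      have h1 : ((g⁻¹ * g' : N) : L) ∈ (R : Subgroup L) := mem_subgroupOf.1 (QuotientGroup.eq.1 e)
      set r : L := ((g⁻¹ * g' : N) : L) with hr
      have hrS : (r : G) ∈ (S : Subgroup G) := mem_subgroupOf.1 (hRS ▸ h1)
      have hgy := hconj g y hyS (mul_self_of_orderOf_two (a.facts hy).1)
      have hcl : ((g : L) : G)⁻¹ * y * (g : L) ∈ classIn u f := by
        have h2 := conj_mem_classIn (d := ((g : L) : G)⁻¹)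
          (show Commute ((g : L) : G) u from mem_centralizer_singleton_iff.1 (hLu (g : L).2)).inv_left hy
        rwa [inv_inv] at h2
      have hc := a.class_commute hcl hgy.1 hrS r.2
      congr 1
      have hfix : ∀ {z : G}, Commute z (r : G) → z = (r : G)⁻¹ * z * r := fun hz => by
        rw [mul_assoc, hz.eq, inv_mul_cancel_left]
      calc ((g : L) : G)⁻¹ * y * (g : L) = (r : G)⁻¹ * (((g : L) : G)⁻¹ * y * (g : L)) * r := hfix hc
        _ = ((g' : L) : G)⁻¹ * y * (g' : L) := by
            rw [hr]; simp only [Subgroup.coe_mul, Subgroup.coe_inv]; group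
    set n' : N := ⟨n, hn⟩
    refine Fintype.sum_equiv (MulAction.toPerm n') _ _ fun q => ?_
    show χ (((q.out : L) : G)⁻¹ * x * ((q.out : L) : G)) =
      χ ((((n' • q).out : L) : G)⁻¹ * y * (((n' • q).out : L) : G))
    rw [← hwell (n' * q.out) ((n' • q).out) (by
      rw [QuotientGroup.out_eq']
      conv_rhs => rw [← QuotientGroup.out_eq' q]
      rfl), hxy']
    congr 1
    simp only [n', Subgroup.coe_mul]
    group

/-- The class of `f` is closed under products of commuting members when it lies in the complement. -/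
theorem closed (a : AtCentre M W S u f) {p : G → ZMod 2} (hpu : p u = 1)
    (hadd : ∀ x ∈ (S : Subgroup G), x * x = 1 → ∀ y ∈ (S : Subgroup G), y * y = 1 → p (x * y) = p x + p y)
    (hp : ∀ x ∈ classIn u f, x ∈ (S : Subgroup G) → p x = 0) :
    ∀ x y : G, x ∈ classIn u f → y ∈ classIn u f → Commute x y → x ≠ y → x * y ∈ classIn u f := by
  haveI : Fact (Nat.Prime 2) := ⟨Nat.prime_two⟩
  intro x y hx hy hxy hne
  obtain ⟨hx2, hxu, -, -⟩ := a.facts hx
  obtain ⟨hy2, hyu, -, -⟩ := a.facts hy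
  have hle : zpowers x ⊔ zpowers y ≤ centralizer ({u} : Set G) := sup_le
    (zpowers_le.2 (mem_centralizer_singleton_iff.2 hxu.eq)) (zpowers_le.2 (mem_centralizer_singleton_iff.2 hyu.eq))
  have hn : zpowers x ≤ normalizer (zpowers y : Set G) := zpowers_le.2 (mem_normalizer_fintype fun b hb => by
    obtain ⟨i, rfl⟩ := mem_zpowers_iff.1 (show b ∈ zpowers y from hb)
    rw [(hxy.zpow_right i).eq, mul_inv_cancel_right]
    exact hb)
  obtain ⟨c, hc, hcS⟩ := a.sylow _ hle ((IsPGroup.of_card (n := 1) (by rw [Nat.card_zpowers, hx2, pow_one]) :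
    IsPGroup 2 ↥(zpowers x)).to_sup_of_normal_right' (IsPGroup.of_card (n := 1) (by
      rw [Nat.card_zpowers, hy2, pow_one])) hn)
  have hxS := hcS x (mem_sup_left (mem_zpowers x))
  have hyS := hcS y (mem_sup_right (mem_zpowers y))
  have hxc := conj_mem_classIn hc hx
  have hyc := conj_mem_classIn hc hy
  have hxx := mul_self_of_orderOf_two (a.facts hxc).1
  have hyy := mul_self_of_orderOf_two (a.facts hyc).1
  have hsum := hadd _ hxS hxx _ hyS hyy
  rw [hp _ hxc hxS, hp _ hyc hyS, add_zero] at hsum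
  have hzS := mul_mem hxS hyS
  have hz : c * x * c⁻¹ * (c * y * c⁻¹) ∈ classIn u f := by
    rcases a.invol_cases hzS (by
      rw [mul_assoc, ← mul_assoc (c * y * c⁻¹), (a.invol_commute hyS hyy hxS hxx).eq, mul_assoc (c * x * c⁻¹), hyy,
        mul_one, hxx]) with e | e | e | e
    · refine absurd ?_ hne
      rw [show c * x * c⁻¹ * (c * y * c⁻¹) = c * (x * y) * c⁻¹ by group, conj_eq_one_iff] at e
      rw [← inv_eq_of_mul_eq_one_right e, inv_of_orderOf_two hx2]
    · rw [e, hpu] at hsum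
      exact absurd hsum one_ne_zero
    · exact e
    · have h1 := hp _ e (mul_mem hzS a.uS)
      rw [hadd _ hzS ?_ _ a.uS (mul_self_of_orderOf_two a.u2), hsum, hpu, zero_add] at h1
      · exact absurd h1 one_ne_zero
      · rw [mul_assoc, ← mul_assoc (c * y * c⁻¹), (a.invol_commute hyS hyy hxS hxx).eq, mul_assoc (c * x * c⁻¹), hyy,
          mul_one, hxx]
  have h1 := conj_mem_classIn (d := c⁻¹) hc.inv_left hz
  rwa [show c⁻¹ * (c * x * c⁻¹ * (c * y * c⁻¹)) * c⁻¹⁻¹ = x * y by group] at h1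

/-- `u` is outside the group generated by a closed class. -/
theorem notMem (a : AtCentre M W S u f)
    (hclosed : ∀ x y : G, x ∈ classIn u f → y ∈ classIn u f → Commute x y → x ≠ y → x * y ∈ classIn u f) :
    u ∉ closure (classIn u f) := by
  haveI : Fact (Nat.Prime 2) := ⟨Nat.prime_two⟩
  obtain ⟨t, ht, htM⟩ := a.exists_out
  intro huL
  exact a.ax.section_cover_false a.u2 (a.le a.uS) a.f2 a.fu a.fne (a.le a.fS) a.ff a.bad (zpowers u)
    (mem_zpowers u) (zpowers_le.2 (a.le a.uS)) (IsPGroup.of_card (n := 1) (by rw [Nat.card_zpowers, a.u2, pow_one]))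
    (fun x hx y hy => congrArg Subtype.val (mul_comm' (⟨x, hx⟩ : zpowers u) ⟨y, hy⟩))
    (fun x hx _ => a.cases_zpowers hx) ⟨f, classOver_zpowers a.fu ▸ a.mem_self, a.le a.fS⟩
    ⟨t, classOver_zpowers a.fu ▸ ht, htM⟩ ((classOver_zpowers a.fu).symm ▸ huL) (Or.inl hclosed) a.se

theorem classIn_mul (_a : AtCentre M W S u f) {x : G} : x ∈ classIn u (f * u) ↔ ∃ y ∈ classIn u f, x = y * u := by
  constructor
  · rintro ⟨c, hc, rfl⟩
    exact ⟨c * f * c⁻¹, ⟨c, hc, rfl⟩, by
      rw [show c * (f * u) * c⁻¹ = c * f * c⁻¹ * (c * u * c⁻¹) by group, hc.eq, mul_inv_cancel_right]⟩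
  · rintro ⟨_, ⟨c, hc, rfl⟩, rfl⟩
    exact ⟨c, hc, by rw [show c * (f * u) * c⁻¹ = c * f * c⁻¹ * (c * u * c⁻¹) by group, hc.eq, mul_inv_cancel_right]⟩

theorem flip (a : AtCentre M W S u f) : AtCentre M W S u (f * u) where
  ax := a.ax
  le := a.le
  uS := a.uS
  u2 := a.u2
  uc := a.uc
  bad := a.bad
  fS := mul_mem a.fS a.uS
  f2 := orderOf_two_iff.2 ⟨by
      rw [show f * u * (f * u) = f * (u * f) * u by group, ← a.fu.eq,
        show f * (f * u) * u = f * f * (u * u) by group, mul_self_of_orderOf_two a.f2,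
        mul_self_of_orderOf_two a.u2, one_mul],
    fun e => a.fne (by rw [eq_inv_of_mul_eq_one_left e, inv_of_orderOf_two a.u2])⟩
  fc := fun s hs => (a.fc s hs).mul_right (a.uc s hs)
  fne := fun e => ne_one_of_orderOf_two a.f2 (mul_eq_right.1 e)
  ff := by
    rw [mul_assoc, mul_self_of_orderOf_two a.u2, mul_one, a.classIn_mul]
    rintro ⟨y, hy, e⟩
    refine (a.facts hy).2.2.2 ?_
    rw [← e]
    exact a.mem_self

/-- One of the classes of `f`, `f * u` generates a group avoiding `u`. -/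
theorem exists_notMem (a : AtCentre M W S u f) :
    ∃ g : G, AtCentre M W S u g ∧ u ∉ closure (classIn u g) := by
  obtain ⟨p, hpu, hadd, hconst⟩ := a.exists_half
  have hval : ∀ z : ZMod 2, z = 0 ∨ z = 1 := by decide
  rcases hval (p f) with e | e
  · exact ⟨f, a, a.notMem (a.closed hpu hadd fun x hx hxS =>
      (hconst x hx hxS f a.mem_self a.fS).trans e)⟩
  · refine ⟨f * u, a.flip, a.flip.notMem (a.flip.closed hpu hadd fun x hx hxS => ?_)⟩
    obtain ⟨y, hy, rfl⟩ := a.classIn_mul.1 hx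
    have hyS : y ∈ (S : Subgroup G) := by
      have h1 := mul_mem hxS a.uS
      rwa [mul_assoc, mul_self_of_orderOf_two a.u2, mul_one] at h1
    rw [hadd y hyS (mul_self_of_orderOf_two (a.facts hy).1) u a.uS (mul_self_of_orderOf_two a.u2),
      hconst y hy hyS f a.mem_self a.fS, e, hpu]
    rfl

end AtCentre

end Cfsg.Agent.Invol.Core2
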