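import Cfsg.Agent.Lib.Invol.Core2.Covers

/-!
# Bad involutions of split type: the class of `f` in the centraliser

Members of the class on different sides of `M` are conjugate; when `f` is good and `f * u` bad the class is closed
under products of commuting members.
-/

set_option autoImplicit false
set_option linter.unusedSectionVars false
set_option linter.style.haveILetI false

namespace Cfsg.Agent.Invol.Core2

open Subgroup

variable {G : Type*} [Group G] [Finite G] {M W : Subgroup G}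

/-- The members of the class of `f` centralising `U`. -/
def classOver (U : Subgroup G) (u f : G) : Set G := {x | x ∈ classIn u f ∧ x ∈ centralizer (U : Set G)}

theorem classIn_facts {u f x : G} (hu : orderOf u = 2) (hf : orderOf f = 2) (hfu : Commute f u) (hfne : f ≠ u)
    (hff : f * u ∉ classIn u f) (hx : x ∈ classIn u f) :
    orderOf x = 2 ∧ Commute x u ∧ x ≠ u ∧ x * u ∉ classIn u f := by
  obtain ⟨c, hc, rfl⟩ := hx
  refine ⟨by rw [orderOf_conj_eq, hf], (hc.mul_left hfu).mul_left hc.inv_left, fun e => hfne ?_, ?_⟩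
  · calc f = c⁻¹ * (c * f * c⁻¹) * c := by group
      _ = u := by rw [e, hc.inv_left.eq, inv_mul_cancel_right]
  · rintro ⟨d, hd, e⟩
    refine hff ⟨c⁻¹ * d, hc.inv_left.mul_left hd, ?_⟩
    calc c⁻¹ * d * f * (c⁻¹ * d)⁻¹ = c⁻¹ * (d * f * d⁻¹) * c := by group
      _ = f * (c⁻¹ * u * c) := by rw [e]; group
      _ = f * u := by rw [hc.inv_left.eq, inv_mul_cancel_right]

theorem conj_mem_classIn {u f x d : G} (hd : Commute d u) (hx : x ∈ classIn u f) : d * x * d⁻¹ ∈ classIn u f := by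
  obtain ⟨c, hc, rfl⟩ := hx
  exact ⟨d * c, hd.mul_left hc, by group⟩

/-- Members of the class on different sides of `M` are conjugate in the group they generate. -/
theorem AX.class_conj (h : AX M W) {u f x t : G} (hu : orderOf u = 2) (huM : u ∈ M) (hf : orderOf f = 2)
    (hfu : Commute f u) (hfne : f ≠ u) (hff : f * u ∉ classIn u f) (hx : x ∈ classIn u f) (hxM : x ∈ M)
    (ht : t ∈ classIn u f) (htM : t ∉ M) : ∃ d ∈ closure ({x, t} : Set G), d * t * d⁻¹ = x := by
  obtain ⟨hx2, hxu, hxne, hxx⟩ := classIn_facts hu hf hfu hfne hff hx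
  obtain ⟨ht2, htu, htne, htt⟩ := classIn_facts hu hf hfu hfne hff ht
  obtain ⟨a, b, hb, hab⟩ := Nat.exists_eq_two_pow_mul_odd (orderOf_pos (x * t)).ne'
  obtain ⟨d, hd, hdt, hord⟩ := exists_conj_two_part hx2 ht2 hab hb
  have hdu : Commute d u := by
    refine mem_centralizer_singleton_iff.1 ((closure_le _).2 ?_ hd)
    rintro y (rfl | rfl)
    · exact mem_centralizer_singleton_iff.2 hxu.eq
    · exact mem_centralizer_singleton_iff.2 htu.eq
  rcases a with _ | a
  · rw [pow_zero, orderOf_eq_one_iff] at hord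
    exact ⟨d, hd, by rw [hdt, hord, mul_one]⟩
  exfalso
  obtain ⟨w, hwdef⟩ : ∃ w, w = (x * t) ^ (2 ^ a * b) := ⟨_, rfl⟩
  have hxx' : x * x = 1 := mul_self_of_orderOf_two hx2
  have hpos : 0 < 2 ^ a * b := Nat.mul_pos (Nat.two_pow_pos _) hb.pos
  have hw2 : orderOf w = 2 := by
    rw [hwdef, orderOf_pow' _ hpos.ne', hab, Nat.gcd_eq_right ⟨2, by ring⟩,
      show 2 ^ (a + 1) * b = 2 * (2 ^ a * b) by ring, Nat.mul_div_cancel _ hpos]
  have hwx : w * x = x * w := by
    have h1 := mul_zpow_comm hx2 ht2 ((2 ^ a * b : ℕ) : ℤ)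
    rw [zpow_natCast, zpow_neg, zpow_natCast, ← hwdef, inv_of_orderOf_two hw2] at h1
    exact h1.symm
  have hp : w * (x * t) = x * t * w := hwdef ▸ (Commute.self_pow (x * t) _).eq.symm
  have hwt : w * t = t * w := by
    calc w * t = w * x * (x * t) := by rw [mul_assoc w x, ← mul_assoc x x, hxx', one_mul]
      _ = x * (w * (x * t)) := by rw [hwx, mul_assoc]
      _ = x * x * t * w := by rw [hp]; group
      _ = t * w := by rw [hxx', one_mul]
  have hwu : w = u := h.common_eq hu huM hx2 hxM hxne hxu.eq htM htu.eq hw2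
    (hwdef ▸ ((hxu.mul_left htu).pow_left _).eq) hwx hwt
  rcases a with _ | a
  · rw [pow_zero, one_mul] at hwdef
    rw [← hwdef, hwu] at hdt
    exact hxx (hdt ▸ conj_mem_classIn hdu ht)
  · refine hxx ?_
    have e := mul_zpow_comm hx2 ht2 (-((2 ^ a * b : ℕ) : ℤ))
    rw [neg_neg] at e
    have hmem := conj_mem_classIn (d := (x * t) ^ (2 ^ a * b)) ((hxu.mul_left htu).pow_left _) hx
    convert hmem using 1
    symm
    calc (x * t) ^ (2 ^ a * b) * x * ((x * t) ^ (2 ^ a * b))⁻¹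
        = (x * t) ^ ((2 ^ a * b : ℕ) : ℤ) * x * (x * t) ^ (-((2 ^ a * b : ℕ) : ℤ)) := by
          rw [zpow_neg, zpow_natCast]
      _ = x * (x * t) ^ (-((2 ^ a * b : ℕ) : ℤ)) * (x * t) ^ (-((2 ^ a * b : ℕ) : ℤ)) := by rw [← e]
      _ = x * ((x * t) ^ (2 ^ (a + 1) * b))⁻¹ := by
          rw [mul_assoc, ← zpow_add, ← neg_add, zpow_neg]
          congr 2
          rw [← Nat.cast_add, zpow_natCast]
          congr 1
          ring
      _ = x * u := by rw [← hwdef, hwu, inv_of_orderOf_two hu]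

/-- Members of the class in `L` are conjugate in `L` to any one in `M`. -/
theorem AX.class_conj_in (h : AX M W) {u f x : G} (hu : orderOf u = 2) (huM : u ∈ M) (hf : orderOf f = 2)
    (hfu : Commute f u) (hfne : f ≠ u) (hff : f * u ∉ classIn u f) {L : Subgroup G}
    (hout : ∃ t ∈ L, t ∈ classIn u f ∧ t ∉ M) (hx : x ∈ classIn u f) (hxL : x ∈ L) (hxM : x ∈ M) {t : G}
    (ht : t ∈ classIn u f) (htL : t ∈ L) : ∃ d ∈ L, d * t * d⁻¹ = x := by
  have key : ∀ {a b : G}, a ∈ classIn u f → a ∈ L → a ∈ M → b ∈ classIn u f → b ∈ L → b ∉ M →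
      ∃ d ∈ L, d * b * d⁻¹ = a := fun {a b} ha haL haM hb hbL hbM => by
    obtain ⟨d, hd, e⟩ := h.class_conj hu huM hf hfu hfne hff ha haM hb hbM
    refine ⟨d, (closure_le L).2 ?_ hd, e⟩
    rintro y (rfl | rfl) <;> assumption
  by_cases htM : t ∈ M
  · obtain ⟨t', ht'L, ht', ht'M⟩ := hout
    obtain ⟨d, hd, e⟩ := key hx hxL hxM ht' ht'L ht'M
    obtain ⟨d', hd', e'⟩ := key ht htL htM ht' ht'L ht'M
    exact ⟨d * d'⁻¹, mul_mem hd (inv_mem hd'), by rw [← e, ← e']; group⟩
  · exact key hx hxL hxM ht htL htM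

/-- A conjugate lying in `M` of an involution with centraliser in `M` has its centraliser there. -/
theorem AX.good_conj (h : AX M W) {y g : G} (hy : orderOf y = 2) (hyM : y ∈ M)
    (hC : centralizer ({y} : Set G) ≤ M) (hgy : g * y * g⁻¹ ∈ M) : centralizer ({g * y * g⁻¹} : Set G) ≤ M := by
  intro c hc
  have hg := h.fix hy hyM hC hgy
  rw [mem_centralizer_singleton_iff] at hc
  have h1 : g⁻¹ * c * g ∈ M := hC (mem_centralizer_singleton_iff.2 (by
    calc g⁻¹ * c * g * y = g⁻¹ * (c * (g * y * g⁻¹)) * g := by group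
      _ = g⁻¹ * (g * y * g⁻¹ * c) * g := by rw [hc]
      _ = y * (g⁻¹ * c * g) := by group))
  simpa [mul_assoc] using M.mul_mem (M.mul_mem hg h1) (M.inv_mem hg)

/-- If `f` is good and `f * u` bad, the class is closed under products of commuting members. -/
theorem AX.class_mul (h : AX M W) {u f a b : G} (hu : orderOf u = 2) (huM : u ∈ M) (hf : orderOf f = 2)
    (hfu : Commute f u) (hfne : f ≠ u) (hfM : f ∈ M) (hff : f * u ∉ classIn u f)
    (hbad : ∃ c : G, Commute c u ∧ c ∉ M) (hgood : centralizer ({f} : Set G) ≤ M)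
    (hfubad : ¬ centralizer ({f * u} : Set G) ≤ M)
    (ha : a ∈ classIn u f) (hb : b ∈ classIn u f) (hab : Commute a b) (hne : a ≠ b) :
    a * b ∈ classIn u f := by
  obtain ⟨c, hc, rfl⟩ := ha
  obtain ⟨b', hb'⟩ : ∃ b', b' = c⁻¹ * b * c := ⟨_, rfl⟩
  have hb'c : b' ∈ classIn u f := by
    have := conj_mem_classIn (d := c⁻¹) hc.inv_left hb
    rwa [inv_inv, ← hb'] at this
  obtain ⟨hb2, hbu, -, -⟩ := classIn_facts hu hf hfu hfne hff hb'c
  have hfb : Commute f b' := by
    have h1 := hab.map (MulAut.conj c⁻¹).toMonoidHom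
    simpa [hb', MulAut.conj_apply, mul_assoc] using h1
  have hb'M : b' ∈ M := hgood (mem_centralizer_singleton_iff.2 hfb.symm.eq)
  have hne' : f ≠ b' := fun e => hne (by
    calc c * f * c⁻¹ = c * b' * c⁻¹ := by rw [e]
      _ = b := by rw [hb']; group)
  obtain ⟨y, hy⟩ : ∃ y, y = f * b' := ⟨_, rfl⟩
  have hy2 : orderOf y = 2 := orderOf_two_iff.2 ⟨by
    rw [hy, show f * b' * (f * b') = f * (b' * f) * b' by group, hfb.symm.eq,
      show f * (f * b') * b' = f * f * (b' * b') by group, mul_self_of_orderOf_two hf,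
      mul_self_of_orderOf_two hb2, one_mul],
    fun e => hne' (by rw [hy] at e; rw [mul_eq_one_iff_eq_inv.1 e, inv_of_orderOf_two hb2])⟩
  have hyu : Commute y u := hy ▸ hfu.mul_left hbu
  have hyM : y ∈ M := hy ▸ M.mul_mem hfM hb'M
  have hyf : Commute f y := hy ▸ (Commute.refl f).mul_right hfb
  have hyne : y ≠ u := fun e => (classIn_facts hu hf hfu hfne hff hb'c).2.2.2 (by
    have : b' * u = f := by
      rw [← e, hy, ← mul_assoc, ← hfb.eq, mul_assoc, mul_self_of_orderOf_two hb2, mul_one]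
    rw [this]; exact ⟨1, Commute.one_left u, by group⟩)
  suffices hyc : y ∈ classIn u f by
    have := conj_mem_classIn hc hyc
    rwa [hy, hb', show c * (f * (c⁻¹ * b * c)) * c⁻¹ = c * f * c⁻¹ * b by group] at this
  rcases h.covers hu huM hbad hf hfM hfne hfu hff y hy2 hyu hyne with h1 | ⟨d, hd, hdy⟩
  · exact h1
  exfalso
  have hgu : ¬ centralizer ({u} : Set G) ≤ M := fun hle => by
    obtain ⟨c₀, hc₀, hc₀M⟩ := hbad
    exact hc₀M (hle (mem_centralizer_singleton_iff.2 hc₀.eq))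
  have hf2u : orderOf (f * u) = 2 := orderOf_two_iff.2 ⟨by
    rw [show f * u * (f * u) = f * (u * f) * u by group, ← hfu.eq,
      show f * (f * u) * u = f * f * (u * u) by group, mul_self_of_orderOf_two hf, mul_self_of_orderOf_two hu,
      one_mul], fun e => hfne (by rw [mul_eq_one_iff_eq_inv.1 e, inv_of_orderOf_two hu])⟩
  -- the product is bad
  have hybad : ¬ centralizer ({y} : Set G) ≤ M := fun hle => hfubad (by
    have e : d⁻¹ * y * (d⁻¹)⁻¹ = f * u := by
      calc d⁻¹ * y * (d⁻¹)⁻¹ = d⁻¹ * (y * u) * d * (d⁻¹ * u * d) := by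
            rw [show d⁻¹ * (y * u) * d * (d⁻¹ * u * d) = d⁻¹ * (y * (u * u)) * d by group,
              mul_self_of_orderOf_two hu]; group
        _ = f * u := by rw [← hdy, show d⁻¹ * (d * f * d⁻¹) * d = f by group, hd.inv_left.eq, inv_mul_cancel_right]
    rw [← e]
    exact h.good_conj hy2 hyM hle (e ▸ M.mul_mem hfM huM))
  obtain ⟨c₁, hc₁, hc₁M⟩ := SetLike.not_le_iff_exists.1 hybad
  have hgoodu : ∀ g : G, g * f * g⁻¹ = u → False := fun g e =>
    hgu (e ▸ h.good_conj hf hfM hgood (e ▸ huM))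
  obtain ⟨c₂, hc₂, hcb⟩ := hb'c
  have hfy : f * y = b' := by rw [hy, ← mul_assoc, mul_self_of_orderOf_two hf, one_mul]
  have hfney : f ≠ y := fun e => ne_one_of_orderOf_two hb2 (by rw [← hfy, e, mul_self_of_orderOf_two hy2])
  by_cases hff' : ∃ g, g * y = y * g ∧ g * f * g⁻¹ = f * y
  · -- `u` is then conjugate to its product with `y`, which is good
    obtain ⟨g, hg, hgy⟩ := h.conj_mul hy2 hyM hybad hf hfM hfney hyf.eq hff' hu huM (Ne.symm hyne) hyu.symm.eq
    exact hgoodu (g⁻¹ * d) (by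
      calc g⁻¹ * d * f * (g⁻¹ * d)⁻¹ = g⁻¹ * (d * f * d⁻¹) * g := by group
        _ = g⁻¹ * (u * y) * g := by rw [hdy, hyu.eq]
        _ = u := by rw [← hgy]; group)
  · have hff2 : f * y ∉ classIn y f := fun ⟨g, hg, e⟩ => hff' ⟨g, hg.eq, e⟩
    rcases h.covers hy2 hyM ⟨c₁, mem_centralizer_singleton_iff.1 hc₁, hc₁M⟩ hf hfM hfney hyf hff2 u hu hyu.symm
      (Ne.symm hyne) with ⟨g, -, e⟩ | ⟨g, hg, e⟩
    · exact hgoodu g e
    · exact hgoodu (g * c₂) (by
        calc g * c₂ * f * (g * c₂)⁻¹ = g * (c₂ * f * c₂⁻¹) * g⁻¹ := by group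
          _ = g * f * g⁻¹ * (g * y * g⁻¹) := by rw [hcb, ← hfy]; group
          _ = u * y * y := by rw [e, hg.eq, mul_inv_cancel_right]
          _ = u := by rw [mul_assoc, mul_self_of_orderOf_two hy2, mul_one])

end Cfsg.Agent.Invol.Core2
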