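import Cfsg.Agent.Lib.Invol.ConstrainedCoreClosure
import Cfsg.Agent.Lib.Local.CoreConsumers.Connected
import Cfsg.Agent.Lib.Transfer.SFT.Main
import Cfsg.Agent.S0205

/-!
# The closure of a signalizer functor over a group with connected graph of four-subgroups

An equivariant map that is a solvable functor on the elementary subgroups of order at least 8 of `P`, whose graph
of four-subgroups is connected, has one odd closure `W` over all four-subgroups of `P`, and an element moving a
commuting pair of involutions of `P` into `P` normalises `W`.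
-/

set_option autoImplicit false
set_option linter.unusedSectionVars false
set_option linter.style.haveILetI false

namespace Cfsg.Agent.Invol.Core2

open Subgroup

universe u

variable {G : Type u} [Group G] [Finite G]

/-- An equivariant map that is a functor on the elementary subgroups of order at least 8 of `P`. -/
structure EightFunctor (P : Subgroup G) (θ : G → Subgroup G) : Prop where
  conj : ∀ g a : G, orderOf a = 2 → (θ a).map (MulAut.conj g).toMonoidHom ≤ θ (g * a * g⁻¹)
  fn : ∀ E : Subgroup G, E ≤ P → Cfsg.IsElementaryAbelian 2 E → 8 ≤ Nat.card E →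
    Cfsg.IsSolvableSignalizerFunctor 2 E θ

variable {P : Subgroup G} {θ : G → Subgroup G}

theorem le_signalizerClosure {V : Subgroup G} {v : G} (hv : v ∈ V) (hv1 : v ≠ 1) :
    θ v ≤ Cfsg.signalizerClosure V θ :=
  le_iSup (fun a : {a : G // a ∈ V ∧ a ≠ 1} => θ (a : G)) ⟨v, hv, hv1⟩

theorem EightFunctor.closure_eq (h : EightFunctor P θ) {B F : Subgroup G} (hFP : F ≤ P)
    (hF : Cfsg.IsElementaryAbelian 2 F) (h8 : 8 ≤ Nat.card F) (hBF : B ≤ F) (h4 : 4 ≤ Nat.card B) :
    Cfsg.signalizerClosure B θ = Cfsg.signalizerClosure F θ := by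
  haveI : Fact (Nat.Prime 2) := ⟨Nat.prime_two⟩
  obtain ⟨-, hdvd, hnorm, hfix⟩ :=
    Transfer.SFT.closure_complete hF (by norm_num; exact h8) (h.fn F hFP hF h8)
  refine le_antisymm (iSup_le fun a => le_signalizerClosure (hBF a.2.1) a.2.2) ?_
  have hB : Cfsg.IsElementaryAbelian 2 B := Grp.elemAb_mono hF hBF
  refine Grp.le_of_hyperplanes hB (fun e => ?_) (Cfsg.signalizerClosure F θ) hdvd (hBF.trans hnorm)
    fun D hDB hrel => ?_
  · rw [e, Subgroup.card_bot] at h4; omega
  obtain ⟨⟨b, hb⟩, hb1⟩ := Subgroup.ne_bot_iff_exists_ne_one.1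
    (Grp.ne_bot_of_relIndex (p := 2) (by norm_num; exact h4) hrel)
  have hb1' : b ≠ 1 := fun e => hb1 (Subtype.ext e)
  calc Cfsg.signalizerClosure F θ ⊓ centralizer (D : Set G) ≤
      Cfsg.signalizerClosure F θ ⊓ centralizer ({b} : Set G) :=
        inf_le_inf_left _ (centralizer_le (Set.singleton_subset_iff.2 hb))
    _ = θ b := hfix b (hBF (hDB hb)) hb1'
    _ ≤ Cfsg.signalizerClosure B θ := le_signalizerClosure (hDB hb) hb1'

/-- The closure over a connected group of rank at least 3. -/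
theorem EightFunctor.exists_closure (h : EightFunctor P θ) (hc : Cfsg.IsFourConnected ↥P)
    (h3 : ¬ Cfsg.PRankLE 2 2 ↥P)
    (hk : ∀ t : ↥P, orderOf t = 2 → ∃ V : Subgroup ↥P, IsKleinFour V ∧ t ∈ V) :
    ∃ W : Subgroup G, Odd (Nat.card ↥W) ∧
      (∀ t ∈ P, orderOf t = 2 → θ t ≤ W ∧ W ⊓ centralizer ({t} : Set G) = θ t) ∧
      ∀ g a b : G, a ∈ P → b ∈ P → orderOf a = 2 → orderOf b = 2 → a ≠ b → Commute a b →
        g * a * g⁻¹ ∈ P → g * b * g⁻¹ ∈ P → g ∈ normalizer (W : Set G) := by
  haveI : Fact (Nat.Prime 2) := ⟨Nat.prime_two⟩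
  set ι := P.subtype with hι
  have hklein : ∀ V : Subgroup ↥P, IsKleinFour V → IsKleinFour ↥(V.map ι) := fun V hV =>
    Fus.FourGraph.isKleinFour_map ι P.subtype_injective hV
  obtain ⟨t₀, ht₀⟩ : ∃ t : ↥P, orderOf t = 2 := by
    obtain ⟨E, -, hE2, hEc⟩ : ∃ E : Subgroup P, IsMulCommutative E ∧ (∀ a ∈ E, a ^ 2 = 1) ∧
        2 ^ 2 < Nat.card E := by
      simpa [Cfsg.PRankLE] using h3
    haveI : Nontrivial E := Finite.one_lt_card_iff_nontrivial.1 (show 1 < Nat.card E by omega)
    obtain ⟨e, he⟩ := exists_ne (1 : E)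
    exact ⟨e, orderOf_eq_prime (hE2 e e.2) fun h1 => he (Subtype.ext h1)⟩
  obtain ⟨V₀, hV₀, -⟩ := hk t₀ ht₀
  set W := Cfsg.signalizerClosure (V₀.map ι) θ with hW
  -- commuting fours have the same closure
  have hadj : ∀ A B : Subgroup ↥P, IsKleinFour A → IsKleinFour B → (∀ a ∈ A, ∀ b ∈ B, a * b = b * a) →
      Cfsg.signalizerClosure (A.map ι) θ = Cfsg.signalizerClosure (B.map ι) θ := by
    intro A B hA hB hAB
    have hF := CoreConsumers.elemAb_map ι
      (ConstrainedCores.elemAb_sup (CoreConsumers.elemAb_of_klein hA) (CoreConsumers.elemAb_of_klein hB) hAB)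
    by_cases h8 : 8 ≤ Nat.card ↥((A ⊔ B).map ι)
    · exact (h.closure_eq (map_subtype_le _) hF h8 (map_mono le_sup_left) (hklein A hA).card_four.ge).trans
        (h.closure_eq (map_subtype_le _) hF h8 (map_mono le_sup_right) (hklein B hB).card_four.ge).symm
    · obtain ⟨k, hk'⟩ := IsPGroup.iff_card.1 (Grp.elemAb_isPGroup (p := 2) hF)
      have h4 : Nat.card ↥((A ⊔ B).map ι) = 4 := by
        have h1 := card_le_of_le (map_mono le_sup_left : A.map ι ≤ (A ⊔ B).map ι)
        rw [(hklein A hA).card_four] at h1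
        rw [hk'] at h1 h8 ⊢
        rcases Nat.lt_or_ge k 3 with hlt | hge
        · interval_cases k <;> omega
        · exact absurd (Nat.pow_le_pow_right two_pos hge) h8
      have e1 := eq_of_le_of_card_ge (map_mono le_sup_left : A.map ι ≤ (A ⊔ B).map ι)
        (by rw [h4, (hklein A hA).card_four])
      have e2 := eq_of_le_of_card_ge (map_mono le_sup_right : B.map ι ≤ (A ⊔ B).map ι)
        (by rw [h4, (hklein B hB).card_four])
      rw [e1, e2]
  have hsame : ∀ V : Subgroup ↥P, IsKleinFour V → Cfsg.signalizerClosure (V.map ι) θ = W := by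
    intro V hV
    have hchain := hc V₀ V hV₀ hV
    clear hV
    induction hchain with
    | refl => rfl
    | @tail A B _ hAB ih => rw [← ih]; exact (hadj A B hAB.1 hAB.2.1 hAB.2.2).symm
  -- every involution has an eight
  have height : ∀ t ∈ P, orderOf t = 2 → ∃ F : Subgroup G, F ≤ P ∧ Cfsg.IsElementaryAbelian 2 F ∧
      8 ≤ Nat.card F ∧ t ∈ F ∧ Cfsg.signalizerClosure F θ = W := by
    intro t ht ht2
    obtain ⟨V, hV, htV⟩ := hk ⟨t, ht⟩ (by rw [Subgroup.orderOf_mk, ht2])
    obtain ⟨F, hVF, hF, h8⟩ := CoreConsumers.exists_eight_ge hc h3 hV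
    have h8' : 8 ≤ Nat.card (F.map ι) := by rwa [card_map_of_injective P.subtype_injective]
    have hF' := CoreConsumers.elemAb_map ι hF
    refine ⟨F.map ι, map_subtype_le _, hF', h8', ⟨⟨t, ht⟩, hVF htV, rfl⟩, ?_⟩
    rw [← hsame V hV]
    exact (h.closure_eq (map_subtype_le _) hF' h8' (map_mono hVF) (hklein V hV).card_four.ge).symm
  refine ⟨W, ?_, fun t ht ht2 => ?_, fun g a b ha hb ha2 hb2 hne hab hga hgb => ?_⟩
  · obtain ⟨F, hFP, hF, h8, -, hFW⟩ := height t₀ t₀.2 (by rw [Subgroup.orderOf_coe, ht₀])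
    obtain ⟨-, hdvd, -, -⟩ := Transfer.SFT.closure_complete hF (by norm_num; exact h8) (h.fn F hFP hF h8)
    rw [hFW] at hdvd
    exact Nat.odd_iff.2 (Nat.two_dvd_ne_zero.1 hdvd)
  · obtain ⟨F, hFP, hF, h8, htF, hFW⟩ := height t ht ht2
    obtain ⟨-, -, -, hfix⟩ := Transfer.SFT.closure_complete hF (by norm_num; exact h8) (h.fn F hFP hF h8)
    have h1 : t ≠ 1 := fun e => by rw [e, orderOf_one] at ht2; omega
    exact ⟨(le_signalizerClosure htF h1).trans hFW.le, hFW ▸ hfix t htF h1⟩
  · have hpair : ∀ x y : G, x ∈ P → y ∈ P → orderOf x = 2 → orderOf y = 2 → x ≠ y → Commute x y →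
        ∃ K : Subgroup G, x ∈ K ∧ y ∈ K ∧ K ≤ zpowers x ⊔ zpowers y ∧ Cfsg.signalizerClosure K θ = W := by
      intro x y hx hy hx2 hy2 hxy hxyc
      obtain ⟨K, hK, hxK, hyK, hKle⟩ := CoreConsumers.exists_klein_of_commute hx2 hy2 hxy hxyc
      have hKP : K ≤ P := hKle.trans (sup_le (zpowers_le.2 hx) (zpowers_le.2 hy))
      refine ⟨K, hxK, hyK, hKle, ?_⟩
      have h1 := hsame (K.subgroupOf P)
        ⟨by rw [Nat.card_congr (subgroupOfEquivOfLe hKP).toEquiv]; exact hK.card_four,
          by rw [Monoid.exponent_eq_of_mulEquiv (subgroupOfEquivOfLe hKP)]; exact hK.exponent_two⟩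
      rwa [hι, Subgroup.map_subgroupOf_eq_of_le hKP] at h1
    obtain ⟨K, -, -, hKle, hKW⟩ := hpair a b ha hb ha2 hb2 hne hab
    obtain ⟨L, haL, hbL, -, hLW⟩ := hpair _ _ hga hgb
      (by rw [← ha2]; exact orderOf_injective (MulAut.conj g).toMonoidHom (MulAut.conj g).injective a)
      (by rw [← hb2]; exact orderOf_injective (MulAut.conj g).toMonoidHom (MulAut.conj g).injective b)
      (fun e => hne (by simpa using e)) (hab.map (MulAut.conj g).toMonoidHom)
    have hKL : K.map (MulAut.conj g).toMonoidHom ≤ L := by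
      refine (map_mono hKle).trans ?_
      rw [Subgroup.map_sup, MonoidHom.map_zpowers, MonoidHom.map_zpowers]
      exact sup_le (zpowers_le.2 haL) (zpowers_le.2 hbL)
    have hmap : W.map (MulAut.conj g).toMonoidHom ≤ W := by
      conv_lhs => rw [← hKW]
      refine Subgroup.map_le_iff_le_comap.2 (iSup_le fun x => Subgroup.map_le_iff_le_comap.1 ?_)
      have hx2 : orderOf (x : G) = 2 := by
        refine orderOf_eq_prime ?_ x.2.2
        have hKab := hKle x.2.1
        have hel := ConstrainedCores.elemAb_sup (ConstrainedCores.elemAb_zpowers (orderOf_eq_prime_iff.1 ha2).1)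
          (ConstrainedCores.elemAb_zpowers (orderOf_eq_prime_iff.1 hb2).1) (fun p hp q hq => by
            obtain ⟨i, rfl⟩ := mem_zpowers_iff.1 hp
            obtain ⟨j, rfl⟩ := mem_zpowers_iff.1 hq
            exact hab.zpow_zpow i j)
        exact hel.2 _ hKab
      refine (h.conj g x hx2).trans ?_
      rw [← hLW]
      exact le_signalizerClosure (hKL (mem_map_of_mem _ x.2.1)) fun e => x.2.2 (conj_eq_one_iff.1 e)
    have heqm := Subgroup.eq_of_le_of_card_ge hmap
      (le_of_eq (Subgroup.card_map_of_injective (MulAut.conj g).injective).symm)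
    exact mem_normalizer_fintype fun y hy => heqm.le (mem_map_of_mem _ hy)

end Cfsg.Agent.Invol.Core2
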