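import Cfsg.Agent.Lib.Invol.Core2.Setting
import Cfsg.Agent.Lib.Invol.Core2.Split

/-!
# Bad involutions of split type: the class covers the involutions

An involution of `M` and one outside, both centralising the bad involution `u`, have no common commuting
involution but `u`. Hence, if some `f` is not conjugate to `f * u`, every involution of the centraliser is
conjugate to `f` or to `f * u`.
-/

set_option autoImplicit false
set_option linter.unusedSectionVars false

namespace Cfsg.Agent.Invol.Core2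

open Subgroup

variable {G : Type*} [Group G] [Finite G] {M W : Subgroup G}

/-- An involution commuting with one inside and one outside `M` is `u`. -/
theorem AX.common_eq (h : AX M W) {u a b w : G} (hu : orderOf u = 2) (huM : u ∈ M) (ha : orderOf a = 2)
    (haM : a ∈ M) (hane : a ≠ u) (hau : a * u = u * a) (hbM : b ∉ M) (hbu : b * u = u * b) (hw : orderOf w = 2)
    (hwu : w * u = u * w) (hwa : w * a = a * w) (hwb : w * b = b * w) : w = u := by
  by_contra hwne
  have hwM : w ∈ M := h.bad_fix hu huM ha haM hane hau hwu (by rwa [hwa, mul_inv_cancel_right])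
  exact hbM (h.bad_fix hu huM hw hwM hwne hwu hbu (by rwa [← hwb, mul_inv_cancel_right]))

/-- The class of `f` covers the involutions of `C(u)` other than `u`, up to multiplication by `u`. -/
theorem AX.covers (h : AX M W) {u f : G} (hu : orderOf u = 2) (huM : u ∈ M)
    (hbad : ∃ c : G, Commute c u ∧ c ∉ M) (hf : orderOf f = 2) (hfM : f ∈ M) (hfne : f ≠ u) (hfu : Commute f u)
    (hff : f * u ∉ classIn u f) (y : G) (hy : orderOf y = 2) (hyu : Commute y u) (hyne : y ≠ u) :
    y ∈ classIn u f ∨ y * u ∈ classIn u f := by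
  obtain ⟨c₀, hc₀, hc₀M⟩ := hbad
  -- a member of the class on the other side of `M`
  obtain ⟨e, heu, e', he', hside⟩ : ∃ e : G, Commute e u ∧ ∃ e', e' = e * f * e⁻¹ ∧
      (y ∈ M ∧ e' ∉ M ∨ y ∉ M ∧ e' ∈ M) := by
    by_cases hyM : y ∈ M
    · exact ⟨c₀, hc₀, _, rfl, Or.inl ⟨hyM, fun hm => hc₀M (h.bad_fix hu huM hf hfM hfne hfu.eq hc₀.eq hm)⟩⟩
    · exact ⟨1, Commute.one_left u, f, by group, Or.inr ⟨hyM, hfM⟩⟩
  have heu' : Commute e' u := he' ▸ ((heu.mul_left hfu).mul_left heu.inv_left)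
  have he'2 : orderOf e' = 2 := by rw [he', orderOf_conj_eq, hf]
  have he'ne : e' ≠ u := fun hh => hfne (by
    calc f = e⁻¹ * e' * e := by rw [he']; group
      _ = u := by rw [hh, heu.inv_left.eq, inv_mul_cancel_right])
  have he'f : e' ∈ classIn u f := ⟨e, heu, he'.symm⟩
  -- no member of the class is conjugate to its product with `u`
  have hno : ∀ d : G, Commute d u → d * e' * d⁻¹ ≠ e' * u := fun d hd hh => hff ⟨e⁻¹ * d * e,
    (heu.inv_left.mul_left hd).mul_left heu, by
      calc e⁻¹ * d * e * f * (e⁻¹ * d * e)⁻¹ = e⁻¹ * (d * e' * d⁻¹) * e := by rw [he']; group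
        _ = e⁻¹ * e * f * (e⁻¹ * (u * e)) := by rw [hh, he']; group
        _ = f * u := by rw [← heu.eq, inv_mul_cancel_left, inv_mul_cancel, one_mul]⟩
  obtain ⟨a, b, hb, hab⟩ := Nat.exists_eq_two_pow_mul_odd (orderOf_pos (y * e')).ne'
  obtain ⟨d, hd, hdy, hord⟩ := exists_conj_two_part hy he'2 hab hb
  have hdu : Commute d u := by
    refine mem_centralizer_singleton_iff.1 ((closure_le _).2 ?_ hd)
    rintro x (rfl | rfl)
    · exact mem_centralizer_singleton_iff.2 hyu.eq
    · exact mem_centralizer_singleton_iff.2 heu'.eq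
  have hmem : d * e' * d⁻¹ ∈ classIn u f := ⟨d * e, hdu.mul_left heu, by rw [he']; group⟩
  rcases a with _ | a
  · rw [pow_zero, orderOf_eq_one_iff] at hord
    rw [hord, mul_one] at hdy
    exact Or.inl (hdy ▸ hmem)
  obtain ⟨w, hwdef⟩ : ∃ w, w = (y * e') ^ (2 ^ a * b) := ⟨_, rfl⟩
  have hyy : y * y = 1 := mul_self_of_orderOf_two hy
  have hpos : 0 < 2 ^ a * b := Nat.mul_pos (Nat.two_pow_pos _) hb.pos
  have hw2 : orderOf w = 2 := by
    rw [hwdef, orderOf_pow' _ hpos.ne', hab, Nat.gcd_eq_right ⟨2, by ring⟩,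
      show 2 ^ (a + 1) * b = 2 * (2 ^ a * b) by ring, Nat.mul_div_cancel _ hpos]
  have hwy : w * y = y * w := by
    have h1 := mul_zpow_comm hy he'2 ((2 ^ a * b : ℕ) : ℤ)
    rw [zpow_natCast, zpow_neg, zpow_natCast, ← hwdef, inv_of_orderOf_two hw2] at h1
    exact h1.symm
  have hp : w * (y * e') = y * e' * w := hwdef ▸ (Commute.self_pow (y * e') _).eq.symm
  have hwe : w * e' = e' * w := by
    calc w * e' = w * y * (y * e') := by rw [mul_assoc w y, ← mul_assoc y y, hyy, one_mul]
      _ = y * (w * (y * e')) := by rw [hwy, mul_assoc]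
      _ = y * y * e' * w := by rw [hp]; group
      _ = e' * w := by rw [hyy, one_mul]
  have hwu : w * u = u * w := hwdef ▸ ((hyu.mul_left heu').pow_left _).eq
  have hwu' : w = u := by
    rcases hside with ⟨hyM, heM⟩ | ⟨hyM, heM⟩
    · exact h.common_eq hu huM hy hyM hyne hyu.eq heM heu'.eq hw2 hwu hwy hwe
    · exact h.common_eq hu huM he'2 heM he'ne heu'.eq hyM hyu.eq hw2 hwu hwe hwy
  rcases a with _ | a
  · rw [pow_zero, one_mul] at hwdef
    rw [← hwdef, hwu'] at hdy
    exact Or.inr (hdy ▸ hmem)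
  · refine absurd ?_ (hno ((y * e') ^ (2 ^ a * b)) ((hyu.mul_left heu').pow_left _))
    have hr : e' * (y * e') * e'⁻¹ = (y * e')⁻¹ := by
      rw [mul_inv_rev, inv_of_orderOf_two he'2, inv_of_orderOf_two hy, mul_assoc, mul_assoc y e' e',
        mul_self_of_orderOf_two he'2, mul_one]
    have hr' : e' * (y * e') ^ (2 ^ a * b) * e'⁻¹ = ((y * e') ^ (2 ^ a * b))⁻¹ := by
      rw [← conj_pow, hr, inv_pow]
    have hsq : (y * e') ^ (2 ^ a * b) * (y * e') ^ (2 ^ a * b) = u := by
      rw [← pow_add, show 2 ^ a * b + 2 ^ a * b = 2 ^ (a + 1) * b by ring, ← hwdef, hwu']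
    obtain ⟨k, hk⟩ : ∃ k, k = (y * e') ^ (2 ^ a * b) := ⟨_, rfl⟩
    rw [← hk] at hr' hsq ⊢
    calc k * e' * k⁻¹ = k * e' * (e' * k * e'⁻¹) := by rw [hr']
      _ = k * (e' * e') * k * e'⁻¹ := by group
      _ = k * k * e'⁻¹ := by rw [mul_self_of_orderOf_two he'2, mul_one]
      _ = e' * u := by rw [hsq, inv_of_orderOf_two he'2, heu'.eq]

end Cfsg.Agent.Invol.Core2
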