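import Cfsg.Agent.Lib.Invol.Core2.Setting
import Cfsg.Agent.S1913

/-!
# The strongly embedded image at a maximal cyclic subgroup over a bad involution

Let `U` be a cyclic 2-subgroup over the bad involution `u` whose centraliser is not inside `M`, maximal such. In
`C(U)/U` the centralisers of the involutions commuting with the image of an involution of `M` are inside the image of
`M`, so the local hypothesis of Aschbacher's criterion is empty there.
-/

set_option autoImplicit false
set_option linter.unusedSectionVars false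
set_option linter.style.haveILetI false

namespace Cfsg.Agent.Invol.Core2

open Subgroup

variable {G : Type*} [Group G] [Finite G] {M W : Subgroup G}

/-- The data of a maximal cyclic subgroup over a bad involution. -/
structure Over (M U : Subgroup G) (u : G) : Prop where
  two : orderOf u = 2
  mem : u ∈ U
  le : U ≤ M
  comm : ∀ a ∈ U, ∀ b ∈ U, a * b = b * a
  uniq : ∀ a ∈ U, a * a = 1 → a = 1 ∨ a = u
  bad : ¬ centralizer (U : Set G) ≤ M
  max : ∀ v ∈ M, v ∈ centralizer (U : Set G) → v ∉ U → v * v ∈ U →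
    ∀ c ∈ centralizer (U : Set G), c * v = v * c → c ∈ M

/-- An element of `C(U)` commuting modulo `U` with such a `v` lies in `M` when an involution of `M` does so too. -/
theorem AX.quotient_centralizer_le (h : AX M W) {U : Subgroup G} {u : G} (o : Over M U u) {z v : G}
    (hz : orderOf z = 2) (hzM : z ∈ M) (hzU : z ∈ centralizer (U : Set G)) (hzne : z ≠ u) (hvM : v ∈ M)
    (hvU : v ∈ centralizer (U : Set G)) (hv : v ∉ U) (hv2 : v * v ∈ U) (hzv : v⁻¹ * (z * v * z⁻¹) ∈ U) {c : G}
    (hc : c ∈ centralizer (U : Set G)) (hcv : v⁻¹ * (c * v * c⁻¹) ∈ U) : c ∈ M := by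
  have hcom : ∀ {x : G}, x ∈ centralizer (U : Set G) → ∀ a ∈ U, x * a = a * x := fun hx a ha =>
    (mem_centralizer_iff.1 hx a ha).symm
  have hsmall : ∀ x ∈ centralizer (U : Set G), v⁻¹ * (x * v * x⁻¹) ∈ U →
      x * v * x⁻¹ = v ∨ x * v * x⁻¹ = v * u := by
    intro x hx hxU
    obtain ⟨a, rfl⟩ : ∃ a, a = v⁻¹ * (x * v * x⁻¹) := ⟨_, rfl⟩
    rcases o.uniq _ hxU (by
      have h1 : x * (v * v) * x⁻¹ = v * v := by rw [hcom hx _ hv2, mul_inv_cancel_right]
      have h2 := hcom hvU _ hxU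
      have h3 : v⁻¹ * (x * v * x⁻¹) * v⁻¹ = v⁻¹ * (v⁻¹ * (x * v * x⁻¹)) :=
        (hcom (inv_mem hvU) _ hxU).symm
      calc v⁻¹ * (x * v * x⁻¹) * (v⁻¹ * (x * v * x⁻¹))
          = v⁻¹ * (x * v * x⁻¹) * v⁻¹ * (x * v * x⁻¹) := by group
        _ = v⁻¹ * (v⁻¹ * (x * v * x⁻¹)) * (x * v * x⁻¹) := by rw [h3]
        _ = v⁻¹ * v⁻¹ * (x * (v * v) * x⁻¹) := by group
        _ = 1 := by rw [h1]; group) with e | e
    · left
      rwa [inv_mul_eq_one, eq_comm] at e
    · right
      rwa [inv_mul_eq_iff_eq_mul] at e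
  rcases hsmall c hc hcv with e | e
  · exact o.max v hvM hvU hv hv2 c hc (mul_inv_eq_iff_eq_mul.1 e)
  rcases hsmall z hzU hzv with e' | e'
  · have hzc : c * z * c⁻¹ ∈ M := by
      refine o.max v hvM hvU hv hv2 _ (mul_mem (mul_mem hc hzU) (inv_mem hc)) ?_
      have hu : v * u = u * v := hcom hvU u o.mem
      calc c * z * c⁻¹ * v = c * z * (c⁻¹ * (v * u) * c) * (c⁻¹ * u⁻¹) := by group
        _ = c * (z * v) * (c⁻¹ * u⁻¹) := by rw [← e]; group
        _ = c * (v * z) * (c⁻¹ * u⁻¹) := by rw [mul_inv_eq_iff_eq_mul.1 e']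
        _ = c * v * c⁻¹ * (c * z * c⁻¹) * u⁻¹ := by group
        _ = v * (u * (c * z * c⁻¹)) * u⁻¹ := by rw [e]; group
        _ = v * (c * z * c⁻¹ * u) * u⁻¹ := by rw [hcom (mul_mem (mul_mem hc hzU) (inv_mem hc)) u o.mem]
        _ = v * (c * z * c⁻¹) := by group
    exact h.bad_fix o.two (o.le o.mem) hz hzM hzne (hcom hzU u o.mem) (hcom hc u o.mem) hzc
  · have hcz : c * z ∈ M := by
      refine o.max v hvM hvU hv hv2 _ (mul_mem hc hzU) ?_
      refine mul_inv_eq_iff_eq_mul.1 ?_
      calc c * z * v * (c * z)⁻¹ = c * (z * v * z⁻¹) * c⁻¹ := by group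
        _ = c * v * c⁻¹ * (c * u * c⁻¹) := by rw [e']; group
        _ = v * u * u := by rw [e, hcom hc u o.mem, mul_inv_cancel_right]
        _ = v := by rw [mul_assoc, mul_self_of_orderOf_two o.two, mul_one]
    simpa [mul_assoc] using M.mul_mem hcz (M.inv_mem hzM)

/-- `U` as a subgroup of its centraliser. -/
abbrev Over.sub (U : Subgroup G) : Subgroup ↥(centralizer (U : Set G)) :=
  U.subgroupOf (centralizer (U : Set G))

instance Over.sub_normal (U : Subgroup G) : (Over.sub U).Normal := ⟨fun a ha g => by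
  rw [mem_subgroupOf] at ha ⊢
  rw [Subgroup.coe_mul, Subgroup.coe_mul, Subgroup.coe_inv, ← mem_centralizer_iff.1 g.2 _ ha,
    mul_inv_cancel_right]
  exact ha⟩

/-- Aschbacher's criterion in `C(U)/U`. -/
theorem AX.centralizer_se (h : AX M W) {U : Subgroup G} {u : G} (o : Over M U u)
    {z : ↥(centralizer (U : Set G))} (hz : orderOf z = 2) (hzM : (z : G) ∈ M) (hzne : (z : G) ≠ u)
    (P : Sylow 2 ↥(centralizer (U : Set G))) (hzP : z ∈ (P : Subgroup ↥(centralizer (U : Set G))))
    (hzc : ∀ r ∈ (P : Subgroup ↥(centralizer (U : Set G))), r * z * r⁻¹ * z⁻¹ ∈ Over.sub U) :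
    Cfsg.IsStronglyEmbedded (((M.subgroupOf (centralizer (U : Set G))).map
      (QuotientGroup.mk' (Over.sub U))).subgroupOf
        (Subgroup.normalClosure ({QuotientGroup.mk' (Over.sub U) z} :
          Set (↥(centralizer (U : Set G)) ⧸ Over.sub U)))) := by
  classical
  haveI : Fact (Nat.Prime 2) := ⟨Nat.prime_two⟩
  set π := QuotientGroup.mk' (Over.sub U) with hπ
  have hπs : Function.Surjective π := QuotientGroup.mk'_surjective _
  have hπeq : ∀ {x y}, π x = π y → (x : G)⁻¹ * y ∈ U := fun {x y} e => by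
    have := QuotientGroup.eq.1 e
    rwa [mem_subgroupOf] at this
  have hz2 : orderOf (z : G) = 2 := by rwa [Subgroup.orderOf_coe]
  have hzu : (z : G) * u = u * z := (mem_centralizer_iff.1 z.2 u o.mem).symm
  have hmem : ∀ x, π x ∈ (M.subgroupOf (centralizer (U : Set G))).map π ↔ (x : G) ∈ M := by
    refine fun x => ⟨?_, fun hx => ⟨x, hx, rfl⟩⟩
    rintro ⟨y, hy, e⟩
    simpa [mul_assoc] using M.mul_mem hy (o.le (hπeq e))
  have hzU : z ∉ Over.sub U := fun hm => by
    rcases o.uniq (z : G) hm (mul_self_of_orderOf_two hz2) with e | e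
    · exact ne_one_of_orderOf_two hz2 e
    · exact hzne e
  have hzπ : orderOf (π z) = 2 := orderOf_two_iff.2 ⟨by
    rw [← map_mul, mul_self_of_orderOf_two hz, map_one],
    fun e => hzU ((QuotientGroup.eq_one_iff z).1 e)⟩
  have hfix : ∀ {x : G}, x ∈ centralizer (U : Set G) → x * z * x⁻¹ ∈ M → x ∈ M := fun {x} hx hxz =>
    h.bad_fix o.two (o.le o.mem) hz2 hzM hzne hzu (mem_centralizer_iff.1 hx u o.mem).symm hxz
  refine Cfsg.Agent.S1913.result (P.mapSurjective hπs) (π z) hzπ ?_ _ (fun e => o.bad fun x hx =>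
    (hmem ⟨x, hx⟩).1 (e ▸ Subgroup.mem_top _)) (fun g => ?_) fun ū hū hcomm hnC => absurd ?_ hnC
  · refine ⟨⟨π z, ?_⟩, Subgroup.mem_center_iff.2 fun r => Subtype.ext ?_, rfl⟩
    · rw [Sylow.coe_mapSurjective]; exact ⟨z, hzP, rfl⟩
    · have hr : (r : ↥(centralizer (U : Set G)) ⧸ Over.sub U) ∈
          (P : Subgroup ↥(centralizer (U : Set G))).map π := by
        rw [← Sylow.coe_mapSurjective]; exact r.2
      obtain ⟨s, hs, e⟩ := hr
      show (r : ↥(centralizer (U : Set G)) ⧸ Over.sub U) * π z = π z * r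
      have h1 : π (s * z * s⁻¹ * z⁻¹) = 1 := (QuotientGroup.eq_one_iff _).2 (hzc s hs)
      rw [map_mul, map_mul, map_mul, map_inv, map_inv, mul_inv_eq_one, mul_inv_eq_iff_eq_mul] at h1
      rw [← e]
      exact h1
  · obtain ⟨x, rfl⟩ := hπs g
    rw [mem_map_conj, ← map_inv, ← map_mul, ← map_mul, hmem, hmem]
    refine ⟨fun hx => ?_, fun hx => ?_⟩
    · have := hfix (x := (x : G)⁻¹) (inv_mem x.2) (by rw [inv_inv]; simpa using hx)
      exact inv_mem_iff.1 this
    · simpa using M.mul_mem (M.mul_mem (M.inv_mem hx) hzM) hx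
  · obtain ⟨v, rfl⟩ := hπs ū
    have hv : (v : G) ∉ U := fun hv => ne_one_of_orderOf_two hū ((QuotientGroup.eq_one_iff v).2 hv)
    have hv2 : (v : G) * v ∈ U := by
      have := mul_self_of_orderOf_two hū
      rw [← map_mul] at this
      have h' := (QuotientGroup.eq_one_iff (v * v)).1 this
      simpa [mem_subgroupOf] using h'
    have hvz : (v : G)⁻¹ * (z * v * (z : G)⁻¹) ∈ U := by
      have e : π v = π (z * v * z⁻¹) := by rw [map_mul, map_mul, map_inv, ← hcomm, mul_inv_cancel_right]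
      exact hπeq e
    have hvM : (v : G) ∈ M := by
      refine hfix v.2 ?_
      have e : π z = π (v * z * v⁻¹) := by rw [map_mul, map_mul, map_inv, hcomm, mul_inv_cancel_right]
      simpa [mul_assoc] using M.mul_mem hzM (o.le (hπeq e))
    intro q hq
    obtain ⟨c, rfl⟩ := hπs q
    rw [mem_centralizer_singleton_iff] at hq
    refine (hmem c).2 (h.quotient_centralizer_le o hz2 hzM z.2 hzne hvM v.2 hv hv2 hvz c.2 ?_)
    have e : π v = π (c * v * c⁻¹) := by rw [map_mul, map_mul, map_inv, hq, mul_inv_cancel_right]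
    exact hπeq e

/-- A maximal cyclic subgroup over a bad involution exists. -/
theorem AX.exists_over (h : AX M W) {u : G} (hu : orderOf u = 2) (huM : u ∈ M)
    (hbad : ¬ centralizer ({u} : Set G) ≤ M) : ∃ U : Subgroup G, Over M U u := by
  classical
  cases nonempty_fintype (Subgroup G)
  let P : Subgroup G → Prop := fun U => u ∈ U ∧ U ≤ M ∧ (∀ a ∈ U, ∀ b ∈ U, a * b = b * a) ∧
    (∀ a ∈ U, a * a = 1 → a = 1 ∨ a = u) ∧ ¬ centralizer (U : Set G) ≤ M
  have h0 : P (zpowers u) := by
    have hcases : ∀ a ∈ zpowers u, a = 1 ∨ a = u := fun a ha => by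
      obtain ⟨i, rfl⟩ := mem_zpowers_iff.1 ha
      rcases Int.even_or_odd i with ⟨j, rfl⟩ | ⟨j, rfl⟩
      · exact Or.inl (by rw [← two_mul, zpow_mul, zpow_two, mul_self_of_orderOf_two hu, one_zpow])
      · exact Or.inr (by rw [zpow_add, zpow_mul, zpow_two, mul_self_of_orderOf_two hu, one_zpow, one_mul,
          zpow_one])
    refine ⟨mem_zpowers u, zpowers_le.2 huM, fun a ha b hb => ?_, fun a ha _ => hcases a ha,
      fun hle => hbad fun c hc => hle (mem_centralizer_iff.2 fun a ha => ?_)⟩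
    · rcases hcases a ha with rfl | rfl <;> rcases hcases b hb with rfl | rfl <;> simp
    · rcases hcases a ha with rfl | rfl
      · simp
      · exact (mem_centralizer_singleton_iff.1 hc).symm
  obtain ⟨U, hU, hmax⟩ := Finset.exists_max_image (Finset.univ.filter P) (fun U => Nat.card U)
    ⟨_, Finset.mem_filter.2 ⟨Finset.mem_univ _, h0⟩⟩
  obtain ⟨-, h1, h2, h3, h4, h5⟩ := Finset.mem_filter.1 hU
  refine ⟨U, hu, h1, h2, h3, h4, h5, fun v hvM hvC hvU _ c hc hcv => ?_⟩
  by_contra hcM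
  have hgen : ∀ x ∈ U ⊔ zpowers v, c * x = x * c := fun x hx => by
    refine mem_centralizer_singleton_iff.1 (show x ∈ centralizer ({c} : Set G) from ?_) |>.symm
    refine sup_le (fun a ha => ?_) (zpowers_le.2 ?_) hx
    · exact mem_centralizer_singleton_iff.2 (mem_centralizer_iff.1 hc a ha)
    · exact mem_centralizer_singleton_iff.2 hcv.symm
  have hcom : ∀ a ∈ U ⊔ zpowers v, ∀ b ∈ U ⊔ zpowers v, a * b = b * a := by
    have key : ∀ b ∈ U ⊔ zpowers v, b ∈ centralizer ((U ⊔ zpowers v : Subgroup G) : Set G) := by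
      refine fun b hb => sup_le (fun a ha => ?_) (zpowers_le.2 ?_) hb
      · refine mem_centralizer_iff.2 fun x hx => ?_
        refine mem_centralizer_singleton_iff.1 (show x ∈ centralizer ({a} : Set G) from ?_)
        refine sup_le (fun a' ha' => ?_) (zpowers_le.2 ?_) hx
        · exact mem_centralizer_singleton_iff.2 (h3 a' ha' a ha)
        · exact mem_centralizer_singleton_iff.2 (mem_centralizer_iff.1 hvC a ha).symm
      · refine mem_centralizer_iff.2 fun x hx => ?_
        refine mem_centralizer_singleton_iff.1 (show x ∈ centralizer ({v} : Set G) from ?_)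
        refine sup_le (fun a' ha' => ?_) (zpowers_le.2 ?_) hx
        · exact mem_centralizer_singleton_iff.2 (mem_centralizer_iff.1 hvC a' ha')
        · exact mem_centralizer_singleton_iff.2 rfl
    exact fun a ha b hb => mem_centralizer_iff.1 (key b hb) a ha
  have hle : U ⊔ zpowers v ≤ M := sup_le h2 (zpowers_le.2 hvM)
  have huniq : ∀ a ∈ U ⊔ zpowers v, a * a = 1 → a = 1 ∨ a = u := by
    intro a ha ha2
    by_contra hne
    rw [not_or] at hne
    refine hcM (h.bad_fix hu huM (orderOf_two_iff.2 ⟨ha2, hne.1⟩) (hle ha) hne.2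
      (hcom a ha u (mem_sup_left h1)) (mem_centralizer_iff.1 hc u h1).symm ?_)
    rw [hgen a ha, mul_inv_cancel_right]
    exact hle ha
  have hbad' : ¬ centralizer ((U ⊔ zpowers v : Subgroup G) : Set G) ≤ M := fun hh =>
    hcM (hh (mem_centralizer_iff.2 fun x hx => (hgen x hx).symm))
  have hcard := hmax (U ⊔ zpowers v) (Finset.mem_filter.2 ⟨Finset.mem_univ _, mem_sup_left h1, hle, hcom, huniq, hbad'⟩)
  exact hvU ((eq_of_le_of_card_ge le_sup_left hcard).symm ▸ mem_sup_right (mem_zpowers v))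

end Cfsg.Agent.Invol.Core2
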