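import Cfsg.Agent.Lib.Invol.Core2.SectionSE

/-!
# Bad involutions of split type: the class of the central involution does not generate `u`

When `f` is good and `f * u` bad the class is closed under products of commuting members, and `u` cannot lie in the
group it generates: the section would be covered twice by a closed class.
-/

set_option autoImplicit false
set_option linter.unusedSectionVars false

namespace Cfsg.Agent.Invol.Core2

open Subgroup

variable {G : Type*} [Group G] [Finite G] {M W : Subgroup G}

/-- `u` is outside the group generated by the members of the class centralising `U`. -/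
theorem AX.notMem_closure (h : AX M W) {u f : G} (hu : orderOf u = 2) (huM : u ∈ M) (hf : orderOf f = 2)
    (hfu : Commute f u) (hfne : f ≠ u) (hfM : f ∈ M) (hff : f * u ∉ classIn u f)
    (hbad : ∃ c : G, Commute c u ∧ c ∉ M) (hgood : centralizer ({f} : Set G) ≤ M)
    (hfubad : ¬ centralizer ({f * u} : Set G) ≤ M)
    (T : Subgroup G) (hTu : T ≤ centralizer ({u} : Set G))
    (hTsylow : ∀ R : Subgroup G, R ≤ centralizer ({u} : Set G) → IsPGroup 2 R →
      ∃ c : G, Commute c u ∧ ∀ r ∈ R, c * r * c⁻¹ ∈ T)
    (hTf : ∀ r ∈ T, Commute r f) :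
    ∀ U : Subgroup G, u ∈ U → U ≤ M → IsPGroup 2 U → (∀ a ∈ U, ∀ b ∈ U, a * b = b * a) →
      (∀ a ∈ U, a * a = 1 → a = 1 ∨ a = u) → (∃ x ∈ classOver U u f, x ∈ M) →
      (∃ t ∈ classOver U u f, t ∉ M) → u ∉ closure (classOver U u f) :=
  fun U huU hUM hUp hUc hUu hin hout huL =>
    h.section_cover_false hu huM hf hfu hfne hfM hff hbad U huU hUM hUp hUc hUu hin hout huL
      (Or.inl fun _ _ => h.class_mul hu huM hf hfu hfne hfM hff hbad hgood hfubad)
      (h.section_se hu huM hf hfu hfne hfM hff hbad T hTsylow hTf U huU hUM hUp hUc hUu hin hout)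

end Cfsg.Agent.Invol.Core2
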