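import Cfsg.Agent.Lib.Invol.Core2.BalancedCase
import Cfsg.Agent.Lib.Invol.Core2.Main

/-!
# The twisted input from the local facts

When `S` has an elementary subgroup of order 8, the three local facts give the chain argument; they also give
balance of the cores at commuting involutions of `S`, used for normalised fixed points.
-/

set_option autoImplicit false
set_option linter.unusedSectionVars false
set_option linter.style.haveILetI false

namespace Cfsg.Agent.Invol.Core2

open Subgroup

universe v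

/-- The Sylow subgroup has an elementary subgroup of order eight. -/
def HasEight {G : Type v} [Group G] (S : Sylow 2 G) : Prop :=
  ∃ F : Subgroup G, F ≤ (S : Subgroup G) ∧ Cfsg.IsElementaryAbelian 2 F ∧ Nat.card F = 8

/-- The local facts in the twisted case. -/
def TwistLocal : Prop :=
  ∀ (G : Type v) [Group G] [Finite G], Cfsg.oddCore G = ⊥ → IHyp.{v} (Nat.card G) →
    ∀ (M W : Subgroup G) (S : Sylow 2 G), (S : Subgroup G) ≤ M → AX M W → normalizer (W : Set G) ≤ M → W ≠ ⊥ →
    FixNormal W S → HasEight S →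
    ∀ u : G, u ∈ (S : Subgroup G) → orderOf u = 2 → (∀ s ∈ (S : Subgroup G), Commute s u) →
      (∀ a ∈ (S : Subgroup G), orderOf a = 2 → (∀ s ∈ (S : Subgroup G), Commute s a) → a = u) →
      (∃ c : G, Commute c u ∧ c ∉ M) →
      (∀ a ∈ (S : Subgroup G), orderOf a = 2 → ∃ m ∈ M, m * u * m⁻¹ = a) ∧
      (∀ a ∈ (S : Subgroup G), orderOf a = 2 → a ≠ u →
        ∃ w ∈ M, orderOf w = 2 ∧ Commute w u ∧ Commute w a ∧ w ≠ u ∧ w ≠ a ∧ w ≠ a * u) ∧
      (∀ y ∈ M, orderOf y = 2 → Commute y u → y ≠ u → ∀ D : Subgroup G, Odd (Nat.card D) →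
        D ≤ centralizer ({u} : Set G) → D ≤ M →
        (∀ g : G, Commute g u → Commute g y → ∀ d ∈ D, g * d * g⁻¹ ∈ D) → D ≤ coreC u)

/-- The twisted case without an elementary subgroup of order eight. -/
def TwistRankTwo : Prop :=
  ∀ (G : Type v) [Group G] [Finite G], Cfsg.oddCore G = ⊥ → IHyp.{v} (Nat.card G) →
    ∀ (M W : Subgroup G) (S : Sylow 2 G), (S : Subgroup G) ≤ M → AX M W → normalizer (W : Set G) ≤ M → W ≠ ⊥ →
    (∀ a ∈ (S : Subgroup G), orderOf a = 2 → W ⊓ centralizer ({a} : Set G) = coreC a) → ¬ HasEight S →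
    ∀ u : G, u ∈ (S : Subgroup G) → orderOf u = 2 → (∀ s ∈ (S : Subgroup G), Commute s u) →
      (∀ a ∈ (S : Subgroup G), orderOf a = 2 → (∀ s ∈ (S : Subgroup G), Commute s a) → a = u) →
      (∃ c : G, Commute c u ∧ c ∉ M) → False

variable {G : Type v} [Group G] [Finite G]

variable {M W : Subgroup G}

/-- Balance of the cores at commuting involutions of `S`. -/
theorem balance_of_local (h : AX M W) {S : Sylow 2 G} (hS : (S : Subgroup G) ≤ M) {u : G}
    (hu : u ∈ (S : Subgroup G)) (hu2 : orderOf u = 2)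
    (hone : ∀ a ∈ (S : Subgroup G), orderOf a = 2 → ∃ m ∈ M, m * u * m⁻¹ = a)
    (hloc : ∀ y ∈ M, orderOf y = 2 → Commute y u → y ≠ u → ∀ D : Subgroup G, Odd (Nat.card D) →
      D ≤ centralizer ({u} : Set G) → D ≤ M →
      (∀ g : G, Commute g u → Commute g y → ∀ d ∈ D, g * d * g⁻¹ ∈ D) → D ≤ coreC u)
    {a b : G} (ha : a ∈ (S : Subgroup G)) (ha2 : orderOf a = 2) (hb : b ∈ (S : Subgroup G)) (hb2 : orderOf b = 2)
    (hab : Commute a b) : coreC a ⊓ centralizer ({b} : Set G) ≤ coreC b := by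
  by_cases hne : a = b
  · subst hne; exact inf_le_left
  obtain ⟨m, hm, rfl⟩ := hone b hb hb2
  set D := (coreC a ⊓ centralizer ({m * u * m⁻¹} : Set G)).map (MulAut.conj m⁻¹).toMonoidHom with hD
  have hy2 : orderOf (m⁻¹ * a * m) = 2 := by
    have := orderOf_conj_eq m⁻¹ a
    rwa [inv_inv, ha2] at this
  have hyu : Commute (m⁻¹ * a * m) u := by
    have := hab.map (MulAut.conj m⁻¹).toMonoidHom
    simpa [mul_assoc] using this
  have hyne : m⁻¹ * a * m ≠ u := fun e => hne (by rw [← e]; group)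
  have hDu : ∀ x ∈ D, Commute x u ∧ Commute x (m⁻¹ * a * m) := by
    rintro _ ⟨y, hy, rfl⟩
    refine ⟨?_, ?_⟩
    · have := (show Commute y (m * u * m⁻¹) from mem_centralizer_singleton_iff.1 hy.2).map
        (MulAut.conj m⁻¹).toMonoidHom
      simpa [mul_assoc] using this
    · have := (show Commute y a from Grp.centralizerPPrimeCore_commute hy.1).map
        (MulAut.conj m⁻¹).toMonoidHom
      simpa [mul_assoc] using this
  have hyM : m⁻¹ * a * m ∈ M := mul_mem (mul_mem (inv_mem hm) (hS ha)) hm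
  have hle : D ≤ coreC u := by
    refine hloc _ hyM hy2 hyu hyne D ?_ (fun x hx => mem_centralizer_singleton_iff.2 (hDu x hx).1.eq)
      (fun x hx => h.bad_fix hu2 (hS hu) hy2 hyM hyne hyu.eq (hDu x hx).1.eq (by
        rw [(hDu x hx).2.eq, mul_inv_cancel_right]; exact hyM)) ?_
    · rw [hD, card_map_of_injective (MulAut.conj m⁻¹).injective]
      exact (coreC_odd a).of_dvd_nat (card_dvd_of_le inf_le_left)
    · rintro g hgu hgy _ ⟨y, hy, rfl⟩
      have h1 : Commute (m * g * m⁻¹) a := by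
        have := hgy.map (MulAut.conj m).toMonoidHom
        simpa [mul_assoc] using this
      have h2 : Commute (m * g * m⁻¹) (m * u * m⁻¹) := by
        have := hgu.map (MulAut.conj m).toMonoidHom
        simpa using this
      refine ⟨m * g * m⁻¹ * y * (m * g * m⁻¹)⁻¹, ⟨Grp.centralizerPPrimeCore_conj h1.eq hy.1,
        mem_centralizer_singleton_iff.2 ((h2.mul_left (mem_centralizer_singleton_iff.1 hy.2)).mul_left
          h2.inv_left).eq⟩, ?_⟩
      simp [mul_assoc]
  intro x hx
  have h1 := CoreConsumers.map_conj_core_le u m (mem_map_of_mem _ (hle (mem_map_of_mem _ hx)))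
  simpa [mul_assoc] using h1

/-- The twisted input from the local facts. -/
theorem twistInput_of (hL : TwistLocal.{v}) (h2 : TwistRankTwo.{v}) : TwistInput.{v} := by
  intro G _ _ hO IH M W S hS h hN hW hfix u hu hu2 hcu huniq hbad
  by_cases h8 : HasEight S
  swap
  · exact h2 G hO IH M W S hS h hN hW hfix h8 u hu hu2 hcu huniq hbad
  have hfix' : FixNormal W S := fun a ha ha2 g hg w hw => by
    rw [hfix a ha ha2] at hw ⊢
    exact Grp.centralizerPPrimeCore_conj hg.eq hw
  obtain ⟨hone, hthird, hloc⟩ := hL G hO IH M W S hS h hN hW hfix' h8 u hu hu2 hcu huniq hbad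
  exact TwistCase.false_of_twist ⟨h, hS, hN, hu, hu2, hcu, hbad, hfix, hone, hthird, hloc⟩ hO hW IH

end Cfsg.Agent.Invol.Core2
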