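import Cfsg.Agent.Lib.Invol.Core2.ClassTools
import Cfsg.Agent.Lib.Fus.SClosedSE.Main
import Cfsg.Agent.S1913

/-!
# Bad involutions of split type: the strongly embedded section of the class

Let `f` be central in a Sylow 2-subgroup of `C(u)`, with `f * u` outside its class, let `U` be an abelian 2-group
over `u` with a single involution, and `L` the group generated by the members of the class centralising `U`. By
Aschbacher's criterion `M` meets `L / (U ∩ L)` in a strongly embedded subgroup; the local hypothesis comes from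
the larger groups `U`, for which `U ∩ L` lies in `⟨u⟩` as there is no double cover of a group of Bender's type.
-/

set_option autoImplicit false
set_option linter.unusedSectionVars false
set_option linter.style.haveILetI false

namespace Cfsg.Agent.Invol.Core2

open Subgroup

variable {G : Type*} [Group G] [Finite G] {M W : Subgroup G}

instance classOver_normal (U : Subgroup G) (u f : G) :
    (U.subgroupOf (closure (classOver U u f))).Normal := ⟨fun a ha g => by
  rw [mem_subgroupOf] at ha ⊢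
  rw [Subgroup.coe_mul, Subgroup.coe_mul, Subgroup.coe_inv,
    ← mem_centralizer_iff.1 ((closure_le _).2 (fun y (hy : y ∈ classOver U u f) => hy.2) g.2) _ ha,
    mul_inv_cancel_right]
  exact ha⟩

/-- The conclusion for the groups over `U`. -/
def BoundAbove (M U : Subgroup G) (u f : G) : Prop :=
  ∀ U' : Subgroup G, Nat.card U < Nat.card U' → u ∈ U' → U' ≤ M → IsPGroup 2 U' →
    (∀ a ∈ U', ∀ b ∈ U', a * b = b * a) → (∀ a ∈ U', a * a = 1 → a = 1 ∨ a = u) →
    (∃ x ∈ classOver U' u f, x ∈ M) → (∃ t ∈ classOver U' u f, t ∉ M) →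
    ∀ a ∈ U', a ∈ closure (classOver U' u f) → a = 1 ∨ a = u

/-- The section of the class has a strongly embedded subgroup, given the bound for the larger groups. -/
theorem AX.section_se_of (h : AX M W) {u f : G} (hu : orderOf u = 2) (huM : u ∈ M) (hf : orderOf f = 2)
    (hfu : Commute f u) (hfne : f ≠ u) (hfM : f ∈ M) (hff : f * u ∉ classIn u f)
    (T : Subgroup G) (hTsylow : ∀ R : Subgroup G, R ≤ centralizer ({u} : Set G) → IsPGroup 2 R →
      ∃ c : G, Commute c u ∧ ∀ r ∈ R, c * r * c⁻¹ ∈ T)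
    (hTf : ∀ r ∈ T, Commute r f) (U : Subgroup G)
    (huU : u ∈ U) (hUM : U ≤ M) (hUp : IsPGroup 2 U) (hUc : ∀ a ∈ U, ∀ b ∈ U, a * b = b * a)
    (hUu : ∀ a ∈ U, a * a = 1 → a = 1 ∨ a = u) (hin : ∃ x ∈ classOver U u f, x ∈ M)
    (hout : ∃ t ∈ classOver U u f, t ∉ M) (hno : BoundAbove M U u f) :
    Cfsg.IsStronglyEmbedded ((M.subgroupOf (closure (classOver U u f))).map
      (QuotientGroup.mk' (U.subgroupOf (closure (classOver U u f))))) := by
  haveI : Fact (Nat.Prime 2) := ⟨Nat.prime_two⟩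
  obtain ⟨x, ⟨hx, hxU⟩, hxM⟩ := hin
  obtain ⟨t₀, ⟨ht₀, ht₀U⟩, ht₀M⟩ := hout
  have hfacts := fun y (hy : y ∈ classIn u f) => classIn_facts hu hf hfu hfne hff hy
  set L := closure (classOver U u f) with hL
  have hLC : L ≤ centralizer (U : Set G) := (closure_le _).2 fun y hy => hy.2
  have hLu : L ≤ centralizer ({u} : Set G) := hLC.trans (centralizer_le (Set.singleton_subset_iff.2 huU))
  have hsub : ∀ {y}, y ∈ classIn u f → y ∈ centralizer (U : Set G) → y ∈ L := fun h1 h2 =>
    subset_closure ⟨h1, h2⟩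
  have hxL : x ∈ L := hsub hx hxU
  set N : Subgroup ↥L := U.subgroupOf L with hN
  -- elements of the class commute as soon as they commute modulo `U`
  have hcomm : ∀ y ∈ classIn u f, y ∈ centralizer (U : Set G) → ∀ g ∈ centralizer (U : Set G),
      y⁻¹ * (g * y * g⁻¹) ∈ U → Commute g y := by
    intro y hy hyU g hgU hm
    obtain ⟨hy2, hyu, -, hyy⟩ := hfacts y hy
    obtain ⟨a, ha⟩ : ∃ a, a = y⁻¹ * (g * y * g⁻¹) := ⟨_, rfl⟩
    rw [← ha] at hm
    have hya : g * y * g⁻¹ = y * a := by rw [ha]; group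
    have hay : a * y = y * a := mem_centralizer_iff.1 hyU a hm
    have haa : a * a = 1 := by
      have h1 : y * a * (y * a) = 1 := by
        rw [← hya, show g * y * g⁻¹ * (g * y * g⁻¹) = g * (y * y) * g⁻¹ by group, mul_self_of_orderOf_two hy2]
        group
      calc a * a = y * y * (a * a) := by rw [mul_self_of_orderOf_two hy2, one_mul]
        _ = y * (a * y) * a := by rw [hay]; group
        _ = y * a * (y * a) := by group
        _ = 1 := h1
    rcases hUu a hm haa with rfl | rfl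
    · rw [mul_one, mul_inv_eq_iff_eq_mul] at hya
      exact hya
    · refine absurd (hya ▸ conj_mem_classIn ?_ hy) hyy
      exact (mem_centralizer_iff.1 hgU a hm).symm
  have hnotN : ∀ {y : ↥L}, (y : G) ∈ classIn u f → y ∉ N := fun {y} hy hm => by
    obtain ⟨hy2, -, hyne, -⟩ := hfacts _ hy
    exact (hUu _ (mem_subgroupOf.1 hm) (mul_self_of_orderOf_two hy2)).elim (ne_one_of_orderOf_two hy2) hyne
  set π := QuotientGroup.mk' N with hπ
  have hπs : Function.Surjective π := QuotientGroup.mk'_surjective N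
  have hπeq : ∀ {a b : ↥L}, π a = π b → (a : G)⁻¹ * b ∈ U := fun e => by
    have := QuotientGroup.eq.1 e
    rwa [mem_subgroupOf] at this
  set HQ := (M.subgroupOf L).map π with hHQ
  have hmem : ∀ a : ↥L, π a ∈ HQ ↔ (a : G) ∈ M := by
    refine fun a => ⟨?_, fun ha => ⟨a, ha, rfl⟩⟩
    rintro ⟨b, hb, e⟩
    simpa [mul_assoc] using M.mul_mem hb (hUM (hπeq e))
  obtain ⟨hx2, hxu, hxne, -⟩ := hfacts x hx
  set z : ↥L := ⟨x, hxL⟩ with hz
  have hπ2 : ∀ {y : ↥L}, (y : G) ∈ classIn u f → orderOf (π y) = 2 := fun {y} hy => orderOf_two_iff.2 ⟨by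
    rw [← map_mul, show y * y = 1 from Subtype.ext (mul_self_of_orderOf_two (hfacts _ hy).1), map_one],
    fun e => hnotN hy ((QuotientGroup.eq_one_iff y).1 e)⟩
  have hone : ∀ y ∈ classIn u f, y ∈ L → ∃ d ∈ L, d * y * d⁻¹ = x := fun y hy hyL =>
    h.class_conj_in hu huM hf hfu hfne hff ⟨t₀, hsub ht₀ ht₀U, ht₀, ht₀M⟩ hx hxL hxM hy hyL
  -- a Sylow subgroup of `L` centralised by a member of the class
  obtain ⟨P, hzP, hzc⟩ : ∃ P : Sylow 2 ↥L, z ∈ (P : Subgroup ↥L) ∧ ∀ r ∈ (P : Subgroup ↥L), Commute r z := by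
    obtain ⟨R⟩ : Nonempty (Sylow 2 ↥L) := inferInstance
    have hR₀ : IsPGroup 2 ↥((R : Subgroup ↥L).map L.subtype ⊔ U) :=
      (R.isPGroup'.map _).to_sup_of_normal_right' hUp fun a ha => by
        obtain ⟨r, -, rfl⟩ := ha
        refine Subgroup.mem_normalizer_iff.2 fun b => ?_
        have hc : ∀ b ∈ U, (r : G) * b * (r : G)⁻¹ = b := fun b hb => by
          rw [← mem_centralizer_iff.1 (hLC r.2) b hb, mul_inv_cancel_right]
        refine ⟨fun hb => ?_, fun hb => ?_⟩
        · show (r : G) * b * (r : G)⁻¹ ∈ U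
          rw [hc b hb]; exact hb
        · have hb' : (r : G) * b * (r : G)⁻¹ ∈ U := hb
          have h1 := hc _ hb'
          have h2 : (r : G) * b * (r : G)⁻¹ = b := mul_left_cancel (a := (r : G)) (mul_right_cancel (b := (r : G)⁻¹) h1)
          rwa [h2] at hb'
    obtain ⟨c, hc, hcT⟩ := hTsylow _ (sup_le ((map_subtype_le _).trans hLu) fun a ha =>
      mem_centralizer_singleton_iff.2 (hUc a ha u huU)) hR₀
    obtain ⟨t, ht⟩ : ∃ t, t = c⁻¹ * f * c := ⟨_, rfl⟩
    have htc : t ∈ classIn u f := ⟨c⁻¹, hc.inv_left, by rw [ht, inv_inv]⟩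
    have htR : ∀ r ∈ (R : Subgroup ↥L).map L.subtype ⊔ U, Commute r t := fun r hr => by
      have h1 := (hTf _ (hcT r hr)).map (MulAut.conj c⁻¹).toMonoidHom
      simpa [ht, MulAut.conj_apply, mul_assoc] using h1
    have htU : t ∈ centralizer (U : Set G) := mem_centralizer_iff.2 fun a ha => htR a (mem_sup_right ha)
    obtain ⟨d, hd, hdt⟩ := hone t htc (hsub htc htU)
    set t' : ↥L := ⟨t, hsub htc htU⟩ with ht'
    have htR' : t' ∈ (R : Subgroup ↥L) := by
      have h1 : IsPGroup 2 ↥(zpowers t' ⊔ (R : Subgroup ↥L)) :=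
        (IsPGroup.of_card (n := 1) (by rw [Nat.card_zpowers, pow_one, ← Subgroup.orderOf_coe,
          (hfacts _ htc).1])).to_sup_of_normal_right' R.isPGroup' (zpowers_le.2 (mem_normalizer_iff.2 fun b => by
            have hb : ∀ b ∈ (R : Subgroup ↥L), t' * b * t'⁻¹ = b := fun b hb => Subtype.ext (by
              have := htR _ (mem_sup_left ⟨b, hb, rfl⟩)
              show t * (b : G) * t⁻¹ = b
              rw [show t * (b : G) = b * t from this.eq.symm]
              exact mul_inv_cancel_right _ _)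
            refine ⟨fun hb' => ?_, fun hb' => ?_⟩
            · rw [hb b hb']; exact hb'
            · have h1 := hb _ hb'
              have h2 : t' * b * t'⁻¹ = b := mul_left_cancel (a := t') (mul_right_cancel (b := t'⁻¹) h1)
              rwa [h2] at hb'))
      rw [← R.is_maximal' h1 le_sup_right]
      exact mem_sup_left (mem_zpowers _)
    refine ⟨(⟨d, hd⟩ : ↥L) • R, ?_, fun r hr => ?_⟩
    · rw [Sylow.coe_subgroup_smul]
      refine ⟨t', htR', Subtype.ext ?_⟩
      simpa using hdt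
    · rw [Sylow.coe_subgroup_smul] at hr
      obtain ⟨r', hr', rfl⟩ := hr
      refine Subtype.ext ?_
      have h1 := (htR _ (mem_sup_left ⟨r', hr', rfl⟩)).map (MulAut.conj d).toMonoidHom
      simp only [MulEquiv.toMonoidHom_eq_coe, MonoidHom.coe_coe, MulAut.conj_apply, coe_subtype, hdt] at h1
      simpa [hz, mul_assoc] using h1.eq
  -- the criterion in `L / (U ∩ L)`
  have hse := Cfsg.Agent.S1913.result (P.mapSurjective hπs) (π z) (hπ2 hx)
    (by
      refine ⟨⟨π z, ?_⟩, Subgroup.mem_center_iff.2 fun r => Subtype.ext ?_, rfl⟩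
      · rw [Sylow.coe_mapSurjective]; exact ⟨z, hzP, rfl⟩
      · have hr : (r : ↥L ⧸ N) ∈ (P : Subgroup ↥L).map π := by rw [← Sylow.coe_mapSurjective]; exact r.2
        obtain ⟨s, hs, e⟩ := hr
        show (r : ↥L ⧸ N) * π z = π z * r
        rw [← e, ← map_mul, ← map_mul, (hzc s hs).eq])
    HQ (fun e => ht₀M ((hmem ⟨t₀, hsub ht₀ ht₀U⟩).1 (e ▸ mem_top _))) ?hi ?hii
  case hi =>
    intro g
    obtain ⟨a, rfl⟩ := hπs g
    rw [mem_map_conj, ← map_inv, ← map_mul, ← map_mul, hmem, hmem]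
    refine ⟨fun ha => ?_, fun ha => ?_⟩
    · refine inv_mem_iff.1 (h.bad_fix hu huM hx2 hxM hxne hxu.eq
        (mem_centralizer_singleton_iff.1 (hLu (inv_mem a.2))) ?_)
      rw [inv_inv]
      simpa [hz] using ha
    · simpa [hz] using M.mul_mem (M.mul_mem (M.inv_mem ha) hxM) ha
  case hii =>
    intro ū hū hūz hnC
    obtain ⟨v, rfl⟩ := hπs ū
    have hvU : (v : G) ∉ U := fun hv => ne_one_of_orderOf_two hū ((QuotientGroup.eq_one_iff v).2 hv)
    have hv2 : (v : G) * v ∈ U := by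
      have h1 := mul_self_of_orderOf_two hū
      rw [← map_mul] at h1
      have h2 := (QuotientGroup.eq_one_iff (v * v)).1 h1
      exact mem_subgroupOf.1 h2
    have hliftc : ∀ y : ↥L, (y : G) ∈ classIn u f → π y * π v = π v * π y → Commute (v : G) (y : G) := fun y hy e => by
      refine hcomm _ hy (hLC y.2) _ (hLC v.2) (hπeq (b := v * y * v⁻¹) ?_)
      rw [map_mul, map_mul, map_inv, ← e, mul_inv_cancel_right]
    have hvx : Commute (v : G) x := hliftc z hx hūz.symm
    have hvM : (v : G) ∈ M := h.bad_fix hu huM hx2 hxM hxne hxu.eq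
      (mem_centralizer_singleton_iff.1 (hLu v.2)) (by rw [hvx.eq, mul_inv_cancel_right]; exact hxM)
    obtain ⟨c, hc, hcM⟩ := SetLike.not_le_iff_exists.1 hnC
    obtain ⟨c, rfl⟩ := hπs c
    rw [mem_centralizer_singleton_iff] at hc
    rw [hmem] at hcM
    set zc : ↥L := c * z * c⁻¹ with hzcd
    have hzcc : (zc : G) ∈ classIn u f :=
      conj_mem_classIn (mem_centralizer_singleton_iff.1 (hLu c.2)) hx
    have hzcM : (zc : G) ∉ M := fun hm => hcM (h.bad_fix hu huM hx2 hxM hxne hxu.eq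
      (mem_centralizer_singleton_iff.1 (hLu c.2)) hm)
    have hzcv : π zc * π v = π v * π zc := by
      rw [hzcd, map_mul, map_mul, map_inv]
      calc π c * π z * (π c)⁻¹ * π v = π c * π z * ((π c)⁻¹ * π v) := by group
        _ = π c * (π z * π v) * (π c)⁻¹ := by
          rw [show (π c)⁻¹ * π v = π v * (π c)⁻¹ from ((show Commute (π c) (π v) from hc).inv_left).eq]; group
        _ = π c * π v * π z * (π c)⁻¹ := by rw [← hūz]; group
        _ = π v * (π c * π z * (π c)⁻¹) := by rw [hc]; group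
    -- the larger group
    set U' := U ⊔ zpowers (v : G) with hU'
    have hle' : U' ≤ M := sup_le hUM (zpowers_le.2 hvM)
    have hUv : ∀ a ∈ U, a * (v : G) = v * a := fun a ha => mem_centralizer_iff.1 (hLC v.2) a ha
    have hcent : ∀ g : G, (∀ a ∈ U, a * g = g * a) → (v : G) * g = g * v → ∀ a ∈ U', a * g = g * a := by
      intro g h1 h2 a ha
      refine mem_centralizer_singleton_iff.1 (?_ : a ∈ centralizer ({g} : Set G))
      exact sup_le (fun b hb => mem_centralizer_singleton_iff.2 (h1 b hb))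
        (zpowers_le.2 (mem_centralizer_singleton_iff.2 h2)) ha
    have hU'c : ∀ a ∈ U', ∀ b ∈ U', a * b = b * a := fun a ha b hb =>
      hcent b (fun a' ha' => (hcent a' (fun b' hb' => hUc b' hb' a' ha') (hUv a' ha').symm b hb).symm)
        ((hcent v hUv rfl b hb).symm) a ha
    have hvp : IsPGroup 2 ↥(zpowers (v : G)) := by
      obtain ⟨k, hk⟩ := hUp ⟨_, hv2⟩
      have hk' : (v : G) ^ 2 ^ (k + 1) = 1 := by
        rw [pow_succ', pow_mul, pow_two]
        exact congrArg Subtype.val hk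
      obtain ⟨j, -, hj⟩ := (Nat.dvd_prime_pow Nat.prime_two).1 (orderOf_dvd_of_pow_eq_one hk')
      exact IsPGroup.of_card (n := j) (by rw [Nat.card_zpowers, hj])
    have hU'p : IsPGroup 2 U' := hUp.to_sup_of_normal_right' hvp fun a ha => by
      refine Subgroup.mem_normalizer_iff.2 fun b => ?_
      have hfix' : ∀ b ∈ zpowers (v : G), a * b * a⁻¹ = b := fun b hb => by
        rw [hU'c a (mem_sup_left ha) b (mem_sup_right hb), mul_inv_cancel_right]
      refine ⟨fun hb => ?_, fun hb => ?_⟩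
      · rw [hfix' b hb]; exact hb
      · have h1 := hfix' _ hb
        have h2 : a * b * a⁻¹ = b := mul_left_cancel (a := a) (mul_right_cancel (b := a⁻¹) h1)
        rwa [h2] at hb
    have hover : ∀ y : ↥L, (y : G) ∈ classIn u f → π y * π v = π v * π y → (y : G) ∈ classOver U' u f :=
      fun y hy e => ⟨hy, mem_centralizer_iff.2
        (hcent y (fun a ha => mem_centralizer_iff.1 (hLC y.2) a ha) (hliftc y hy e).eq)⟩
    have hzc' := hover zc hzcc hzcv
    have hU'u : ∀ a ∈ U', a * a = 1 → a = 1 ∨ a = u := by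
      intro a ha ha2
      by_contra hne
      rw [not_or] at hne
      have hau : a * u = u * a := hU'c a ha u (mem_sup_left huU)
      have haz : ∀ y ∈ classOver U' u f, a * y = y * a := fun y hy => mem_centralizer_iff.1 hy.2 a ha
      exact hzcM (h.bad_fix hu huM (orderOf_two_iff.2 ⟨ha2, hne.1⟩) (hle' ha) hne.2 hau
        (hfacts _ hzcc).2.1.eq (by rw [← haz _ hzc', mul_inv_cancel_right]; exact hle' ha))
    have hlt : Nat.card U < Nat.card U' := lt_of_le_of_ne (card_le_of_le le_sup_left) fun e =>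
      hvU ((eq_of_le_of_card_ge (le_sup_left : U ≤ U') e.ge).symm ▸ mem_sup_right (mem_zpowers _))
    have hno' : ∀ a ∈ U', a ∈ closure (classOver U' u f) → a = 1 ∨ a = u :=
      hno U' hlt (mem_sup_left huU) hle' hU'p hU'c hU'u ⟨x, hover z hx hūz.symm, hxM⟩ ⟨_, hzc', hzcM⟩
    -- the group generated by the conjugates of `π z` commuting with `π v`
    set L' := closure {q : ↥L ⧸ N | IsConj (π z) q ∧ q * π v = π v * q} with hL'
    set L₁ : Subgroup ↥L := (closure (classOver U' u f)).comap L.subtype with hL₁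
    have hL'le : L' ≤ L₁.map π := (closure_le _).2 fun q hq => by
      obtain ⟨g, hg⟩ := _root_.isConj_iff.1 hq.1
      obtain ⟨g, rfl⟩ := hπs g
      rw [← map_inv, ← map_mul, ← map_mul] at hg
      refine ⟨g * z * g⁻¹, ?_, hg⟩
      show ((g * z * g⁻¹ : ↥L) : G) ∈ closure (classOver U' u f)
      refine subset_closure (hover _ (conj_mem_classIn (mem_centralizer_singleton_iff.1 (hLu g.2)) hx) ?_)
      rw [hg]; exact hq.2
    have hzcL' : π zc ∈ L' := subset_closure ⟨_root_.isConj_iff.2 ⟨π c, by rw [hzcd, map_mul, map_mul, map_inv]⟩, hzcv⟩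
    have hzL' : π z ∈ L' := subset_closure ⟨IsConj.refl _, hūz.symm⟩
    refine Fus.SClosedSE.se_intro (fun hle => hzcM ((hmem zc).1 (hle hzcL'))) (hπ2 hx) hzL' ((hmem z).2 hxM) ?_
    intro g hg hgH q hq2 hqL hqH hgq
    obtain ⟨s, hs, rfl⟩ := hL'le hqL
    obtain ⟨g₁, hg₁, rfl⟩ := hL'le hg
    have hsU : (s : G) * s ∈ U := by
      have h1 := mul_self_of_orderOf_two hq2
      rw [← map_mul] at h1
      have h2 := (QuotientGroup.eq_one_iff (s * s)).1 h1
      exact mem_subgroupOf.1 h2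
    have hsL' : (s : G) ∈ closure (classOver U' u f) := hs
    rw [hmem] at hqH hgH
    rw [← map_inv, ← map_mul, ← map_mul, hmem] at hgq
    have hsN : (s : G) ∉ U := fun e =>
      ne_one_of_orderOf_two hq2 ((QuotientGroup.eq_one_iff s).2 (mem_subgroupOf.2 e))
    have hsne : (s : G) ≠ u := fun e => hsN (e ▸ huU)
    have hg₁u := mem_centralizer_singleton_iff.1 (hLu (inv_mem g₁.2))
    refine hgH (inv_mem_iff.1 ?_)
    rcases hno' _ (mem_sup_left hsU) (mul_mem hsL' hsL') with hss | hss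
    · refine h.bad_fix hu huM (orderOf_two_iff.2 ⟨hss, fun e => hsN (e ▸ U.one_mem)⟩) hqH hsne
        (mem_centralizer_singleton_iff.1 (hLu s.2)) hg₁u ?_
      rw [inv_inv]
      simpa using hgq
    · -- an element of order four of the larger group turns `s` into an involution
      obtain ⟨v₀, hv₀, hv₀2⟩ : ∃ v₀ ∈ U', v₀ * v₀ = u := by
        obtain ⟨a, ha, ha1⟩ : ∃ a ∈ U', a * a ≠ 1 := by
          refine ⟨v, mem_sup_right (mem_zpowers _), fun e => ?_⟩
          rcases hU'u _ (mem_sup_right (mem_zpowers _)) e with e' | e'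
          · exact hvU (e' ▸ U.one_mem)
          · exact hvU (e' ▸ huU)
        obtain ⟨k, hk⟩ := IsPGroup.iff_orderOf.1 hU'p ⟨a, ha⟩
        rw [← Subgroup.orderOf_coe] at hk
        rcases k with _ | _ | k
        · exact absurd (by rw [show a = 1 from orderOf_eq_one_iff.1 (by simpa using hk), mul_one]) ha1
        · exact absurd (mul_self_of_orderOf_two (by simpa using hk)) ha1
        · refine ⟨a ^ 2 ^ k, pow_mem ha _, ?_⟩
          have hp : orderOf (a ^ 2 ^ (k + 1)) = 2 := by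
            rw [orderOf_pow_of_dvd (by positivity) (hk ▸ pow_dvd_pow 2 (Nat.le_succ _)), hk, pow_succ,
              Nat.mul_div_cancel_left _ (by positivity)]
          rw [← pow_add, ← two_mul, ← pow_succ']
          exact (hU'u _ (pow_mem ha _) (mul_self_of_orderOf_two hp)).resolve_left (ne_one_of_orderOf_two hp)
      have hL'C : closure (classOver U' u f) ≤ centralizer (U' : Set G) := (closure_le _).2 fun y hy => hy.2
      have hvs : v₀ * (s : G) = s * v₀ := mem_centralizer_iff.1 (hL'C hsL') _ hv₀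
      have hsU' : (s : G) ∉ U' := fun hm => (hno' _ hm hsL').elim
        (fun e => hsN (e ▸ U.one_mem)) hsne
      have hy2 : orderOf (v₀ * (s : G)) = 2 := orderOf_two_iff.2 ⟨by
        rw [show v₀ * (s : G) * (v₀ * s) = v₀ * (s * v₀) * s by group, ← hvs,
          show v₀ * (v₀ * (s : G)) * s = v₀ * v₀ * ((s : G) * s) by group, hv₀2, hss,
          mul_self_of_orderOf_two hu],
        fun e => hsU' ((eq_inv_of_mul_eq_one_right e).symm ▸ inv_mem hv₀)⟩
      refine h.bad_fix hu huM hy2 (M.mul_mem (hle' hv₀) hqH) (fun e => hsU' ?_) ?_ hg₁u ?_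
      · rw [show (s : G) = v₀⁻¹ * (v₀ * s) by group, e]
        exact mul_mem (inv_mem hv₀) (mem_sup_left huU)
      · exact mem_centralizer_singleton_iff.1 (mul_mem
          (mem_centralizer_singleton_iff.2 (hU'c v₀ hv₀ u (mem_sup_left huU))) (hLu s.2))
      · have hg₁v : (g₁ : G)⁻¹ * v₀ = v₀ * (g₁ : G)⁻¹ :=
          (mem_centralizer_iff.1 (hL'C (inv_mem hg₁)) _ hv₀).symm
        rw [inv_inv, show (g₁ : G)⁻¹ * (v₀ * s) * g₁ = (g₁ : G)⁻¹ * v₀ * (s * g₁) by group, hg₁v,
          show v₀ * (g₁ : G)⁻¹ * (s * g₁) = v₀ * ((g₁ : G)⁻¹ * s * g₁) by group]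
        exact M.mul_mem (hle' hv₀) (by simpa using hgq)
  have hK : Subgroup.normalClosure ({π z} : Set (↥L ⧸ N)) = ⊤ := by
    rw [eq_top_iff]
    intro q _
    obtain ⟨a, rfl⟩ := hπs q
    have ha : L ≤ ((normalClosure ({π z} : Set (↥L ⧸ N))).comap π).map L.subtype := (closure_le _).2 fun y hy => by
      refine ⟨⟨y, subset_closure hy⟩, ?_, rfl⟩
      obtain ⟨d, hd, hdy⟩ := hone y hy.1 (subset_closure hy)
      have e : π ⟨y, subset_closure hy⟩ = (π ⟨d, hd⟩)⁻¹ * π z * ((π ⟨d, hd⟩)⁻¹)⁻¹ := by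
        rw [inv_inv, ← map_inv, ← map_mul, ← map_mul]
        refine congrArg π (Subtype.ext ?_)
        show y = d⁻¹ * x * d
        rw [← hdy]; group
      refine mem_comap.2 ?_
      rw [e]
      exact (normalClosure_normal (s := ({π z} : Set (↥L ⧸ N)))).conj_mem (π z)
        (subset_normalClosure (Set.mem_singleton (π z))) (π ⟨d, hd⟩)⁻¹
    obtain ⟨b, hb, e⟩ := ha a.2
    rw [← (Subtype.ext e : b = a)]
    exact hb
  rw [hK] at hse
  refine ⟨fun e => ht₀M ((hmem ⟨t₀, hsub ht₀ ht₀U⟩).1 (e ▸ mem_top _)),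
    even_card_of_mem (t := π z) (hπ2 hx) ((hmem z).2 hxM), fun g hg => Nat.not_even_iff_odd.1 fun he => ?_⟩
  obtain ⟨q, hq, hq2⟩ := exists_orderOf_two_mem he
  exact Fus.SClosedSE.se_elim hse (mem_top g) hg hq2 (mem_top q) hq.1 (mem_map_conj.1 hq.2)


/-- A section with a strongly embedded subgroup does not contain `u` when the class is closed or `U ∩ L` is not
`⟨u⟩`. -/
theorem AX.section_cover_false (h : AX M W) {u f : G} (hu : orderOf u = 2) (huM : u ∈ M) (hf : orderOf f = 2)
    (hfu : Commute f u) (hfne : f ≠ u) (hfM : f ∈ M) (hff : f * u ∉ classIn u f)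
    (hbad : ∃ c : G, Commute c u ∧ c ∉ M) (U : Subgroup G)
    (huU : u ∈ U) (hUM : U ≤ M) (hUp : IsPGroup 2 U) (hUc : ∀ a ∈ U, ∀ b ∈ U, a * b = b * a)
    (hUu : ∀ a ∈ U, a * a = 1 → a = 1 ∨ a = u) (hin : ∃ x ∈ classOver U u f, x ∈ M)
    (hout : ∃ t ∈ classOver U u f, t ∉ M)
    (huL : u ∈ closure (classOver U u f))
    (hcase : (∀ a b : G, a ∈ classIn u f → b ∈ classIn u f → Commute a b → a ≠ b → a * b ∈ classIn u f) ∨
      2 < Nat.card ↥(U.subgroupOf (closure (classOver U u f))))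
    {X : Subgroup (↥(closure (classOver U u f)) ⧸ U.subgroupOf (closure (classOver U u f)))}
    (hX : Cfsg.IsStronglyEmbedded X) : False := by
  haveI : Fact (Nat.Prime 2) := ⟨Nat.prime_two⟩
  obtain ⟨x, ⟨hx, hxU⟩, hxM⟩ := hin
  obtain ⟨t₀, ⟨ht₀, ht₀U⟩, ht₀M⟩ := hout
  have hfacts := fun y (hy : y ∈ classIn u f) => classIn_facts hu hf hfu hfne hff hy
  set L := closure (classOver U u f) with hL
  have hLC : L ≤ centralizer (U : Set G) := (closure_le _).2 fun y hy => hy.2
  have hLu : L ≤ centralizer ({u} : Set G) := hLC.trans (centralizer_le (Set.singleton_subset_iff.2 huU))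
  have hsub : ∀ {y}, y ∈ classIn u f → y ∈ centralizer (U : Set G) → y ∈ L := fun h1 h2 =>
    subset_closure ⟨h1, h2⟩
  have hxL : x ∈ L := hsub hx hxU
  set N : Subgroup ↥L := U.subgroupOf L with hN
  have huN : (⟨u, huL⟩ : ↥L) ∈ N := mem_subgroupOf.2 huU
  -- elements of the class commute as soon as they commute modulo `U`
  have hcomm : ∀ y ∈ classIn u f, y ∈ centralizer (U : Set G) → ∀ g ∈ centralizer (U : Set G),
      y⁻¹ * (g * y * g⁻¹) ∈ U → Commute g y := by
    intro y hy hyU g hgU hm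
    obtain ⟨hy2, hyu, -, hyy⟩ := hfacts y hy
    obtain ⟨a, ha⟩ : ∃ a, a = y⁻¹ * (g * y * g⁻¹) := ⟨_, rfl⟩
    rw [← ha] at hm
    have hya : g * y * g⁻¹ = y * a := by rw [ha]; group
    have hay : a * y = y * a := mem_centralizer_iff.1 hyU a hm
    have haa : a * a = 1 := by
      have h1 : y * a * (y * a) = 1 := by
        rw [← hya, show g * y * g⁻¹ * (g * y * g⁻¹) = g * (y * y) * g⁻¹ by group, mul_self_of_orderOf_two hy2]
        group
      calc a * a = y * y * (a * a) := by rw [mul_self_of_orderOf_two hy2, one_mul]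
        _ = y * (a * y) * a := by rw [hay]; group
        _ = y * a * (y * a) := by group
        _ = 1 := h1
    rcases hUu a hm haa with rfl | rfl
    · rw [mul_one, mul_inv_eq_iff_eq_mul] at hya
      exact hya
    · refine absurd (hya ▸ conj_mem_classIn ?_ hy) hyy
      exact (mem_centralizer_iff.1 hgU a hm).symm
  have hnotN : ∀ {y : ↥L}, (y : G) ∈ classIn u f → y ∉ N := fun {y} hy hm => by
    obtain ⟨hy2, -, hyne, -⟩ := hfacts _ hy
    exact (hUu _ (mem_subgroupOf.1 hm) (mul_self_of_orderOf_two hy2)).elim (ne_one_of_orderOf_two hy2) hyne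
  set π := QuotientGroup.mk' N with hπ
  have hπs : Function.Surjective π := QuotientGroup.mk'_surjective N
  have hπeq : ∀ {a b : ↥L}, π a = π b → (a : G)⁻¹ * b ∈ U := fun e => by
    have := QuotientGroup.eq.1 e
    rwa [mem_subgroupOf] at this
  set HQ := (M.subgroupOf L).map π with hHQ
  have hmem : ∀ a : ↥L, π a ∈ HQ ↔ (a : G) ∈ M := by
    refine fun a => ⟨?_, fun ha => ⟨a, ha, rfl⟩⟩
    rintro ⟨b, hb, e⟩
    simpa [mul_assoc] using M.mul_mem hb (hUM (hπeq e))
  obtain ⟨hx2, hxu, hxne, -⟩ := hfacts x hx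
  set z : ↥L := ⟨x, hxL⟩ with hz
  -- the double cover
  obtain ⟨k, hk⟩ := IsPGroup.iff_card.1 (hUp.comap_subtype (K := L))
  change Nat.card N = 2 ^ k at hk
  obtain ⟨j, rfl⟩ : ∃ j, k = j + 1 := by
    rcases k with _ | j
    · rw [pow_zero, Subgroup.card_eq_one] at hk
      rw [hk, mem_bot] at huN
      exact absurd (congrArg Subtype.val huN) (ne_one_of_orderOf_two hu)
    · exact ⟨j, rfl⟩
  obtain ⟨N₁', hN₁'⟩ := Sylow.exists_subgroup_card_pow_prime 2 (G := N) (n := j) (by rw [hk]; exact pow_dvd_pow 2 (Nat.le_succ j))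
  set N₁ := N₁'.map N.subtype with hN₁
  have hN₁le : N₁ ≤ N := map_subtype_le _
  haveI hN₁n : N₁.Normal := ⟨fun a ha g => by
    have hc : g * a = a * g := Subtype.ext
      (mem_centralizer_iff.1 (hLC g.2) _ (mem_subgroupOf.1 (hN₁le ha))).symm
    rw [hc, mul_inv_cancel_right]
    exact ha⟩
  have hN₁c : Nat.card N₁ = 2 ^ j := by rw [hN₁, card_map_of_injective N.subtype_injective, hN₁']
  obtain ⟨e₀, he₀, he₁⟩ : ∃ e ∈ N, e ∉ N₁ := SetLike.not_le_iff_exists.1 fun hle => by
    have h1 := card_le_of_le hle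
    rw [hk, hN₁c, pow_succ] at h1
    have : 0 < 2 ^ j := Nat.two_pow_pos j
    omega
  set φ : ↥L ⧸ N₁ →* ↥L ⧸ N := QuotientGroup.map N₁ N (MonoidHom.id _) hN₁le with hφ
  have hφ' : ∀ a : ↥L, φ (QuotientGroup.mk' N₁ a) = π a := fun a => rfl
  have hφs : Function.Surjective φ := fun q => by
    obtain ⟨a, rfl⟩ := hπs q
    exact ⟨_, hφ' a⟩
  have hker : ∀ q, φ q = 1 → q = 1 ∨ q = QuotientGroup.mk' N₁ e₀ := by
    intro q hq
    obtain ⟨a, rfl⟩ := QuotientGroup.mk'_surjective N₁ q
    have haN : a ∈ N := (QuotientGroup.eq_one_iff a).1 hq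
    have hidx : (N₁.subgroupOf N).index = 2 := by
      have h1 := (N₁.subgroupOf N).card_mul_index
      rw [Nat.card_congr (subgroupOfEquivOfLe hN₁le).toEquiv, hN₁c, hk, pow_succ] at h1
      exact Nat.eq_of_mul_eq_mul_left (Nat.two_pow_pos j) h1
    by_cases ha : a ∈ N₁
    · exact Or.inl ((QuotientGroup.eq_one_iff a).2 ha)
    · refine Or.inr (QuotientGroup.eq.2 ?_)
      have h2 := (Subgroup.mul_mem_iff_of_index_two hidx (a := (⟨a, haN⟩ : N)⁻¹) (b := ⟨e₀, he₀⟩)).2
        (iff_of_false (by simpa [mem_subgroupOf] using ha) (by simpa [mem_subgroupOf] using he₁))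
      simpa [mem_subgroupOf] using h2
  set Z := {q : ↥L ⧸ N₁ | ∃ a : ↥L, (a : G) ∈ classIn u f ∧ QuotientGroup.mk' N₁ a = q} with hZ
  have hlift2 : ∀ {a : ↥L}, (a : G) ∈ classIn u f → orderOf (QuotientGroup.mk' N₁ a) = 2 := fun {a} ha =>
    orderOf_two_iff.2 ⟨by rw [← map_mul, show a * a = 1 from Subtype.ext (mul_self_of_orderOf_two (hfacts _ ha).1), map_one],
      fun e => hnotN ha (hN₁le ((QuotientGroup.eq_one_iff a).1 e))⟩
  have he₀2 : orderOf (QuotientGroup.mk' N₁ e₀) = 2 := by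
    refine orderOf_two_iff.2 ⟨?_, fun e => he₁ ((QuotientGroup.eq_one_iff e₀).1 e)⟩
    rcases hker (QuotientGroup.mk' N₁ e₀ * QuotientGroup.mk' N₁ e₀) (by
      rw [← map_mul, hφ']; exact (QuotientGroup.eq_one_iff _).2 (mul_mem he₀ he₀)) with e | e
    · exact e
    · exact absurd ((QuotientGroup.eq_one_iff e₀).1 (mul_eq_left.1 e)) he₁
  have hcov : ∀ {X : Subgroup (↥L ⧸ N)}, Cfsg.IsStronglyEmbedded X → False := by
    intro X hX
    refine Fus.SClosedSE.se_cover_false φ hφs (QuotientGroup.mk' N₁ e₀) (fun q => ?_) he₀2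
      ((hφ' e₀).trans ((QuotientGroup.eq_one_iff e₀).2 he₀)) hker X hX Z ⟨_, z, hx, rfl⟩ ?_ ?_ ?_ ?_ ?_
    · obtain ⟨a, rfl⟩ := QuotientGroup.mk'_surjective N₁ q
      rw [← map_mul, ← map_mul]
      refine congrArg _ (Subtype.ext ?_)
      exact mem_centralizer_iff.1 (hLC a.2) _ (mem_subgroupOf.1 he₀)
    · rintro _ ⟨a, ha, rfl⟩
      exact hlift2 ha
    · rintro _ ⟨a, ha, rfl⟩ q
      obtain ⟨g, rfl⟩ := QuotientGroup.mk'_surjective N₁ q
      exact ⟨g * a * g⁻¹, conj_mem_classIn (mem_centralizer_singleton_iff.1 (hLu g.2)) ha, by rw [map_mul, map_mul, map_inv]⟩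
    · rw [eq_top_iff]
      intro q _
      obtain ⟨a, rfl⟩ := QuotientGroup.mk'_surjective N₁ q
      have ha : L ≤ ((closure Z).comap (QuotientGroup.mk' N₁)).map L.subtype := (closure_le _).2 fun y hy =>
        ⟨⟨y, subset_closure hy⟩, subset_closure (show QuotientGroup.mk' N₁ _ ∈ Z from ⟨_, hy.1, rfl⟩), rfl⟩
      obtain ⟨b, hb, e⟩ := ha a.2
      rw [← (Subtype.ext e : b = a)]
      exact hb
    · rintro ⟨a, ha, e⟩
      have h1 := QuotientGroup.eq.1 e
      exact hnotN ha (by simpa using mul_mem he₀ (inv_mem (hN₁le h1)))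
    · rintro _ ⟨a, ha, rfl⟩ _ ⟨b, hb, rfl⟩ hab hne
      have hab' : Commute (b : G) (a : G) := by
        refine hcomm _ ha (hLC a.2) _ (hLC b.2) ?_
        have e : QuotientGroup.mk' N₁ a = QuotientGroup.mk' N₁ (b * a * b⁻¹) := by
          rw [map_mul, map_mul, map_inv, ← hab, mul_inv_cancel_right]
        exact mem_subgroupOf.1 (hN₁le (QuotientGroup.eq.1 e))
      have hne' : (a : G) ≠ b := fun e => hne (by rw [show a = b from Subtype.ext e])
      rcases hcase with hcl | hbig
      · exact ⟨a * b, hcl a b ha hb hab'.symm hne', map_mul _ _ _⟩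
      obtain ⟨ha2, hau, -, haa⟩ := hfacts _ ha
      obtain ⟨hb2, hbu, -, -⟩ := hfacts _ hb
      have hy2 : orderOf ((a : G) * b) = 2 := orderOf_two_iff.2 ⟨by
        rw [show (a : G) * b * (a * b) = a * (b * a) * b by group, hab'.eq,
          show (a : G) * (a * b) * b = a * a * (b * b) by group, mul_self_of_orderOf_two ha2,
          mul_self_of_orderOf_two hb2, one_mul],
        fun e => hne' (by rw [mul_eq_one_iff_eq_inv.1 e, inv_of_orderOf_two hb2])⟩
      have hyne : (a : G) * b ≠ u := fun e => haa ((show (b : G) = a * u by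
        conv_rhs => rw [← e, ← mul_assoc, mul_self_of_orderOf_two ha2, one_mul]) ▸ hb)
      -- `u` lies in the kernel of the cover
      have hj : 1 ≤ j := by
        rcases j with _ | j
        · rw [hk] at hbig; norm_num at hbig
        · omega
      obtain ⟨e, he, he2⟩ := exists_orderOf_two_mem (H := N₁) (by
        rw [hN₁c]; exact Nat.even_pow.2 ⟨even_two, by omega⟩)
      have heu : (e : G) = u := (hUu _ (mem_subgroupOf.1 (hN₁le he))
        (mul_self_of_orderOf_two (by rw [orderOf_coe]; exact he2))).resolve_left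
        (ne_one_of_orderOf_two (by rw [orderOf_coe]; exact he2))
      rcases h.covers hu huM hbad hf hfM hfne hfu hff _ hy2 (hau.mul_left hbu) hyne with hc | hc
      · exact ⟨a * b, hc, map_mul _ _ _⟩
      · refine ⟨a * b * e, (by rw [Subgroup.coe_mul, Subgroup.coe_mul, heu]; exact hc), ?_⟩
        rw [map_mul, map_mul, show QuotientGroup.mk' N₁ e = 1 from (QuotientGroup.eq_one_iff e).2 he, mul_one]
  exact hcov hX

/-- For the groups over `⟨u⟩` the part of `U` in the group generated by the class lies in `⟨u⟩`. -/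
theorem AX.section_le (h : AX M W) {u f : G} (hu : orderOf u = 2) (huM : u ∈ M) (hf : orderOf f = 2)
    (hfu : Commute f u) (hfne : f ≠ u) (hfM : f ∈ M) (hff : f * u ∉ classIn u f)
    (hbad : ∃ c : G, Commute c u ∧ c ∉ M)
    (T : Subgroup G) (hTsylow : ∀ R : Subgroup G, R ≤ centralizer ({u} : Set G) → IsPGroup 2 R →
      ∃ c : G, Commute c u ∧ ∀ r ∈ R, c * r * c⁻¹ ∈ T)
    (hTf : ∀ r ∈ T, Commute r f) (U : Subgroup G) (h2 : 2 < Nat.card U)
    (huU : u ∈ U) (hUM : U ≤ M) (hUp : IsPGroup 2 U) (hUc : ∀ a ∈ U, ∀ b ∈ U, a * b = b * a)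
    (hUu : ∀ a ∈ U, a * a = 1 → a = 1 ∨ a = u) (hin : ∃ x ∈ classOver U u f, x ∈ M)
    (hout : ∃ t ∈ classOver U u f, t ∉ M) :
    ∀ a ∈ U, a ∈ closure (classOver U u f) → a = 1 ∨ a = u := by
  haveI : Fact (Nat.Prime 2) := ⟨Nat.prime_two⟩
  induction hn : Nat.card G - Nat.card U using Nat.strong_induction_on generalizing U with
  | _ n ih =>
  intro a haU haL
  by_contra hne
  rw [not_or] at hne
  have hno : BoundAbove M U u f := fun U' hlt h1 h2' h3 h4 h5 h6 h7 =>
    ih (Nat.card G - Nat.card U') (by have := card_le_card_group U'; omega) U' (by omega) h1 h2' h3 h4 h5 h6 h7 rfl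
  obtain ⟨k, hk⟩ := IsPGroup.iff_orderOf.1 hUp ⟨a, haU⟩
  rw [← Subgroup.orderOf_coe] at hk
  rcases k with _ | _ | k
  · exact hne.1 (orderOf_eq_one_iff.1 (by simpa using hk))
  · exact (hUu a haU (mul_self_of_orderOf_two (by simpa using hk))).elim hne.1 hne.2
  have hp : orderOf (a ^ 2 ^ (k + 1)) = 2 := by
    rw [orderOf_pow_of_dvd (by positivity) (hk ▸ pow_dvd_pow 2 (Nat.le_succ _)), hk, pow_succ,
      Nat.mul_div_cancel_left _ (by positivity)]
  have hu' := (hUu _ (pow_mem haU _) (mul_self_of_orderOf_two hp)).resolve_left (ne_one_of_orderOf_two hp)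
  have huL : u ∈ closure (classOver U u f) :=
    (congrArg (· ∈ closure (classOver U u f)) hu').mp (pow_mem haL _)
  refine h.section_cover_false hu huM hf hfu hfne hfM hff hbad U huU hUM hUp hUc hUu hin hout huL (Or.inr ?_)
    (h.section_se_of hu huM hf hfu hfne hfM hff T hTsylow hTf U huU hUM hUp hUc hUu hin hout hno)
  rw [Nat.card_congr (show ↥(U.subgroupOf (closure (classOver U u f))) ≃ ↥(U ⊓ closure (classOver U u f)) from
    { toFun := fun x => ⟨x.1.1, x.2, x.1.2⟩
      invFun := fun x => ⟨⟨x.1, x.2.2⟩, x.2.1⟩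
      left_inv := fun _ => rfl
      right_inv := fun _ => rfl })]
  refine lt_of_lt_of_le ?_ (card_le_of_le (show zpowers a ≤ U ⊓ closure (classOver U u f) from
    zpowers_le.2 ⟨haU, haL⟩))
  rw [Nat.card_zpowers, hk]
  calc 2 < 2 ^ 2 := by norm_num
    _ ≤ 2 ^ (k + 1 + 1) := Nat.pow_le_pow_right two_pos (by omega)

/-- The section of the class has a strongly embedded subgroup. -/
theorem AX.section_se (h : AX M W) {u f : G} (hu : orderOf u = 2) (huM : u ∈ M) (hf : orderOf f = 2)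
    (hfu : Commute f u) (hfne : f ≠ u) (hfM : f ∈ M) (hff : f * u ∉ classIn u f)
    (hbad : ∃ c : G, Commute c u ∧ c ∉ M)
    (T : Subgroup G) (hTsylow : ∀ R : Subgroup G, R ≤ centralizer ({u} : Set G) → IsPGroup 2 R →
      ∃ c : G, Commute c u ∧ ∀ r ∈ R, c * r * c⁻¹ ∈ T)
    (hTf : ∀ r ∈ T, Commute r f) (U : Subgroup G)
    (huU : u ∈ U) (hUM : U ≤ M) (hUp : IsPGroup 2 U) (hUc : ∀ a ∈ U, ∀ b ∈ U, a * b = b * a)
    (hUu : ∀ a ∈ U, a * a = 1 → a = 1 ∨ a = u) (hin : ∃ x ∈ classOver U u f, x ∈ M)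
    (hout : ∃ t ∈ classOver U u f, t ∉ M) :
    Cfsg.IsStronglyEmbedded ((M.subgroupOf (closure (classOver U u f))).map
      (QuotientGroup.mk' (U.subgroupOf (closure (classOver U u f))))) :=
  h.section_se_of hu huM hf hfu hfne hfM hff T hTsylow hTf U huU hUM hUp hUc hUu hin hout
    fun U' hlt => by
      refine h.section_le hu huM hf hfu hfne hfM hff hbad T hTsylow hTf U' ?_
      have h1 : 1 < Nat.card U := by
        haveI : Nontrivial U := ⟨⟨⟨u, huU⟩, 1, fun e => ne_one_of_orderOf_two hu (congrArg Subtype.val e)⟩⟩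
        exact Finite.one_lt_card
      omega

end Cfsg.Agent.Invol.Core2
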