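import Cfsg.Agent.Lib.Invol.Core2.Setting
import Cfsg.Agent.Lib.Invol.Sylow
import Cfsg.Agent.Lib.Invol.StronglyEmbedded
import Cfsg.Agent.Lib.Fus.RootClass.SEInvolutions
import Cfsg.Agent.Lib.Grp.Cores
import Cfsg.Agent.S1221

/-!
# Twisted bad involution: the case without bad roots

When every square root of `u` in `M` has its centraliser modulo `u` inside `M`, the image of `M` in `C(u)` modulo
`u` and the odd core is strongly embedded. Its involutions form a normal elementary abelian subgroup, centralised by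
every odd subgroup normalised by `C(u, y)`, and such a subgroup lies in the odd core of `C(u)`.
-/

set_option autoImplicit false
set_option linter.unusedSectionVars false
set_option linter.style.haveILetI false

namespace Cfsg.Agent.Invol.Core2

open Subgroup

universe v

/-- The odd core of a subgroup, in the group. -/
abbrev coreSub {Q : Type v} [Group Q] (A : Subgroup Q) : Subgroup Q :=
  (Cfsg.pPrimeCore 2 ↥A).map A.subtype

theorem le_coreSub {Q : Type v} [Group Q] [Finite Q] {D A : Subgroup Q} (hDA : D ≤ A)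
    (hn : ∀ a ∈ A, ∀ d ∈ D, a * d * a⁻¹ ∈ D) (ho : Odd (Nat.card D)) : D ≤ coreSub A := fun d hd => by
  refine ⟨⟨d, hDA hd⟩, Grp.le_pPrimeCore (N := D.subgroupOf A) ⟨fun x hx a => hn a a.2 x hx⟩ ?_ hd, rfl⟩
  rw [Nat.card_congr (subgroupOfEquivOfLe hDA).toEquiv]
  exact Nat.coprime_two_right.2 ho

theorem coreSub_mono {Q : Type v} [Group Q] [Finite Q] {A B : Subgroup Q} (hAB : A ≤ B)
    (hn : ∀ b ∈ B, ∀ a ∈ A, b * a * b⁻¹ ∈ A) : coreSub A ≤ coreSub B := by
  refine le_coreSub ((map_subtype_le _).trans hAB) (fun b hb x hx => ?_) ?_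
  · obtain ⟨w, hw, rfl⟩ := hx
    have hb' : b ∈ normalizer (A : Set Q) := mem_normalizer_fintype fun a ha => hn b hb a ha
    haveI : (Cfsg.pPrimeCore 2 ↥A).Characteristic := inferInstance
    exact ⟨A.normalizerMonoidHom ⟨b, hb'⟩ w, (characteristic_iff_le_comap.1 inferInstance _) hw, rfl⟩
  · rw [card_map_of_injective A.subtype_injective]
    exact Nat.coprime_two_right.1 Grp.pPrimeCore_coprime

/-- A group with central involution `u` in which the square roots of the powers of `u` in `H` fix one point: an odd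
subgroup of `H` normalised by the centraliser of an involution `y` lies in the odd core. -/
theorem le_oddCore_of_fix {C : Type v} [Group C] [Finite C] {H D : Subgroup C} (hH : H ≠ ⊤) {u f z y : C}
    (hu : orderOf u = 2) (huc : ∀ c : C, Commute c u) (huH : u ∈ H)
    (hfix : ∀ t ∈ H, t * t ∈ zpowers u → t ∉ zpowers u → ∀ c : C, c * t * c⁻¹ ∈ H → c ∈ H)
    (hfH : f ∈ H) (hf : orderOf f = 2) (hfu : f ≠ u) (hz : orderOf z = 2) (hzu : z ≠ u)
    (hzf : z ≠ f) (hzfu : z ≠ f * u) (hfz : Commute f z) (hyH : y ∈ H) (hy : orderOf y = 2)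
    (hDH : D ≤ H) (hDo : Odd (Nat.card D)) (hDn : ∀ c : C, Commute c y → ∀ d ∈ D, c * d * c⁻¹ ∈ D) :
    D ≤ Cfsg.pPrimeCore 2 C := by
  classical
  haveI : Fact (Nat.Prime 2) := ⟨Nat.prime_two⟩
  have huu := mul_self_of_orderOf_two hu
  have hzp : ∀ {a : C}, a ∈ zpowers u → a = 1 ∨ a = u := fun {a} ha => by
    obtain ⟨i, rfl⟩ := mem_zpowers_iff.1 ha
    rcases Int.even_or_odd i with ⟨j, rfl⟩ | ⟨j, rfl⟩
    · exact Or.inl (by rw [← two_mul, zpow_mul, zpow_two, huu, one_zpow])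
    · exact Or.inr (by rw [zpow_add, zpow_mul, zpow_two, huu, one_zpow, one_mul, zpow_one])
  have hinvol : ∀ {a : C}, orderOf a = 2 → a ≠ u → a * a ∈ zpowers u ∧ a ∉ zpowers u := fun {a} ha hau =>
    ⟨by rw [mul_self_of_orderOf_two ha]; exact one_mem _, fun hm => (hzp hm).elim (ne_one_of_orderOf_two ha) hau⟩
  set N := H.normalCore with hN
  have hNH : N ≤ H := normalCore_le H
  haveI : N.Normal := normalCore_normal H
  have hN2 : ∀ a ∈ N, a * a ∈ zpowers u → a ∈ zpowers u := fun a ha ha2 => by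
    by_contra hne
    exact hH (eq_top_iff.2 fun c _ => hfix a (hNH ha) ha2 hne c (hNH (normalCore_normal H |>.conj_mem a ha c)))
  have huN : u ∈ N := by
    haveI : (zpowers u).Normal := ⟨fun a ha c => by
      obtain ⟨i, rfl⟩ := mem_zpowers_iff.1 ha
      rw [((huc c).zpow_right i).eq, mul_inv_cancel_right]
      exact ha⟩
    exact normal_le_normalCore.2 (zpowers_le.2 huH) (mem_zpowers u)
  -- the elements of two-power order of `N`
  have hN2el : ∀ k : ℕ, ∀ w ∈ N, w ^ 2 ^ k ∈ zpowers u → w ∈ zpowers u := fun k => by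
    induction k with
    | zero => intro w _ h; simpa using h
    | succ k ih =>
      intro w hw h
      refine ih w hw (hN2 _ (pow_mem hw _) ?_)
      rwa [← pow_add, ← two_mul, ← pow_succ']
  set π := QuotientGroup.mk' N with hπ
  have hπs : Function.Surjective π := QuotientGroup.mk'_surjective N
  have hπ1 : ∀ {a : C}, π a = 1 ↔ a ∈ N := fun {a} => QuotientGroup.eq_one_iff a
  set X := H.map π with hX
  have hback : ∀ {g : C}, π g ∈ X → g ∈ H := by
    rintro g ⟨m, hm, e⟩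
    have h1 : m⁻¹ * g ∈ N := hπ1.1 (by rw [map_mul, map_inv, e, inv_mul_cancel])
    simpa using mul_mem hm (hNH h1)
  -- lifting involutions
  have hlift : ∀ g : C, π g * π g = 1 → π g ≠ 1 →
      ∃ t, π t = π g ∧ t * t ∈ zpowers u ∧ t ∉ zpowers u := fun g hgg hg1 => by
    obtain ⟨i, b, hb, hord⟩ := Nat.exists_eq_two_pow_mul_odd (orderOf_pos g).ne'
    obtain ⟨j, hj⟩ := hb
    have e : π (g ^ b) = π g := by rw [map_pow, hj, pow_succ, pow_mul, pow_two, hgg, one_pow, one_mul]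
    refine ⟨g ^ b, e, hN2el i _ ?_ ?_, fun hm => hg1 ?_⟩
    · refine hπ1.1 ?_
      rw [map_mul, e, hgg]
    · rw [← pow_add, ← pow_mul, show (b + b) * 2 ^ i = 2 ^ i * b * 2 by ring, pow_mul, ← hord, pow_orderOf_eq_one,
        one_pow]
      exact one_mem _
    · rw [← e, hπ1]
      exact (zpowers_le.2 huN : zpowers u ≤ N) hm
  have hinvπ : ∀ {a : C}, orderOf a = 2 → a ≠ u → orderOf (π a) = 2 := fun {a} ha hau => orderOf_two_iff.2
    ⟨by rw [← map_mul, mul_self_of_orderOf_two ha, map_one],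
      fun e => (hinvol ha hau).2 (hN2 a (hπ1.1 e) (hinvol ha hau).1)⟩
  have htop : X ≠ ⊤ := fun e => hH (eq_top_iff.2 fun c _ => hback (e ▸ mem_top _))
  have hse : Cfsg.IsStronglyEmbedded X := by
    refine (Invol.isStronglyEmbedded_iff htop (even_card_of_mem (hinvπ hf hfu) (mem_map_of_mem π hfH))).2 ?_
    rintro _ ⟨m, hm, rfl⟩ hm2 g hg
    obtain ⟨c, rfl⟩ := hπs g
    obtain ⟨t, htm, htt, htu⟩ := hlift m (mul_self_of_orderOf_two hm2) (ne_one_of_orderOf_two hm2)
    have htH : t ∈ H := hback (htm ▸ mem_map_of_mem π hm)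
    refine mem_map_of_mem π (inv_mem_iff.1 (hfix t htH htt htu c⁻¹ (hback ?_)))
    rwa [inv_inv, map_mul, map_mul, map_inv, htm]
  have hcore : X.normalCore = ⊥ := by
    rw [eq_bot_iff]
    intro q hq
    obtain ⟨a, rfl⟩ := hπs q
    have h1 : (X.normalCore).comap π ≤ N := normal_le_normalCore.2 fun g hg => hback (normalCore_le _ hg)
    exact hπ1.2 (h1 hq)
  have hrank : Bender.TwoRank (⊤ : Subgroup (C ⧸ N)) := by
    refine ⟨π f, mem_top _, π z, mem_top _, hinvπ hf hfu, hinvπ hz hzu, fun e => ?_, hfz.map π⟩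
    have h1 : f⁻¹ * z ∈ N := hπ1.1 (by rw [map_mul, map_inv, e, inv_mul_cancel])
    have h2 := hN2 _ h1 (by
      rw [inv_of_orderOf_two hf, show f * z * (f * z) = f * (z * f) * z by group, ← hfz.eq,
        show f * (f * z) * z = f * f * (z * z) by group, mul_self_of_orderOf_two hf, mul_self_of_orderOf_two hz,
        one_mul]
      exact one_mem _)
    rcases hzp h2 with h3 | h3
    · exact hzf (inv_mul_eq_one.1 h3).symm
    · exact hzfu (inv_mul_eq_iff_eq_mul.1 h3)
  have hcomm : ∀ p ∈ X, p * p = 1 → ∀ q ∈ X, q * q = 1 → Commute p q := fun p hp hpp q hq hqq => by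
    by_cases hp1 : p = 1
    · exact hp1 ▸ Commute.one_left q
    by_cases hq1 : q = 1
    · exact hq1 ▸ Commute.one_right p
    exact Fus.RootClass.commute_involutions hse hcore hrank (orderOf_two_iff.2 ⟨hpp, hp1⟩) hp
      (orderOf_two_iff.2 ⟨hqq, hq1⟩) hq
  let Ω : Subgroup (C ⧸ N) :=
    { carrier := {q | q ∈ X ∧ q * q = 1}
      one_mem' := ⟨one_mem X, one_mul 1⟩
      mul_mem' := fun {p q} hp hq => ⟨mul_mem hp.1 hq.1, by
        rw [show p * q * (p * q) = p * (q * p) * q by group, ← (hcomm p hp.1 hp.2 q hq.1 hq.2).eq,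
          show p * (p * q) * q = p * p * (q * q) by group, hp.2, hq.2, one_mul]⟩
      inv_mem' := fun {q} hq => ⟨inv_mem hq.1, by rw [← mul_inv_rev, hq.2, inv_one]⟩ }
  have hΩn : ∀ x ∈ X, ∀ q ∈ Ω, x * q * x⁻¹ ∈ Ω := fun x hx q hq => ⟨X.mul_mem (X.mul_mem hx hq.1) (X.inv_mem hx), by
    rw [show x * q * x⁻¹ * (x * q * x⁻¹) = x * (q * q) * x⁻¹ by group, hq.2, mul_one, mul_inv_cancel]⟩
  have hyy := mul_self_of_orderOf_two hy
  have hyΩ : π y ∈ Ω := ⟨mem_map_of_mem π hyH, by rw [← map_mul, hyy, map_one]⟩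
  have hdis : ∀ d ∈ D, π d ∈ Ω → π d = 1 := fun d hd hdΩ => by
    obtain ⟨k, hk⟩ := hDo
    have h1 : π d ^ (2 * k + 1) = 1 := by
      rw [← map_pow, ← hk, orderOf_dvd_iff_pow_eq_one.1 (D.orderOf_dvd_natCard hd), map_one]
    rwa [pow_succ, pow_mul, pow_two, hdΩ.2, one_pow, one_mul] at h1
  have hDy : ∀ d ∈ D, Commute (π d) (π y) := fun d hd => by
    have h1 : d * (y * d⁻¹ * y⁻¹) ∈ D := mul_mem hd (hDn y (Commute.refl y) _ (inv_mem hd))
    have h2 : π (d * (y * d⁻¹ * y⁻¹)) ∈ Ω := by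
      rw [show π (d * (y * d⁻¹ * y⁻¹)) = π d * π y * (π d)⁻¹ * (π y)⁻¹ by simp only [map_mul, map_inv]; group]
      exact mul_mem (hΩn _ (mem_map_of_mem π (hDH hd)) _ hyΩ) (inv_mem hyΩ)
    have h3 := hdis _ h1 h2
    simp only [map_mul, map_inv, ← mul_assoc] at h3
    rw [mul_inv_eq_one, mul_inv_eq_iff_eq_mul] at h3
    exact h3
  -- adjusting the centralisers of the image of `y`
  have hadj : ∀ g : C, Commute (π g) (π y) → ∃ g', π g' = π g ∧
      (g' * y * g'⁻¹ = y ∨ g' * y * g'⁻¹ = y * u) := fun g hg => by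
    obtain ⟨m, hmdef⟩ : ∃ m, m = y⁻¹ * (g * y * g⁻¹) := ⟨_, rfl⟩
    have hm : m ∈ N := hπ1.1 (by
      rw [hmdef, map_mul, map_inv, map_mul, map_mul, map_inv, hg.eq, mul_inv_cancel_right, inv_mul_cancel])
    have hym : g * y * g⁻¹ = y * m := by rw [hmdef, mul_inv_cancel_left]
    have hyinv : y * m * y⁻¹ = m⁻¹ := by
      have h1 : y * m * (y * m) = 1 := by
        rw [← hym, show g * y * g⁻¹ * (g * y * g⁻¹) = g * (y * y) * g⁻¹ by group, hyy, mul_one, mul_inv_cancel]
      rw [inv_of_orderOf_two hy]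
      exact eq_inv_of_mul_eq_one_left (by rw [mul_assoc, h1])
    obtain ⟨i, b, hb, hord⟩ := Nat.exists_eq_two_pow_mul_odd (orderOf_pos m).ne'
    obtain ⟨j, rfl⟩ := hb
    have he : m ^ (2 * j + 1) ∈ zpowers u := hN2el i _ (pow_mem hm _) (by
      rw [← pow_mul, mul_comm, ← hord, pow_orderOf_eq_one]; exact one_mem _)
    refine ⟨(m ^ j)⁻¹ * g, by rw [map_mul, map_inv, hπ1.2 (pow_mem hm _), inv_one, one_mul], ?_⟩
    have hcm : y * m ^ j = (m ^ j)⁻¹ * y := by rw [← inv_pow, ← hyinv, conj_pow, inv_mul_cancel_right]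
    have hmain : (m ^ j)⁻¹ * g * y * ((m ^ j)⁻¹ * g)⁻¹ = y * m ^ (2 * j + 1) := by
      calc (m ^ j)⁻¹ * g * y * ((m ^ j)⁻¹ * g)⁻¹
          = (m ^ j)⁻¹ * (g * y * g⁻¹) * m ^ j := by group
        _ = (m ^ j)⁻¹ * y * m * m ^ j := by rw [hym]; group
        _ = y * (m ^ j * m * m ^ j) := by rw [← hcm]; group
        _ = y * m ^ (2 * j + 1) := by
          congr 1
          rw [← pow_succ, ← pow_add]
          congr 1
          omega
    rw [hmain]
    rcases hzp he with e | e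
    · exact Or.inl (by rw [e, mul_one])
    · exact Or.inr (by rw [e])
  -- the elements of `Ω` are centralised
  have hfixed : ∀ g : C, π g ∈ Ω → Commute g y → ∀ d ∈ D, Commute (π g) (π d) := fun g hg hgy d hd => by
    have h1 : g * d * g⁻¹ * d⁻¹ ∈ D := mul_mem (hDn g hgy d hd) (inv_mem hd)
    have h2 : π (g * d * g⁻¹ * d⁻¹) ∈ Ω := by
      rw [show π (g * d * g⁻¹ * d⁻¹) = π g * (π d * (π g)⁻¹ * (π d)⁻¹) by simp only [map_mul, map_inv]; group]
      exact mul_mem hg (hΩn _ (mem_map_of_mem π (hDH hd)) _ (inv_mem hg))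
    have h3 := hdis _ h1 h2
    simp only [map_mul, map_inv] at h3
    rw [mul_inv_eq_one, mul_inv_eq_iff_eq_mul] at h3
    exact h3
  have hflip : ∀ {g g' : C}, g * y * g⁻¹ = y * u → g' * y * g'⁻¹ = y * u → Commute (g' * g) y := fun {g g'} e e' => by
    refine mul_inv_eq_iff_eq_mul.1 ?_
    calc g' * g * y * (g' * g)⁻¹ = g' * (g * y * g⁻¹) * g'⁻¹ := by group
      _ = g' * y * (u * g'⁻¹) := by rw [e]; group
      _ = y * u * u := by rw [← (huc g'⁻¹).eq, ← mul_assoc, e']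
      _ = y := by rw [mul_assoc, huu, mul_one]
  have hDΩ : ∀ d ∈ D, ∀ q ∈ Ω, Commute (π d) q := fun d hd q hq => by
    obtain ⟨g, rfl⟩ := hπs q
    obtain ⟨g₁, hg₁, hc₁⟩ := hadj g (hcomm _ hq.1 hq.2 _ hyΩ.1 hyΩ.2)
    rw [← hg₁] at hq ⊢
    rcases hc₁ with hc₁ | hc₁
    · exact (hfixed g₁ hq (mul_inv_eq_iff_eq_mul.1 hc₁) d hd).symm
    have hq2 : π (d * g₁ * d⁻¹) ∈ Ω := by
      rw [map_mul, map_mul, map_inv]
      exact hΩn _ (mem_map_of_mem π (hDH hd)) _ hq
    obtain ⟨g₂, hg₂, hc₂⟩ := hadj _ (hcomm _ hq2.1 hq2.2 _ hyΩ.1 hyΩ.2)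
    rw [← hg₂] at hq2
    have hg₂' : π g₂ = π d * π g₁ * (π d)⁻¹ := by rw [hg₂, map_mul, map_mul, map_inv]
    rcases hc₂ with hc₂ | hc₂
    · have h1 := hfixed g₂ hq2 (mul_inv_eq_iff_eq_mul.1 hc₂) d hd
      rw [hg₂'] at h1
      exact ((Commute.conj_iff (π d)).1 (by simpa using h1.symm))
    obtain ⟨k, hk, hkd⟩ : ∃ k, π d * π g₁ * (π d)⁻¹ = π g₁ * k ∧ Commute (π d) k := by
      refine ⟨π (g₁ * g₂), ?_, (hfixed (g₁ * g₂) (by rw [map_mul]; exact mul_mem hq hq2) (hflip hc₂ hc₁) d hd).symm⟩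
      rw [map_mul, hg₂', ← mul_assoc (π g₁) (π g₁), hq.2, one_mul]
    have hkΩ : k * k = 1 := by
      have h1 : π g₁ * k ∈ Ω := hk ▸ hΩn _ (mem_map_of_mem π (hDH hd)) _ hq
      have h2 := mul_mem hq h1
      rw [← mul_assoc, hq.2, one_mul] at h2
      exact h2.2
    have hit : ∀ n : ℕ, π d ^ n * π g₁ * (π d ^ n)⁻¹ = π g₁ * k ^ n := fun n => by
      induction n with
      | zero => simp
      | succ n ih =>
        calc π d ^ (n + 1) * π g₁ * (π d ^ (n + 1))⁻¹
            = π d * (π d ^ n * π g₁ * (π d ^ n)⁻¹) * (π d)⁻¹ := by rw [pow_succ']; group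
          _ = π d * π g₁ * (π d)⁻¹ * (π d * k ^ n * (π d)⁻¹) := by rw [ih]; group
          _ = π g₁ * k ^ (n + 1) := by
            rw [hk, (hkd.pow_right n).eq, mul_inv_cancel_right, pow_succ', mul_assoc]
    obtain ⟨j, hj⟩ := hDo
    have h1 : π d ^ (2 * j + 1) = 1 := by
      rw [← map_pow, ← hj, orderOf_dvd_iff_pow_eq_one.1 (D.orderOf_dvd_natCard hd), map_one]
    have h2 := hit (2 * j + 1)
    rw [h1, one_mul, inv_one, mul_one, pow_succ, pow_mul, pow_two, hkΩ, one_pow, one_mul, left_eq_mul] at h2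
    rw [h2, mul_one] at hk
    exact mul_inv_eq_iff_eq_mul.1 hk
  -- the odd core
  set Cc : Subgroup (C ⧸ N) := X ⊓ centralizer ((Ω : Subgroup (C ⧸ N)) : Set (C ⧸ N)) with hCc
  set K := Cc ⊓ (centralizer ({y} : Set C)).map π with hK
  set Dq := D.map π with hDq
  have hDq_odd : Odd (Nat.card Dq) := hDo.of_dvd_nat (card_map_dvd D π)
  have hDK : Dq ≤ K := by
    rintro _ ⟨d, hd, rfl⟩
    refine ⟨⟨mem_map_of_mem π (hDH hd), mem_centralizer_iff.2 fun q hq => (hDΩ d hd q hq).symm.eq⟩, ?_⟩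
    obtain ⟨d', hd', hc'⟩ := hadj d (hDy d hd)
    obtain ⟨j, hj⟩ := hDo
    have h1 : π d ^ (2 * j + 1) = 1 := by
      rw [← map_pow, ← hj, orderOf_dvd_iff_pow_eq_one.1 (D.orderOf_dvd_natCard hd), map_one]
    refine ⟨d' ^ (2 * (j + 1)), mem_centralizer_singleton_iff.2 ?_, ?_⟩
    · rcases hc' with e | e
      · exact ((show Commute d' y from mul_inv_eq_iff_eq_mul.1 e).pow_left _).eq
      · rw [pow_mul, pow_two]
        exact ((hflip e e).pow_left _).eq
    · rw [map_pow, hd', show 2 * (j + 1) = 2 * j + 1 + 1 by ring, pow_succ, h1, one_mul]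
  have hCcX : ∀ x ∈ X, ∀ q ∈ Cc, x * q * x⁻¹ ∈ Cc := fun x hx q hq => ⟨X.mul_mem (X.mul_mem hx hq.1) (X.inv_mem hx),
    mem_centralizer_iff.2 fun r hr => by
      have h1 := mem_centralizer_iff.1 hq.2 _ (hΩn _ (inv_mem hx) r hr)
      calc r * (x * q * x⁻¹) = x * (x⁻¹ * r * x⁻¹⁻¹ * q) * x⁻¹ := by group
        _ = x * (q * (x⁻¹ * r * x⁻¹⁻¹)) * x⁻¹ := by rw [h1]
        _ = x * q * x⁻¹ * r := by group⟩
  have hKC : ∀ a ∈ Cc, ∀ k ∈ K, a * k * a⁻¹ ∈ K := fun a ha k hk => by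
    refine ⟨Cc.mul_mem (Cc.mul_mem ha hk.1) (Cc.inv_mem ha), ?_⟩
    obtain ⟨g, rfl⟩ := hπs a
    obtain ⟨c, hc, rfl⟩ := hk.2
    obtain ⟨g', hg', hc'⟩ := hadj g (mem_centralizer_iff.1 ha.2 _ hyΩ).symm
    refine ⟨g' * c * g'⁻¹, mem_centralizer_singleton_iff.2 ?_, by rw [map_mul, map_mul, map_inv, hg']⟩
    have hc2 : Commute c y := mem_centralizer_singleton_iff.1 hc
    rcases hc' with e | e
    · have hgy : Commute g' y := mul_inv_eq_iff_eq_mul.1 e
      exact ((hgy.mul_left hc2).mul_left hgy.inv_left).eq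
    · have h1 : Commute (g' * c * g'⁻¹) (g' * y * g'⁻¹) := by
        simpa using hc2.map (MulAut.conj g').toMonoidHom
      rw [e] at h1
      have h2 := h1.mul_right (huc (g' * c * g'⁻¹))
      have h3 : y * u * u = y := by rw [mul_assoc, huu, mul_one]
      rw [h3] at h2
      exact h2.eq
  have h1 : Dq ≤ coreSub K := le_coreSub hDK (fun k hk d hd => by
    obtain ⟨c, hc, rfl⟩ := hk.2
    obtain ⟨e, he, rfl⟩ := hd
    exact ⟨c * e * c⁻¹, hDn c (mem_centralizer_singleton_iff.1 hc) e he, by rw [map_mul, map_mul, map_inv]⟩) hDq_odd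
  have h2 : Dq ≤ Cfsg.oddCore (C ⧸ N) := (h1.trans (coreSub_mono inf_le_left hKC)).trans
    ((coreSub_mono inf_le_left hCcX).trans (S1221.result X hse))
  -- back to `C`
  set P := (Cfsg.oddCore (C ⧸ N)).comap π with hP
  haveI hPn : P.Normal := by
    haveI := Grp.pPrimeCore_isNormal (p := 2) (G := C ⧸ N)
    exact Normal.comap inferInstance π
  have huP : u ∈ P := by
    show π u ∈ Cfsg.oddCore (C ⧸ N)
    rw [hπ1.2 huN]; exact one_mem _
  set U := (zpowers u).subgroupOf P with hU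
  haveI : U.Normal := ⟨fun a ha c => mem_subgroupOf.2 (by
    rcases hzp (mem_subgroupOf.1 ha) with e | e
    · rw [Subgroup.coe_mul, Subgroup.coe_mul, e, mul_one, Subgroup.coe_inv, mul_inv_cancel]; exact one_mem _
    · rw [Subgroup.coe_mul, Subgroup.coe_mul, e, Subgroup.coe_inv, (huc c).eq, mul_inv_cancel_right]
      exact mem_zpowers u)⟩
  have hUcard : Nat.card U = 2 := by
    rw [Nat.card_congr (subgroupOfEquivOfLe (zpowers_le.2 huP)).toEquiv, Nat.card_zpowers, hu]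
  have hUidx : Odd U.index := Nat.not_even_iff_odd.1 fun hev => by
    rw [even_iff_two_dvd, Subgroup.index_eq_card] at hev
    obtain ⟨q, hq⟩ := exists_prime_orderOf_dvd_card' 2 hev
    obtain ⟨g, rfl⟩ := QuotientGroup.mk'_surjective U q
    have hgg : g * g ∈ U := (QuotientGroup.eq_one_iff _).1
      (by rw [← QuotientGroup.mk'_apply, map_mul]; exact mul_self_of_orderOf_two hq)
    have hgN : (g : C) ∈ N := hπ1.1 (by
      have h3 : π g * π g = 1 := by
        rw [← map_mul, hπ1]; exact (zpowers_le.2 huN : zpowers u ≤ N) (mem_subgroupOf.1 hgg)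
      obtain ⟨k, hk⟩ := Nat.coprime_two_right.1 (Grp.pPrimeCore_coprime (p := 2) (G := C ⧸ N))
      have h4 : π g ^ (2 * k + 1) = 1 := hk ▸
        orderOf_dvd_iff_pow_eq_one.1 ((Cfsg.oddCore (C ⧸ N)).orderOf_dvd_natCard g.2)
      rwa [pow_succ, pow_mul, pow_two, h3, one_pow, one_mul] at h4)
    exact ne_one_of_orderOf_two hq
      ((QuotientGroup.eq_one_iff g).2 (mem_subgroupOf.2 (hN2 _ hgN (mem_subgroupOf.1 hgg))))
  obtain ⟨L, hL⟩ := exists_left_complement'_of_coprime (N := U) (by rw [hUcard]; exact Nat.coprime_two_left.2 hUidx)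
  have hLidx : L.index = 2 := by rw [hL.symm.index_eq_card, hUcard]
  have hLo : Odd (Nat.card L) := by rw [← hL.index_eq_card]; exact hUidx
  have hLmem : ∀ a : P, Odd (orderOf a) → a ∈ L := fun a ha => by
    obtain ⟨k, hk⟩ := ha
    have h3 := pow_mem (Subgroup.sq_mem_of_index_two hLidx a) (k + 1)
    rwa [← pow_mul, show 2 * (k + 1) = 2 * k + 1 + 1 by ring, pow_succ, ← hk, pow_orderOf_eq_one, one_mul] at h3
  haveI : (L.map P.subtype).Normal := ⟨by
    rintro _ ⟨a, ha, rfl⟩ c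
    refine ⟨⟨c * a * c⁻¹, hPn.conj_mem a a.2 c⟩, hLmem _ ?_, rfl⟩
    rw [← Subgroup.orderOf_coe, Invol.orderOf_conj_eq, Subgroup.orderOf_coe]
    exact hLo.of_dvd_nat (L.orderOf_dvd_natCard ha)⟩
  intro d hd
  refine Grp.le_pPrimeCore (N := L.map P.subtype) inferInstance ?_ ⟨⟨d, h2 (mem_map_of_mem π hd)⟩, hLmem _ ?_, rfl⟩
  · rw [card_map_of_injective P.subtype_injective]
    exact Nat.coprime_two_right.2 hLo
  · rw [← Subgroup.orderOf_coe]
    exact hDo.of_dvd_nat (D.orderOf_dvd_natCard hd)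

variable {G : Type v} [Group G] [Finite G] {M W : Subgroup G}

/-- Without bad roots the odd subgroups of `C(u) ∩ M` normalised by `C(u, y)` lie in the odd core of `C(u)`. -/
theorem AX.loc_of_no_root (h : AX M W) {S : Sylow 2 G} (hle : (S : Subgroup G) ≤ M) {u : G}
    (hu : u ∈ (S : Subgroup G)) (hu2 : orderOf u = 2) (huc : ∀ s ∈ (S : Subgroup G), Commute s u)
    (hbad : ∃ c : G, Commute c u ∧ c ∉ M)
    (hroot : ∀ t ∈ M, Commute t u → t * t = u → ∀ c : G, Commute c u →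
      (c * t * c⁻¹ = t ∨ c * t * c⁻¹ = t * u) → c ∈ M)
    {f z : G} (hf : f ∈ (S : Subgroup G)) (hf2 : orderOf f = 2) (hfu : f ≠ u)
    (hfS : ∀ s ∈ (S : Subgroup G), s * f * s⁻¹ = f ∨ s * f * s⁻¹ = f * u)
    (hz : z ∈ (S : Subgroup G)) (hz2 : orderOf z = 2) (hzu : z ≠ u) (hzf : z ≠ f) (hzfu : z ≠ f * u)
    (hfz : Commute f z) {y : G} (hyM : y ∈ M) (hy2 : orderOf y = 2) (hyu : Commute y u) {D : Subgroup G}
    (hDM : D ≤ M) (hDu : ∀ d ∈ D, Commute d u) (hDo : Odd (Nat.card D))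
    (hDn : ∀ c : G, Commute c u → Commute c y → ∀ d ∈ D, c * d * c⁻¹ ∈ D) :
    D ≤ Cfsg.centralizerPPrimeCore 2 u := by
  classical
  haveI : Fact (Nat.Prime 2) := ⟨Nat.prime_two⟩
  have huu := mul_self_of_orderOf_two hu2
  set C := centralizer ({u} : Set G) with hC
  have hCu : ∀ c : C, Commute (c : G) u := fun c => mem_centralizer_singleton_iff.1 c.2
  have hSC : (S : Subgroup G) ≤ C := fun s hs => mem_centralizer_singleton_iff.2 (huc s hs).eq
  set H := M.subgroupOf C with hH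
  set R := (S.subtype hSC).subtype (show ((S.subtype hSC : Sylow 2 C) : Subgroup C) ≤ H from fun s hs => hle hs)
  set u' : C := ⟨u, mem_centralizer_singleton_iff.2 rfl⟩ with hu'
  have huH : u' ∈ H := hle hu
  have hord : ∀ {a : C}, orderOf (a : G) = 2 → orderOf a = 2 := fun ha => by rwa [← Subgroup.orderOf_coe]
  have hzp : ∀ {a : C}, a ∈ zpowers u' → (a : G) = 1 ∨ (a : G) = u := fun {a} ha => by
    obtain ⟨i, rfl⟩ := mem_zpowers_iff.1 ha
    have e : ((u' ^ i : C) : G) = u ^ i := by rw [SubgroupClass.coe_zpow]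
    rw [e]
    rcases Int.even_or_odd i with ⟨j, rfl⟩ | ⟨j, rfl⟩
    · exact Or.inl (by rw [← two_mul, zpow_mul, zpow_two, huu, one_zpow])
    · exact Or.inr (by rw [zpow_add, zpow_mul, zpow_two, huu, one_zpow, one_mul, zpow_one])
  have hfix : ∀ t ∈ H, t * t ∈ zpowers u' → t ∉ zpowers u' → ∀ c : C, c * t * c⁻¹ ∈ H → c ∈ H := by
    intro t ht htt htu c hct
    have htM : (t : G) ∈ M := ht
    have hctM : (c : G) * t * (c : G)⁻¹ ∈ M := hct
    rcases hzp htt with e | e
    · refine h.bad_fix hu2 (hle hu) (y := (t : G)) ?_ htM (fun e' => htu ?_) (hCu t).eq (hCu c).eq hctM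
      · exact orderOf_two_iff.2 ⟨e, fun e' => htu (by rw [show t = 1 from Subtype.ext e']; exact one_mem _)⟩
      · rw [show t = u' from Subtype.ext e']; exact mem_zpowers u'
    · have e' : (t : G) * t = u := e
      -- carry the root into `S` and pull back the central member of its centraliser
      have ht4 : orderOf (t : G) = 2 ^ 2 := by
        refine orderOf_eq_prime_pow (n := 1) ?_ ?_
        · rw [pow_one, pow_two, e']; exact ne_one_of_orderOf_two hu2
        · rw [pow_succ, pow_one, pow_mul, pow_two, pow_two, e', huu]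
      obtain ⟨g, hg⟩ := exists_conj_mem_sylow (x := (⟨c * t * c⁻¹, hct⟩ : H)) (p := 2) (n := 2)
        (by rw [← Subgroup.orderOf_coe, ← Subgroup.orderOf_coe]; simpa [orderOf_conj_eq] using ht4) R
      have hv : ((g : C) : G) * (c * t * (c : G)⁻¹) * ((g : C) : G)⁻¹ ∈ (S : Subgroup G) := hg
      obtain ⟨k, hk⟩ : ∃ k, k = ((g : C) : G) * c := ⟨_, rfl⟩
      have hku : Commute k u := hk ▸ (hCu g).mul_left (hCu c)
      have hv' : k * t * k⁻¹ ∈ (S : Subgroup G) := by
        rwa [hk, show ((g : C) : G) * c * t * (((g : C) : G) * c)⁻¹ = (g : C) * (c * t * (c : G)⁻¹) * ((g : C) : G)⁻¹ by group]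
      obtain ⟨z', hz'⟩ : ∃ z', z' = k⁻¹ * f * k := ⟨_, rfl⟩
      have hz'u : Commute z' u := hz' ▸ ((hku.inv_left.mul_left (huc f hf)).mul_left hku)
      have hz'M : z' ∈ M := by
        refine hroot t htM (hCu t) e' z' hz'u ?_
        have hfu' := huc f hf
        rcases hfS _ hv' with e1 | e1
        · refine Or.inl ?_
          have h1 : k⁻¹ * (k * t * k⁻¹ * f * (k * t * k⁻¹)⁻¹) * k = z' := by rw [e1, hz']
          have h2 : (t : G) * z' * (t : G)⁻¹ = z' := by
            calc (t : G) * z' * (t : G)⁻¹ = k⁻¹ * (k * t * k⁻¹ * f * (k * t * k⁻¹)⁻¹) * k := by rw [hz']; group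
              _ = z' := h1
          rw [mul_inv_eq_iff_eq_mul] at h2 ⊢
          exact h2.symm
        · refine Or.inr ?_
          have h1 : k⁻¹ * (k * t * k⁻¹ * f * (k * t * k⁻¹)⁻¹) * k = z' * u := by
            rw [e1, hz', show k⁻¹ * (f * u) * k = k⁻¹ * f * (u * k) by group, ← hku.eq]; group
          have h2 : (t : G) * z' * (t : G)⁻¹ = z' * u := by
            calc (t : G) * z' * (t : G)⁻¹ = k⁻¹ * (k * t * k⁻¹ * f * (k * t * k⁻¹)⁻¹) * k := by rw [hz']; group
              _ = z' * u := h1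
          rw [mul_inv_eq_iff_eq_mul] at h2 ⊢
          rw [mul_assoc, ← hz'u.eq, ← mul_assoc, h2,
            show z' * u * (t : G) * u = z' * (u * t) * u by group, ← (hCu t).eq,
            show z' * ((t : G) * u) * u = z' * t * (u * u) by group, huu, mul_one]
      have hkM : k ∈ M := by
        refine h.bad_fix hu2 (hle hu) (y := z') ?_ hz'M (fun e1 => hfu ?_) hz'u.eq hku.eq ?_
        · have h1 := orderOf_conj_eq k⁻¹ f
          rw [inv_inv] at h1
          rw [hz', h1, hf2]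
        · calc f = k * z' * k⁻¹ := by rw [hz']; group
            _ = u := by rw [e1, hku.eq, mul_inv_cancel_right]
        · rw [hz', show k * (k⁻¹ * f * k) * k⁻¹ = f by group]
          exact hle hf
      have h1 := mul_mem (inv_mem (show ((g : C) : G) ∈ M from g.2)) hkM
      rwa [hk, inv_mul_cancel_left] at h1
  have hHtop : H ≠ ⊤ := fun e => by
    obtain ⟨c, hc, hcM⟩ := hbad
    exact hcM (show (⟨c, mem_centralizer_singleton_iff.2 hc.eq⟩ : C) ∈ H from e ▸ mem_top _)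
  have key := le_oddCore_of_fix (H := H) (D := D.subgroupOf C) hHtop (u := u') (f := ⟨f, hSC hf⟩)
    (z := ⟨z, hSC hz⟩) (y := ⟨y, mem_centralizer_singleton_iff.2 hyu.eq⟩) (hord hu2)
    (fun c => Subtype.ext (hCu c).eq) huH hfix (hle hf) (hord hf2) (fun e => hfu (congrArg Subtype.val e))
    (hord hz2) (fun e => hzu (congrArg Subtype.val e)) (fun e => hzf (congrArg Subtype.val e))
    (fun e => hzfu (congrArg Subtype.val e)) (Subtype.ext hfz.eq) hyM (hord hy2) (fun d hd => hDM hd)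
    (hDo.of_dvd_nat (card_comap_dvd_of_injective D C.subtype C.subtype_injective))
    (fun c hc d hd => hDn c (hCu c) (congrArg Subtype.val hc.eq) d hd)
  intro d hd
  exact ⟨⟨d, mem_centralizer_singleton_iff.2 (hDu d hd).eq⟩, key hd, rfl⟩

end Cfsg.Agent.Invol.Core2
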