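import Cfsg.Agent.Lib.Invol.Core2.TwistBottomRoots
import Cfsg.Agent.Lib.Invol.Core2.TwistNoRoot
import Cfsg.Agent.Lib.Fus.SClosedSE.Main
import Cfsg.Agent.S1913

/-!
# Twisted case: the level without cover roots

Without cover roots all involutions of `H` other than `u` form one class under `H`, and in the normal closure of
their images modulo `u` the image of `H` is strongly embedded. So an odd subgroup of `H` normalised by the
centraliser of such an involution is trivial.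
-/

set_option autoImplicit false
set_option linter.unusedSectionVars false
set_option linter.style.haveILetI false

namespace Cfsg.Agent.Invol.Core2

open Subgroup

variable {C : Type*} [Group C] [Finite C] {H : Subgroup C} {T : Sylow 2 C} {u : C}

namespace Bottom

/-- Every involution of `H` other than `u` is conjugate to `z` by an element of `H`. -/
theorem class_mid (h : TwistC H T u) (hno : ∀ v, ¬ CoverRoot H u v) {z : C} (hm : Mid T u z) {y : C} (hy : y ∈ H)
    (hy2 : orderOf y = 2) (hyu : y ≠ u) : ∃ d ∈ H, d * z * d⁻¹ = y := by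
  have hzH := h.le hm.mem
  obtain ⟨c, -, hc⟩ := SetLike.lt_iff_le_and_exists.1 h.proper.lt_top |>.2
  have hfH : c * z * c⁻¹ ∉ H := fun e => hc (h.fix z hzH hm.two hm.ne c e)
  rcases h.conj_or_root hy hy2 hyu (f := c * z * c⁻¹) (by rw [orderOf_conj_eq, hm.two]) hfH with
    ⟨d, hd⟩ | ⟨e, -, -, hee, hye, hfe⟩
  · rw [show d * (c * z * c⁻¹) * d⁻¹ = d * c * z * (d * c)⁻¹ by group] at hd
    obtain ⟨a, ha, hay⟩ := h.twist y hy hy2 hyu
    have hdH : d * c ∈ H := h.fix z hzH hm.two hm.ne _ (by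
      rcases hd with e | e <;> rw [e]
      · exact hy
      · exact mul_mem hy (u_mem h))
    rcases hd with e | e
    · exact ⟨d * c, hdH, e⟩
    · refine ⟨a⁻¹ * (d * c), mul_mem (inv_mem ha) hdH, ?_⟩
      rw [show a⁻¹ * (d * c) * z * (a⁻¹ * (d * c))⁻¹ = a⁻¹ * (d * c * z * (d * c)⁻¹) * a by group, e, ← hay]
      group
  · exfalso
    obtain ⟨r, hrdef⟩ : ∃ r, r = c⁻¹ * e * c := ⟨_, rfl⟩
    have hrr : r * r = u := by
      calc r * r = c⁻¹ * (e * e) * c := by rw [hrdef]; group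
        _ = u := by rw [hee, mul_assoc, ← (h.cent c).eq, inv_mul_cancel_left]
    have hzr : z * r * z⁻¹ = r⁻¹ := by
      calc z * r * z⁻¹ = c⁻¹ * (c * z * c⁻¹ * e * (c * z * c⁻¹)⁻¹) * c := by rw [hrdef]; group
        _ = r⁻¹ := by rw [hfe, hrdef]; group
    have hr : Bad H u r := by
      refine ⟨h.root_mem hzH hm.two hm.ne hrr hzr, hrr, c⁻¹ * y * c, fun hw => hc ?_, Or.inr ?_⟩
      · have h1 := h.fix y hy hy2 hyu c⁻¹ (by rwa [inv_inv])
        exact inv_mem_iff.1 h1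
      · calc c⁻¹ * y * c * r * (c⁻¹ * y * c)⁻¹ = c⁻¹ * (y * e * y⁻¹) * c := by rw [hrdef]; group
          _ = r * u := by rw [hye, ← root_inv h hrr, hrdef]; group
    rw [root_inv h hrr] at hzr
    exact not_commute h hzr (bad_commute h hno hm hr (Or.inr hzr)).1

/-- The centre of order two, as a normal subgroup. -/
theorem normal_zpowers (h : TwistC H T u) : (zpowers u).Normal := ⟨fun a ha g => by
  obtain ⟨i, rfl⟩ := mem_zpowers_iff.1 ha
  rw [((h.cent g).zpow_right i).eq, mul_inv_cancel_right]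
  exact ha⟩

theorem mem_zpowers_u (h : TwistC H T u) {a : C} (ha : a ∈ zpowers u) : a = 1 ∨ a = u := by
  obtain ⟨i, rfl⟩ := mem_zpowers_iff.1 ha
  rcases Int.even_or_odd i with ⟨j, rfl⟩ | ⟨j, rfl⟩
  · exact Or.inl (by rw [← two_mul, zpow_mul, zpow_two, uu h, one_zpow])
  · exact Or.inr (by rw [zpow_add, zpow_mul, zpow_two, uu h, one_zpow, one_mul, zpow_one])

theorem eq_or_mul_u (h : TwistC H T u) [(zpowers u).Normal] {a b : C}
    (e : QuotientGroup.mk' (zpowers u) a = QuotientGroup.mk' (zpowers u) b) : b = a ∨ b = a * u :=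
  (mem_zpowers_u h (QuotientGroup.eq.1 e)).imp (fun e => (inv_mul_eq_one.1 e).symm) fun e => inv_mul_eq_iff_eq_mul.1 e

/-- Commuting modulo `u` is fixing modulo `u`. -/
theorem sgn_of_map (h : TwistC H T u) [(zpowers u).Normal] {g x : C}
    (e : QuotientGroup.mk' (zpowers u) g * QuotientGroup.mk' (zpowers u) x =
      QuotientGroup.mk' (zpowers u) x * QuotientGroup.mk' (zpowers u) g) : Sgn u g x := by
  refine eq_or_mul_u h ?_
  rw [map_mul, map_mul, map_inv, e, mul_inv_cancel_right]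

theorem map_mem_iff (h : TwistC H T u) [(zpowers u).Normal] {a : C} :
    QuotientGroup.mk' (zpowers u) a ∈ H.map (QuotientGroup.mk' (zpowers u)) ↔ a ∈ H := by
  refine ⟨?_, fun ha => ⟨a, ha, rfl⟩⟩
  rintro ⟨b, hb, e⟩
  rcases eq_or_mul_u h e with e' | e' <;> rw [e']
  · exact hb
  · exact mul_mem hb (u_mem h)

/-- The image of `H` is strongly embedded in the normal closure of the image of `z`. -/
theorem se (h : TwistC H T u) (hno : ∀ v, ¬ CoverRoot H u v) {z : C} (hm : Mid T u z) [(zpowers u).Normal] :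
    Cfsg.IsStronglyEmbedded ((H.map (QuotientGroup.mk' (zpowers u))).subgroupOf
      (normalClosure ({QuotientGroup.mk' (zpowers u) z} : Set (C ⧸ zpowers u)))) := by
  classical
  haveI : Fact (Nat.Prime 2) := ⟨Nat.prime_two⟩
  have hzH := h.le hm.mem
  set π := QuotientGroup.mk' (zpowers u) with hπ
  have hπs : Function.Surjective π := QuotientGroup.mk'_surjective _
  have hπ1 : ∀ {a : C}, π a = 1 ↔ a ∈ zpowers u := fun {a} => QuotientGroup.eq_one_iff a
  have hzπ : orderOf (π z) = 2 := orderOf_two_iff.2 ⟨by rw [← map_mul, mul_self_of_orderOf_two hm.two, map_one],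
    fun e => (mem_zpowers_u h (hπ1.1 e)).elim (ne_one_of_orderOf_two hm.two) hm.ne⟩
  refine Cfsg.Agent.S1913.result (T.mapSurjective hπs) (π z) hzπ ?_ _ (fun e => h.proper ?_) (fun g => ?_)
    fun ū hū hūz hnC => ?_
  · refine ⟨⟨π z, ?_⟩, Subgroup.mem_center_iff.2 fun s => Subtype.ext ?_, rfl⟩
    · rw [Sylow.coe_mapSurjective]; exact ⟨z, hm.mem, rfl⟩
    · have hs : (s : C ⧸ zpowers u) ∈ (T : Subgroup C).map π := by rw [← Sylow.coe_mapSurjective]; exact s.2
      obtain ⟨t, ht, e⟩ := hs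
      show (s : C ⧸ zpowers u) * π z = π z * s
      rw [← e]
      have h1 : π (t * z * t⁻¹) = π z := by
        rcases hm.sgn t ht with e' | e' <;> rw [e']
        rw [map_mul, hπ1.2 (mem_zpowers u), mul_one]
      rwa [map_mul, map_mul, map_inv, mul_inv_eq_iff_eq_mul] at h1
  · exact eq_top_iff.2 fun a _ => (map_mem_iff h).1 (e ▸ mem_top _)
  · obtain ⟨a, rfl⟩ := hπs g
    rw [mem_map_conj, ← map_inv, ← map_mul, ← map_mul, map_mem_iff h, map_mem_iff h]
    refine ⟨fun ha => inv_mem_iff.1 (h.fix z hzH hm.two hm.ne a⁻¹ (by rwa [inv_inv])), fun ha => ?_⟩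
    exact mul_mem (mul_mem (inv_mem ha) hzH) ha
  obtain ⟨v, rfl⟩ := hπs ū
  have hvN : v ∉ zpowers u := fun hv => ne_one_of_orderOf_two hū (hπ1.2 hv)
  have hvH : v ∈ H := mem_of_sgn h hzH hm.two hm.ne (sgn_of_map h hūz)
  obtain ⟨q, hq, hqH⟩ := SetLike.not_le_iff_exists.1 hnC
  obtain ⟨c, rfl⟩ := hπs q
  rw [mem_centralizer_singleton_iff] at hq
  rw [map_mem_iff h] at hqH
  have hcv : Sgn u c v := sgn_of_map h hq
  have hvv : v * v = u := by
    rcases mem_zpowers_u h (hπ1.1 (show π (v * v) = 1 by rw [map_mul, mul_self_of_orderOf_two hū])) with e | e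
    · exact absurd (mem_of_sgn h hvH (orderOf_two_iff.2 ⟨e, fun e' => hvN (e' ▸ one_mem _)⟩)
        (fun e' => hvN (e' ▸ mem_zpowers u)) hcv) hqH
    · exact e
  have hbad : Bad H u v := ⟨hvH, hvv, c, hqH, hcv⟩
  obtain ⟨hzv, hall⟩ := bad_commute h hno hm hbad (sgn_of_map h hūz.symm)
  obtain ⟨c', -, -, hw, hwv⟩ := hbad.out h hzH hm.two hm.ne hzv
  have hzmem : z ∈ members (zpowers v) u := ⟨hm.two, hm.ne, mem_cent_zpowers hzv⟩
  have hwmem : c' * z * c'⁻¹ ∈ members (zpowers v) u :=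
    ⟨(conj_invol h hm.two hm.ne c').1, (conj_invol h hm.two hm.ne c').2, mem_cent_zpowers hwv⟩
  set L := closure (members (zpowers v) u) with hL
  have hvL : v ∉ L := fun hm' => hno v (h.cover_of_mem hvH hvv ⟨⟨z, hzmem, hzH⟩, _, hwmem, hw⟩ hm')
  have hLv : ∀ {g : C}, g ∈ L → Commute g v := fun {g} hg =>
    (mem_centralizer_iff.1 ((closure_le _).2 (fun x (hx : x ∈ members (zpowers v) u) => hx.2.2) hg) v
      (mem_zpowers v)).symm
  set L' := closure {x : C ⧸ zpowers u | IsConj (π z) x ∧ x * π v = π v * x} with hL'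
  -- the generators come from members
  have hle : L' ≤ L.map π := (closure_le _).2 fun q hq => by
    obtain ⟨k, hk⟩ := _root_.isConj_iff.1 hq.1
    obtain ⟨k, rfl⟩ := hπs k
    obtain ⟨x, hx⟩ : ∃ x, x = k * z * k⁻¹ := ⟨_, rfl⟩
    have hπx : π x = q := by rw [hx, map_mul, map_mul, map_inv, hk]
    obtain ⟨hx2, hxu⟩ := conj_invol h hm.two hm.ne k
    rw [← hx] at hx2 hxu
    have hxv : Sgn u x v := sgn_of_map h (by rw [hπx]; exact hq.2)
    refine ⟨x, subset_closure ⟨hx2, hxu, mem_cent_zpowers ?_⟩, hπx⟩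
    by_cases hxH : x ∈ H
    · exact hall x hxH hx2 hxv
    obtain ⟨r, hr⟩ : ∃ r, r = k⁻¹ * v * k := ⟨_, rfl⟩
    have hzr : Sgn u z r := by
      have h1 := sgn_conj h hxv k⁻¹
      rwa [hx, inv_inv, show k⁻¹ * (k * z * k⁻¹) * k = z by group, ← hr] at h1
    have hrz : Sgn u r z := by
      rcases hzr with e | e
      · exact sgn_of_commute (mul_inv_eq_iff_eq_mul.1 e).symm
      · exact Or.inr (anti_symm h e)
    have hrr : r * r = u := by
      calc r * r = k⁻¹ * (v * v) * k := by rw [hr]; group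
        _ = u := by rw [hvv, mul_assoc, ← (h.cent k).eq, inv_mul_cancel_left]
    have hrb : Bad H u r := by
      refine ⟨mem_of_sgn h hzH hm.two hm.ne hrz, hrr, k⁻¹ * z * k, fun hin => hxH ?_, ?_⟩
      · have hkH : k ∈ H := inv_mem_iff.1 (h.fix z hzH hm.two hm.ne k⁻¹ (by rwa [inv_inv]))
        rw [hx]
        exact mul_mem (mul_mem hkH hzH) (inv_mem hkH)
      · have h1 := sgn_conj h (sgn_of_commute (u := u) hzv) k⁻¹
        rwa [inv_inv, ← hr] at h1
    have h1 : Commute (k * z * k⁻¹) (k * r * k⁻¹) := by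
      simpa using (bad_commute h hno hm hrb hzr).1.map (MulAut.conj k).toMonoidHom
    rwa [← hx, hr, show k * (k⁻¹ * v * k) * k⁻¹ = v by group] at h1
  have hzL' : π z ∈ L' := subset_closure ⟨IsConj.refl _, hūz.symm⟩
  have hwL' : π (c' * z * c'⁻¹) ∈ L' := subset_closure ⟨_root_.isConj_iff.2 ⟨π c', by rw [map_mul, map_mul, map_inv]⟩,
    by rw [← map_mul, ← map_mul, hwv.eq]⟩
  refine Fus.SClosedSE.se_intro (fun hle' => hw ((map_mem_iff h).1 (hle' hwL'))) hzπ hzL' ⟨z, hzH, rfl⟩ ?_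
  intro g hg hgH s hs2 hsL hsH hgs
  obtain ⟨s, hs, rfl⟩ := hle hsL
  obtain ⟨g, hg', rfl⟩ := hle hg
  rw [map_mem_iff h] at hsH hgH
  rw [← map_inv, ← map_mul, ← map_mul, map_mem_iff h] at hgs
  have hsN : s ∉ zpowers u := fun hm' => ne_one_of_orderOf_two hs2 (hπ1.2 hm')
  rcases mem_zpowers_u h (hπ1.1 (show π (s * s) = 1 by rw [map_mul, mul_self_of_orderOf_two hs2])) with e | e
  · exact hgH (inv_mem_iff.1 (h.fix s hsH (orderOf_two_iff.2 ⟨e, fun e' => hsN (e' ▸ one_mem _)⟩)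
      (fun e' => hsN (e' ▸ mem_zpowers u)) g⁻¹ (by rwa [inv_inv])))
  · have huL : u ∈ L := e ▸ mul_mem hs hs
    have hsv2 : orderOf (s * v) = 2 := by
      refine orderOf_two_iff.2 ⟨?_, fun e' => hvL ?_⟩
      · rw [show s * v * (s * v) = s * (v * s) * v by group, ← (hLv hs).eq,
          show s * (s * v) * v = s * s * (v * v) by group, e, hvv, uu h]
      · rw [show v = s⁻¹ by exact eq_inv_of_mul_eq_one_right e']
        exact inv_mem hs
    have hsvu : s * v ≠ u := fun e' => hvL (by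
      rw [show v = s⁻¹ * u by rw [← e', inv_mul_cancel_left]]
      exact mul_mem (inv_mem hs) huL)
    refine hgH (inv_mem_iff.1 (h.fix _ (mul_mem hsH hvH) hsv2 hsvu g⁻¹ ?_))
    rw [inv_inv, show g⁻¹ * (s * v) * g = g⁻¹ * s * (v * g) by group, ← (hLv hg').eq, ← mul_assoc]
    exact mul_mem hgs hvH

/-- The odd core of a normal subgroup is trivial. -/
theorem coreSub_eq_bot (h : TwistC H T u) (A : Subgroup C) [A.Normal] : coreSub A = ⊥ := by
  rw [eq_bot_iff, ← h.core]
  refine (coreSub_mono le_top fun b _ a ha => (inferInstance : A.Normal).conj_mem a ha b).trans ?_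
  haveI : (coreSub (⊤ : Subgroup C)).Normal :=
    Subgroup.Normal.map Grp.pPrimeCore_isNormal _ fun x => ⟨⟨x, mem_top x⟩, rfl⟩
  refine Grp.le_pPrimeCore inferInstance ?_
  rw [card_map_of_injective (⊤ : Subgroup C).subtype_injective]
  exact Grp.pPrimeCore_coprime

/-- The local fact at `z`. -/
theorem loc_mid (h : TwistC H T u) (hno : ∀ v, ¬ CoverRoot H u v) {z : C} (hm : Mid T u z) : LocAt H z := by
  classical
  intro D hDo hDH hDn
  haveI := normal_zpowers h
  have hzH := h.le hm.mem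
  set π := QuotientGroup.mk' (zpowers u) with hπ
  have hπ1 : ∀ {a : C}, π a = 1 ↔ a ∈ zpowers u := fun {a} => QuotientGroup.eq_one_iff a
  set K := (normalClosure ({π z} : Set (C ⧸ zpowers u))).comap π with hKdef
  haveI hKn : K.Normal := Normal.comap inferInstance π
  have hzK : z ∈ K := subset_normalClosure rfl
  have huK : u ∈ K := by
    show π u ∈ normalClosure ({π z} : Set (C ⧸ zpowers u))
    rw [hπ1.2 (mem_zpowers u)]
    exact one_mem _
  have hfixK : ∀ t ∈ K, t ∈ H → t * t ∈ zpowers u → t ∉ zpowers u → ∀ c ∈ K, c * t * c⁻¹ ∈ H → c ∈ H := by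
    intro t htK htH htt htu c hcK hct
    by_contra hcH
    refine Fus.SClosedSE.se_elim (se h hno hm) (g := (π c)⁻¹) (s := π t) (inv_mem hcK) (fun e => hcH ?_)
      (orderOf_two_iff.2 ⟨by rw [← map_mul]; exact hπ1.2 htt, fun e => htu (hπ1.1 e)⟩) htK ⟨t, htH, rfl⟩ ?_
    · rw [inv_mem_iff] at e
      exact (map_mem_iff h).1 e
    · rw [inv_inv, ← map_inv, ← map_mul, ← map_mul]
      exact ⟨_, hct, rfl⟩
  obtain ⟨c₀, -, hc₀⟩ := SetLike.lt_iff_le_and_exists.1 h.proper.lt_top |>.2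
  obtain ⟨y, hyT, hy2, hyu, hyz, hy1, hy1'⟩ := exists_second h hm
  have hyK : y ∈ K := by
    obtain ⟨d, -, hd⟩ := class_mid h hno hm (h.le hyT) hy2 hyu
    rw [← hd]
    exact hKn.conj_mem z hzK d
  have hKJ : K ≤ K ⊔ D := le_sup_left
  set J := K ⊔ D with hJ
  have hdec : ∀ {g : C}, g ∈ J → ∃ k ∈ K, ∃ d ∈ D, k * d = g := fun hg => mem_sup_of_normal_left.1 hg
  have hodd : ∀ d ∈ D, d * d ∈ K → d ∈ K := fun d hd hdd => by
    obtain ⟨j, hj⟩ := hDo
    have h1 : d ^ (2 * j + 1) = 1 := by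
      rw [← hj]; exact orderOf_dvd_iff_pow_eq_one.1 (D.orderOf_dvd_natCard hd)
    rw [show d = (d * d) ^ (j + 1) by
      rw [← pow_two, ← pow_mul, show 2 * (j + 1) = 2 * j + 1 + 1 by ring, pow_succ, h1, one_mul]]
    exact pow_mem hdd _
  have hord : ∀ {a : J}, orderOf (a : C) = 2 → orderOf a = 2 := fun ha => by rwa [← Subgroup.orderOf_coe]
  set u' : J := ⟨u, hKJ huK⟩ with hu'
  have hzp : ∀ {a : J}, a ∈ zpowers u' ↔ (a : C) ∈ zpowers u := fun {a} => by
    constructor <;> intro ha <;> obtain ⟨i, hi⟩ := mem_zpowers_iff.1 ha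
    · exact mem_zpowers_iff.2 ⟨i, by rw [← hi, SubgroupClass.coe_zpow]⟩
    · exact mem_zpowers_iff.2 ⟨i, Subtype.ext (by rw [SubgroupClass.coe_zpow]; exact hi)⟩
  have hfixJ : ∀ t ∈ H.subgroupOf J, t * t ∈ zpowers u' → t ∉ zpowers u' →
      ∀ c : J, c * t * c⁻¹ ∈ H.subgroupOf J → c ∈ H.subgroupOf J := by
    intro t ht htt htu c hct
    have htt' : (t : C) * t ∈ zpowers u := hzp.1 htt
    have htu' : (t : C) ∉ zpowers u := fun e => htu (hzp.2 e)
    have htK : (t : C) ∈ K := by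
      obtain ⟨k, hk, d, hd, hkd⟩ := hdec t.2
      have h2 : d * d ∈ K := by
        have h3 : k * (d * k * d⁻¹) * (d * d) ∈ K := by
          rw [show k * (d * k * d⁻¹) * (d * d) = (k * d) * (k * d) by group, hkd]
          exact (zpowers_le.2 huK : zpowers u ≤ K) htt'
        have h4 := K.mul_mem (K.inv_mem (K.mul_mem hk (hKn.conj_mem k hk d))) h3
        rwa [inv_mul_cancel_left] at h4
      rw [← hkd]
      exact mul_mem hk (hodd d hd h2)
    obtain ⟨k, hk, d, hd, hkd⟩ := hdec c.2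
    have hdH : d ∈ H := hDH hd
    have hsq : d * (t : C) * d⁻¹ * (d * t * d⁻¹) = (t : C) * t := by
      rw [conj_mul]
      rcases mem_zpowers_u h htt' with e | e <;> rw [e]
      · rw [mul_one, mul_inv_cancel]
      · rw [(h.cent d).eq, mul_inv_cancel_right]
    have h1 : k ∈ H := hfixK _ (hKn.conj_mem _ htK d) (mul_mem (mul_mem hdH ht) (inv_mem hdH))
      (hsq ▸ htt') (fun e => htu' (by
        have h2 := (normal_zpowers h).conj_mem _ e d⁻¹
        rwa [inv_inv, show d⁻¹ * (d * (t : C) * d⁻¹) * d = t by group] at h2)) k hk (by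
        rw [show k * (d * (t : C) * d⁻¹) * k⁻¹ = k * d * t * (k * d)⁻¹ by group, hkd]
        exact hct)
    show (c : C) ∈ H
    rw [← hkd]
    exact mul_mem h1 hdH
  have hJtop : H.subgroupOf J ≠ ⊤ := fun e => hc₀ (h.fix z hzH hm.two hm.ne c₀
    (subgroupOf_eq_top.1 e (hKJ (hKn.conj_mem z hzK c₀))))
  have key := le_oddCore_of_fix (H := H.subgroupOf J) (D := D.subgroupOf J) hJtop (u := u')
    (f := ⟨z, hKJ hzK⟩) (z := ⟨y, hKJ hyK⟩) (y := ⟨z, hKJ hzK⟩) (hord h.two)
    (fun a => Subtype.ext (h.cent a).eq) (show u' ∈ H.subgroupOf J from u_mem (H := H) (T := T) h) hfixJ hzH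
    (hord hm.two) (fun e => hm.ne (congrArg Subtype.val e))
    (hord hy2) (fun e => hyu (congrArg Subtype.val e)) (fun e => hy1 (congrArg Subtype.val e))
    (fun e => hy1' (congrArg Subtype.val e)) (Subtype.ext hyz.symm.eq) hzH (hord hm.two) (fun d hd => hDH hd)
    (hDo.of_dvd_nat (card_comap_dvd_of_injective D J.subtype J.subtype_injective))
    (fun c hc d hd => hDn c (congrArg Subtype.val hc.eq) d hd)
  -- `D` centralises `K`
  set O := coreSub J with hO
  have hOn : ∀ g ∈ J, ∀ a ∈ O, g * a * g⁻¹ ∈ O := by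
    rintro g hg _ ⟨a, ha, rfl⟩
    exact ⟨⟨g, hg⟩ * a * (⟨g, hg⟩ : J)⁻¹, Grp.pPrimeCore_isNormal.conj_mem a ha ⟨g, hg⟩, rfl⟩
  have hOo : Odd (Nat.card O) := by
    rw [hO, coreSub, card_map_of_injective J.subtype_injective]
    exact Nat.coprime_two_right.1 Grp.pPrimeCore_coprime
  have hOK : O ⊓ K = ⊥ := by
    rw [eq_bot_iff, ← coreSub_eq_bot h K]
    refine le_coreSub inf_le_right (fun k hk a ha => ⟨hOn k (hKJ hk) a ha.1, hKn.conj_mem a ha.2 k⟩) ?_
    exact hOo.of_dvd_nat (card_dvd_of_le inf_le_left)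
  have hDK : D ≤ centralizer (K : Set C) := fun d hd => mem_centralizer_iff.2 fun k hk => by
    have hdO : d ∈ O := ⟨⟨d, (le_sup_right : D ≤ J) hd⟩, key hd, rfl⟩
    have hm' : k * d * k⁻¹ * d⁻¹ ∈ O ⊓ K := ⟨O.mul_mem (hOn k (hKJ hk) d hdO) (O.inv_mem hdO), by
      rw [show k * d * k⁻¹ * d⁻¹ = k * (d * k⁻¹ * d⁻¹) by group]
      exact K.mul_mem hk (hKn.conj_mem _ (K.inv_mem hk) d)⟩
    rw [hOK, mem_bot, mul_inv_eq_one, mul_inv_eq_iff_eq_mul] at hm'
    exact hm'
  haveI : (centralizer (K : Set C)).Normal := ⟨fun a ha g => mem_centralizer_iff.2 fun k hk => by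
    have h1 := mem_centralizer_iff.1 ha _ (hKn.conj_mem k hk g⁻¹)
    rw [inv_inv] at h1
    calc k * (g * a * g⁻¹) = g * (g⁻¹ * k * g * a) * g⁻¹ := by group
      _ = g * (a * (g⁻¹ * k * g)) * g⁻¹ := by rw [h1]
      _ = g * a * g⁻¹ * k := by group⟩
  rw [eq_bot_iff, ← coreSub_eq_bot h (centralizer (K : Set C))]
  exact le_coreSub hDK (fun a ha d hd => hDn a (mem_centralizer_iff.1 ha z hzK).symm d hd) hDo

end Bottom

namespace TwistC

/-- Without cover roots `H` is transitive on its involutions other than `u`. -/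
theorem bottom_class (h : TwistC H T u) (hno : ∀ v, ¬ CoverRoot H u v) {y z : C} (hy : y ∈ H)
    (hy2 : orderOf y = 2) (hyu : y ≠ u) (hz : z ∈ H) (hz2 : orderOf z = 2) (hzu : z ≠ u) :
    ∃ d ∈ H, d * z * d⁻¹ = y := by
  obtain ⟨z₀, hm⟩ := Bottom.exists_mid h
  obtain ⟨a, ha, hay⟩ := Bottom.class_mid h hno hm hy hy2 hyu
  obtain ⟨b, hb, hbz⟩ := Bottom.class_mid h hno hm hz hz2 hzu
  exact ⟨a * b⁻¹, mul_mem ha (inv_mem hb), by rw [← hay, ← hbz]; group⟩

/-- Without cover roots the local fact holds at every involution of `H` other than `u`. -/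
theorem bottom_loc (h : TwistC H T u) (hno : ∀ v, ¬ CoverRoot H u v) {y : C} (hy : y ∈ H) (hy2 : orderOf y = 2)
    (hyu : y ≠ u) : LocAt H y := by
  obtain ⟨z, hm⟩ := Bottom.exists_mid h
  obtain ⟨d, hd, rfl⟩ := Bottom.class_mid h hno hm hy hy2 hyu
  exact locAt_conj hd (Bottom.loc_mid h hno hm)

end TwistC

end Cfsg.Agent.Invol.Core2
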