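import Cfsg.Agent.Lib.Invol.Core2.TwistTransfer

/-!
# Twisted case: the involutions of `H`

Two involutions other than `u` fixing different points are conjugate modulo `u` unless a root inverted by both fixes
both points; so without roots fixing two points `H` is transitive on its involutions other than `u`.
-/

set_option autoImplicit false
set_option linter.unusedSectionVars false

namespace Cfsg.Agent.Invol.Core2

open Subgroup

namespace TwistC

variable {C : Type*} [Group C] [Finite C] {H : Subgroup C} {T : Sylow 2 C} {u : C}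

/-- A root inverted by an involution of `H` lies in `H`. -/
theorem root_mem (h : TwistC H T u) {y r : C} (hy : y ∈ H) (hy2 : orderOf y = 2) (hyu : y ≠ u)
    (hrr : r * r = u) (hyr : y * r * y⁻¹ = r⁻¹) : r ∈ H := by
  refine h.fix y hy hy2 hyu r ?_
  obtain ⟨d, hd, hdy⟩ := h.twist y hy hy2 hyu
  have h0 : r * y = y * r⁻¹ := by
    calc r * y = (y * r * y⁻¹)⁻¹ * y := by rw [hyr, inv_inv]
      _ = y * r⁻¹ := by group
  have h1 : r * y * r⁻¹ = y * u⁻¹ := by rw [h0, ← hrr, mul_inv_rev, mul_assoc]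
  rw [h1, inv_of_orderOf_two h.two, ← hdy]
  exact mul_mem (mul_mem hd hy) (inv_mem hd)

/-- Involutions fixing different points: conjugate modulo `u`, or inverting one root. -/
theorem conj_or_root (h : TwistC H T u) {y f : C} (hy : y ∈ H) (hy2 : orderOf y = 2) (hyu : y ≠ u)
    (hf2 : orderOf f = 2) (hfH : f ∉ H) :
    (∃ d, d * f * d⁻¹ = y ∨ d * f * d⁻¹ = y * u) ∨
      ∃ r, ∃ k : ℕ, r = (y * f) ^ k ∧ r * r = u ∧ y * r * y⁻¹ = r⁻¹ ∧ f * r * f⁻¹ = r⁻¹ := by
  obtain ⟨a, b, hb, hab⟩ := Nat.exists_eq_two_pow_mul_odd (orderOf_pos (y * f)).ne'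
  obtain ⟨d, -, hdy, hord⟩ := exists_conj_two_part hy2 hf2 hab hb
  rcases a with _ | a
  · rw [pow_zero, orderOf_eq_one_iff] at hord
    rw [hord, mul_one] at hdy
    exact Or.inl ⟨d, Or.inl hdy⟩
  obtain ⟨w, hwdef⟩ : ∃ w, w = (y * f) ^ (2 ^ a * b) := ⟨_, rfl⟩
  have hpos : 0 < 2 ^ a * b := Nat.mul_pos (Nat.two_pow_pos _) hb.pos
  have hw2 : orderOf w = 2 := by
    rw [hwdef, orderOf_pow' _ hpos.ne', hab, Nat.gcd_eq_right ⟨2, by ring⟩,
      show 2 ^ (a + 1) * b = 2 * (2 ^ a * b) by ring, Nat.mul_div_cancel _ hpos]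
  have hwy : Commute w y := by
    have e := mul_zpow_comm hy2 hf2 ((2 ^ a * b : ℕ) : ℤ)
    rw [zpow_natCast, zpow_neg, zpow_natCast, ← hwdef, inv_of_orderOf_two hw2] at e
    exact e.symm
  have hwu : w = u := by
    by_contra hne
    have hwH : w ∈ H := h.fix y hy hy2 hyu w (by rw [hwy.eq, mul_inv_cancel_right]; exact hy)
    have hwf : Commute w f := by
      have h1 := ((Commute.self_pow (y * f) (2 ^ a * b)).symm)
      rw [← hwdef] at h1
      have h2 := hwy.inv_right.mul_right h1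
      rwa [inv_mul_cancel_left] at h2
    exact hfH (h.fix w hwH hw2 hne f (by rw [← hwf.eq, mul_inv_cancel_right]; exact hwH))
  rcases a with _ | a
  · rw [pow_zero, one_mul, hwu] at hwdef
    rw [← hwdef] at hdy
    exact Or.inl ⟨d, Or.inr hdy⟩
  refine Or.inr ⟨(y * f) ^ (2 ^ a * b), _, rfl, ?_, ?_, ?_⟩
  · rw [← pow_add, ← hwu, hwdef]
    congr 1
    ring
  · have e := conj_mul_zpow_eq_inv hy2 hf2 ((2 ^ a * b : ℕ) : ℤ)
    rw [zpow_natCast, zpow_neg, zpow_natCast] at e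
    exact e
  · have e := conj_mul_zpow_eq_inv hy2 hf2 ((2 ^ a * b : ℕ) : ℤ)
    rw [zpow_natCast, zpow_neg, zpow_natCast] at e
    obtain ⟨g, hg⟩ : ∃ g, g = (y * f) ^ (2 ^ a * b) := ⟨_, rfl⟩
    have hc : Commute (y * f) g := hg ▸ Commute.self_pow (y * f) _
    rw [← hg] at e ⊢
    calc f * g * f⁻¹ = y⁻¹ * (y * f * g * (y * f)⁻¹) * y := by group
      _ = y * g * y⁻¹ := by
        rw [hc.eq, mul_inv_cancel_right, inv_of_orderOf_two hy2]
      _ = _ := e

/-- Without roots fixing two points `H` is transitive on its involutions other than `u`. -/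
theorem one_class (h : TwistC H T u) (hroot : ∀ r ∈ H, r * r = u → ∀ c : C, c * r * c⁻¹ ∈ H → c ∈ H)
    {y z : C} (hy : y ∈ H) (hy2 : orderOf y = 2) (hyu : y ≠ u) (hz : z ∈ H) (hz2 : orderOf z = 2) (hzu : z ≠ u) :
    ∃ d ∈ H, d * z * d⁻¹ = y := by
  obtain ⟨c, -, hc⟩ := SetLike.lt_iff_le_and_exists.1 h.proper.lt_top |>.2
  have hfH : c * z * c⁻¹ ∉ H := fun e => hc (h.fix z hz hz2 hzu c e)
  rcases h.conj_or_root hy hy2 hyu (f := c * z * c⁻¹) (by rw [orderOf_conj_eq, hz2]) hfH with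
    ⟨d, hd⟩ | ⟨r, -, -, hrr, hyr, hfr⟩
  · obtain ⟨e, he, hey⟩ := h.twist y hy hy2 hyu
    have hmove : d * c * z * (d * c)⁻¹ = d * (c * z * c⁻¹) * d⁻¹ := by group
    rcases hd with hd | hd
    · exact ⟨d * c, h.fix z hz hz2 hzu _ (by rw [hmove, hd]; exact hy), by rw [hmove, hd]⟩
    · have h1 : d * c * z * (d * c)⁻¹ ∈ H := by
        rw [hmove, hd, ← hey]; exact mul_mem (mul_mem he hy) (inv_mem he)
      refine ⟨e⁻¹ * (d * c), mul_mem (inv_mem he) (h.fix z hz hz2 hzu _ h1), ?_⟩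
      rw [show e⁻¹ * (d * c) * z * (e⁻¹ * (d * c))⁻¹ = e⁻¹ * (d * c * z * (d * c)⁻¹) * e by group, hmove, hd,
        ← hey]
      group
  · refine absurd (hroot (c⁻¹ * r * c) ?_ ?_ c ?_) hc
    · refine h.root_mem hz hz2 hzu ?_ ?_
      · calc c⁻¹ * r * c * (c⁻¹ * r * c) = c⁻¹ * (r * r * c) := by group
          _ = u := by rw [hrr, ← (h.cent c).eq, inv_mul_cancel_left]
      · calc z * (c⁻¹ * r * c) * z⁻¹ = c⁻¹ * (c * z * c⁻¹ * r * (c * z * c⁻¹)⁻¹) * c := by group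
          _ = (c⁻¹ * r * c)⁻¹ := by rw [hfr]; group
    · calc c⁻¹ * r * c * (c⁻¹ * r * c) = c⁻¹ * (r * r * c) := by group
        _ = u := by rw [hrr, ← (h.cent c).eq, inv_mul_cancel_left]
    · rw [show c * (c⁻¹ * r * c) * c⁻¹ = r by group]
      exact h.root_mem hy hy2 hyu hrr hyr

/-- The local fact passes to `H`-conjugates. -/
theorem locAt_conj {d z : C} (hd : d ∈ H) (hl : LocAt H z) : LocAt H (d * z * d⁻¹) := by
  intro D hDo hDH hDn
  have key : D.map (MulAut.conj d⁻¹).toMonoidHom = ⊥ := by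
    refine hl _ (by rwa [card_map_of_injective (MulAut.conj d⁻¹).injective]) ?_ ?_
    · rintro _ ⟨x, hx, rfl⟩
      simpa using mul_mem (mul_mem (inv_mem hd) (hDH hx)) hd
    · rintro g hg _ ⟨x, hx, rfl⟩
      have hg' : Commute (d * g * d⁻¹) (d * z * d⁻¹) := by simpa using hg.map (MulAut.conj d).toMonoidHom
      exact ⟨_, hDn _ hg' x hx, by simp [mul_assoc]⟩
  exact (Subgroup.map_eq_bot_iff_of_injective _ (MulAut.conj d⁻¹).injective).1 key

end TwistC

end Cfsg.Agent.Invol.Core2
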