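import Cfsg.Agent.Lib.Invol.Core2.TwistSectionBound
import Cfsg.Agent.Lib.Invol.Core2.TwistClass
import Cfsg.Agent.Lib.Invol.NormalFour

/-!
# Twisted case, bottom level: signs, bad roots, pairs of involutions

A root is bad when an element outside `H` centralises it modulo `u`. An element acting on `x` modulo `u` has a sign.
Without cover roots no two involutions centralising a bad root anticommute.
-/

set_option autoImplicit false
set_option linter.unusedSectionVars false
set_option linter.style.haveILetI false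

namespace Cfsg.Agent.Invol.Core2.Bottom

open Subgroup

variable {C : Type*} [Group C] [Finite C] {H : Subgroup C} {T : Sylow 2 C} {u : C}

/-- `g` fixes `x` modulo `u`. -/
def Sgn (u g x : C) : Prop := g * x * g⁻¹ = x ∨ g * x * g⁻¹ = x * u

/-- A root of `H` whose centraliser modulo `u` is not inside `H`. -/
structure Bad (H : Subgroup C) (u r : C) : Prop where
  mem : r ∈ H
  sq : r * r = u
  moved : ∃ c : C, c ∉ H ∧ Sgn u c r

/-- An anticommuting pair `f`, `z` acting on `r`, with an element outside `H` centralising `r` and `f * z`. -/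
structure Data (H : Subgroup C) (u r z f o : C) : Prop where
  fmem : f ∈ H
  ford : orderOf f = 2
  fz : f * z * f⁻¹ = z * u
  fr : f * r * f⁻¹ = r * u
  out : o ∉ H
  or' : Commute o r
  oe : Commute o (f * z)

theorem sgn_of_commute {g x : C} (e : Commute g x) : Sgn u g x := Or.inl (mul_inv_eq_iff_eq_mul.2 e.eq)

theorem conj_mu (h : TwistC H T u) (g x : C) : g * (x * u) * g⁻¹ = g * x * g⁻¹ * u := conj_mul_central (h.cent g)

theorem uu (h : TwistC H T u) : u * u = 1 := mul_self_of_orderOf_two h.two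

theorem mul_uu (h : TwistC H T u) (x : C) : x * u * u = x := by rw [mul_assoc, uu h, mul_one]

theorem Sgn.mul {g k x : C} (h : TwistC H T u) (hg : Sgn u g x) (hk : Sgn u k x) : Sgn u (g * k) x := by
  rw [Sgn, show g * k * x * (g * k)⁻¹ = g * (k * x * k⁻¹) * g⁻¹ by group]
  rcases hk with e | e <;> rw [e]
  · exact hg
  · rcases hg with e' | e' <;> rw [conj_mu h, e']
    · exact Or.inr rfl
    · exact Or.inl (mul_uu h x)

theorem Sgn.inv {g x : C} (h : TwistC H T u) (hg : Sgn u g x) : Sgn u g⁻¹ x := by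
  rw [Sgn, inv_inv]
  rcases hg with e | e
  · exact Or.inl (by nth_rw 1 [← e]; group)
  · refine Or.inr ?_
    have h1 : g⁻¹ * (x * u) * g = x := by rw [← e]; group
    have h2 := conj_mu h g⁻¹ x
    rw [inv_inv, h1] at h2
    conv_rhs => rw [h2]
    rw [mul_uu h]

/-- The elements fixing `x` modulo `u`. -/
def sgnSub (h : TwistC H T u) (x : C) : Subgroup C where
  carrier := {g | Sgn u g x}
  one_mem' := Or.inl (by group)
  mul_mem' := fun hg hk => Sgn.mul h hg hk
  inv_mem' := fun hg => Sgn.inv h hg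

theorem mem_sgnSub (h : TwistC H T u) {g x : C} : g ∈ sgnSub h x ↔ Sgn u g x := Iff.rfl

/-- A sign is unchanged by `u`. -/
theorem sgn_mul_u (h : TwistC H T u) {g x : C} (hg : Sgn u g x) : Sgn u g (x * u) := by
  rw [Sgn, conj_mu h]
  exact hg.imp (fun e => by rw [e]) (fun e => by rw [e])

theorem commute_of_sq (h : TwistC H T u) {g x : C} (hg : Sgn u g x) : Commute (g * g) x := by
  refine mul_inv_eq_iff_eq_mul.1 ?_
  rw [show g * g * x * (g * g)⁻¹ = g * (g * x * g⁻¹) * g⁻¹ by group]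
  rcases hg with e | e <;> rw [e]
  · exact e
  · rw [conj_mu h, e, mul_uu h]

theorem commute_of_anti_anti (h : TwistC H T u) {g k x : C} (hg : g * x * g⁻¹ = x * u)
    (hk : k * x * k⁻¹ = x * u) : Commute (g * k) x := by
  refine mul_inv_eq_iff_eq_mul.1 ?_
  rw [show g * k * x * (g * k)⁻¹ = g * (k * x * k⁻¹) * g⁻¹ by group, hk, conj_mu h, hg, mul_uu h]

theorem anti_mul_of_commute (h : TwistC H T u) {g k x : C} (hg : g * x * g⁻¹ = x * u) (hk : Commute k x) :
    g * k * x * (g * k)⁻¹ = x * u := by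
  rw [show g * k * x * (g * k)⁻¹ = g * (k * x * k⁻¹) * g⁻¹ by group, hk.eq, mul_inv_cancel_right, hg]

theorem anti_ne (h : TwistC H T u) {x : C} : x * u ≠ x := fun e =>
  ne_one_of_orderOf_two h.two (mul_eq_left.1 e)

theorem not_commute (h : TwistC H T u) {g x : C} (hg : g * x * g⁻¹ = x * u) : ¬ Commute g x := fun e => by
  rw [e.eq, mul_inv_cancel_right] at hg
  exact anti_ne h hg.symm

theorem root_inv (h : TwistC H T u) {r : C} (hr : r * r = u) : r⁻¹ = r * u :=
  inv_eq_of_mul_eq_one_right (by rw [← mul_assoc, hr, uu h])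

theorem root_ne (h : TwistC H T u) {r : C} (hr : r * r = u) : r ≠ 1 ∧ r ≠ u :=
  ⟨fun e => ne_one_of_orderOf_two h.two (by rw [← hr, e, one_mul]),
    fun e => ne_one_of_orderOf_two h.two (by rw [← hr, e, uu h])⟩

theorem ne_u_of_anti (h : TwistC H T u) {g x : C} (hg : g * x * g⁻¹ = x * u) : g ≠ u := fun e =>
  not_commute h hg (by rw [e]; exact (h.cent x).symm)

theorem mem_cent_zpowers {g a : C} (e : Commute g a) : g ∈ centralizer (zpowers a : Set C) :=
  mem_centralizer_iff.2 fun b hb => by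
    obtain ⟨i, rfl⟩ := mem_zpowers_iff.1 hb
    exact (e.zpow_right i).eq.symm

theorem conj_invol (h : TwistC H T u) {y : C} (hy : orderOf y = 2) (hyu : y ≠ u) (g : C) :
    orderOf (g * y * g⁻¹) = 2 ∧ g * y * g⁻¹ ≠ u := by
  refine ⟨by rw [orderOf_conj_eq, hy], fun e => hyu ?_⟩
  calc y = g⁻¹ * (g * y * g⁻¹) * g := by group
    _ = u := by rw [e, mul_assoc, ← (h.cent g).eq, inv_mul_cancel_left]

theorem u_mem (h : TwistC H T u) : u ∈ H := by
  haveI : Fact (Nat.Prime 2) := ⟨Nat.prime_two⟩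
  obtain ⟨g, hg⟩ := exists_conj_mem_sylow (x := u) (p := 2) (n := 1) (by rw [h.two, pow_one]) T
  rw [(h.cent g).eq, mul_inv_cancel_right] at hg
  exact h.le hg

/-- An element fixing an involution of `H` modulo `u` lies in `H`. -/
theorem mem_of_sgn (h : TwistC H T u) {y g : C} (hy : y ∈ H) (hy2 : orderOf y = 2) (hyu : y ≠ u)
    (hg : Sgn u g y) : g ∈ H := by
  refine h.fix y hy hy2 hyu g ?_
  rcases hg with e | e <;> rw [e]
  · exact hy
  · exact mul_mem hy (u_mem h)

/-- The centraliser of a bad root moves the involutions of `H` in it. -/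
theorem Bad.out (h : TwistC H T u) {r y : C} (hr : Bad H u r) (hy : y ∈ H) (hy2 : orderOf y = 2) (hyu : y ≠ u)
    (hyr : Commute y r) : ∃ c : C, c ∉ H ∧ Sgn u c r ∧ c * y * c⁻¹ ∉ H ∧ Commute (c * y * c⁻¹) r := by
  obtain ⟨c, hc, hcr⟩ := hr.moved
  refine ⟨c, hc, hcr, fun e => hc (h.fix y hy hy2 hyu c e), ?_⟩
  have h1 : Commute (c * y * c⁻¹) (c * r * c⁻¹) := by simpa using hyr.map (MulAut.conj c).toMonoidHom
  rcases hcr with e | e <;> rw [e] at h1
  · exact h1
  · have h2 := h1.mul_right (h.cent (c * y * c⁻¹))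
    rwa [mul_uu h] at h2

/-- Without cover roots no two involutions centralising a bad root anticommute. -/
theorem noanti (h : TwistC H T u) (hno : ∀ v, ¬ CoverRoot H u v) {r a b : C} (hr : Bad H u r) (ha : a ∈ H)
    (ha2 : orderOf a = 2) (hb2 : orderOf b = 2) (har : Commute a r) (hbr : Commute b r)
    (hba : b * a * b⁻¹ = a * u) : False := by
  have hau : a ≠ u := fun e => by
    rw [e, (h.cent b).eq, mul_inv_cancel_right, uu h] at hba
    exact ne_one_of_orderOf_two h.two hba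
  obtain ⟨c, -, -, hw, hwr⟩ := hr.out h ha ha2 hau har
  refine hno r ⟨hr.mem, hr.sq, fun hle => hw (hle (mem_centralizer_singleton_iff.2 hwr.eq)), a, b, ha2, hb2, har,
    hbr, ?_⟩
  rw [mul_inv_eq_iff_eq_mul.1 hba, mul_assoc a u b, ← (h.cent b).eq, ← mul_assoc]

theorem zpow_conj_left {x w : C} (hx : orderOf x = 2) (hw : orderOf w = 2) (i : ℤ) :
    (x * w) ^ i * x * ((x * w) ^ i)⁻¹ = x * (x * w) ^ (-(2 * i)) := by
  have e := mul_zpow_comm hx hw (-i)
  rw [neg_neg] at e
  rw [← e, mul_assoc, ← zpow_neg, ← zpow_add]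
  congr 2
  ring

theorem pair_odd (h : TwistC H T u) (hno : ∀ v, ¬ CoverRoot H u v) {r p q : C} (hr : Bad H u r) (hp : p ∈ H)
    (hp2 : orderOf p = 2) (hq : q ∈ H) (hq2 : orderOf q = 2) (hpr : Commute p r) (hqr : Commute q r) :
    (∃ i : ℕ, orderOf ((p * q) ^ i) = 2 ∧ (p * q) ^ i ≠ u ∧ Commute ((p * q) ^ i) p ∧ Commute ((p * q) ^ i) q) ∨
      ∃ j : ℕ, (p * q) ^ (2 * j + 1) = 1 ∨ (p * q) ^ (2 * j + 1) = u := by
  obtain ⟨a, b, ⟨j, hj⟩, hab⟩ := Nat.exists_eq_two_pow_mul_odd (orderOf_pos (p * q)).ne'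
  rcases a with _ | a
  · refine Or.inr ⟨j, Or.inl ?_⟩
    rw [← hj, ← one_mul b, ← pow_zero 2, ← hab, pow_orderOf_eq_one]
  set n := 2 ^ a * b with hn
  have hpos : 0 < n := Nat.mul_pos (Nat.two_pow_pos _) (by omega)
  have hm2 : orderOf ((p * q) ^ n) = 2 := by
    rw [orderOf_pow' _ hpos.ne', hab, hn, Nat.gcd_eq_right ⟨2, by ring⟩,
      show 2 ^ (a + 1) * b = 2 * (2 ^ a * b) by ring, Nat.mul_div_cancel _ hpos]
  by_cases hmu : (p * q) ^ n = u
  · rcases a with _ | a
    · exact Or.inr ⟨j, Or.inr (by rw [← hj, ← hmu, hn, pow_zero, one_mul])⟩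
    exfalso
    obtain ⟨i, hi⟩ : ∃ i, i = (p * q) ^ (2 ^ a * b) := ⟨_, rfl⟩
    have hii : i * i = u := by rw [hi, ← pow_add, ← hmu, hn]; congr 1; ring
    have hinv : p * i * p⁻¹ = i * u := by
      rw [← root_inv h hii, hi]
      simpa only [zpow_natCast, zpow_neg] using conj_mul_zpow_eq_inv hp2 hq2 ((2 ^ a * b : ℕ) : ℤ)
    have hir : Commute i r := hi ▸ (hpr.mul_left hqr).pow_left _
    have hflip : i * p * i⁻¹ = p * u := by
      have h1 : i * p = p * (i * u) := by
        rw [← hinv, inv_of_orderOf_two hp2, show p * (p * i * p) = p * p * (i * p) by group,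
          mul_self_of_orderOf_two hp2, one_mul]
      rw [h1, mul_assoc p, mul_assoc i u, ← (h.cent i⁻¹).eq, mul_inv_cancel_left]
    have hpp := mul_self_of_orderOf_two hp2
    refine noanti h hno (b := p * i) hr hp hp2 (orderOf_two_iff.2 ⟨?_, fun e => ?_⟩) hpr (hpr.mul_left hir) ?_
    · calc p * i * (p * i) = p * i * p⁻¹ * i := by rw [inv_of_orderOf_two hp2]; group
        _ = 1 := by rw [hinv, mul_assoc, ← (h.cent i).eq, ← mul_assoc, hii, uu h]
    · rw [eq_inv_of_mul_eq_one_right e, inv_of_orderOf_two hp2, hpp] at hii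
      exact ne_one_of_orderOf_two h.two hii.symm
    · rw [show p * i * p * (p * i)⁻¹ = p * (i * p * i⁻¹) * p⁻¹ by group, hflip, conj_mu h, mul_inv_cancel_right]
  · refine Or.inl ⟨n, hm2, hmu, ?_, ?_⟩
    · have e := conj_mul_zpow_eq_inv hp2 hq2 ((n : ℕ) : ℤ)
      rw [zpow_natCast, zpow_neg, zpow_natCast, inv_of_orderOf_two hm2] at e
      exact (mul_inv_eq_iff_eq_mul.1 e).symm
    · have e := conj_mul_zpow_eq_inv hp2 hq2 ((n : ℕ) : ℤ)
      rw [zpow_natCast, zpow_neg, zpow_natCast, inv_of_orderOf_two hm2] at e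
      have h1 : Commute ((p * q) ^ n) p := (mul_inv_eq_iff_eq_mul.1 e).symm
      have h2 := h1.inv_right.mul_right ((Commute.self_pow (p * q) n).symm)
      rwa [inv_mul_cancel_left] at h2

end Cfsg.Agent.Invol.Core2.Bottom
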