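import Cfsg.Agent.Lib.Invol.Core2.TwistBottomBase

/-!
# Twisted case, bottom level: involutions anticommuting with a bad root

An involution of `H` anticommuting with a bad root `r` and one outside `H` commuting with `r` give a root `e`
anticommuting with `r` and an element outside `H` centralising both. From this, with `f * z` for `e`: the only
involutions of `H` commuting with `r` and `z` are `z` and `z * u`, and none commutes with `z` and inverts `r`.
-/

set_option autoImplicit false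
set_option linter.unusedSectionVars false
set_option linter.style.haveILetI false

namespace Cfsg.Agent.Invol.Core2.Bottom

open Subgroup

variable {C : Type*} [Group C] [Finite C] {H : Subgroup C} {T : Sylow 2 C} {u : C}

theorem raw (h : TwistC H T u) {r x w : C} (hr : Bad H u r) (hx : x ∈ H) (hx2 : orderOf x = 2)
    (hxr : x * r * x⁻¹ = r * u) (hw2 : orderOf w = 2) (hwH : w ∉ H) (hwr : Commute w r) :
    ∃ e o g : C, e * e = u ∧ e ∈ H ∧ e * r * e⁻¹ = r * u ∧ x * e * x⁻¹ = e * u ∧ o ∉ H ∧ Commute o r ∧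
      Commute o e ∧ Sgn u g r ∧ g * w * g⁻¹ = x * e := by
  have hxu : x ≠ u := ne_u_of_anti h hxr
  obtain ⟨p, hp⟩ : ∃ p, p = x * w := ⟨_, rfl⟩
  have hpr : p * r * p⁻¹ = r * u := hp ▸ anti_mul_of_commute h hxr hwr
  have hev : ∀ k : ℕ, Commute (p ^ (2 * k)) r := fun k => by
    rw [pow_mul, pow_two]
    exact (commute_of_anti_anti h hpr hpr).pow_left k
  have hodd : ∀ k : ℕ, p ^ (2 * k + 1) * r * (p ^ (2 * k + 1))⁻¹ = r * u := fun k => by
    rw [pow_succ']
    exact anti_mul_of_commute h hpr (hev k)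
  obtain ⟨a, b, ⟨j, hj⟩, hab⟩ := Nat.exists_eq_two_pow_mul_odd (orderOf_pos p).ne'
  rcases a with _ | a
  · exfalso
    have h1 := hodd j
    rw [← hj, ← one_mul b, ← pow_zero 2, ← hab, pow_orderOf_eq_one, one_mul, inv_one, mul_one] at h1
    exact anti_ne h h1.symm
  set n := 2 ^ a * b with hn
  have hpos : 0 < n := Nat.mul_pos (Nat.two_pow_pos _) (by omega)
  have hm2 : orderOf (p ^ n) = 2 := by
    rw [orderOf_pow' _ hpos.ne', hab, hn, Nat.gcd_eq_right ⟨2, by ring⟩,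
      show 2 ^ (a + 1) * b = 2 * (2 ^ a * b) by ring, Nat.mul_div_cancel _ hpos]
  have hinv : ∀ k : ℕ, x * p ^ k * x⁻¹ = (p ^ k)⁻¹ := fun k => by
    have e := conj_mul_zpow_eq_inv hx2 hw2 (k : ℤ)
    rw [zpow_natCast, zpow_neg, zpow_natCast, ← hp] at e
    exact e
  have hw' : w = x⁻¹ * p := by rw [hp, inv_mul_cancel_left]
  have hinv' : ∀ k : ℕ, w * p ^ k * w⁻¹ = (p ^ k)⁻¹ := fun k => by
    calc w * p ^ k * w⁻¹ = x⁻¹ * (p * p ^ k * p⁻¹) * x := by rw [hw']; group
      _ = x * p ^ k * x⁻¹ := by rw [((Commute.refl p).pow_right k).eq, mul_inv_cancel_right, inv_of_orderOf_two hx2]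
      _ = _ := hinv k
  have hmu : p ^ n = u := by
    by_contra hne
    have h1 : x * p ^ n * x⁻¹ = p ^ n := by rw [hinv, inv_of_orderOf_two hm2]
    have h2 : w * p ^ n * w⁻¹ = p ^ n := by rw [hinv', inv_of_orderOf_two hm2]
    have hmH : p ^ n ∈ H := mem_of_sgn h hx hx2 hxu (sgn_of_commute (mul_inv_eq_iff_eq_mul.1 h1).symm)
    exact hwH (mem_of_sgn h hmH hm2 hne (Or.inl h2))
  rcases a with _ | a
  · exfalso
    have h1 := hodd j
    rw [hn, pow_zero, one_mul, hj] at hmu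
    rw [hmu] at h1
    exact not_commute h h1 (h.cent r).symm
  obtain ⟨e, he⟩ : ∃ e, e = p ^ (2 ^ a * b) := ⟨_, rfl⟩
  have hee : e * e = u := by rw [he, ← pow_add, ← hmu, hn]; congr 1; ring
  have hxe : x * e * x⁻¹ = e * u := by rw [← root_inv h hee, he, hinv]
  have hwe : w * e * w⁻¹ = e * u := by rw [← root_inv h hee, he, hinv']
  rcases a with _ | a
  swap
  · -- a rotation commuting with `r`
    exfalso
    have her : Commute e r := by
      rw [he, show 2 ^ (a + 1) * b = 2 * (2 ^ a * b) by ring]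
      exact hev _
    have hs2 : orderOf (e * r) = 2 := orderOf_two_iff.2 ⟨by
      rw [show e * r * (e * r) = e * (r * e) * r by group, ← her.eq,
        show e * (e * r) * r = e * e * (r * r) by group, hee, hr.sq, uu h], fun e1 => by
      rw [eq_inv_of_mul_eq_one_left e1] at hwe
      exact not_commute h hwe hwr.inv_right⟩
    have hxs : Commute (e * r) x := by
      refine (mul_inv_eq_iff_eq_mul.1 ?_ : x * (e * r) = e * r * x).symm
      rw [show x * (e * r) * x⁻¹ = (x * e * x⁻¹) * (x * r * x⁻¹) by group, hxe, hxr,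
        show e * u * (r * u) = e * (u * r) * u by group, ← (h.cent r).eq, ← mul_assoc e r u, mul_uu h]
    have hws : w * (e * r) * w⁻¹ = e * r * u := by
      rw [show w * (e * r) * w⁻¹ = (w * e * w⁻¹) * (w * r * w⁻¹) by group, hwe, hwr.eq, mul_inv_cancel_right,
        mul_assoc e u r, ← (h.cent r).eq, ← mul_assoc]
    exact hwH (mem_of_sgn h (mem_of_sgn h hx hx2 hxu (sgn_of_commute hxs)) hs2
      (fun e1 => not_commute h hws (by rw [e1]; exact h.cent w)) (Or.inr hws))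
  rw [pow_zero, one_mul, hj] at he
  have her : e * r * e⁻¹ = r * u := he ▸ hodd j
  have heH : e ∈ H := h.root_mem hx hx2 hxu hee (by rw [hxe, root_inv h hee])
  have hpj : Sgn u (p ^ j)⁻¹ r := Sgn.inv h ((sgnSub h r).pow_mem (show p ∈ sgnSub h r from Or.inr hpr) j)
  refine ⟨e, p ^ 4, (p ^ j)⁻¹, hee, heH, her, hxe, fun h4 => hwH ?_, hev 2, ?_, hpj, ?_⟩
  · have hp' : p ∈ H := by
      rcases Nat.even_or_odd j with ⟨i, rfl⟩ | ⟨i, rfl⟩
      · have h1 := H.mul_mem (H.inv_mem (H.pow_mem h4 i)) (he ▸ heH)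
        rwa [← pow_mul, show 2 * (i + i) + 1 = 4 * i + 1 by ring, pow_succ, ← mul_assoc, inv_mul_cancel,
          one_mul] at h1
      · have h1 := H.mul_mem (H.inv_mem (he ▸ heH)) (H.pow_mem h4 (i + 1))
        rwa [← pow_mul, show 4 * (i + 1) = 2 * (2 * i + 1) + 1 + 1 by ring,
          pow_succ p (2 * (2 * i + 1) + 1), inv_mul_cancel_left] at h1
    have h2 := H.mul_mem (H.inv_mem hx) hp'
    rwa [hp, inv_mul_cancel_left] at h2
  · exact he ▸ (Commute.refl p).pow_pow 4 _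
  · have h1 := mul_zpow_comm hx2 hw2 (j : ℤ)
    rw [zpow_natCast, zpow_neg, zpow_natCast, ← hp] at h1
    rw [inv_inv]
    calc (p ^ j)⁻¹ * w * p ^ j = (p ^ j)⁻¹ * x⁻¹ * (p * p ^ j) := by rw [hw']; group
      _ = (p ^ j)⁻¹ * x * (p * p ^ j) := by rw [inv_of_orderOf_two hx2]
      _ = x * (p ^ j * (p * p ^ j)) := by rw [← h1, mul_assoc]
      _ = x * e := by rw [he, ← pow_succ', ← pow_add]; congr 2; ring

/-- An involution of `H` anticommuting with a bad root gives an anticommuting pair. -/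
theorem mixed_data (h : TwistC H T u) {r z x : C} (hr : Bad H u r) (hz : z ∈ H) (hz2 : orderOf z = 2) (hzu : z ≠ u)
    (hzr : Commute z r) (hx : x ∈ H) (hx2 : orderOf x = 2) (hxr : x * r * x⁻¹ = r * u) :
    ∃ f o : C, Data H u r z f o := by
  obtain ⟨c, -, hcr, hw, hwr⟩ := hr.out h hz hz2 hzu hzr
  obtain ⟨e, o, g, hee, heH, her, hxe, ho, hor, hoe, hgr, hgw⟩ :=
    raw h hr hx hx2 hxr (by rw [orderOf_conj_eq, hz2]) hw hwr
  obtain ⟨k, hkdef⟩ : ∃ k, k = g * c := ⟨_, rfl⟩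
  have hkz : k * z * k⁻¹ = x * e := by rw [← hgw, hkdef]; group
  have hkH : k ∈ H := h.fix z hz hz2 hzu k (hkz ▸ mul_mem hx heH)
  have hkr : Sgn u k⁻¹ r := Sgn.inv h (hkdef ▸ Sgn.mul h hgr hcr)
  have hz1 : x * (x * e) * x⁻¹ = x * e * u := by
    rw [mul_assoc x (x * e), mul_assoc x e, mul_assoc x, ← mul_assoc x e, hxe]
  have hpull : ∀ {a : C}, a * r * a⁻¹ = r * u → k⁻¹ * a * k * r * (k⁻¹ * a * k)⁻¹ = r * u := fun {a} ha => by
    have hk := Sgn.inv h hkr
    rw [inv_inv] at hk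
    rw [show k⁻¹ * a * k * r * (k⁻¹ * a * k)⁻¹ = k⁻¹ * (a * (k * r * k⁻¹) * a⁻¹) * k⁻¹⁻¹ by group]
    rcases hk with e' | e' <;> rw [e']
    · rw [ha, conj_mu h]
      congr 1
      nth_rw 1 [← e']
      group
    · rw [conj_mu h, ha, mul_uu h]
      calc k⁻¹ * r * k⁻¹⁻¹ = k⁻¹ * (r * u * u) * k⁻¹⁻¹ := by rw [mul_uu h]
        _ = k⁻¹ * (k * r * k⁻¹) * k⁻¹⁻¹ * u := by rw [conj_mu h, e']
        _ = r * u := by group
  have hcomm : ∀ {a : C}, Commute a r → Commute (k⁻¹ * a * k) r := fun {a} ha => by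
    have h1 : Commute (k⁻¹ * a * k⁻¹⁻¹) (k⁻¹ * r * k⁻¹⁻¹) := by simpa using ha.map (MulAut.conj k⁻¹).toMonoidHom
    rw [inv_inv] at h1
    rcases hkr with e' | e' <;> rw [inv_inv] at e' <;> rw [e'] at h1
    · exact h1
    · have h2 := h1.mul_right (h.cent _)
      rwa [mul_uu h] at h2
  refine ⟨k⁻¹ * x * k, k⁻¹ * o * k, mul_mem (mul_mem (inv_mem hkH) hx) hkH, ?_, ?_, hpull hxr,
    fun hm => ho ?_, hcomm hor, ?_⟩
  · have := orderOf_conj_eq k⁻¹ x
    rwa [inv_inv, hx2] at this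
  · calc k⁻¹ * x * k * z * (k⁻¹ * x * k)⁻¹ = k⁻¹ * (x * (k * z * k⁻¹) * x⁻¹) * k⁻¹⁻¹ := by group
      _ = k⁻¹ * (x * e) * k⁻¹⁻¹ * u := by rw [hkz, hz1, conj_mu h]
      _ = z * u := by rw [← hkz]; group
  · simpa [mul_assoc] using H.mul_mem (H.mul_mem hkH hm) (H.inv_mem hkH)
  · rw [show k⁻¹ * x * k * z = k⁻¹ * (x * (k * z * k⁻¹)) * k by group, hkz, ← mul_assoc x x e,
      mul_self_of_orderOf_two hx2, one_mul]
    simpa using hoe.map (MulAut.conj k⁻¹).toMonoidHom

namespace Data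

variable {r z f o : C}

theorem root (h : TwistC H T u) (d : Data H u r z f o) (hz : orderOf z = 2) : f * z * (f * z) = u := by
  calc f * z * (f * z) = f * z * f⁻¹ * z := by rw [inv_of_orderOf_two d.ford]; group
    _ = u := by rw [d.fz, mul_assoc, ← (h.cent z).eq, ← mul_assoc, mul_self_of_orderOf_two hz, one_mul]

theorem anti_r (h : TwistC H T u) (d : Data H u r z f o) (hzr : Commute z r) :
    f * z * r * (f * z)⁻¹ = r * u := anti_mul_of_commute h d.fr hzr

theorem anti_z (d : Data H u r z f o) : f * z * z * (f * z)⁻¹ = z * u := by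
  rw [show f * z * z * (f * z)⁻¹ = f * z * f⁻¹ by group, d.fz]

/-- No involution of `H` commutes with `r` and `f * z`. -/
theorem no_fixed (h : TwistC H T u) (d : Data H u r z f o) (hr : Bad H u r) (hz : z ∈ H) (hz2 : orderOf z = 2)
    (hzr : Commute z r) {y : C} (hy : y ∈ H) (hy2 : orderOf y = 2) (hyu : y ≠ u) (hyr : Commute y r)
    (hye : Commute y (f * z)) : False := by
  have he : f * z ∈ H := mul_mem d.fmem hz
  have hee := d.root h hz2
  have hp2 : orderOf (f * r) = 2 := orderOf_two_iff.2 ⟨by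
    rw [show f * r * (f * r) = f * r * f⁻¹ * (f * f * r) by group, d.fr, mul_self_of_orderOf_two d.ford, one_mul,
      mul_assoc r u r, ← (h.cent r).eq, ← mul_assoc r r u, hr.sq, uu h],
    fun e => not_commute h d.fr (by rw [eq_inv_of_mul_eq_one_left e]; exact (Commute.refl r).inv_left)⟩
  have hpr : f * r * r * (f * r)⁻¹ = r * u := anti_mul_of_commute h d.fr (Commute.refl r)
  have hpe : Commute (f * r) (f * z) := by
    refine mul_inv_eq_iff_eq_mul.1 ?_
    rw [show f * r * (f * z) * (f * r)⁻¹ = f * (r * f * r⁻¹) * (r * (r⁻¹ * (r * z * r⁻¹))) * f⁻¹ by group]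
    have h1 : r * f * r⁻¹ = f * u := by
      have e := mul_inv_eq_iff_eq_mul.1 d.fr
      rw [mul_inv_eq_iff_eq_mul, mul_assoc f, ← (h.cent r).eq, ← mul_assoc f, e, mul_assoc r u f, ← (h.cent f).eq,
        ← mul_assoc r f u, mul_uu h]
    rw [h1, hzr.symm.eq, mul_inv_cancel_right, mul_inv_cancel_left,
      show f * (f * u) * z * f⁻¹ = f * (f * (u * z)) * f⁻¹ by group, ← (h.cent z).eq,
      show f * (f * (z * u)) * f⁻¹ = f * (f * z * u) * f⁻¹ by group, conj_mu h,
      show f * (f * z) * f⁻¹ = f * (f * z * f⁻¹) by group, d.fz, ← mul_assoc f z u, mul_uu h]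
  have hq : o * y * o⁻¹ ∉ H := fun e => d.out (h.fix y hy hy2 hyu o e)
  have hqe : Commute (o * y * o⁻¹) (f * z) := (d.oe.mul_left hye).mul_left d.oe.inv_left
  have hqr : Commute (o * y * o⁻¹) r := (d.or'.mul_left hyr).mul_left d.or'.inv_left
  have key := h.ax.members_sign (h.cyc_root he hee) h.two h.le (fun s _ => h.cent s)
    ⟨f * z, mem_zpowers _, hee⟩ (h.cent r) (p := f * r) (q := o * y * o⁻¹)
    ⟨hp2, ne_u_of_anti h hpr, mem_cent_zpowers hpe⟩ (mul_mem d.fmem hr.mem) (Or.inr hpr)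
    ⟨(conj_invol h hy2 hyu o).1, (conj_invol h hy2 hyu o).2, mem_cent_zpowers hqe⟩ hq (sgn_of_commute hqr)
  exact not_commute h hpr (key.2 hqr)

/-- Conjugating the data by an element of `H` centralising `r` and `z`. -/
theorem conj (h : TwistC H T u) (d : Data H u r z f o) {g : C} (hg : g ∈ H) (hgr : Commute g r)
    (hgz : Commute g z) : Data H u r z (g * f * g⁻¹) (g * o * g⁻¹) := by
  have hfix : ∀ {a : C}, Commute g a → g * a * g⁻¹ = a := fun e => mul_inv_eq_iff_eq_mul.2 e.eq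
  refine ⟨mul_mem (mul_mem hg d.fmem) (inv_mem hg), by rw [orderOf_conj_eq, d.ford], ?_, ?_, fun hm => d.out ?_,
    ?_, ?_⟩
  · calc g * f * g⁻¹ * z * (g * f * g⁻¹)⁻¹ = g * f * g⁻¹ * (g * z * g⁻¹) * (g * f * g⁻¹)⁻¹ := by rw [hfix hgz]
      _ = g * (f * z * f⁻¹) * g⁻¹ := by group
      _ = z * u := by rw [d.fz, conj_mu h, hfix hgz]
  · calc g * f * g⁻¹ * r * (g * f * g⁻¹)⁻¹ = g * f * g⁻¹ * (g * r * g⁻¹) * (g * f * g⁻¹)⁻¹ := by rw [hfix hgr]
      _ = g * (f * r * f⁻¹) * g⁻¹ := by group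
      _ = r * u := by rw [d.fr, conj_mu h, hfix hgr]
  · simpa [mul_assoc] using H.mul_mem (H.mul_mem (H.inv_mem hg) hm) hg
  · exact (hgr.mul_left d.or').mul_left hgr.inv_left
  · have h1 := d.oe.map (MulAut.conj g).toMonoidHom
    rw [show g * f * g⁻¹ * z = g * f * g⁻¹ * (g * z * g⁻¹) by rw [hfix hgz]]
    simpa [mul_assoc] using h1

/-- The involutions of `H` commuting with `r` and `z`. -/
theorem only (h : TwistC H T u) (hno : ∀ v, ¬ CoverRoot H u v) (d : Data H u r z f o) (hr : Bad H u r) (hz : z ∈ H)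
    (hz2 : orderOf z = 2) (hzr : Commute z r) {y : C} (hy : y ∈ H) (hy2 : orderOf y = 2)
    (hyu : y ≠ u) (hyr : Commute y r) (hyz : Commute y z) : y = z ∨ y = z * u := by
  obtain ⟨e, he⟩ : ∃ e, e = f * z := ⟨_, rfl⟩
  have hee : e * e = u := he ▸ d.root h hz2
  have her : e * r * e⁻¹ = r * u := he ▸ d.anti_r h hzr
  have hez : e * z * e⁻¹ = z * u := he ▸ d.anti_z
  have heH : e ∈ H := he ▸ mul_mem d.fmem hz
  obtain ⟨hy12, hy1u⟩ := conj_invol h hy2 hyu e
  have hy1 : e * y * e⁻¹ ∈ H := mul_mem (mul_mem heH hy) (inv_mem heH)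
  have hback : ∀ {a : C}, e * a * e⁻¹ = a * u → Commute y a → Commute (e * y * e⁻¹) a := fun {a} ea hya => by
    have h1 : Commute (e * y * e⁻¹) (e * a * e⁻¹) := by simpa using hya.map (MulAut.conj e).toMonoidHom
    rw [ea] at h1
    have h2 := h1.mul_right (h.cent (e * y * e⁻¹))
    rwa [mul_uu h] at h2
  obtain ⟨P, hP⟩ : ∃ P, P = y * (e * y * e⁻¹) := ⟨_, rfl⟩
  have heP : e * P * e⁻¹ = P⁻¹ := by
    rw [hP, mul_inv_rev, inv_of_orderOf_two hy2, inv_of_orderOf_two hy12,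
      show e * (y * (e * y * e⁻¹)) * e⁻¹ = e * y * e⁻¹ * (e * e * y * (e * e)⁻¹) by group, hee, ← (h.cent y).eq,
      mul_inv_cancel_right]
  have hPr : Commute P r := hP ▸ hyr.mul_left (hback her hyr)
  have hPz : Commute P z := hP ▸ hyz.mul_left (hback hez hyz)
  have hPH : P ∈ H := hP ▸ mul_mem hy hy1
  rcases pair_odd h hno hr hy hy2 hy1 hy12 hyr (hback her hyr) with ⟨i, hi2, hiu, -, -⟩ | ⟨j, hj⟩
  · rw [← hP] at hi2 hiu
    refine (d.no_fixed h hr hz hz2 hzr (pow_mem hPH i) hi2 hiu (hPr.pow_left i) ?_).elim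
    rw [← he]
    refine (mul_inv_eq_iff_eq_mul.1 ?_ : e * P ^ i = P ^ i * e).symm
    rw [← conj_pow, heP, inv_pow, inv_of_orderOf_two hi2]
  rw [← hP] at hj
  -- carry `e` to an element fixing `y` modulo `u`
  obtain ⟨g, hg⟩ : ∃ g, g = P ^ (((j : ℤ) + 1) * (j + 1)) := ⟨_, rfl⟩
  have hgH : g ∈ H := hg ▸ zpow_mem hPH _
  have hgr : Commute g r := hg ▸ hPr.zpow_left _
  have hgz : Commute g z := hg ▸ hPz.zpow_left _
  have hfix : g * z * g⁻¹ = z := mul_inv_eq_iff_eq_mul.2 hgz.eq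
  have hge : g * f * g⁻¹ * z = g * e * g⁻¹ := by
    rw [he]
    nth_rw 1 [← hfix]
    group
  have hsame : Sgn u (g * e * g⁻¹) y := by
    have hconj : e * g⁻¹ * e⁻¹ = g := by
      rw [← conj_inv, hg, ← conj_zpow, heP, inv_zpow, inv_inv]
    have e1 : g * e * g⁻¹ = g * g * e := by
      rw [show g * e * g⁻¹ = g * (e * g⁻¹ * e⁻¹) * e by group, hconj]
    have e2 : g * g * e * y * (g * g * e)⁻¹ = g * g * (e * y * e⁻¹) * (g * g)⁻¹ := by group
    have e3 : e * y * e⁻¹ = y * P := by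
      rw [hP, ← mul_assoc, mul_self_of_orderOf_two hy2, one_mul]
    have e4 := zpow_conj_left hy2 hy12 (2 * (((j : ℤ) + 1) * (j + 1)))
    rw [← hP] at e4
    have e5 : g * g * (y * P) * (g * g)⁻¹ = y * P ^ (-(((2 * j + 1 : ℕ) : ℤ) * (2 * j + 3))) := by
      rw [hg, ← zpow_add, ← two_mul]
      calc P ^ (2 * (((j : ℤ) + 1) * (j + 1))) * (y * P) * (P ^ (2 * (((j : ℤ) + 1) * (j + 1))))⁻¹
          = P ^ (2 * (((j : ℤ) + 1) * (j + 1))) * y * (P ^ (2 * (((j : ℤ) + 1) * (j + 1))))⁻¹ * P := by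
            rw [← zpow_neg]; group
        _ = _ := by
          rw [e4, mul_assoc, ← zpow_add_one]
          congr 2
          push_cast
          ring
    rw [Sgn, e1, e2, e3, e5, ← mul_neg, zpow_mul, zpow_natCast]
    rcases hj with ej | ej <;> rw [ej]
    · exact Or.inl (by rw [one_zpow, mul_one])
    · refine Or.inr ?_
      rw [show -((2 : ℤ) * j + 3) = 2 * (-(j : ℤ) - 2) + 1 by ring, zpow_add, zpow_mul, zpow_two, uu h, one_zpow,
        one_mul, zpow_one]
  have d' := d.conj h hgH hgr hgz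
  rcases hsame with e1 | e1
  · refine (d'.no_fixed h hr hz hz2 hzr hy hy2 hyu hyr ?_).elim
    rw [hge]
    exact (mul_inv_eq_iff_eq_mul.1 e1 : g * e * g⁻¹ * y = y * (g * e * g⁻¹)).symm
  · by_contra hne
    rw [not_or] at hne
    have hzz := mul_self_of_orderOf_two hz2
    have hy2' : orderOf (y * z) = 2 := orderOf_two_iff.2 ⟨by
      rw [show y * z * (y * z) = y * (z * y) * z by group, ← hyz.eq,
        show y * (y * z) * z = y * y * (z * z) by group, mul_self_of_orderOf_two hy2, hzz, one_mul],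
      fun e2 => hne.1 (by rw [eq_inv_of_mul_eq_one_left e2, inv_of_orderOf_two hz2])⟩
    refine d'.no_fixed h hr hz hz2 hzr (mul_mem hy hz) hy2'
      (fun e2 => hne.2 (by rw [(h.cent z).eq, ← e2, mul_assoc, hzz, mul_one])) (hyr.mul_left hzr) ?_
    rw [hge]
    refine (mul_inv_eq_iff_eq_mul.1 ?_ : g * e * g⁻¹ * (y * z) = y * z * (g * e * g⁻¹)).symm
    calc g * e * g⁻¹ * (y * z) * (g * e * g⁻¹)⁻¹
        = g * e * g⁻¹ * y * (g * e * g⁻¹)⁻¹ * (g * (e * (g⁻¹ * z * g) * e⁻¹) * g⁻¹) := by group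
      _ = y * z := by
        rw [e1, show g⁻¹ * z * g = z by rw [mul_assoc, ← hgz.eq, inv_mul_cancel_left], hez, conj_mu h, hfix,
          show y * u * (z * u) = y * (u * z) * u by group, ← (h.cent z).eq, ← mul_assoc y z u, mul_uu h]

/-- No involution of `H` commutes with `z` and inverts `r`. -/
theorem no_anti (h : TwistC H T u) (hno : ∀ v, ¬ CoverRoot H u v) (d : Data H u r z f o) (hr : Bad H u r)
    (hz : z ∈ H) (hz2 : orderOf z = 2) (hzu : z ≠ u) (hzr : Commute z r) {y : C} (hy : y ∈ H)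
    (hy2 : orderOf y = 2) (hyz : Commute y z) (hyr : y * r * y⁻¹ = r * u) : False := by
  obtain ⟨c, -, -, hw, hwr⟩ := hr.out h hz hz2 hzu hzr
  obtain ⟨e, -, g, hee, heH, her, hye, -, -, -, -, hgw⟩ :=
    raw h hr hy hy2 hyr (by rw [orderOf_conj_eq, hz2]) hw hwr
  have hq2 : orderOf (y * e) = 2 := by rw [← hgw, orderOf_conj_eq, orderOf_conj_eq, hz2]
  have hq : y * e ∈ H := mul_mem hy heH
  have hqr : Commute (y * e) r := commute_of_anti_anti h hyr her
  have hqu : y * e ≠ u := fun e1 => not_commute h hye (by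
    rw [show e = y⁻¹ * u by rw [← e1]; group]
    exact (Commute.refl y).inv_right.mul_right (h.cent y))
  have hyq : y * (y * e) * y⁻¹ = y * e * u := by
    rw [mul_assoc y (y * e), mul_assoc y e, mul_assoc y, ← mul_assoc y e, hye]
  have hyne : ¬ Commute y (y * e) := not_commute h hyq
  rcases pair_odd h hno hr hz hz2 hq hq2 hzr hqr with ⟨i, hi2, hiu, hiz, hiq⟩ | ⟨j, hj⟩
  · rcases d.only h hno hr hz hz2 hzr (pow_mem (mul_mem hz hq) i) hi2 hiu ((hzr.mul_left hqr).pow_left i) hiz with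
      e1 | e1
    all_goals rw [e1] at hiq
    all_goals
      have hzq : Commute (y * e) z := by
        first
        | exact hiq.symm
        | (have h2 := hiq.symm.mul_right (h.cent (y * e)); rwa [mul_uu h] at h2)
      rcases d.only h hno hr hz hz2 hzr hq hq2 hqu hqr hzq with e2 | e2 <;> rw [e2] at hyne
      · exact hyne hyz
      · exact hyne (hyz.mul_right (h.cent y))
  · have hflip : y * (z * (y * e)) * y⁻¹ = z * (y * e) * u := by
      rw [show y * (z * (y * e)) * y⁻¹ = (y * z * y⁻¹) * (y * (y * e) * y⁻¹) by group, hyz.eq, mul_inv_cancel_right,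
        hyq, ← mul_assoc z (y * e) u]
    have h1 : y * (z * (y * e)) ^ (2 * j + 1) * y⁻¹ = (z * (y * e)) ^ (2 * j + 1) * u := by
      rw [← conj_pow, hflip, (h.cent _).mul_pow]
      congr 1
      rw [pow_succ, pow_mul, pow_two, uu h, one_pow, one_mul]
    refine not_commute h h1 ?_
    rcases hj with ej | ej <;> rw [ej]
    · exact Commute.one_right y
    · exact h.cent y

end Data

end Cfsg.Agent.Invol.Core2.Bottom
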