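import Cfsg.Agent.Lib.Invol.Core2.TwistBottomMixed
import Cfsg.Agent.Lib.Invol.Core2.TwistFusion

/-!
# Twisted case, bottom level: bad roots over the central involution of `T` modulo `u`

Let `z` be an involution of `T` central modulo `u`. Without cover roots a bad root `r` fixed by `z` modulo `u`
commutes with `z` and with every involution of `H` fixing it modulo `u`: otherwise the bad roots in `T` would give
three classes permuted transitively by a 2-group, or `T` would be dihedral of order eight.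
-/

set_option autoImplicit false
set_option linter.unusedSectionVars false
set_option linter.style.haveILetI false

namespace Cfsg.Agent.Invol.Core2.Bottom

open Subgroup

variable {C : Type*} [Group C] [Finite C] {H : Subgroup C} {T : Sylow 2 C} {u : C}

/-- An involution of `T` central modulo `u`. -/
structure Mid (T : Sylow 2 C) (u z : C) : Prop where
  mem : z ∈ (T : Subgroup C)
  two : orderOf z = 2
  ne : z ≠ u
  sgn : ∀ s ∈ (T : Subgroup C), Sgn u s z

theorem exists_mid (h : TwistC H T u) : ∃ z, Mid T u z := by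
  classical
  haveI : Fact (Nat.Prime 2) := ⟨Nat.prime_two⟩
  obtain ⟨E, hET, hE, hE8⟩ := h.eight
  obtain ⟨U, hUn, hU4, hU2⟩ := NormalFour.exists_normal_four (R := ↥(T : Subgroup C)) T.isPGroup'
    (E.subgroupOf _) (by rw [Nat.card_congr (subgroupOfEquivOfLe hET).toEquiv, hE8])
    (fun e he => Subtype.ext (by simpa using hE.2 _ (mem_subgroupOf.1 he)))
  haveI := hUn
  haveI : Group.IsNilpotent (T : Subgroup C) := T.isPGroup'.isNilpotent
  have hU1 : U ≠ ⊥ := fun e => by rw [e, card_bot] at hU4; omega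
  obtain ⟨c, hc, hc1⟩ := SetLike.not_le_iff_exists.1 fun hle => Grp.inf_center_ne_bot U hU1 (le_bot_iff.1 hle)
  have hc2 : orderOf (c : C) = 2 := orderOf_eq_prime
    (by simpa using congrArg Subtype.val (hU2 c hc.1)) fun e => hc1 (mem_bot.2 (Subtype.ext e))
  have hcu : (c : C) = u := h.uniq c c.2 hc2 fun s hs =>
    congrArg Subtype.val (mem_center_iff.1 hc.2 ⟨s, hs⟩)
  set K := (zpowers c).subgroupOf U with hK
  have hKc : Nat.card K = 2 := by
    rw [hK, Nat.card_congr (subgroupOfEquivOfLe (zpowers_le.2 hc.1)).toEquiv, Nat.card_zpowers,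
      ← Subgroup.orderOf_coe, hc2]
  have hidx : K.index = 2 := by
    have h1 := K.card_mul_index
    rw [hKc, hU4] at h1
    omega
  obtain ⟨z, hzK⟩ : ∃ z : U, z ∉ K := by
    by_contra hall
    push Not at hall
    rw [show K = ⊤ from eq_top_iff.2 fun a _ => hall a, index_top] at hidx
    omega
  have hcases : ∀ a : U, a ∈ K → ((a : ↥(T : Subgroup C)) : C) = 1 ∨ ((a : ↥(T : Subgroup C)) : C) = u := by
    intro a ha
    obtain ⟨i, hi⟩ := mem_zpowers_iff.1 (mem_subgroupOf.1 ha)
    rw [← hi, SubgroupClass.coe_zpow, hcu]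
    rcases Int.even_or_odd i with ⟨j, rfl⟩ | ⟨j, rfl⟩
    · exact Or.inl (by rw [← two_mul, zpow_mul, zpow_two, uu h, one_zpow])
    · exact Or.inr (by rw [zpow_add, zpow_mul, zpow_two, uu h, one_zpow, one_mul, zpow_one])
  refine ⟨((z : ↥(T : Subgroup C)) : C), SetLike.coe_mem _, orderOf_eq_prime
    (by simpa using congrArg Subtype.val (hU2 _ z.2)) fun e => hzK ?_, fun e => hzK ?_, fun s hs => ?_⟩
  · rw [show z = 1 from Subtype.ext (Subtype.ext e)]; exact one_mem K
  · refine mem_subgroupOf.2 ?_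
    rw [show (z : ↥(T : Subgroup C)) = c from Subtype.ext (e.trans hcu.symm)]
    exact mem_zpowers c
  · obtain ⟨z', hz'⟩ : ∃ z' : U, z' = ⟨_, hUn.conj_mem _ z.2 ⟨s, hs⟩⟩ := ⟨_, rfl⟩
    have hz'K : z' ∉ K := fun hm => by
      have e : ((z' : ↥(T : Subgroup C)) : C) = s * ((z : ↥(T : Subgroup C)) : C) * s⁻¹ := by rw [hz']; rfl
      have hz1 : ((z : ↥(T : Subgroup C)) : C) = 1 ∨ ((z : ↥(T : Subgroup C)) : C) = u := by
        rcases hcases z' hm with e' | e' <;> rw [e] at e'
        · exact Or.inl (conj_eq_one_iff.1 e')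
        · refine Or.inr ?_
          calc ((z : ↥(T : Subgroup C)) : C) = s⁻¹ * (s * ((z : ↥(T : Subgroup C)) : C) * s⁻¹) * s := by group
            _ = u := by rw [e', mul_assoc, ← (h.cent s).eq, inv_mul_cancel_left]
      refine hzK (mem_subgroupOf.2 ?_)
      rcases hz1 with e' | e'
      · rw [show (z : ↥(T : Subgroup C)) = 1 from Subtype.ext e']; exact one_mem _
      · rw [show (z : ↥(T : Subgroup C)) = c from Subtype.ext (e'.trans hcu.symm)]
        exact mem_zpowers c
    have hm := (mul_mem_iff_of_index_two hidx (a := z⁻¹) (b := z')).2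
      (iff_of_false (by simpa using hzK) hz'K)
    refine (hcases _ hm).imp ?_ ?_
    · intro e
      rw [hz'] at e
      simp only [Subgroup.coe_mul, Subgroup.coe_inv] at e
      exact (inv_mul_eq_one.1 e).symm
    · intro e
      rw [hz'] at e
      simp only [Subgroup.coe_mul, Subgroup.coe_inv] at e
      exact inv_mul_eq_iff_eq_mul.1 e

/-- An involution of `T` commuting with `z` and different from it modulo `u`. -/
theorem exists_second (h : TwistC H T u) {z : C} (hm : Mid T u z) :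
    ∃ y ∈ (T : Subgroup C), orderOf y = 2 ∧ y ≠ u ∧ Commute y z ∧ y ≠ z ∧ y ≠ z * u := by
  by_contra hall
  push Not at hall
  obtain ⟨E, hET, hE, hE8⟩ := h.eight
  haveI : IsMulCommutative E := hE.1
  have hcomm : ∀ a ∈ E, ∀ b ∈ E, Commute a b := fun a ha b hb =>
    congrArg Subtype.val (hE.1.is_comm.comm (⟨a, ha⟩ : E) ⟨b, hb⟩)
  have hsmall : ∀ e ∈ E, Commute e z → e = 1 ∨ e = u ∨ e = z ∨ e = z * u := fun e he hez => by
    by_cases e1 : e = 1
    · exact Or.inl e1
    by_cases eu : e = u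
    · exact Or.inr (Or.inl eu)
    by_cases ez : e = z
    · exact Or.inr (Or.inr (Or.inl ez))
    exact Or.inr (Or.inr (Or.inr (hall e (hET he) (orderOf_eq_prime (hE.2 e he) e1) eu hez ez)))
  have hcount : ∀ a b c d : C, (E : Set C) ⊆ {a, b, c, d} → False := fun a b c d hsub => by
    have h1 := Set.ncard_le_ncard hsub (Set.toFinite _)
    have h2 : ({a, b, c, d} : Set C).ncard ≤ 4 := by
      refine (Set.ncard_insert_le _ _).trans (Nat.succ_le_succ ?_)
      refine (Set.ncard_insert_le _ _).trans (Nat.succ_le_succ ?_)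
      exact (Set.ncard_insert_le _ _).trans (Nat.succ_le_succ (by simp))
    rw [← Nat.card_coe_set_eq] at h1
    change Nat.card E ≤ _ at h1
    omega
  by_cases hzE : z ∈ E ∨ z * u ∈ E
  · refine hcount 1 u z (z * u) fun e he => ?_
    refine (hsmall e he ?_).imp id fun h' => h'
    rcases hzE with hz | hz
    · exact hcomm e he z hz
    · have h1 := (hcomm e he _ hz).mul_right (h.cent e)
      rwa [mul_uu h] at h1
  rw [not_or] at hzE
  have hone : ∀ e ∈ E, Commute e z → e = 1 ∨ e = u := fun e he hez => by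
    rcases hsmall e he hez with e' | e' | e' | e'
    · exact Or.inl e'
    · exact Or.inr e'
    · exact absurd (e' ▸ he) hzE.1
    · exact absurd (e' ▸ he) hzE.2
  obtain ⟨b, hbE, hbz⟩ : ∃ b ∈ E, ¬ Commute b z := by
    by_contra hno
    push Not at hno
    exact hcount 1 u 1 u fun e he => (hone e he (hno e he)).elim Or.inl fun e' => Or.inr (Or.inl e')
  have hanti : ∀ {e : C}, e ∈ E → ¬ Commute e z → e * z * e⁻¹ = z * u := fun {e} he hn =>
    (hm.sgn e (hET he)).resolve_left fun e' => hn (mul_inv_eq_iff_eq_mul.1 e')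
  refine hcount 1 u b (b * u) fun e he => ?_
  by_cases hez : Commute e z
  · exact (hone e he hez).elim Or.inl fun e' => Or.inr (Or.inl e')
  have hb2 : b * b = 1 := by simpa [pow_two] using hE.2 b hbE
  rcases hone _ (E.mul_mem hbE he) (commute_of_anti_anti h (hanti hbE hbz) (hanti he hez)) with e' | e'
  · refine Or.inr (Or.inr (Or.inl ?_))
    rw [eq_inv_of_mul_eq_one_right e', inv_eq_of_mul_eq_one_right hb2]
  · refine Or.inr (Or.inr (Or.inr ?_))
    show e = b * u
    rw [← e', ← mul_assoc, hb2, one_mul]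

theorem anti_symm (h : TwistC H T u) {g x : C} (e : g * x * g⁻¹ = x * u) : x * g * x⁻¹ = g * u := by
  have h1 := mul_inv_eq_iff_eq_mul.1 e
  rw [mul_inv_eq_iff_eq_mul, mul_assoc g, ← (h.cent x).eq, ← mul_assoc g, h1, mul_assoc x u g, ← (h.cent g).eq,
    ← mul_assoc x g u, mul_uu h]

theorem sgn_conj (h : TwistC H T u) {c r : C} (hc : Sgn u c r) (g : C) :
    Sgn u (g * c * g⁻¹) (g * r * g⁻¹) := by
  rw [Sgn, show g * c * g⁻¹ * (g * r * g⁻¹) * (g * c * g⁻¹)⁻¹ = g * (c * r * c⁻¹) * g⁻¹ by group]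
  rcases hc with e | e <;> rw [e]
  · exact Or.inl rfl
  · exact Or.inr (conj_mu h g r)

theorem Bad.conj (h : TwistC H T u) {r g : C} (hr : Bad H u r) (hg : g ∈ H) : Bad H u (g * r * g⁻¹) := by
  obtain ⟨c, hc, hcr⟩ := hr.moved
  refine ⟨mul_mem (mul_mem hg hr.mem) (inv_mem hg), ?_, g * c * g⁻¹, fun hm => hc ?_, sgn_conj h hcr g⟩
  · rw [conj_mul, hr.sq, (h.cent g).eq, mul_inv_cancel_right]
  · simpa [mul_assoc] using H.mul_mem (H.mul_mem (H.inv_mem hg) hm) hg

theorem Bad.mul_u (h : TwistC H T u) {r : C} (hr : Bad H u r) : Bad H u (r * u) := by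
  obtain ⟨c, hc, hcr⟩ := hr.moved
  refine ⟨mul_mem hr.mem (u_mem h), ?_, c, hc, sgn_mul_u h hcr⟩
  rw [show r * u * (r * u) = r * (u * r) * u by group, ← (h.cent r).eq, ← mul_assoc r r u, mul_uu h, hr.sq]

theorem Bad.of_mul_u (h : TwistC H T u) {r : C} (hr : Bad H u (r * u)) : Bad H u r := mul_uu h r ▸ hr.mul_u h

theorem isPGroup_root (h : TwistC H T u) {r : C} (hr : r * r = u) : IsPGroup 2 ↥(zpowers r) := by
  haveI : Fact (Nat.Prime 2) := ⟨Nat.prime_two⟩
  refine IsPGroup.of_card (n := 2) ?_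
  rw [Nat.card_zpowers]
  refine orderOf_eq_prime_pow (p := 2) (n := 1) ?_ ?_
  · rw [pow_one, pow_two, hr]; exact ne_one_of_orderOf_two h.two
  · rw [pow_succ, pow_one, pow_mul, pow_two, pow_two, hr, uu h]

theorem isPGroup_invol {z : C} (hz : orderOf z = 2) : IsPGroup 2 ↥(zpowers z) := by
  haveI : Fact (Nat.Prime 2) := ⟨Nat.prime_two⟩
  exact IsPGroup.of_card (n := 1) (by rw [Nat.card_zpowers, hz, pow_one])

theorem mem_normalizer_of {K : Subgroup C} {g : C} (hg : ∀ k ∈ K, g * k * g⁻¹ ∈ K) : g ∈ normalizer (K : Set C) :=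
  mem_normalizer_fintype hg

/-- A 2-group fixing `z` modulo `u` is carried into `T` by an element of `H` fixing `z` modulo `u`. -/
theorem into_sylow (h : TwistC H T u) {z : C} (hm : Mid T u z) {P : Subgroup C} (hP : IsPGroup 2 P)
    (hPz : P ≤ sgnSub h z) : ∃ g ∈ H, Sgn u g z ∧ ∀ p ∈ P, g * p * g⁻¹ ∈ (T : Subgroup C) := by
  haveI : Fact (Nat.Prime 2) := ⟨Nat.prime_two⟩
  have hTz : (T : Subgroup C) ≤ sgnSub h z := fun s hs => hm.sgn s hs
  obtain ⟨g, hg⟩ := exists_conj_subset_sylow (G := ↥(sgnSub h z)) (H := P.subgroupOf _)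
    (hP.comap_subtype) (T.subtype hTz)
  exact ⟨g, mem_of_sgn h (h.le hm.mem) hm.two hm.ne g.2, g.2, fun p hp => hg ⟨p, hPz hp⟩ hp⟩

/-- The anticommuting pair moved by an element fixing `z` modulo `u`. -/
theorem Data.move (h : TwistC H T u) {r z f o g : C} (d : Data H u r z f o) (hg : g ∈ H) (hgz : Sgn u g z) :
    Data H u (g * r * g⁻¹) z (g * f * g⁻¹) (g * o * g⁻¹) := by
  have hfz : g * f * g⁻¹ * (g * z * g⁻¹) * (g * f * g⁻¹)⁻¹ = g * z * g⁻¹ * u := by
    rw [show g * f * g⁻¹ * (g * z * g⁻¹) * (g * f * g⁻¹)⁻¹ = g * (f * z * f⁻¹) * g⁻¹ by group, d.fz, conj_mu h]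
  have hoe : Commute (g * o * g⁻¹) (g * f * g⁻¹ * (g * z * g⁻¹)) := by
    simpa [mul_assoc] using d.oe.map (MulAut.conj g).toMonoidHom
  refine ⟨mul_mem (mul_mem hg d.fmem) (inv_mem hg), by rw [orderOf_conj_eq, d.ford], ?_, ?_, fun hm => d.out ?_,
    by simpa using d.or'.map (MulAut.conj g).toMonoidHom, ?_⟩
  · rcases hgz with e | e <;> rw [e] at hfz
    · exact hfz
    · rw [conj_mu h] at hfz
      exact mul_right_cancel hfz
  · rw [show g * f * g⁻¹ * (g * r * g⁻¹) * (g * f * g⁻¹)⁻¹ = g * (f * r * f⁻¹) * g⁻¹ by group, d.fr, conj_mu h]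
  · simpa [mul_assoc] using H.mul_mem (H.mul_mem (H.inv_mem hg) hm) hg
  · rcases hgz with e | e <;> rw [e] at hoe
    · exact hoe
    · have h1 := hoe.mul_right (h.cent _)
      rwa [← mul_assoc, mul_uu h] at h1

/-- A 2-element with a power prime to two in a subgroup lies in it. -/
theorem mem_of_cube {P K : Subgroup C} (hP : IsPGroup 2 P) {g : C} (hg : g ∈ P) (h3 : g * g * g ∈ K) : g ∈ K := by
  obtain ⟨k, hk⟩ := hP ⟨g, hg⟩
  have hk' : g ^ 2 ^ k = 1 := by simpa using congrArg Subtype.val hk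
  have hco : Nat.Coprime 3 (2 ^ k) := Nat.Coprime.pow_right k (by norm_num)
  have hb := Nat.gcd_eq_gcd_ab 3 (2 ^ k)
  rw [show Nat.gcd 3 (2 ^ k) = 1 from hco] at hb
  have h1 : g = (g ^ (3 : ℕ)) ^ Nat.gcdA 3 (2 ^ k) := by
    conv_lhs => rw [← zpow_one g, show (1 : ℤ) = ((3 : ℕ) : ℤ) * Nat.gcdA 3 (2 ^ k) +
      ((2 ^ k : ℕ) : ℤ) * Nat.gcdB 3 (2 ^ k) by exact_mod_cast hb, zpow_add, zpow_mul, zpow_mul, zpow_natCast,
      zpow_natCast, hk', one_zpow, mul_one]
  rw [h1, pow_succ, pow_two]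
  exact K.zpow_mem h3 _

variable {z : C}

/-- No bad root of `T` has an anticommuting pair in `T` over `z`. -/
theorem no_pair (h : TwistC H T u) (hno : ∀ v, ¬ CoverRoot H u v) (hm : Mid T u z) {r f o : C} (hr : Bad H u r)
    (hrT : r ∈ (T : Subgroup C)) (hzr : Commute z r) (hfT : f ∈ (T : Subgroup C)) (d : Data H u r z f o) :
    False := by
  haveI : Fact (Nat.Prime 2) := ⟨Nat.prime_two⟩
  have hzH : z ∈ H := h.le hm.mem
  obtain ⟨y, hyT, hy2, hyu, hyz, hy1, hy1'⟩ := exists_second h hm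
  set Tz := (T : Subgroup C) ⊓ centralizer ({z} : Set C) with hTz
  set Y := Tz ⊓ sgnSub h r with hYdef
  have hmemY : ∀ {t : C}, t ∈ Y ↔ t ∈ (T : Subgroup C) ∧ Commute t z ∧ Sgn u t r := by
    intro t
    rw [hYdef, hTz, Subgroup.mem_inf, Subgroup.mem_inf, mem_centralizer_singleton_iff, and_assoc]
    rfl
  have honly : ∀ {t : C}, t ∈ (T : Subgroup C) → orderOf t = 2 → Commute t z → Commute t r →
      t = u ∨ t = z ∨ t = z * u := fun {t} ht ht2 htz htr => (em (t = u)).imp id fun hne =>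
    d.only h hno hr hzH hm.two hzr (h.le ht) ht2 hne htr htz
  have hlt : Y < Tz := lt_of_le_not_ge inf_le_left fun hle => by
    obtain ⟨-, -, hyr⟩ := hmemY.1 (hle ⟨hyT, mem_centralizer_singleton_iff.2 hyz.eq⟩)
    rcases hyr with e | e
    · rcases honly hyT hy2 hyz (mul_inv_eq_iff_eq_mul.1 e) with e' | e' | e'
      exacts [hyu e', hy1 e', hy1' e']
    · exact d.no_anti h hno hr hzH hm.two hm.ne hzr (h.le hyT) hy2 hyz e
  obtain ⟨x, hxTz, hxN, hxY⟩ := TwistFusion.exists_normalizer_growth (T.isPGroup'.to_le inf_le_left) hlt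
  have hxT : x ∈ (T : Subgroup C) := hxTz.1
  have hxz : Commute x z := mem_centralizer_singleton_iff.1 hxTz.2
  have hxH : x ∈ H := h.le hxT
  have hconjY : ∀ {t : C}, t ∈ Y → x * t * x⁻¹ ∈ Y := fun {t} ht => (mem_normalizer_iff.1 hxN t).1 ht
  have hrY : r ∈ Y := hmemY.2 ⟨hrT, hzr.symm, sgn_of_commute (Commute.refl r)⟩
  have hl : ¬ Bad H u (z * r) := fun hb => by
    refine noanti h hno hb hzH hm.two d.ford ((Commute.refl z).mul_right hzr) ?_ d.fz
    refine mul_inv_eq_iff_eq_mul.1 ?_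
    rw [show f * (z * r) * f⁻¹ = (f * z * f⁻¹) * (f * r * f⁻¹) by group, d.fz, d.fr,
      show z * u * (r * u) = z * (u * r) * u by group, ← (h.cent r).eq, ← mul_assoc z r u, mul_uu h]
  -- the roots of `Y` commuting with `r`
  have hroots : ∀ {t : C}, t ∈ Y → Commute t r → t * t = u → t = r ∨ t = r * u ∨ t = z * r ∨ t = z * r * u := by
    intro t ht htr htt
    obtain ⟨htT, htz, -⟩ := hmemY.1 ht
    have hrinv := root_inv h hr.sq
    have hback : t = t * r * r⁻¹ := (mul_inv_cancel_right t r).symm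
    by_cases h1 : t * r = 1
    · refine Or.inr (Or.inl ?_)
      rw [hback, h1, one_mul, hrinv]
    have h2 : orderOf (t * r) = 2 := orderOf_two_iff.2 ⟨by
      rw [show t * r * (t * r) = t * (r * t) * r by group, ← htr.eq,
        show t * (t * r) * r = t * t * (r * r) by group, htt, hr.sq, uu h], h1⟩
    rcases honly (mul_mem htT hrT) h2 (htz.mul_left hzr.symm) (htr.mul_left (Commute.refl r)) with e | e | e
    · refine Or.inl ?_
      rw [hback, e, hrinv, ← mul_assoc, ← (h.cent r).eq, mul_uu h]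
    · refine Or.inr (Or.inr (Or.inr ?_))
      rw [hback, e, hrinv, mul_assoc]
    · refine Or.inr (Or.inr (Or.inl ?_))
      rw [hback, e, hrinv, show z * u * (r * u) = z * (u * r) * u by group, ← (h.cent r).eq, ← mul_assoc z r u,
        mul_uu h]
  obtain ⟨q, hq⟩ : ∃ q, q = x * r * x⁻¹ := ⟨_, rfl⟩
  have hqY : q ∈ Y := hq ▸ hconjY hrY
  have hqb : Bad H u q := hq ▸ hr.conj h hxH
  obtain ⟨hqT, hqz, hqs⟩ := hmemY.1 hqY
  have hqr : q * r * q⁻¹ = r * u := hqs.resolve_left fun e => by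
    rcases hroots hqY (mul_inv_eq_iff_eq_mul.1 e) hqb.sq with e' | e' | e' | e'
    · exact hxY (hmemY.2 ⟨hxT, hxz, Or.inl (hq ▸ e')⟩)
    · exact hxY (hmemY.2 ⟨hxT, hxz, Or.inr (hq ▸ e')⟩)
    · exact hl (e' ▸ hqb)
    · exact hl ((e' ▸ hqb : Bad H u (z * r * u)).of_mul_u h)
  have hqz' : ¬ Bad H u (q * z) := fun hb => hl (by
    have h1 := hb.conj h (inv_mem hxH)
    rwa [hq, inv_inv, show x⁻¹ * (x * r * x⁻¹ * z) * x = r * (x⁻¹ * z * x) by group, mul_assoc x⁻¹ z x,
      ← hxz.eq, inv_mul_cancel_left, ← hzr.eq] at h1)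
  -- the bad roots of `Y` anticommuting with `r`
  have hM : ∀ {t : C}, t ∈ Y → Bad H u t → t * r * t⁻¹ = r * u → ∃ c : C, t = q * c ∧
      (c = 1 ∨ c = u ∨ c = r ∨ c = r * u ∨ c = z * r ∨ c = z * r * u) := by
    intro t ht htb htr
    obtain ⟨c, hc⟩ : ∃ c, c = q⁻¹ * t := ⟨_, rfl⟩
    have hcY : c ∈ Y := hc ▸ mul_mem (inv_mem hqY) ht
    obtain ⟨hcT, hcz, -⟩ := hmemY.1 hcY
    have hcr : Commute c r := by
      rw [hc]
      refine commute_of_anti_anti h ?_ htr
      rw [root_inv h hqb.sq]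
      exact anti_mul_of_commute h hqr (h.cent r).symm
    have hinv : ∀ i : ℕ, q * c ^ i * q⁻¹ = (c ^ i)⁻¹ := fun i => by
      rw [← conj_pow, ← inv_pow]
      congr 1
      rw [hc, mul_inv_rev, inv_inv, root_inv h htb.sq, mul_inv_cancel_left, root_inv h hqb.sq, mul_assoc t u q,
        ← (h.cent q).eq]
    refine ⟨c, by rw [hc, mul_inv_cancel_left], ?_⟩
    obtain ⟨k, hk⟩ := IsPGroup.iff_orderOf.1 T.isPGroup' ⟨c, hcT⟩
    rw [Subgroup.orderOf_mk] at hk
    have hq' : Bad H u (q * c) := by rwa [hc, mul_inv_cancel_left]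
    rcases k with _ | k
    · exact Or.inl (orderOf_eq_one_iff.1 (by rw [hk, pow_zero]))
    have hm2 : orderOf (c ^ 2 ^ k) = 2 := by
      rw [orderOf_pow' _ (pow_ne_zero k two_ne_zero), hk, Nat.gcd_eq_right ⟨2, by ring⟩, pow_succ,
        Nat.mul_div_cancel_left _ (Nat.two_pow_pos k)]
    rcases honly (pow_mem hcT _) hm2 (hcz.pow_left _) (hcr.pow_left _) with e | e
    swap
    · exfalso
      rcases k with _ | k
      · rw [pow_zero, pow_one] at e
        rcases e with e | e
        · exact hqz' (e ▸ hq')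
        · exact hqz' (by rw [e, ← mul_assoc] at hq'; exact hq'.of_mul_u h)
      have h1 : c ^ 2 ^ k * q * (c ^ 2 ^ k)⁻¹ = c ^ 2 ^ (k + 1) * q := by
        have e1 := hinv (2 ^ k)
        have e2 : q * (c ^ 2 ^ k)⁻¹ * q⁻¹ = c ^ 2 ^ k := by rw [← conj_inv, e1, inv_inv]
        rw [mul_assoc, mul_inv_eq_iff_eq_mul.1 e2, ← mul_assoc, ← pow_add]
        congr 2
        ring
      have hdH : c ^ 2 ^ k ∈ H := H.pow_mem (h.le hcT) _
      have hb := hqb.conj h hdH
      rw [h1] at hb
      rcases e with e | e <;> rw [e] at hb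
      · exact hqz' (hqz.eq ▸ hb)
      · rw [mul_assoc z u q, ← (h.cent q).eq, ← mul_assoc, ← hqz.eq] at hb
        exact hqz' (hb.of_mul_u h)
    rcases k with _ | k
    · exact Or.inr (Or.inl (by rwa [pow_zero, pow_one] at e))
    have hdd : c ^ 2 ^ k * c ^ 2 ^ k = u := by rw [← pow_add, ← e]; congr 1; ring
    have hd := hroots (pow_mem hcY (2 ^ k)) (hcr.pow_left _) hdd
    rcases k with _ | k
    · rw [pow_zero, pow_one] at hd
      exact Or.inr (Or.inr hd)
    exfalso
    have h1 : Commute (x * c ^ 2 ^ (k + 1) * x⁻¹) r := by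
      have h2 := commute_of_sq h (hmemY.1 (hconjY (pow_mem hcY (2 ^ k)))).2.2
      rwa [conj_mul, ← pow_add, ← two_mul, ← pow_succ'] at h2
    rcases hd with e' | e' | e' | e' <;> rw [e'] at h1
    · exact not_commute h hqr (hq ▸ h1)
    · rw [conj_mu h, ← hq] at h1
      have h2 := h1.mul_left (h.cent r).symm
      rw [mul_uu h] at h2
      exact not_commute h hqr h2
    · rw [show x * (z * r) * x⁻¹ = (x * z * x⁻¹) * (x * r * x⁻¹) by group, hxz.eq, mul_inv_cancel_right, ← hq] at h1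
      have h2 := hzr.mul_left h1
      rw [← mul_assoc, mul_self_of_orderOf_two hm.two, one_mul] at h2
      exact not_commute h hqr h2
    · rw [conj_mu h, show x * (z * r) * x⁻¹ = (x * z * x⁻¹) * (x * r * x⁻¹) by group, hxz.eq, mul_inv_cancel_right,
        ← hq] at h1
      have h1' := h1.mul_left (h.cent r).symm
      rw [mul_uu h] at h1'
      have h2 := hzr.mul_left h1'
      rw [← mul_assoc, mul_self_of_orderOf_two hm.two, one_mul] at h2
      exact not_commute h hqr h2
  -- the image of `q` under `f`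
  have hfr : Sgn u f r := Or.inr d.fr
  have hconjf : ∀ {t : C}, t ∈ Y → f * t * f⁻¹ ∈ Y := fun {t} ht => by
    obtain ⟨htT, htz, hts⟩ := hmemY.1 ht
    refine hmemY.2 ⟨mul_mem (mul_mem hfT htT) (inv_mem hfT), ?_, Sgn.mul h (Sgn.mul h hfr hts) (Sgn.inv h hfr)⟩
    have h1 : Commute (f * t * f⁻¹) (f * z * f⁻¹) := by simpa using htz.map (MulAut.conj f).toMonoidHom
    rw [d.fz] at h1
    have h2 := h1.mul_right (h.cent _)
    rwa [mul_uu h] at h2
  obtain ⟨p, hp⟩ : ∃ p, p = f * q * f⁻¹ := ⟨_, rfl⟩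
  have hpY : p ∈ Y := hp ▸ hconjf hqY
  have hpb : Bad H u p := hp ▸ hqb.conj h d.fmem
  have hpr : p * r * p⁻¹ = r * u := by
    have h1 : p * (r * u) * p⁻¹ = r * u * u := by
      rw [← d.fr, hp, show f * q * f⁻¹ * (f * r * f⁻¹) * (f * q * f⁻¹)⁻¹ = f * (q * r * q⁻¹) * f⁻¹ by group, hqr,
        conj_mu h]
    rw [conj_mu h] at h1
    exact mul_right_cancel h1
  obtain ⟨c, hpc, hc⟩ := hM hpY hpb hpr
  have hcase : ¬ (p = q ∨ p = q * u) := by
    rintro (e | e) <;> rw [hp] at e
    · exact noanti h hno hqb hzH hm.two d.ford hqz.symm (mul_inv_eq_iff_eq_mul.1 e) d.fz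
    · refine noanti h hno hqb hzH hm.two (b := f * r) (orderOf_two_iff.2 ⟨?_, fun e' => not_commute h d.fr ?_⟩)
        hqz.symm (mul_inv_eq_iff_eq_mul.1 ?_) (anti_mul_of_commute h d.fz hzr.symm)
      · rw [show f * r * (f * r) = f * r * f⁻¹ * (f * f * r) by group, d.fr, mul_self_of_orderOf_two d.ford, one_mul,
          mul_assoc r u r, ← (h.cent r).eq, ← mul_assoc r r u, hr.sq, uu h]
      · rw [eq_inv_of_mul_eq_one_left e']; exact (Commute.refl r).inv_left
      · rw [show f * r * q * (f * r)⁻¹ = f * (r * q * r⁻¹) * f⁻¹ by group, anti_symm h hqr, conj_mu h, e, mul_uu h]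
  have hkind : ∀ {t : C}, t = p ∨ t = p * u ∨ t = p * z ∨ t = p * z * u → Bad H u t → t = p ∨ t = p * u := by
    have hpz : ¬ Bad H u (p * z) := fun hb => hqz' (Bad.of_mul_u h (by
      have h1 := hb.conj h d.fmem
      have hff : f⁻¹ = f := inv_of_orderOf_two d.ford
      rwa [hp, show f * (f * q * f⁻¹ * z) * f⁻¹ = f * f * q * (f⁻¹ * z * f⁻¹) by group, hff, ← hff,
        show f⁻¹ * z * f⁻¹ = f⁻¹ * z * (f⁻¹⁻¹) by rw [inv_inv, hff], hff, d.fz, mul_self_of_orderOf_two d.ford,
        one_mul, ← mul_assoc q z u] at h1))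
    rintro t (e | e | e | e) hb
    · exact Or.inl e
    · exact Or.inr e
    · exact absurd (e ▸ hb) hpz
    · exact absurd ((e ▸ hb : Bad H u (p * z * u)).of_mul_u h) hpz
  -- classes modulo `u`
  let R : C → C → Prop := fun a b => a = b ∨ a = b * u
  have hsymm : ∀ {a b}, R a b → R b a := by
    rintro a b (e | e)
    · exact Or.inl e.symm
    · exact Or.inr (by rw [e, mul_uu h])
  have htrans : ∀ {a b e}, R a b → R b e → R a e := by
    rintro a b e (h1 | h1) (h2 | h2)
    · exact Or.inl (h1.trans h2)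
    · exact Or.inr (h1.trans h2)
    · exact Or.inr (by rw [h1, h2])
    · exact Or.inl (by rw [h1, h2, mul_uu h])
  have hmap : ∀ (g : C) {a b}, R a b → R (g * a * g⁻¹) (g * b * g⁻¹) := by
    rintro g a b (e | e)
    · exact Or.inl (by rw [e])
    · exact Or.inr (by rw [e, conj_mu h])
  have hinj : ∀ (g : C) {a b}, R (g * a * g⁻¹) (g * b * g⁻¹) → R a b := fun g {a b} e => by
    simpa [mul_assoc] using hmap g⁻¹ e
  have hclass : ∀ {t : C}, t ∈ Y → Bad H u t → R t r ∨ R t q ∨ R t p := by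
    intro t ht htb
    rcases (hmemY.1 ht).2.2 with e | e
    · rcases hroots ht (mul_inv_eq_iff_eq_mul.1 e) htb.sq with e' | e' | e' | e'
      · exact Or.inl (Or.inl e')
      · exact Or.inl (Or.inr e')
      · exact absurd (e' ▸ htb) hl
      · exact absurd ((e' ▸ htb : Bad H u (z * r * u)).of_mul_u h) hl
    obtain ⟨c', htc, hc'⟩ := hM ht htb e
    have hz2 : z * z = 1 := mul_self_of_orderOf_two hm.two
    rcases hc' with hc' | hc' | hc'
    · exact Or.inr (Or.inl (Or.inl (by rw [htc, hc', mul_one])))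
    · exact Or.inr (Or.inl (Or.inr (by rw [htc, hc'])))
    refine Or.inr (Or.inr (hkind ?_ htb))
    have h4 : c' = c ∨ c' = c * u ∨ c' = c * z ∨ c' = c * z * u := by
      have hrz : z * r * z = r := by rw [mul_assoc, ← hzr.eq, ← mul_assoc, hz2, one_mul]
      have hcm : r * u * z = z * r * u := by rw [mul_assoc r u z, ← (h.cent z).eq, ← mul_assoc, hzr.eq]
      have hrz' : z * r * u * z = r * u := by rw [mul_assoc (z * r) u z, ← (h.cent z).eq, ← mul_assoc, hrz]
      rcases hc with rfl | rfl | rfl | rfl | rfl | rfl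
      · exact absurd (Or.inl (by rw [hpc, mul_one])) hcase
      · exact absurd (Or.inr hpc) hcase
      all_goals rcases hc' with rfl | rfl | rfl | rfl <;>
        simp [mul_uu h, hrz, hrz', hcm, ← hzr.eq]
    rcases h4 with e' | e' | e' | e' <;> rw [htc, e', hpc]
    · exact Or.inl rfl
    · exact Or.inr (Or.inl (mul_assoc _ _ _).symm)
    · exact Or.inr (Or.inr (Or.inl (mul_assoc _ _ _).symm))
    · exact Or.inr (Or.inr (Or.inr (by group)))
  have hrq : ¬ R q r := by
    rintro (e | e)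
    · exact not_commute h hqr (e ▸ Commute.refl r)
    · exact not_commute h hqr (e ▸ (Commute.refl r).mul_left (h.cent r).symm)
  have hrp : ¬ R p r := by
    rintro (e | e)
    · exact not_commute h hpr (e ▸ Commute.refl r)
    · exact not_commute h hpr (e ▸ (Commute.refl r).mul_left (h.cent r).symm)
  have hxr : R (x * r * x⁻¹) q := Or.inl hq.symm
  have hxq := hclass (hconjY hqY) (hqb.conj h hxH)
  have hxp := hclass (hconjY hpY) (hpb.conj h hxH)
  have hxp' : ¬ R (x * p * x⁻¹) q := fun e => hrp (hinj x (htrans e (hsymm hxr)))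
  rcases hxq with e | e | e
  · -- `f * x` is a cycle
    have hxp'' : R (x * p * x⁻¹) p := by
      rcases hxp with e' | e' | e'
      · exact absurd (hinj x (htrans e' (hsymm e))) hcase
      · exact absurd e' hxp'
      · exact e'
    have hg : ∀ a, f * x * a * (f * x)⁻¹ = f * (x * a * x⁻¹) * f⁻¹ := fun a => by group
    have hfp : f * p * f⁻¹ = q := by
      rw [hp, show f * (f * q * f⁻¹) * f⁻¹ = f * f * q * (f * f)⁻¹ by group, mul_self_of_orderOf_two d.ford]; simp
    have e1 : R (f * x * r * (f * x)⁻¹) p := by rw [hg, hp]; exact hmap f hxr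
    have e2 : R (f * x * p * (f * x)⁻¹) q := by rw [hg, ← hfp]; exact hmap f hxp''
    have e3 : R (f * x * q * (f * x)⁻¹) r := by rw [hg]; exact htrans (hmap f e) (Or.inr d.fr)
    have h3 : Sgn u (f * x * (f * x) * (f * x)) r := by
      have h4 := htrans (hmap (f * x) (htrans (hmap (f * x) e1) e2)) e3
      rw [Sgn, show f * x * (f * x) * (f * x) * r * (f * x * (f * x) * (f * x))⁻¹ =
        f * x * (f * x * (f * x * r * (f * x)⁻¹) * (f * x)⁻¹) * (f * x)⁻¹ by group]
      exact h4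
    have h5 : Sgn u (f * x) r := mem_of_cube (K := sgnSub h r) T.isPGroup' (mul_mem hfT hxT) h3
    exact hrp (htrans (hsymm e1) h5)
  · exact hrq (hinj x (htrans e (hsymm hxr)))
  · -- `x` is a cycle
    have hxp'' : R (x * p * x⁻¹) r := by
      rcases hxp with e' | e' | e'
      · exact e'
      · exact absurd e' hxp'
      · exact absurd (hinj x (htrans e' (hsymm e))) hcase
    have h3 : Sgn u (x * x * x) r := by
      have h4 := htrans (hmap x (htrans (hmap x hxr) e)) hxp''
      rw [Sgn, show x * x * x * r * (x * x * x)⁻¹ = x * (x * (x * r * x⁻¹) * x⁻¹) * x⁻¹ by group]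
      exact h4
    exact hrq (htrans (hsymm hxr) (mem_of_cube (K := sgnSub h r) T.isPGroup' hxT h3 : Sgn u x r))

theorem sgn_root (h : TwistC H T u) {r g : C} (hr : r * r = u) (hg : Sgn u g r) :
    ∀ k ∈ zpowers r, g * k * g⁻¹ ∈ zpowers r := fun k hk => by
  have h1 : g * r * g⁻¹ ∈ zpowers r := by
    rcases hg with e | e <;> rw [e]
    · exact mem_zpowers r
    · exact mul_mem (mem_zpowers r) (hr ▸ mul_mem (mem_zpowers r) (mem_zpowers r))
  obtain ⟨i, rfl⟩ := mem_zpowers_iff.1 hk
  rw [← conj_zpow]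
  exact zpow_mem h1 i

/-- No involution of `H` inverts a bad root commuting with `z`. -/
theorem no_mixed (h : TwistC H T u) (hno : ∀ v, ¬ CoverRoot H u v) (hm : Mid T u z) {r x : C} (hr : Bad H u r)
    (hzr : Commute z r) (hx : x ∈ H) (hx2 : orderOf x = 2) (hxr : x * r * x⁻¹ = r * u) : False := by
  obtain ⟨f, o, d⟩ := mixed_data h hr (h.le hm.mem) hm.two hm.ne hzr hx hx2 hxr
  set K := zpowers r ⊔ zpowers z with hK
  have hKp : IsPGroup 2 K := (isPGroup_root h hr.sq).to_sup_of_normal_left' (isPGroup_invol hm.two)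
    (zpowers_le.2 (mem_normalizer_of (sgn_root h hr.sq (sgn_of_commute hzr))))
  have hfK : f ∈ normalizer (K : Set C) := by
    refine mem_normalizer_of fun k hk => ?_
    have hle : K ≤ K.comap (MulAut.conj f).toMonoidHom := by
      refine sup_le (zpowers_le.2 ?_) (zpowers_le.2 ?_)
      · show f * r * f⁻¹ ∈ K
        rw [d.fr, ← hr.sq]
        exact mul_mem (mem_sup_left (mem_zpowers r)) (mul_mem (mem_sup_left (mem_zpowers r))
          (mem_sup_left (mem_zpowers r)))
      · show f * z * f⁻¹ ∈ K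
        rw [d.fz, ← hr.sq]
        exact mul_mem (mem_sup_right (mem_zpowers z)) (mul_mem (mem_sup_left (mem_zpowers r))
          (mem_sup_left (mem_zpowers r)))
    exact hle hk
  have hP : IsPGroup 2 ↥(K ⊔ zpowers f) :=
    hKp.to_sup_of_normal_left' (isPGroup_invol d.ford) (zpowers_le.2 hfK)
  have hPz : K ⊔ zpowers f ≤ sgnSub h z := sup_le (sup_le (zpowers_le.2 (sgn_of_commute hzr.symm))
    (zpowers_le.2 (sgn_of_commute (Commute.refl z)))) (zpowers_le.2 (Or.inr d.fz))
  obtain ⟨g, hg, hgz, hgT⟩ := into_sylow h hm hP hPz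
  have hzr' : Commute z (g * r * g⁻¹) := by
    have h1 : Commute (g * z * g⁻¹) (g * r * g⁻¹) := by simpa using hzr.map (MulAut.conj g).toMonoidHom
    rcases hgz with e | e <;> rw [e] at h1
    · exact h1
    · have h2 := h1.mul_left (h.cent (g * r * g⁻¹)).symm
      rwa [mul_uu h] at h2
  exact no_pair h hno hm (hr.conj h hg) (hgT r (mem_sup_left (mem_sup_left (mem_zpowers r)))) hzr'
    (hgT f (mem_sup_right (mem_zpowers f))) (d.move h hg hgz)

/-- No bad root inverted by `z` has only `u` as an involution of `H` in its centraliser. -/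
theorem no_pure (h : TwistC H T u) (hm : Mid T u z) {r : C} (hr : Bad H u r) (hzr : z * r * z⁻¹ = r * u)
    (hpure : ∀ y ∈ H, orderOf y = 2 → Commute y r → y = u) : False := by
  have hP : IsPGroup 2 ↥(zpowers r ⊔ zpowers z) := (isPGroup_root h hr.sq).to_sup_of_normal_left'
    (isPGroup_invol hm.two) (zpowers_le.2 (mem_normalizer_of (sgn_root h hr.sq (Or.inr hzr))))
  obtain ⟨g, hg, hgz, hgT⟩ := into_sylow h hm hP (sup_le (zpowers_le.2 (Or.inr (anti_symm h hzr)))
    (zpowers_le.2 (sgn_of_commute (Commute.refl z))))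
  obtain ⟨s, hs⟩ : ∃ s, s = g * r * g⁻¹ := ⟨_, rfl⟩
  have hsT : s ∈ (T : Subgroup C) := hs ▸ hgT r (mem_sup_left (mem_zpowers r))
  have hss : s * s = u := by rw [hs, conj_mul, hr.sq, (h.cent g).eq, mul_inv_cancel_right]
  have hzs : z * s * z⁻¹ = s * u := by
    have h1 : g * z * g⁻¹ * s * (g * z * g⁻¹)⁻¹ = s * u := by
      rw [hs, show g * z * g⁻¹ * (g * r * g⁻¹) * (g * z * g⁻¹)⁻¹ = g * (z * r * z⁻¹) * g⁻¹ by group, hzr,
        conj_mu h]
    rcases hgz with e | e <;> rw [e] at h1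
    · exact h1
    · rwa [show z * u * s * (z * u)⁻¹ = z * (u * s * u⁻¹) * z⁻¹ by group, ← (h.cent s).eq,
        mul_inv_cancel_right] at h1
  have hpure' : ∀ y ∈ H, orderOf y = 2 → Commute y s → y = u := fun y hy hy2 hys => by
    have h1 := hpure (g⁻¹ * y * g) (mul_mem (mul_mem (inv_mem hg) hy) hg)
      (by have := orderOf_conj_eq g⁻¹ y; rwa [inv_inv, hy2] at this) (by
        have h2 := hys.map (MulAut.conj g⁻¹).toMonoidHom
        rw [hs] at h2
        simpa [mul_assoc] using h2)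
    calc y = g * (g⁻¹ * y * g) * g⁻¹ := by group
      _ = u := by rw [h1, (h.cent g).eq, mul_inv_cancel_right]
  -- the centraliser of `s` in `T`
  have hcyc : ∀ n : ℕ, ∀ t ∈ (T : Subgroup C), orderOf t = n → Commute t s →
      t = 1 ∨ t = u ∨ t = s ∨ t = s * u := by
    intro n
    induction n using Nat.strong_induction_on with
    | _ n ih =>
    intro t ht hn hts
    by_cases ht1 : t = 1
    · exact Or.inl ht1
    have hlt : orderOf (t * t) < n := by
      obtain ⟨k, hk⟩ := IsPGroup.iff_orderOf.1 T.isPGroup' ⟨t, ht⟩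
      rw [Subgroup.orderOf_mk] at hk
      rcases k with _ | k
      · exact absurd (orderOf_eq_one_iff.1 (by rw [hk, pow_zero])) ht1
      rw [← hn, ← pow_two, orderOf_pow' _ two_ne_zero, hk, Nat.gcd_eq_right ⟨2 ^ k, by ring⟩, pow_succ,
        Nat.mul_div_cancel _ two_pos]
      have := Nat.two_pow_pos k
      omega
    have hbad : Commute (t * t) z := commute_of_sq h (hm.sgn t ht)
    rcases ih _ hlt (t * t) (mul_mem ht ht) rfl (hts.mul_left hts) with e | e | e | e
    · exact Or.inr (Or.inl (hpure' t (h.le ht) (orderOf_two_iff.2 ⟨e, ht1⟩) hts))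
    · have hsq : t * s * (t * s) = 1 := by
        rw [show t * s * (t * s) = t * (s * t) * s by group, ← hts.eq,
          show t * (t * s) * s = t * t * (s * s) by group, e, hss, uu h]
      have hback : t = t * s * s⁻¹ := (mul_inv_cancel_right t s).symm
      by_cases h1 : t * s = 1
      · exact Or.inr (Or.inr (Or.inr (by rw [hback, h1, one_mul, root_inv h hss])))
      · refine Or.inr (Or.inr (Or.inl ?_))
        rw [hback, hpure' _ (h.le (mul_mem ht hsT)) (orderOf_two_iff.2 ⟨hsq, h1⟩) (hts.mul_left (Commute.refl s)),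
          root_inv h hss, ← mul_assoc, ← (h.cent s).eq, mul_uu h]
    · exact absurd (e ▸ hbad : Commute s z).symm (not_commute h hzs)
    · have h1 := (e ▸ hbad : Commute (s * u) z).mul_left (h.cent z).symm
      rw [mul_uu h] at h1
      exact absurd h1.symm (not_commute h hzs)
  have hform : ∀ t ∈ (T : Subgroup C), Sgn u t s →
      ∃ c, (c = 1 ∨ c = u ∨ c = s ∨ c = s * u) ∧ (t = c ∨ t = z * c) := by
    intro t ht hts
    rcases hts with e | e
    · exact ⟨t, hcyc _ t ht rfl (mul_inv_eq_iff_eq_mul.1 e), Or.inl rfl⟩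
    · exact ⟨z * t, hcyc _ _ (mul_mem hm.mem ht) rfl (commute_of_anti_anti h hzs e), Or.inr
        (by rw [← mul_assoc, mul_self_of_orderOf_two hm.two, one_mul])⟩
  have hzz := mul_self_of_orderOf_two hm.two
  have hzsq : z * s * (z * s) = 1 := by
    rw [show z * s * (z * s) = z * s * z⁻¹ * (z * z * s) by group, hzs, hzz, one_mul, mul_assoc s u s,
      ← (h.cent s).eq, ← mul_assoc, hss, uu h]
  have hall : (T : Subgroup C) ≤ sgnSub h s := by
    by_contra hne
    obtain ⟨n, hnT, hnN, hn⟩ := TwistFusion.exists_normalizer_growth T.isPGroup'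
      (lt_of_le_not_ge (inf_le_left : (T : Subgroup C) ⊓ sgnSub h s ≤ T) fun hle => hne fun t ht => (hle ht).2)
    obtain ⟨hnsT, hnss⟩ := (mem_normalizer_iff.1 hnN s).1 ⟨hsT, sgn_of_commute (Commute.refl s)⟩
    have hsq : n * s * n⁻¹ * (n * s * n⁻¹) = u := by rw [conj_mul, hss, (h.cent n).eq, mul_inv_cancel_right]
    obtain ⟨c, hc, e | e⟩ := hform _ hnsT hnss <;> rw [e] at hsq
    · rcases hc with rfl | rfl | rfl | rfl
      · exact ne_one_of_orderOf_two h.two (by rw [← hsq, one_mul])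
      · exact ne_one_of_orderOf_two h.two (by rw [← hsq, uu h])
      · exact hn ⟨hnT, Or.inl e⟩
      · exact hn ⟨hnT, Or.inr e⟩
    · refine ne_one_of_orderOf_two h.two (hsq.symm.trans ?_)
      have hu2 : ∀ a : C, a * u * (a * u) = a * a := fun a => by
        rw [show a * u * (a * u) = a * (u * a) * u by group, ← (h.cent a).eq, ← mul_assoc a a u, mul_uu h]
      rcases hc with rfl | rfl | rfl | rfl
      · rw [mul_one, hzz]
      · rw [hu2, hzz]
      · exact hzsq
      · rw [← mul_assoc z s u, hu2, hzsq]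
  obtain ⟨y, hyT, hy2, hyu, hyz, hy1, hy1'⟩ := exists_second h hm
  obtain ⟨c, hc, e⟩ := hform y hyT (hall hyT)
  rcases e with e | e
  · refine hyu (hpure' y (h.le hyT) hy2 ?_)
    rw [e]
    rcases hc with e' | e' | e' | e' <;> rw [e']
    · exact Commute.one_left s
    · exact (h.cent s).symm
    · exact (Commute.refl s).mul_left (h.cent s).symm
  · rw [e] at hy1 hy1' hyz
    have hcz : Commute c z := by
      have h1 := (Commute.refl z).mul_left hyz
      rwa [← mul_assoc, hzz, one_mul] at h1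
    rcases hc with rfl | rfl | rfl | rfl
    · exact hy1 (mul_one z)
    · exact hy1' rfl
    · exact not_commute h hzs hcz.symm
    · have h1 := hcz.mul_left (h.cent z).symm
      rw [mul_uu h] at h1
      exact not_commute h hzs h1.symm

/-- A bad root fixed modulo `u` by `z` commutes with `z` and with the involutions of `H` fixing it modulo `u`. -/
theorem bad_commute (h : TwistC H T u) (hno : ∀ v, ¬ CoverRoot H u v) (hm : Mid T u z) {r : C} (hr : Bad H u r)
    (hzr : Sgn u z r) : Commute z r ∧ ∀ x ∈ H, orderOf x = 2 → Sgn u x r → Commute x r := by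
  have hz : Commute z r := by
    by_contra hn
    have hanti := hzr.resolve_left fun e => hn (mul_inv_eq_iff_eq_mul.1 e)
    by_cases hpure : ∀ y ∈ H, orderOf y = 2 → Commute y r → y = u
    · exact no_pure h hm hr hanti hpure
    push Not at hpure
    obtain ⟨y, hy, hy2, hyr, hyu⟩ := hpure
    obtain ⟨c, -, -, hw, hwr⟩ := hr.out h hy hy2 hyu hyr
    obtain ⟨e, o, g, hee, heH, her, hze, ho, hor, hoe, -, hgw⟩ :=
      raw h hr (h.le hm.mem) hm.two hanti (by rw [orderOf_conj_eq, hy2]) hw hwr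
    have hr' : Bad H u (e * r) := by
      refine ⟨mul_mem heH hr.mem, ?_, o, ho, sgn_of_commute (hoe.mul_right hor)⟩
      have h1 := mul_inv_eq_iff_eq_mul.1 (anti_symm h her)
      rw [show e * r * (e * r) = e * (r * e) * r by group, h1, mul_assoc e u r, ← (h.cent r).eq,
        show e * (e * (r * u)) * r = e * e * r * (u * r) by group, ← (h.cent r).eq, hee,
        show u * r * (r * u) = u * (r * r) * u by group, hr.sq, uu h, one_mul]
    have hzr' : Commute z (e * r) := by
      refine mul_inv_eq_iff_eq_mul.1 ?_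
      rw [show z * (e * r) * z⁻¹ = (z * e * z⁻¹) * (z * r * z⁻¹) by group, hze, hanti,
        show e * u * (r * u) = e * (u * r) * u by group, ← (h.cent r).eq, ← mul_assoc e r u, mul_uu h]
    refine no_mixed h hno hm hr' hzr' (x := z * e) (mul_mem (h.le hm.mem) heH)
      (by rw [← hgw, orderOf_conj_eq, orderOf_conj_eq, hy2]) ?_
    have h1 : z * e * e * (z * e)⁻¹ = e * u := by rw [show z * e * e * (z * e)⁻¹ = z * e * z⁻¹ by group, hze]
    have h2 : Commute (z * e) r := commute_of_anti_anti h hanti her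
    rw [show z * e * (e * r) * (z * e)⁻¹ = (z * e * e * (z * e)⁻¹) * (z * e * r * (z * e)⁻¹) by group, h1, h2.eq,
      mul_inv_cancel_right, mul_assoc e u r, ← (h.cent r).eq, ← mul_assoc]
  refine ⟨hz, fun x hx hx2 hxr => ?_⟩
  by_contra hn
  exact no_mixed h hno hm hr hz hx hx2 (hxr.resolve_left fun e => hn (mul_inv_eq_iff_eq_mul.1 e))

end Cfsg.Agent.Invol.Core2.Bottom
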