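import Cfsg.Agent.Lib.Invol.Basic
import Cfsg.Agent.Lib.Grp.Frattini

/-!
# An involution central modulo `u` over a central element of order four

In a 2-group with a central `a` of square `u`, any involution other than `u` yields one whose conjugates are itself
and its product with `u`.
-/

set_option autoImplicit false
set_option linter.unusedSectionVars false
set_option linter.style.haveILetI false

namespace Cfsg.Agent.Invol.Core2

open Subgroup

variable {G : Type*} [Group G] [Finite G]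

theorem exists_invol_central_mod {P : Subgroup G} (hP : IsPGroup 2 P) {u a x : G} (hu : orderOf u = 2)
    (haP : a ∈ P) (ha : a * a = u) (hac : ∀ p ∈ P, Commute p a) (hxP : x ∈ P) (hx : orderOf x = 2) (hxu : x ≠ u) :
    ∃ z ∈ P, orderOf z = 2 ∧ z ≠ u ∧ ∀ p ∈ P, p * z * p⁻¹ = z ∨ p * z * p⁻¹ = z * u := by
  haveI : Fact (Nat.Prime 2) := ⟨Nat.prime_two⟩
  obtain ⟨n, hn⟩ : ∃ n, n = Nat.card P := ⟨_, rfl⟩
  induction n using Nat.strong_induction_on generalizing P with
  | _ n ih =>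
  subst hn
  set B := closure ({x, a} : Set G) with hB
  have hBP : B ≤ P := (closure_le _).2 (by rintro y (rfl | rfl) <;> assumption)
  by_cases hBe : B = P
  · refine ⟨x, hxP, hx, hxu, fun p hp => Or.inl ?_⟩
    rw [← hBe] at hp
    have h1 : p ∈ centralizer ({x} : Set G) := (closure_le _).2 (by
      rintro y (rfl | rfl)
      · exact mem_centralizer_singleton_iff.2 rfl
      · exact mem_centralizer_singleton_iff.2 (hac x hxP).eq.symm) hp
    rw [mem_centralizer_singleton_iff.1 h1, mul_inv_cancel_right]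
  -- a normal subgroup of `P` over `B`
  obtain ⟨Q, hBQ, hQP, hQn⟩ : ∃ Q : Subgroup G, B ≤ Q ∧ Q < P ∧ ∀ p ∈ P, ∀ q ∈ Q, p * q * p⁻¹ ∈ Q := by
    cases nonempty_fintype (Subgroup G)
    classical
    obtain ⟨Q, hQ, hmax⟩ := Finset.exists_max_image (Finset.univ.filter fun Q : Subgroup G => B ≤ Q ∧ Q < P)
      (fun Q => Nat.card Q) ⟨B, Finset.mem_filter.2 ⟨Finset.mem_univ _, le_rfl, lt_of_le_of_ne hBP hBe⟩⟩
    obtain ⟨-, hBQ, hQP⟩ := Finset.mem_filter.1 hQ
    refine ⟨Q, hBQ, hQP, fun p hp q hq => ?_⟩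
    haveI : Group.IsNilpotent P := hP.isNilpotent
    have hlt : Q.subgroupOf P < ⊤ := lt_top_iff_ne_top.2 fun e => hQP.not_ge (subgroupOf_eq_top.1 e)
    have hgt := normalizerCondition_of_isNilpotent (Q.subgroupOf P) hlt
    have hge : Q ≤ (normalizer (Q.subgroupOf P : Set P)).map P.subtype := fun y hy =>
      ⟨⟨y, hQP.le hy⟩, le_normalizer (mem_subgroupOf.2 hy), rfl⟩
    have hne : Q ≠ (normalizer (Q.subgroupOf P : Set P)).map P.subtype := fun e => hgt.ne (SetLike.ext fun y => ?_)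
    · have heq : (normalizer (Q.subgroupOf P : Set P)).map P.subtype = P := by
        by_contra hne'
        have h1 := hmax _ (Finset.mem_filter.2 ⟨Finset.mem_univ _, hBQ.trans hge,
          lt_of_le_of_ne (map_subtype_le _) hne'⟩)
        exact hne (eq_of_le_of_card_ge hge h1)
      rw [← heq] at hp
      obtain ⟨p, hp, rfl⟩ := hp
      exact mem_subgroupOf.1 ((mem_normalizer_iff.1 hp ⟨q, hQP.le hq⟩).1 (mem_subgroupOf.2 hq))
    · rw [mem_subgroupOf]
      refine ⟨fun hy => le_normalizer (mem_subgroupOf.2 hy), fun hy => ?_⟩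
      rw [e]
      exact mem_map_of_mem _ hy
  have haQ : a ∈ Q := hBQ (subset_closure (by simp))
  have hxQ : x ∈ Q := hBQ (subset_closure (by simp))
  have huP : u ∈ P := ha ▸ mul_mem haP haP
  have hcard : Nat.card Q < Nat.card P := lt_of_le_of_ne (card_le_of_le hQP.le) fun e =>
    hQP.ne (eq_of_le_of_card_ge hQP.le e.ge)
  obtain ⟨z₀, hz₀Q, hz₀2, hz₀u, hz₀⟩ := ih _ hcard (hP.to_le hQP.le) haQ (fun p hp => hac p (hQP.le hp)) hxQ rfl
  have huu := mul_self_of_orderOf_two hu
  have hcu : ∀ p ∈ P, Commute p u := fun p hp => ha ▸ (hac p hp).mul_right (hac p hp)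
  -- the elements of `Q` central modulo `u` with square in `⟨u⟩`
  have hzc : ∀ {p k l : G}, p ∈ P → (p * k * p⁻¹ = k ∨ p * k * p⁻¹ = k * u) → (p * l * p⁻¹ = l ∨ p * l * p⁻¹ = l * u) →
      Commute l u → p * (k * l) * p⁻¹ = k * l ∨ p * (k * l) * p⁻¹ = k * l * u := by
    intro p k l _ h1 h2 hlu
    have e : p * (k * l) * p⁻¹ = p * k * p⁻¹ * (p * l * p⁻¹) := by group
    rcases h1 with h1 | h1 <;> rcases h2 with h2 | h2 <;> rw [e, h1, h2]
    · exact Or.inl rfl
    · exact Or.inr (mul_assoc _ _ _).symm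
    · exact Or.inr (by rw [mul_assoc k u l, ← hlu.eq, ← mul_assoc])
    · exact Or.inl (by rw [show k * u * (l * u) = k * (u * l) * u by group, ← hlu.eq,
        show k * (l * u) * u = k * l * (u * u) by group, huu, mul_one])
  let K : Subgroup G :=
    { carrier := {k | k ∈ Q ∧ (∀ q ∈ Q, q * k * q⁻¹ = k ∨ q * k * q⁻¹ = k * u) ∧ (k * k = 1 ∨ k * k = u)}
      one_mem' := ⟨one_mem Q, fun q _ => Or.inl (by group), Or.inl (one_mul 1)⟩
      mul_mem' := by
        rintro k l ⟨hk, hk1, hk2⟩ ⟨hl, hl1, hl2⟩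
        refine ⟨mul_mem hk hl, fun q hq => hzc (hQP.le hq) (hk1 q hq) (hl1 q hq) (hcu l (hQP.le hl)), ?_⟩
        have hlk : l * k = k * l ∨ l * k = k * l * u := by
          rcases hk1 l hl with e | e
          · exact Or.inl (mul_inv_eq_iff_eq_mul.1 e)
          · refine Or.inr ?_
            rw [mul_inv_eq_iff_eq_mul.1 e, mul_assoc k u l, ← (hcu l (hQP.le hl)).eq, mul_assoc]
        have e : k * l * (k * l) = k * (l * k) * l := by group
        have h4 : ∀ s t : G, (s = 1 ∨ s = u) → (t = 1 ∨ t = u) → s * t = 1 ∨ s * t = u := by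
          rintro s t (rfl | rfl) (rfl | rfl) <;> simp [huu]
        rcases hlk with hlk | hlk <;> rw [e, hlk]
        · rw [show k * (k * l) * l = k * k * (l * l) by group]
          exact h4 _ _ hk2 hl2
        · rw [show k * (k * l * u) * l = k * k * l * (u * l) by group, ← (hcu l (hQP.le hl)).eq,
            show k * k * l * (l * u) = k * k * (l * l) * u by group]
          exact h4 _ _ (h4 _ _ hk2 hl2) (Or.inr rfl)
      inv_mem' := by
        rintro k ⟨hk, hk1, hk2⟩
        have hkk : (k * k)⁻¹ = k * k := by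
          rcases hk2 with e | e <;> rw [e]
          · exact inv_one
          · exact inv_of_orderOf_two hu
        refine ⟨inv_mem hk, fun q hq => ?_, by rw [← mul_inv_rev, hkk]; exact hk2⟩
        rcases hk1 q hq with e | e
        · exact Or.inl (by rw [← conj_inv, e])
        · exact Or.inr (by rw [← conj_inv, e, mul_inv_rev, inv_of_orderOf_two hu, (hcu k (hQP.le hk)).inv_left.eq]) }
  have haK : a ∈ K := ⟨haQ, fun q hq => Or.inl (by rw [(hac q (hQP.le hq)).eq, mul_inv_cancel_right]), Or.inr ha⟩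
  have hKn : ∀ p ∈ P, ∀ k ∈ K, p * k * p⁻¹ ∈ K := by
    rintro p hp k ⟨hk, hk1, hk2⟩
    refine ⟨hQn p hp k hk, fun q hq => ?_, ?_⟩
    · have hq' : p⁻¹ * q * p ∈ Q := by simpa using hQn p⁻¹ (inv_mem hp) q hq
      have e : q * (p * k * p⁻¹) * q⁻¹ = p * (p⁻¹ * q * p * k * (p⁻¹ * q * p)⁻¹) * p⁻¹ := by group
      rcases hk1 _ hq' with h1 | h1 <;> rw [e, h1]
      · exact Or.inl rfl
      · refine Or.inr ?_
        rw [show p * (k * u) * p⁻¹ = p * k * (u * p⁻¹) by group, ← (hcu p hp).inv_left.eq, ← mul_assoc]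
    · rw [conj_mul]
      rcases hk2 with e | e <;> rw [e]
      · exact Or.inl (by group)
      · exact Or.inr (by rw [(hcu p hp).eq, mul_inv_cancel_right])
  -- a fixed point modulo `⟨a⟩`
  haveI hAn : ((zpowers a).subgroupOf P).Normal := ⟨fun y hy p => by
    obtain ⟨i, hi⟩ := mem_zpowers_iff.1 (mem_subgroupOf.1 hy)
    rw [mem_subgroupOf, Subgroup.coe_mul, Subgroup.coe_mul, ← hi, ((hac p p.2).zpow_right i).eq, Subgroup.coe_inv,
      mul_inv_cancel_right]
    exact zpow_mem (mem_zpowers a) i⟩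
  set π := QuotientGroup.mk' ((zpowers a).subgroupOf P) with hπ
  have hKP : K ≤ P := fun k hk => hQP.le hk.1
  haveI hKn' : (K.subgroupOf P).Normal := ⟨fun k hk p => hKn p p.2 k hk⟩
  haveI : ((K.subgroupOf P).map π).Normal := hKn'.map π (QuotientGroup.mk'_surjective _)
  haveI : Group.IsNilpotent (P ⧸ (zpowers a).subgroupOf P) := (hP.to_quotient _).isNilpotent
  have hne : (K.subgroupOf P).map π ≠ ⊥ := fun e => by
    have hz : (⟨z₀, hQP.le hz₀Q⟩ : P) ∈ K.subgroupOf P := ⟨hz₀Q, hz₀, Or.inl (mul_self_of_orderOf_two hz₀2)⟩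
    have h1 := mem_map_of_mem π hz
    rw [e, mem_bot] at h1
    obtain ⟨i, hi⟩ := mem_zpowers_iff.1 (mem_subgroupOf.1 ((QuotientGroup.eq_one_iff _).1 h1))
    rcases Int.even_or_odd i with ⟨j, rfl⟩ | ⟨j, rfl⟩
    · rw [← two_mul, zpow_mul, zpow_two, ha] at hi
      rcases Int.even_or_odd j with ⟨k, rfl⟩ | ⟨k, rfl⟩
      · rw [← two_mul, zpow_mul, zpow_two, huu, one_zpow] at hi
        exact ne_one_of_orderOf_two hz₀2 hi.symm
      · rw [zpow_add, zpow_mul, zpow_two, huu, one_zpow, one_mul, zpow_one] at hi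
        exact hz₀u hi.symm
    · have h2 := mul_self_of_orderOf_two hz₀2
      rw [show z₀ = a ^ (2 * j + 1) from hi.symm, ← zpow_add,
        show 2 * j + 1 + (2 * j + 1) = 2 * (2 * j + 1) by ring, zpow_mul, zpow_two, ha, zpow_add, zpow_mul,
        zpow_two, huu, one_zpow, one_mul, zpow_one] at h2
      exact ne_one_of_orderOf_two hu h2
  obtain ⟨q, hq, hq1⟩ := SetLike.not_le_iff_exists.1 fun hle =>
    Grp.inf_center_ne_bot ((K.subgroupOf P).map π) hne (le_bot_iff.1 hle)
  obtain ⟨⟨k, hkK, rfl⟩, hqc⟩ := hq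
  have hkA : (k : G) ∉ zpowers a := fun e => hq1 (mem_bot.2 ((QuotientGroup.eq_one_iff k).2 (mem_subgroupOf.2 e)))
  obtain ⟨hkQ, -, hk2⟩ := hkK
  simp only [Subgroup.coe_subtype] at hk2
  have hfix : ∀ p ∈ P, p * k * p⁻¹ = k ∨ p * (k : G) * p⁻¹ = k * u := by
    intro p hp
    have h1 := (QuotientGroup.eq.1 ((map_mul π k ⟨p, hp⟩).trans
      ((Subgroup.mem_center_iff.1 hqc (π ⟨p, hp⟩)).symm.trans (map_mul π ⟨p, hp⟩ k).symm)))
    obtain ⟨i, hi⟩ := mem_zpowers_iff.1 (mem_subgroupOf.1 h1)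
    simp only [Subgroup.coe_mul, Subgroup.coe_inv] at hi
    have e : p * k * p⁻¹ = k * a ^ i := by
      have hc : Commute p (a ^ i) := (hac p hp).zpow_right i
      calc p * k * p⁻¹ = k * (p * ((k * p)⁻¹ * (p * k)) * p⁻¹) := by group
        _ = k * a ^ i := by rw [← hi, hc.eq, mul_inv_cancel_right]
    have hsq : a ^ i * a ^ i = 1 := by
      have h2 : p * ((k : G) * k) * p⁻¹ = k * k := by
        rcases hk2 with e' | e' <;> rw [e']
        · group
        · rw [(hcu p hp).eq, mul_inv_cancel_right]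
      have hkc : Commute (k : G) (a ^ i) := (hac k k.2).zpow_right i
      rw [← conj_mul, e, show (k : G) * a ^ i * (k * a ^ i) = k * (a ^ i * k) * a ^ i by group, ← hkc.eq,
        show (k : G) * (k * a ^ i) * a ^ i = k * k * (a ^ i * a ^ i) by group, mul_eq_left] at h2
      exact h2
    rcases Int.even_or_odd i with ⟨j, rfl⟩ | ⟨j, rfl⟩
    · rw [← two_mul, zpow_mul, zpow_two, ha] at e
      rcases Int.even_or_odd j with ⟨l, rfl⟩ | ⟨l, rfl⟩
      · rw [← two_mul, zpow_mul, zpow_two, huu, one_zpow, mul_one] at e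
        exact Or.inl e
      · rw [zpow_add, zpow_mul, zpow_two, huu, one_zpow, one_mul, zpow_one] at e
        exact Or.inr e
    · rw [← zpow_add, show 2 * j + 1 + (2 * j + 1) = 2 * (2 * j + 1) by ring, zpow_mul, zpow_two, ha, zpow_add,
        zpow_mul, zpow_two, huu, one_zpow, one_mul, zpow_one] at hsq
      exact absurd hsq (ne_one_of_orderOf_two hu)
  rcases hk2 with e | e
  · exact ⟨k, k.2, orderOf_two_iff.2 ⟨e, fun e' => hkA (e' ▸ one_mem _)⟩,
      fun e' => hkA (e' ▸ ha ▸ mul_mem (mem_zpowers a) (mem_zpowers a)), hfix⟩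
  · refine ⟨k * a, mul_mem k.2 haP, orderOf_two_iff.2 ⟨?_, fun e' => hkA ?_⟩, fun e' => hkA ?_, fun p hp => ?_⟩
    · rw [show (k : G) * a * (k * a) = k * (a * k) * a by group, ← (hac k k.2).eq,
        show (k : G) * (k * a) * a = k * k * (a * a) by group, e, ha, huu]
    · rw [eq_inv_of_mul_eq_one_left e']; exact inv_mem (mem_zpowers a)
    · rw [show (k : G) = u * a⁻¹ by rw [← e']; group, ← ha, mul_inv_cancel_right]
      exact mem_zpowers a
    · exact hzc hp (hfix p hp) (Or.inl (by rw [(hac p hp).eq, mul_inv_cancel_right])) (hcu a haP)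

end Cfsg.Agent.Invol.Core2
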