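import Mathlib

/-!
# Permutations of five points

Involutions fixing one of five points, the permutations normalised by them, and a three-cycle in a transitive group
containing two of them.
-/

set_option autoImplicit false

namespace Cfsg.Agent.Invol.Core2.Five

open Equiv

variable {X : Type*} [Fintype X] [DecidableEq X] {o : X}

/-- An involution with `o` as its only fixed point. -/
structure OneFix (b : Perm X) (o : X) : Prop where
  sq : ∀ x, b (b x) = x
  fix : b o = o
  uniq : ∀ x, b x = x → x = o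

theorem cover_of_card (h5 : Fintype.card X = 5) {x₁ x₂ x₃ x₄ x₅ : X} (h12 : x₁ ≠ x₂) (h13 : x₁ ≠ x₃) (h14 : x₁ ≠ x₄)
    (h15 : x₁ ≠ x₅) (h23 : x₂ ≠ x₃) (h24 : x₂ ≠ x₄) (h25 : x₂ ≠ x₅) (h34 : x₃ ≠ x₄) (h35 : x₃ ≠ x₅) (h45 : x₄ ≠ x₅)
    (x : X) : x = x₁ ∨ x = x₂ ∨ x = x₃ ∨ x = x₄ ∨ x = x₅ := by
  by_contra h
  push Not at h
  have hT : ({x₁, x₂, x₃, x₄, x₅, x} : Finset X).card = 6 := by
    simp [Finset.card_insert_of_notMem, h12, h13, h14, h15, h23, h24, h25, h34, h35, h45, h.1.symm, h.2.1.symm,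
      h.2.2.1.symm, h.2.2.2.1.symm, h.2.2.2.2.symm]
  have := Finset.card_le_univ ({x₁, x₂, x₃, x₄, x₅, x} : Finset X)
  omega

theorem exists_avoid (h5 : Fintype.card X = 5) (T : Finset X) (hT : T.card < 5) : ∃ x, x ∉ T := by
  by_contra h
  push Not at h
  have := Finset.card_le_card (fun x _ => h x : Finset.univ ⊆ T)
  rw [Finset.card_univ] at this
  omega

theorem even_support_of_sq {Y : Type*} [Fintype Y] [DecidableEq Y] (q : Perm Y) (hq : ∀ y, q (q y) = y) :
    Even q.support.card := by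
  rw [← Perm.sum_cycleType, even_iff_two_dvd]
  refine Multiset.dvd_sum fun n hn => ?_
  have h1 := (Perm.dvd_of_mem_cycleType hn).trans (orderOf_dvd_of_pow_eq_one (n := 2) (by
    ext y; simp [pow_two, hq]))
  have h2 := Perm.two_le_of_mem_cycleType hn
  rw [le_antisymm (Nat.le_of_dvd two_pos h1) h2]

/-- A permutation of odd order fixing `o`, centralised or inverted by such an involution, is trivial. -/
theorem eq_one_of_odd (h5 : Fintype.card X = 5) {p b : Perm X} (hb : OneFix b o) (hpo : p o = o)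
    (hp : Odd (orderOf p)) (h : b * p * b⁻¹ = p ∨ b * p * b⁻¹ = p⁻¹) : p = 1 := by
  classical
  have hpres : ∀ x, p x = x → p (b x) = b x := fun x hx => by
    have h1 : (b * p * b⁻¹) (b x) = b x := by simp [hx]
    rcases h with e | e <;> rw [e] at h1
    · exact h1
    · exact (Perm.inv_eq_iff_eq.1 h1).symm
  let F := Finset.univ.filter fun x => p x = x
  have hmem : ∀ x, x ∈ F ↔ p x = x := fun x => by simp [F]
  have hbF : ∀ x, b x ∈ F ↔ x ∈ F := fun x => by
    rw [hmem, hmem]
    exact ⟨fun hx => by have := hpres _ hx; rwa [hb.sq] at this, hpres x⟩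
  let q : Perm {x // x ∈ F} := b.subtypePerm hbF
  have hq : ∀ y : {x // x ∈ F}, q (q y) = y := fun y => Subtype.ext (by simp [q, hb.sq])
  have hsupp : q.support = Finset.univ.erase ⟨o, (hmem o).2 hpo⟩ := by
    ext y
    simp only [Perm.mem_support, Finset.mem_erase, Finset.mem_univ, and_true, ne_eq]
    refine not_congr ⟨fun e => Subtype.ext (hb.uniq _ (congrArg Subtype.val e)), fun e => ?_⟩
    subst e
    exact Subtype.ext (by simp [q, hb.fix])
  have hF : Even (F.card - 1) := by
    have h1 := even_support_of_sq q hq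
    rwa [hsupp, Finset.card_erase_of_mem (Finset.mem_univ _), Finset.card_univ, Fintype.card_coe] at h1
  have hF1 : 1 ≤ F.card := Finset.card_pos.2 ⟨o, (hmem o).2 hpo⟩
  have hsum : p.support.card + F.card = 5 := by
    rw [← h5, ← Finset.card_univ, ← Finset.card_union_of_disjoint (Finset.disjoint_left.2 fun x hx hx' =>
      Perm.mem_support.1 hx ((hmem x).1 hx'))]
    congr 1
    ext x
    simp [Perm.mem_support, hmem, em']
  rw [← Perm.support_eq_empty_iff, ← Finset.card_eq_zero]
  by_contra hne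
  obtain ⟨n, hn⟩ : ∃ n, n ∈ p.cycleType := by
    refine Multiset.exists_mem_of_ne_zero fun e => hne ?_
    rw [← Perm.sum_cycleType, e, Multiset.sum_zero]
  obtain ⟨k, hk⟩ := hp.of_dvd_nat (Perm.dvd_of_mem_cycleType hn)
  have h2 := Perm.two_le_of_mem_cycleType hn
  have hs := Perm.sum_cycleType p
  rw [← Multiset.cons_erase hn, Multiset.sum_cons] at hs
  obtain ⟨j, hj⟩ := hF
  rcases Multiset.empty_or_exists_mem (p.cycleType.erase n) with e | ⟨m, hm⟩
  · rw [e, Multiset.sum_zero] at hs
    omega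
  · have h3 := Perm.two_le_of_mem_cycleType (Multiset.mem_of_mem_erase hm)
    have h4 := Multiset.le_sum_of_mem hm
    omega

/-- Two such involutions agreeing at a second point are equal. -/
theorem OneFix.ext_at (h5 : Fintype.card X = 5) {z q : Perm X} (hz : OneFix z o) (hq : OneFix q o) {a : X}
    (ha : a ≠ o) (he : z a = q a) : z = q := by
  classical
  have hza : z a ≠ a := fun e => ha (hz.uniq _ e)
  have hzao : z a ≠ o := fun e => ha (by rw [← hz.sq a, e, hz.fix])
  obtain ⟨r, hr⟩ := exists_avoid h5 {o, a, z a} (Finset.card_le_three.trans_lt (by norm_num))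
  simp only [Finset.mem_insert, Finset.mem_singleton, not_or] at hr
  have key : ∀ {w : Perm X}, OneFix w o → w a = z a → w r ≠ o ∧ w r ≠ a ∧ w r ≠ z a ∧ w r ≠ r := fun {w} hw hwa =>
    ⟨fun e => hr.1 (by rw [← hw.sq r, e, hw.fix]), fun e => hr.2.2 (by rw [← hw.sq r, e, hwa]),
      fun e => hr.2.1 (by rw [← hw.sq r, e, ← hwa, hw.sq]), fun e => hr.1 (hw.uniq _ e)⟩
  obtain ⟨z1, z2, z3, z4⟩ := key hz rfl
  obtain ⟨q1, q2, q3, q4⟩ := key hq he.symm
  have hcov := cover_of_card h5 (Ne.symm ha) (Ne.symm hzao) (Ne.symm hr.1) (Ne.symm z1) (Ne.symm hza) (Ne.symm hr.2.1)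
    (Ne.symm z2) (Ne.symm hr.2.2) (Ne.symm z3) (Ne.symm z4)
  have hqr : q r = z r := by
    rcases hcov (q r) with e | e | e | e | e
    exacts [absurd e q1, absurd e q2, absurd e q3, absurd e q4, e]
  ext x
  rcases hcov x with e | e | e | e | e <;> rw [e]
  · rw [hz.fix, hq.fix]
  · exact he
  · rw [hz.sq, he, hq.sq]
  · exact hqr.symm
  · rw [hz.sq, ← hqr, hq.sq]

/-- The involutions fixing only `o` form one four group with two given commuting ones. -/
theorem OneFix.mem_four (h5 : Fintype.card X = 5) {z b c : Perm X} (hz : OneFix z o) (hb : OneFix b o)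
    (hc : OneFix c o) (hbc : OneFix (b * c) o) (hne : b ≠ c) : z = b ∨ z = c ∨ z = b * c := by
  classical
  obtain ⟨a, ha⟩ := exists_avoid h5 {o} (by rw [Finset.card_singleton]; norm_num)
  simp only [Finset.mem_singleton] at ha
  have h0 : ∀ {w : Perm X}, OneFix w o → a ≠ w a ∧ o ≠ w a := fun {w} hw =>
    ⟨fun e => ha (hw.uniq _ e.symm), fun e => ha (by rw [← hw.sq a, ← e, hw.fix])⟩
  have hca : c a ≠ b a := fun e => hne (hb.ext_at h5 hc ha e.symm)
  have h1 : (b * c) a ≠ b a := fun e => (h0 hc).1 (b.injective e).symm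
  have h2 : (b * c) a ≠ c a := fun e => (h0 hc).2 (hb.uniq (c a) e).symm
  rcases cover_of_card h5 (Ne.symm ha) (h0 hb).2 (h0 hc).2 (h0 hbc).2 (h0 hb).1 (h0 hc).1 (h0 hbc).1 hca.symm
    h1.symm h2.symm (z a) with e | e | e | e | e
  · exact absurd e.symm (h0 hz).2
  · exact absurd e.symm (h0 hz).1
  · exact Or.inl (hz.ext_at h5 hb ha e)
  · exact Or.inr (Or.inl (hz.ext_at h5 hc ha e))
  · exact Or.inr (Or.inr (hz.ext_at h5 hbc ha e))

/-- An involution commuting with `b` and fixing a second point is determined by that point. -/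
theorem eq_of_fix (h5 : Fintype.card X = 5) {z w b : Perm X} (hb : OneFix b o) (hzo : z o = o) (hwo : w o = o)
    (hzb : ∀ x, z (b x) = b (z x)) (hwb : ∀ x, w (b x) = b (w x)) (hz1 : z ≠ 1) (hw1 : w ≠ 1) {a : X} (ha : a ≠ o)
    (hza : z a = a) (hwa : w a = a) : z = w := by
  classical
  have hba : b a ≠ a := fun e => ha (hb.uniq _ e)
  have hbao : b a ≠ o := fun e => ha (by rw [← hb.sq a, e, hb.fix])
  obtain ⟨r, hr⟩ := exists_avoid h5 {o, a, b a} (Finset.card_le_three.trans_lt (by norm_num))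
  simp only [Finset.mem_insert, Finset.mem_singleton, not_or] at hr
  have hcov := cover_of_card h5 (Ne.symm ha) (Ne.symm hbao) (Ne.symm hr.1)
    (fun e => hr.1 (by rw [← hb.sq r, ← e, hb.fix])) (Ne.symm hba) (Ne.symm hr.2.1)
    (fun e => hr.2.2 (by rw [← hb.sq r, ← e])) (Ne.symm hr.2.2)
    (fun e => hr.2.1 (b.injective e).symm) (fun e => hr.1 (hb.uniq _ e.symm))
  -- both interchange the other two points
  have key : ∀ {v : Perm X}, v o = o → (∀ x, v (b x) = b (v x)) → v ≠ 1 → v a = a → v r = b r := fun {v} hvo hvb hv1 hva => by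
    rcases hcov (v r) with e | e | e | e | e
    · exact absurd (v.injective (e.trans hvo.symm)) hr.1
    · exact absurd (v.injective (e.trans hva.symm)) hr.2.1
    · exact absurd (v.injective (e.trans (by rw [hvb, hva]))) hr.2.2
    · refine absurd ?_ hv1
      ext x
      rcases hcov x with h | h | h | h | h <;> rw [h]
      · exact hvo
      · exact hva
      · rw [hvb, hva]; rfl
      · exact e
      · rw [hvb, e]; rfl
    · exact e
  ext x
  rcases hcov x with h | h | h | h | h <;> rw [h]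
  · rw [hzo, hwo]
  · rw [hza, hwa]
  · rw [hzb, hwb, hza, hwa]
  · rw [key hzo hzb hz1 hza, key hwo hwb hw1 hwa]
  · rw [hzb, hwb, key hzo hzb hz1 hza, key hwo hwb hw1 hwa]

/-- Two involutions commuting with `b` and fixing second points differ at most by `b`. -/
theorem eq_or_eq_mul (h5 : Fintype.card X = 5) {z w b : Perm X} (hb : OneFix b o) (hzo : z o = o) (hwo : w o = o)
    (hz2 : ∀ x, z (z x) = x) (hzb : ∀ x, z (b x) = b (z x)) (hwb : ∀ x, w (b x) = b (w x)) (hz1 : z ≠ 1) (hw1 : w ≠ 1)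
    {a c : X} (ha : a ≠ o) (hza : z a = a) (hc : c ≠ o) (hwc : w c = c) : w = z ∨ w = z * b := by
  classical
  by_cases hzc : z c = c
  · exact Or.inl (eq_of_fix h5 hb hwo hzo hwb hzb hw1 hz1 hc hwc hzc)
  · refine Or.inr (eq_of_fix h5 hb hwo (by simp [hb.fix, hzo]) hwb (fun x => by
      simp only [Perm.mul_apply, hb.sq]
      rw [← hzb, hb.sq]) hw1 ?_ hc hwc ?_)
    · intro e
      have h1 := congrArg (fun f : Perm X => f a) e
      simp only [Perm.mul_apply, Perm.one_apply, hzb, hza] at h1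
      exact ha (hb.uniq _ h1)
    · simp only [Perm.mul_apply]
      have hba : b a ≠ a := fun e => ha (hb.uniq _ e)
      have hbao : b a ≠ o := fun e => ha (by rw [← hb.sq a, e, hb.fix])
      have hzba : z (b a) = b a := by rw [hzb, hza]
      have hca : c ≠ a := fun e => hzc (by rw [e, hza])
      have hcba : c ≠ b a := fun e => hzc (by rw [e, hzba])
      have hcov := cover_of_card h5 (Ne.symm ha) (Ne.symm hbao) (Ne.symm hc)
        (fun e => hc (by rw [← hb.sq c, ← e, hb.fix])) (Ne.symm hba) (Ne.symm hca)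
        (fun e => hcba (by rw [← hb.sq c, ← e])) (Ne.symm hcba)
        (fun e => hca (b.injective e).symm) (fun e => hc (hb.uniq _ e.symm))
      rcases hcov (z c) with e | e | e | e | e
      · exact absurd (z.injective (e.trans hzo.symm)) hc
      · exact absurd (z.injective (e.trans hza.symm)) hca
      · exact absurd (z.injective (e.trans hzba.symm)) hcba
      · exact absurd e hzc
      · rw [← e, hz2]

/-- A transitive group containing a four group of such involutions has an element of order three fixing `o`. -/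
theorem exists_three (h5 : Fintype.card X = 5) (G : Subgroup (Perm X)) (htr : ∀ x, ∃ g ∈ G, g o = x) {b c : Perm X}
    (hbG : b ∈ G) (hcG : c ∈ G) (hb : OneFix b o) (hc : OneFix c o) (hbc : OneFix (b * c) o) (hne : b ≠ c) :
    ∃ g ∈ G, g o = o ∧ g * g * g = 1 ∧ g ≠ 1 := by
  classical
  obtain ⟨a, ha⟩ := exists_avoid h5 {o} (by rw [Finset.card_singleton]; norm_num)
  simp only [Finset.mem_singleton] at ha
  obtain ⟨t, htG, hto⟩ := htr a
  set d := t * b * t⁻¹ with hd
  have hdG : d ∈ G := mul_mem (mul_mem htG hbG) (inv_mem htG)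
  have hda : OneFix d a := by
    refine ⟨fun x => by simp [d, hb.sq], by simp [d, ← hto, hb.fix], fun x hx => ?_⟩
    have h1 : b (t⁻¹ x) = t⁻¹ x := t.injective (by simpa [d] using hx)
    rw [← hto, ← hb.uniq _ h1]
    simp
  have hdo : d o ≠ o := fun e => ha (hda.uniq _ e).symm
  have hdoa : d o ≠ a := fun e => ha (by rw [← hda.fix, ← e, hda.sq])
  obtain ⟨y, hy⟩ := exists_avoid h5 {o, a, d o} (Finset.card_le_three.trans_lt (by norm_num))
  simp only [Finset.mem_insert, Finset.mem_singleton, not_or] at hy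
  have hdy : d y ≠ y := fun e => hy.2.1 (hda.uniq _ e)
  have hdyo : d y ≠ o := fun e => hy.2.2 (by rw [← e, hda.sq])
  have hdya : d y ≠ a := fun e => hy.2.1 (by rw [← hda.sq y, e, hda.fix])
  have hdyd : d y ≠ d o := fun e => hy.1 (d.injective e)
  have hcov := cover_of_card h5 (Ne.symm ha) (Ne.symm hdo) (Ne.symm hy.1) (Ne.symm hdyo) (Ne.symm hdoa)
    (Ne.symm hy.2.1) (Ne.symm hdya) (Ne.symm hy.2.2) (Ne.symm hdyd) (Ne.symm hdy)
  -- a member of the four group interchanging `y` and `d y`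
  obtain ⟨v, hvG, hv, hvy⟩ : ∃ v ∈ G, OneFix v o ∧ v y = d y := by
    have h0 : ∀ {w : Perm X}, OneFix w o → y ≠ w y ∧ o ≠ w y := fun {w} hw =>
      ⟨fun e => hy.1 (hw.uniq _ e.symm), fun e => hy.1 (by rw [← hw.sq y, ← e, hw.fix])⟩
    have hcy : c y ≠ b y := fun e => hne (hb.ext_at h5 hc hy.1 e.symm)
    have h1 : (b * c) y ≠ b y := fun e => (h0 hc).1 (b.injective e).symm
    have h2 : (b * c) y ≠ c y := fun e => (h0 hc).2 (hb.uniq (c y) e).symm
    rcases cover_of_card h5 (Ne.symm hy.1) (h0 hb).2 (h0 hc).2 (h0 hbc).2 (h0 hb).1 (h0 hc).1 (h0 hbc).1 hcy.symm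
      h1.symm h2.symm (d y) with e | e | e | e | e
    exacts [absurd e hdyo, absurd e hdy, ⟨b, hbG, hb, e.symm⟩, ⟨c, hcG, hc, e.symm⟩,
      ⟨b * c, mul_mem hbG hcG, hbc, e.symm⟩]
  have hvd : v (d y) = y := by rw [← hvy, hv.sq]
  have hva : v a = d o := by
    rcases hcov (v a) with e | e | e | e | e
    · exact absurd (v.injective (e.trans hv.fix.symm)) ha
    · exact absurd (hv.uniq _ e) ha
    · exact e
    · exact absurd (v.injective (e.trans hvd.symm)) (Ne.symm hdya)
    · exact absurd (v.injective (e.trans hvy.symm)) (Ne.symm hy.2.1)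
  have hvdo : v (d o) = a := by rw [← hva, hv.sq]
  obtain ⟨s, hsG, hso⟩ := htr y
  refine ⟨s⁻¹ * (v * d) * s, mul_mem (mul_mem (inv_mem hsG) (mul_mem hvG hdG)) hsG, ?_, ?_, fun e => ?_⟩
  · simp [hso, hvd, Equiv.symm_apply_eq]
  · have h3 : v * d * (v * d) * (v * d) = 1 := by
      ext x
      rcases hcov x with h | h | h | h | h <;>
        simp [h, hda.fix, hda.sq, hv.fix, hvd, hva, hvdo, hvy]
    calc s⁻¹ * (v * d) * s * (s⁻¹ * (v * d) * s) * (s⁻¹ * (v * d) * s) = s⁻¹ * (v * d * (v * d) * (v * d)) * s := by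
          group
      _ = 1 := by rw [h3, mul_one, inv_mul_cancel]
  · have h1 : v * d = 1 := by
      calc v * d = s * (s⁻¹ * (v * d) * s) * s⁻¹ := by group
        _ = 1 := by rw [e, mul_one, mul_inv_cancel]
    have h2 := congrArg (fun f : Perm X => f o) h1
    simp [hvdo] at h2
    exact ha h2

end Cfsg.Agent.Invol.Core2.Five
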