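import Cfsg.Agent.Lib.Invol.Core2.TwistSetting
import Cfsg.Agent.Lib.Invol.Core2.TwistPerm
import Cfsg.Agent.Lib.Invol.Sylow

/-!
# Twisted bad involution: the action on a component, and well placed cover roots

The setwise stabiliser of the component of a root acts on it; an involution of `H` other than `u` in it fixes only
the base point. Every cover root is conjugate in `H` to one of `T` together with two anticommuting involutions of
`T`, such that `T` contains a Sylow 2-subgroup of the stabiliser of the component in `H`.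
-/

set_option autoImplicit false
set_option linter.unusedSectionVars false
set_option linter.style.haveILetI false

namespace Cfsg.Agent.Invol.Core2

open Subgroup
open scoped Pointwise

variable {C : Type*} [Group C] [Finite C] {H : Subgroup C} {T : Sylow 2 C} {u : C}

namespace Comp

/-- The stabiliser of a component. -/
def st (H : Subgroup C) (v : C) : Subgroup C := MulAction.stabilizer C (comp H v)

/-- The pointwise stabiliser of a component. -/
def ker (H : Subgroup C) (v : C) : Subgroup C := fixingSubgroup C (comp H v)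

theorem smul_mem_iff {v g : C} (hg : g ∈ st H v) {p : C ⧸ H} : g • p ∈ comp H v ↔ p ∈ comp H v := by
  have h : g • comp H v = comp H v := hg
  conv_lhs => rw [← h]
  exact Set.smul_mem_smul_set_iff

theorem mem_st {v g : C} (h : ∀ p ∈ comp H v, g • p ∈ comp H v) : g ∈ st H v := by
  show g • comp H v = comp H v
  refine Set.eq_of_subset_of_ncard_le ?_ (by rw [Set.ncard_smul_set]) (Set.toFinite _)
  rintro _ ⟨p, hp, rfl⟩
  exact h p hp

theorem mem_ker {v g : C} : g ∈ ker H v ↔ ∀ p ∈ comp H v, g • p = p := mem_fixingSubgroup_iff C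

theorem ker_le_st (v : C) : ker H v ≤ st H v := fun g hg => mem_st fun p hp => by
  rw [mem_ker.1 hg p hp]; exact hp

theorem ker_normal {v g k : C} (hg : g ∈ st H v) (hk : k ∈ ker H v) : g * k * g⁻¹ ∈ ker H v :=
  mem_ker.2 fun p hp => by
    rw [mul_smul, mul_smul, mem_ker.1 hk _ ((smul_mem_iff (inv_mem hg)).2 hp), smul_inv_smul]

theorem base_mem (v : C) : (QuotientGroup.mk 1 : C ⧸ H) ∈ comp H v := ⟨1, Commute.one_left v, rfl⟩

theorem smul_base (g : C) : g • (QuotientGroup.mk 1 : C ⧸ H) = QuotientGroup.mk g := by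
  show QuotientGroup.mk (g * 1) = _
  rw [mul_one]

theorem smul_base_eq {g : C} : g • (QuotientGroup.mk 1 : C ⧸ H) = QuotientGroup.mk 1 ↔ g ∈ H := by
  rw [smul_base, QuotientGroup.eq, mul_one, inv_mem_iff]

theorem commute_mem_st {v g : C} (hg : Commute g v) : g ∈ st H v := mem_st fun p hp => by
  obtain ⟨c, hc, rfl⟩ := hp
  exact ⟨g * c, hg.mul_left hc, rfl⟩

theorem root_mem_ker {v : C} (hv : v ∈ H) : v ∈ ker H v := mem_ker.2 fun p hp => by
  obtain ⟨c, hc, rfl⟩ := hp
  show QuotientGroup.mk (v * c) = _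
  rw [← hc.eq, ← smul_base (c * v), mul_smul, smul_base_eq.2 hv, smul_base]

theorem ker_le (v : C) : ker H v ≤ H := fun _ hg => smul_base_eq.1 (mem_ker.1 hg _ (base_mem v))

theorem comp_conj {h : C} (hh : h ∈ H) (v : C) : comp H (h * v * h⁻¹) = h • comp H v := by
  ext p
  constructor
  · rintro ⟨c, hc, rfl⟩
    refine ⟨QuotientGroup.mk (h⁻¹ * c * h), ⟨h⁻¹ * c * h, ?_, rfl⟩, ?_⟩
    · have := hc.map (MulAut.conj h⁻¹).toMonoidHom
      simpa [mul_assoc] using this
    · show QuotientGroup.mk (h * (h⁻¹ * c * h)) = _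
      rw [QuotientGroup.eq, show (h * (h⁻¹ * c * h))⁻¹ * c = h⁻¹ by group]
      exact inv_mem hh
  · rintro ⟨_, ⟨c, hc, rfl⟩, rfl⟩
    refine ⟨h * c * h⁻¹, hc.map (MulAut.conj h).toMonoidHom, ?_⟩
    show _ = QuotientGroup.mk (h * c)
    rw [QuotientGroup.eq, show (h * c * h⁻¹)⁻¹ * (h * c) = h by group]
    exact hh

theorem st_conj {h v g : C} (hh : h ∈ H) : g ∈ st H (h * v * h⁻¹) ↔ h⁻¹ * g * h ∈ st H v := by
  show g • comp H (h * v * h⁻¹) = _ ↔ (h⁻¹ * g * h) • comp H v = comp H v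
  rw [comp_conj hh, mul_smul, mul_smul, inv_smul_eq_iff]

/-- The permutation of the component. -/
noncomputable def perm (H : Subgroup C) (v : C) : ↥(st H v) →* Equiv.Perm ↥(comp H v) where
  toFun g :=
    { toFun := fun p => ⟨(g : C) • (p : C ⧸ H), (smul_mem_iff g.2).2 p.2⟩
      invFun := fun p => ⟨(g : C)⁻¹ • (p : C ⧸ H), (smul_mem_iff (inv_mem g.2)).2 p.2⟩
      left_inv := fun p => Subtype.ext (inv_smul_smul _ _)
      right_inv := fun p => Subtype.ext (smul_inv_smul _ _) }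
  map_one' := Equiv.ext fun p => Subtype.ext (one_smul C (p : C ⧸ H))
  map_mul' g g' := Equiv.ext fun p => Subtype.ext (mul_smul (g : C) (g' : C) (p : C ⧸ H))

theorem perm_apply {v : C} (g : ↥(st H v)) (p : ↥(comp H v)) :
    ((perm H v g p : ↥(comp H v)) : C ⧸ H) = (g : C) • (p : C ⧸ H) := rfl

theorem perm_eq_one {v : C} {g : ↥(st H v)} : perm H v g = 1 ↔ (g : C) ∈ ker H v := by
  rw [mem_ker]
  constructor
  · intro h p hp
    exact congrArg Subtype.val (Equiv.ext_iff.1 h ⟨p, hp⟩)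
  · intro h
    exact Equiv.ext fun p => Subtype.ext (h p p.2)

/-- The base point of a component. -/
def base (H : Subgroup C) (v : C) : ↥(comp H v) := ⟨QuotientGroup.mk 1, base_mem v⟩

theorem perm_base {v : C} {g : ↥(st H v)} : perm H v g (base H v) = base H v ↔ (g : C) ∈ H := by
  rw [Subtype.ext_iff]
  exact smul_base_eq

theorem perm_eq_iff {v : C} {g g' : ↥(st H v)} :
    perm H v g = perm H v g' ↔ (g : C)⁻¹ * g' ∈ ker H v := by
  rw [← inv_mul_eq_one, ← map_inv, ← map_mul, perm_eq_one]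
  rfl

end Comp

open Comp

namespace TwistC

variable (h : TwistC H T u)
include h

theorem uu : u * u = 1 := mul_self_of_orderOf_two h.two

theorem u_mem_T : u ∈ (T : Subgroup C) := by
  haveI : Fact (Nat.Prime 2) := ⟨Nat.prime_two⟩
  obtain ⟨g, hg⟩ := exists_conj_mem_sylow (x := u) (p := 2) (n := 1) (by rw [h.two, pow_one]) T
  rwa [← (h.cent g).symm.eq, mul_inv_cancel_right] at hg

theorem u_mem : u ∈ H := h.le h.u_mem_T

theorem u_fix (p : C ⧸ H) : u • p = p := by
  obtain ⟨c, rfl⟩ := QuotientGroup.mk_surjective p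
  rw [← smul_base c, ← mul_smul, ← (h.cent c).eq, mul_smul, smul_base_eq.2 h.u_mem]

/-- An involution other than `u` fixes at most one point. -/
theorem fix_one {y : C} (hy : orderOf y = 2) (hyu : y ≠ u) {p q : C ⧸ H} (hp : y • p = p) (hq : y • q = q) :
    p = q := by
  obtain ⟨a, rfl⟩ := QuotientGroup.mk_surjective p
  obtain ⟨b, rfl⟩ := QuotientGroup.mk_surjective q
  have key : ∀ {a : C}, y • (QuotientGroup.mk a : C ⧸ H) = QuotientGroup.mk a → a⁻¹ * y * a ∈ H := fun {a} ha => by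
    refine smul_base_eq.1 ?_
    rw [mul_smul, mul_smul, smul_base, ha, ← smul_base a, inv_smul_smul]
  refine (QuotientGroup.eq.2 ?_).symm
  refine h.fix (a⁻¹ * y * a) (key hp) ?_ (fun e => hyu ?_) _ ?_
  · have := orderOf_conj_eq a⁻¹ y
    rwa [inv_inv, hy] at this
  · calc y = a * (a⁻¹ * y * a) * a⁻¹ := by group
      _ = u := by rw [e, (h.cent a).eq, mul_inv_cancel_right]
  · rw [show b⁻¹ * a * (a⁻¹ * y * a) * (b⁻¹ * a)⁻¹ = b⁻¹ * y * b by group]
    exact key hq

/-- An involution of `H` other than `u` fixes only the base point of a component it stabilises. -/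
theorem oneFix {v : C} {y : ↥(st H v)} (hy : orderOf (y : C) = 2) (hyu : (y : C) ≠ u) (hyH : (y : C) ∈ H) :
    Five.OneFix (perm H v y) (base H v) :=
  ⟨fun p => by
    rw [← Equiv.Perm.mul_apply, ← map_mul, show y * y = 1 from Subtype.ext (mul_self_of_orderOf_two hy), map_one]
    rfl,
  perm_base.2 hyH, fun p hp => Subtype.ext (h.fix_one hy hyu (congrArg Subtype.val hp) (smul_base_eq.2 hyH))⟩

theorem root_order {x : C} (hx : x * x = u) : orderOf x = 2 ^ 2 := by
  refine orderOf_eq_prime_pow (n := 1) ?_ ?_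
  · rw [pow_one, pow_two, hx]; exact ne_one_of_orderOf_two h.two
  · rw [pow_succ, pow_one, pow_mul, pow_two, pow_two, hx, h.uu]

end TwistC

namespace Comp

/-- A well placed cover root with two anticommuting involutions. -/
structure Good (H : Subgroup C) (T : Sylow 2 C) (u v a b : C) : Prop where
  cov : CoverRoot H u v
  vT : v ∈ (T : Subgroup C)
  aT : a ∈ (T : Subgroup C)
  bT : b ∈ (T : Subgroup C)
  a2 : orderOf a = 2
  b2 : orderOf b = 2
  av : Commute a v
  bv : Commute b v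
  ab : b * a = a * b * u
  syl : ∀ R : Subgroup C, IsPGroup 2 ↥R → R ≤ st H v ⊓ H → ∃ k ∈ st H v ⊓ H, ∀ r ∈ R, k * r * k⁻¹ ∈ (T : Subgroup C)

theorem cover_conj (h : TwistC H T u) {k v : C} (hk : k ∈ H) (hv : CoverRoot H u v) :
    CoverRoot H u (k * v * k⁻¹) := by
  obtain ⟨hvH, hsq, hmv, a, b, ha, hb, hav, hbv, hab⟩ := hv
  refine ⟨mul_mem (mul_mem hk hvH) (inv_mem hk), ?_, fun hle => hmv fun c hc => ?_, k * a * k⁻¹, k * b * k⁻¹,
    by rw [orderOf_conj_eq, ha], by rw [orderOf_conj_eq, hb], hav.map (MulAut.conj k).toMonoidHom,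
    hbv.map (MulAut.conj k).toMonoidHom, ?_⟩
  · rw [show k * v * k⁻¹ * (k * v * k⁻¹) = k * (v * v) * k⁻¹ by group, hsq, (h.cent k).eq, mul_inv_cancel_right]
  · have h1 := hle (show k * c * k⁻¹ ∈ centralizer ({k * v * k⁻¹} : Set C) from mem_centralizer_singleton_iff.2
      ((show Commute c v from mem_centralizer_singleton_iff.1 hc).map (MulAut.conj k).toMonoidHom).eq)
    simpa [mul_assoc] using mul_mem (mul_mem (inv_mem hk) h1) hk
  · calc k * b * k⁻¹ * (k * a * k⁻¹) = k * (b * a) * k⁻¹ := by group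
      _ = k * (a * b * u) * k⁻¹ := by rw [hab]
      _ = k * a * k⁻¹ * (k * b * (u * k⁻¹)) := by group
      _ = k * a * k⁻¹ * (k * b * k⁻¹) * u := by rw [← (h.cent k⁻¹).eq]; group

/-- Every cover root is conjugate in `H` to a well placed one. -/
theorem exists_good (h : TwistC H T u) (h5 : FiveAt H u) {v₀ : C} (hv : CoverRoot H u v₀) :
    ∃ k ∈ H, ∃ a b : C, Good H T u (k * v₀ * k⁻¹) a b := by
  classical
  haveI : Fact (Nat.Prime 2) := ⟨Nat.prime_two⟩
  haveI : Fintype ↥(comp H v₀) := Fintype.ofFinite _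
  obtain ⟨a₀, b₀, ha₀, hb₀, ha₀v, hb₀v, hab⟩ := hv.anti
  have hau : a₀ ≠ u := fun e => by
    rw [e, ← (h.cent b₀).eq, mul_assoc, h.uu, mul_one] at hab
    exact ne_one_of_orderOf_two h.two (mul_eq_left.1 hab)
  -- the point of the involution
  have hcard : Fintype.card ↥(comp H v₀) = 5 := by
    rw [← Nat.card_eq_fintype_card, Nat.card_coe_set_eq]; exact h5 v₀ hv
  obtain ⟨δ, hδ⟩ := Equiv.Perm.exists_fixed_point_of_prime (p := 2) (n := 1) (by rw [hcard]; norm_num)
    (σ := perm H v₀ ⟨a₀, commute_mem_st ha₀v⟩) (by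
      rw [pow_one, pow_two, ← map_mul]
      exact (congrArg _ (Subtype.ext (mul_self_of_orderOf_two ha₀))).trans (map_one _))
  have hδ' : a₀ • (δ : C ⧸ H) = δ := congrArg Subtype.val hδ
  have hbδ : b₀ • (δ : C ⧸ H) = δ := by
    refine h.fix_one ha₀ hau ?_ hδ'
    rw [← mul_smul, show a₀ * b₀ = b₀ * a₀ * u by rw [hab, mul_assoc, h.uu, mul_one], mul_smul, mul_smul, h.u_fix,
      hδ']
  obtain ⟨c, hc, hcδ⟩ := δ.2
  rw [← hcδ, ← smul_base c] at hδ' hbδ
  have hmove : ∀ {x : C}, x • (c • (QuotientGroup.mk 1 : C ⧸ H)) = c • (QuotientGroup.mk 1 : C ⧸ H) →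
      c⁻¹ * x * c ∈ H := fun {x} e => smul_base_eq.1 (by rw [mul_smul, mul_smul, e, inv_smul_smul])
  have hcv : ∀ {x : C}, Commute x v₀ → Commute (c⁻¹ * x * c) v₀ := fun {x} hx => (hc.inv_left.mul_left hx).mul_left hc
  obtain ⟨a, hadef⟩ : ∃ a, a = c⁻¹ * a₀ * c := ⟨_, rfl⟩
  obtain ⟨b, hbdef⟩ : ∃ b, b = c⁻¹ * b₀ * c := ⟨_, rfl⟩
  have ho : ∀ x : C, orderOf (c⁻¹ * x * c) = orderOf x := fun x => by
    have := orderOf_conj_eq c⁻¹ x
    rwa [inv_inv] at this
  have ha2 : orderOf a = 2 := by rw [hadef, ho, ha₀]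
  have hb2 : orderOf b = 2 := by rw [hbdef, ho, hb₀]
  have hab' : b * a = a * b * u := by
    calc b * a = c⁻¹ * (b₀ * a₀) * c := by rw [hadef, hbdef]; group
      _ = c⁻¹ * (a₀ * b₀) * (u * c) := by rw [hab]; group
      _ = c⁻¹ * a₀ * c * (c⁻¹ * b₀ * c) * u := by rw [← (h.cent c).eq]; group
      _ = a * b * u := by rw [hadef, hbdef]
  have hav : Commute a v₀ := hadef ▸ hcv ha₀v
  have hbv : Commute b v₀ := hbdef ▸ hcv hb₀v
  set L := st H v₀ ⊓ H with hL
  have haL : a ∈ L := ⟨commute_mem_st hav, hadef ▸ hmove hδ'⟩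
  have hbL : b ∈ L := ⟨commute_mem_st hbv, hbdef ▸ hmove hbδ⟩
  set R := closure ({a, b} : Set C) ⊔ zpowers v₀ with hR
  have hab4 : orderOf (a * b) = 2 ^ 2 := h.root_order (by
    calc a * b * (a * b) = a * (b * a) * b := by group
      _ = a * a * b * (u * b) := by rw [hab']; group
      _ = u := by rw [mul_self_of_orderOf_two ha2, one_mul, (h.cent b).symm.eq, ← mul_assoc,
          mul_self_of_orderOf_two hb2, one_mul])
  have hRp : IsPGroup 2 ↥R := (isPGroup_closure_pair ha2 hb2 hab4).to_sup_of_normal_right'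
    (isPGroup_zpowers (h.root_order hv.sq)) ((closure_le _).2 fun x hx => mem_normalizer_fintype fun y hy => by
      obtain ⟨i, rfl⟩ := mem_zpowers_iff.1 hy
      have hxv : Commute x v₀ := by
        rcases hx with rfl | rfl
        exacts [hav, hbv]
      rw [(hxv.zpow_right i).eq, mul_inv_cancel_right]
      exact hy)
  have hRL : R ≤ L := sup_le ((closure_le _).2 fun x hx => by
    rcases hx with rfl | rfl
    exacts [haL, hbL]) (zpowers_le.2 ⟨commute_mem_st (Commute.refl _), hv.mem⟩)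
  obtain ⟨R₁, hR₁⟩ := (hRp.comap_subtype (K := L)).exists_le_sylow
  -- conjugate into `T` inside `H`
  obtain ⟨k, hk⟩ := exists_conj_subset_sylow (G := ↥H)
    (H := ((R₁ : Subgroup ↥L).map L.subtype).subgroupOf H) ((R₁.isPGroup'.map _).comap_subtype) (T.subtype h.le)
  have hk' : ∀ r ∈ (R₁ : Subgroup ↥L), (k : C) * r * (k : C)⁻¹ ∈ (T : Subgroup C) := fun r hr =>
    hk ⟨r, r.2.2⟩ ⟨r, hr, rfl⟩
  have hmem : ∀ x ∈ R, (k : C) * x * (k : C)⁻¹ ∈ (T : Subgroup C) := fun x hx => hk' ⟨x, hRL hx⟩ (hR₁ hx)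
  refine ⟨k, k.2, (k : C) * a * (k : C)⁻¹, (k : C) * b * (k : C)⁻¹, cover_conj h k.2 hv,
    hmem _ (mem_sup_right (mem_zpowers _)), hmem _ (mem_sup_left (subset_closure (by simp))),
    hmem _ (mem_sup_left (subset_closure (by simp))), by rw [orderOf_conj_eq, ha2], by rw [orderOf_conj_eq, hb2],
    hav.map (MulAut.conj (k : C)).toMonoidHom, hbv.map (MulAut.conj (k : C)).toMonoidHom, ?_, ?_⟩
  · calc (k : C) * b * (k : C)⁻¹ * ((k : C) * a * (k : C)⁻¹) = k * (b * a) * (k : C)⁻¹ := by group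
      _ = k * (a * b) * (u * (k : C)⁻¹) := by rw [hab']; group
      _ = (k : C) * a * (k : C)⁻¹ * ((k : C) * b * (k : C)⁻¹) * u := by rw [← (h.cent (k : C)⁻¹).eq]; group
  · intro R' hR'p hR'L
    have hback : ∀ {x : C}, x ∈ st H ((k : C) * v₀ * (k : C)⁻¹) ⊓ H → (k : C)⁻¹ * x * k ∈ L := fun {x} hx =>
      ⟨(st_conj k.2).1 hx.1, H.mul_mem (H.mul_mem (H.inv_mem k.2) hx.2) k.2⟩
    obtain ⟨l, hl⟩ := exists_conj_subset_sylow (G := ↥L)
      (H := (R'.map (MulAut.conj (k : C)⁻¹).toMonoidHom).subgroupOf L) ((hR'p.map _).comap_subtype) R₁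
    refine ⟨(k : C) * l * (k : C)⁻¹, ⟨(st_conj k.2).2 ?_, H.mul_mem (H.mul_mem k.2 l.2.2) (H.inv_mem k.2)⟩, fun r hr => ?_⟩
    · rw [show (k : C)⁻¹ * ((k : C) * l * (k : C)⁻¹) * k = l by group]
      exact l.2.1
    · have h1 := hk' _ (hl ⟨(k : C)⁻¹ * r * k, hback (hR'L hr)⟩ ⟨r, hr, by simp⟩)
      simp only [Subgroup.coe_mul, Subgroup.coe_inv] at h1
      rwa [show (k : C) * (l * ((k : C)⁻¹ * r * k) * (l : C)⁻¹) * (k : C)⁻¹ =
        k * l * (k : C)⁻¹ * r * ((k : C) * l * (k : C)⁻¹)⁻¹ by group] at h1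

end Comp

end Cfsg.Agent.Invol.Core2
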