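import Cfsg.Agent.Lib.Invol.Core2.TwistClass
import Cfsg.Agent.Lib.Invol.Core2.TwistCompBase

/-!
# Twisted case with two exchanged components: one class of involutions

Two involutions of `H` commuting with a root whose centraliser leaves `H` are conjugate in `H`. If one only inverts
such a root then it is conjugate to the other or commutes with a second such root. In the presence of two quaternion
groups of cover roots every root of `T` commutes with an involution conjugate to a product of two roots.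
-/

set_option autoImplicit false
set_option linter.unusedSectionVars false

namespace Cfsg.Agent.Invol.Core2

open Subgroup

namespace TwistC

variable {C : Type*} [Group C] [Finite C] {H : Subgroup C} {T : Sylow 2 C} {u : C}

/-- Conjugacy modulo `u` of an involution of `H` and the conjugate of another one gives conjugacy in `H`. -/
theorem conj_of_conj_mul (h : TwistC H T u) {y w g d : C} (hy : y ∈ H) (hy2 : orderOf y = 2) (hyu : y ≠ u)
    (hw : w ∈ H) (hw2 : orderOf w = 2) (hwu : w ≠ u)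
    (hd : d * (g * w * g⁻¹) * d⁻¹ = y ∨ d * (g * w * g⁻¹) * d⁻¹ = y * u) : ∃ e ∈ H, e * w * e⁻¹ = y := by
  obtain ⟨k, hk, hky⟩ := h.twist y hy hy2 hyu
  have hmove : d * g * w * (d * g)⁻¹ = d * (g * w * g⁻¹) * d⁻¹ := by group
  rcases hd with hd | hd
  · exact ⟨d * g, h.fix w hw hw2 hwu _ (by rw [hmove, hd]; exact hy), by rw [hmove, hd]⟩
  · have h1 : d * g * w * (d * g)⁻¹ ∈ H := by
      rw [hmove, hd, ← hky]; exact mul_mem (mul_mem hk hy) (inv_mem hk)
    refine ⟨k⁻¹ * (d * g), mul_mem (inv_mem hk) (h.fix w hw hw2 hwu _ h1), ?_⟩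
    rw [show k⁻¹ * (d * g) * w * (k⁻¹ * (d * g))⁻¹ = k⁻¹ * (d * g * w * (d * g)⁻¹) * k by group, hmove, hd, ← hky]
    group

/-- A root commuting with an involution off `H` has no partner `o * r` moved to itself times `u`. -/
theorem false_of_partner (h : TwistC H T u) {y f o r : C} (hy : y ∈ H) (hy2 : orderOf y = 2) (hyu : y ≠ u)
    (hfH : f ∉ H) (hoo : o * o = u) (hrr : r * r = u) (hor : Commute o r) (hne : r⁻¹ ≠ r)
    (hys : y * (o * r) * y⁻¹ = o * r ∨ y * (o * r) * y⁻¹ = o * r * u) (hfo : Commute f o)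
    (hfr : f * r * f⁻¹ = r⁻¹) : False := by
  have hsq : o * r * (o * r) = 1 := by
    calc o * r * (o * r) = o * (r * o) * r := by group
      _ = o * o * (r * r) := by rw [← hor.eq]; group
      _ = 1 := by rw [hoo, hrr, h.uu]
  have hno : ∀ z, f * z = z * f → r ≠ o⁻¹ * z := fun z hz e => by
    have h1 : f * r * f⁻¹ = r := by
      rw [e, ← mul_assoc, hfo.inv_right.eq, mul_assoc o⁻¹ f, hz, ← mul_assoc, mul_inv_cancel_right]
    exact hne (hfr.symm.trans h1)
  have hs1 : o * r ≠ 1 := fun e => hno 1 (by simp) (by rw [← e, inv_mul_cancel_left])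
  have hsu : o * r ≠ u := fun e => hno u (h.cent f).eq (by rw [← e, inv_mul_cancel_left])
  have hs2 : orderOf (o * r) = 2 := orderOf_two_iff.2 ⟨hsq, hs1⟩
  have hsH : o * r ∈ H := by
    refine h.fix y hy hy2 hyu _ ?_
    have e : o * r * y * (o * r)⁻¹ = y ∨ o * r * y * (o * r)⁻¹ = y * u := by
      rcases hys with e | e
      · left
        rw [mul_inv_eq_iff_eq_mul] at e ⊢
        exact e.symm
      · right
        rw [mul_inv_eq_iff_eq_mul] at e ⊢
        rw [show y * u * (o * r) = y * (u * (o * r)) by group, ← (h.cent (o * r)).eq,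
          show y * (o * r * u) = y * (o * r) * u by group, e,
          show o * r * u * y * u = o * r * (u * y) * u by group, ← (h.cent y).eq,
          show o * r * (y * u) * u = o * r * y * (u * u) by group, h.uu, mul_one]
    rcases e with e | e <;> rw [e]
    exacts [hy, mul_mem hy h.u_mem]
  refine hfH (h.fix (o * r) hsH hs2 hsu f ?_)
  have h2 : f * (o * r) * f⁻¹ = o * r * u := by
    rw [← mul_assoc, hfo.eq, show o * f * r * f⁻¹ = o * (f * r * f⁻¹) by group, hfr,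
      show r⁻¹ = r * u from inv_eq_of_mul_eq_one_right (by rw [← mul_assoc, hrr, h.uu]), mul_assoc]
  rw [h2]
  exact mul_mem hsH h.u_mem

/-- Two involutions of `H` commuting with a root whose centraliser leaves `H`. -/
theorem conj_of_root (h : TwistC H T u) {y w v g : C} (hy : y ∈ H) (hy2 : orderOf y = 2) (hyu : y ≠ u)
    (hw : w ∈ H) (hw2 : orderOf w = 2) (hwu : w ≠ u) (hvv : v * v = u) (hyv : Commute y v) (hwv : Commute w v)
    (hgv : Commute g v) (hg : g ∉ H) : ∃ e ∈ H, e * w * e⁻¹ = y := by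
  have hfH : g * w * g⁻¹ ∉ H := fun e => hg (h.fix w hw hw2 hwu g e)
  rcases h.conj_or_root hy hy2 hyu (f := g * w * g⁻¹) (by rw [orderOf_conj_eq, hw2]) hfH with
    ⟨d, hd⟩ | ⟨r, k, hr, hrr, hyr, hfr⟩
  · exact h.conj_of_conj_mul hy hy2 hyu hw hw2 hwu hd
  exfalso
  have hfv : Commute (g * w * g⁻¹) v := (hgv.mul_left hwv).mul_left hgv.inv_left
  have hvr : Commute v r := by
    rw [hr]
    exact ((hyv.mul_left hfv).symm).pow_right k
  refine h.false_of_partner hy hy2 hyu hfH hvv hrr hvr (fun e => ?_) (Or.inr ?_) hfv hfr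
  · refine ne_one_of_orderOf_two h.two ?_
    rw [← hrr]
    nth_rewrite 1 [← e]
    exact inv_mul_cancel r
  · rw [← mul_assoc, hyv.eq, show v * y * r * y⁻¹ = v * (y * r * y⁻¹) by group, hyr,
      show r⁻¹ = r * u from inv_eq_of_mul_eq_one_right (by rw [← mul_assoc, hrr, h.uu]), mul_assoc]

/-- An involution inverting such a root is conjugate to one commuting with it, or commutes with another such root. -/
theorem conj_or_next (h : TwistC H T u) {y w o g : C} (hy : y ∈ H) (hy2 : orderOf y = 2) (hyu : y ≠ u)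
    (hw : w ∈ H) (hw2 : orderOf w = 2) (hwu : w ≠ u) (hoo : o * o = u) (hyo : y * o * y⁻¹ = o⁻¹)
    (hwo : Commute w o) (hgo : Commute g o) (hg : g ∉ H) :
    (∃ e ∈ H, e * w * e⁻¹ = y) ∨ ∃ o' g', o' * o' = u ∧ o' ∈ H ∧ Commute y o' ∧ Commute g' o' ∧ g' ∉ H := by
  have hfH : g * w * g⁻¹ ∉ H := fun e => hg (h.fix w hw hw2 hwu g e)
  have hf2 : orderOf (g * w * g⁻¹) = 2 := by rw [orderOf_conj_eq, hw2]
  have hfo : Commute (g * w * g⁻¹) o := (hgo.mul_left hwo).mul_left hgo.inv_left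
  rcases h.conj_or_root hy hy2 hyu (f := g * w * g⁻¹) hf2 hfH with ⟨d, hd⟩ | ⟨r, k, hr, hrr, hyr, hfr⟩
  · exact Or.inl (h.conj_of_conj_mul hy hy2 hyu hw hw2 hwu hd)
  obtain ⟨f, hf⟩ : ∃ f, f = g * w * g⁻¹ := ⟨_, rfl⟩
  rw [← hf] at hfH hf2 hfo hr hfr
  have hou : o⁻¹ = o * u := inv_eq_of_mul_eq_one_right (by rw [← mul_assoc, hoo, h.uu])
  have hru : r⁻¹ = r * u := inv_eq_of_mul_eq_one_right (by rw [← mul_assoc, hrr, h.uu])
  have hgo' : y * f * o = o * (y * f) * u := by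
    calc y * f * o = y * (f * o) := by group
      _ = y * o * y⁻¹ * (y * f) := by rw [hfo.eq]; group
      _ = o * (u * (y * f)) := by rw [hyo, hou]; group
      _ = o * (y * f) * u := by rw [← (h.cent (y * f)).eq]; group
  have hsq : Commute ((y * f) * (y * f)) o := by
    show y * f * (y * f) * o = o * (y * f * (y * f))
    calc y * f * (y * f) * o = y * f * (y * f * o) := by group
      _ = y * f * (o * (y * f) * u) := by rw [hgo']
      _ = y * f * o * (y * f) * u := by group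
      _ = o * (y * f) * (u * (y * f)) * u := by rw [hgo']; group
      _ = o * (y * f) * (y * f) * (u * u) := by rw [← (h.cent (y * f)).eq]; group
      _ = o * (y * f * (y * f)) := by rw [h.uu]; group
  rcases Nat.even_or_odd k with ⟨j, rfl⟩ | ⟨j, rfl⟩
  · exfalso
    refine h.false_of_partner hy hy2 hyu hfH hoo hrr ?_ (fun e => ?_) (Or.inl ?_) hfo hfr
    · rw [hr, ← two_mul, pow_mul, pow_two]
      exact (hsq.symm).pow_right j
    · refine ne_one_of_orderOf_two h.two ?_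
      rw [← hrr]
      nth_rewrite 1 [← e]
      exact inv_mul_cancel r
    · rw [show y * (o * r) * y⁻¹ = (y * o * y⁻¹) * (y * r * y⁻¹) by group, hyo, hyr, hou, hru,
        show o * u * (r * u) = o * (u * r) * u by group, ← (h.cent r).eq,
        show o * (r * u) * u = o * r * (u * u) by group, h.uu, mul_one]
  refine Or.inr ⟨o * r, y * f * (y * f), ?_, ?_, ?_, ?_, fun e => hfH ?_⟩
  · have hro : r * o = o * r * u := by
      rw [hr, pow_succ, pow_mul, pow_two]
      calc (y * f * (y * f)) ^ j * (y * f) * o = (y * f * (y * f)) ^ j * o * (y * f) * u := by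
            rw [mul_assoc, hgo']; group
        _ = o * ((y * f * (y * f)) ^ j * (y * f)) * u := by rw [(hsq.pow_left j).eq]; group
    calc o * r * (o * r) = o * (r * o) * r := by group
      _ = o * o * r * (u * r) := by rw [hro]; group
      _ = o * o * (r * r) * u := by rw [← (h.cent r).eq]; group
      _ = u := by rw [hoo, hrr, h.uu, one_mul]
  · refine h.fix y hy hy2 hyu _ ?_
    have h1 : o * r * y * (o * r)⁻¹ = y := by
      have h2 : y * (o * r) * y⁻¹ = o * r := by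
        rw [show y * (o * r) * y⁻¹ = (y * o * y⁻¹) * (y * r * y⁻¹) by group, hyo, hyr, hou, hru,
          show o * u * (r * u) = o * (u * r) * u by group, ← (h.cent r).eq,
          show o * (r * u) * u = o * r * (u * u) by group, h.uu, mul_one]
      rw [mul_inv_eq_iff_eq_mul] at h2 ⊢
      exact h2.symm
    rw [h1]; exact hy
  · show y * (o * r) = o * r * y
    rw [← mul_inv_eq_iff_eq_mul, show y * (o * r) * y⁻¹ = (y * o * y⁻¹) * (y * r * y⁻¹) by group, hyo, hyr, hou,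
      hru, show o * u * (r * u) = o * (u * r) * u by group, ← (h.cent r).eq,
      show o * (r * u) * u = o * r * (u * u) by group, h.uu, mul_one]
  · refine hsq.mul_right ?_
    rw [hr]
    exact ((Commute.refl (y * f)).mul_left (Commute.refl _)).pow_right _
  · have h1 := h.root_mem hy hy2 hyu hrr hyr
    rw [hr, pow_succ, pow_mul, pow_two] at h1
    have h2 := mul_mem (inv_mem (pow_mem e j)) h1
    rw [inv_mul_cancel_left] at h2
    have h3 := mul_mem (inv_mem hy) h2
    rwa [inv_mul_cancel_left] at h3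

/-- A product of two commuting roots is an involution other than `u` when it is neither `1` nor `u`. -/
theorem invol_mul (h : TwistC H T u) {q r : C} (hqq : q * q = u) (hrr : r * r = u) (hc : Commute q r)
    (hne : q ≠ r) (hne' : q ≠ r * u) : orderOf (q * r) = 2 ∧ q * r ≠ u := by
  have hri : r⁻¹ = r * u := inv_eq_of_mul_eq_one_right (by rw [← mul_assoc, hrr, h.uu])
  refine ⟨orderOf_two_iff.2 ⟨?_, fun e => hne' ((eq_inv_of_mul_eq_one_left e).trans hri)⟩, fun e => hne ?_⟩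
  · calc q * r * (q * r) = q * (r * q) * r := by group
      _ = q * q * (r * r) := by rw [← hc.eq]; group
      _ = 1 := by rw [hqq, hrr, h.uu]
  · calc q = q * r * r⁻¹ := by group
      _ = r := by rw [e, hri, ← mul_assoc, ← (h.cent r).eq, mul_assoc, h.uu, mul_one]

/-- With two exchanged components of cover roots `H` has one class of involutions other than `u`. -/
theorem class_of_swapPair (h : TwistC H T u) {Q Q' : Subgroup C} {a : C} (s : SwapPair H T u Q Q' a)
    (hsq : ∀ q ∈ Q, q * q = 1 ∨ q * q = u) {q₀ r₀ : C} (hq₀ : q₀ ∈ Q) (hr₀ : r₀ ∈ Q') (hqq₀ : q₀ * q₀ = u)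
    (hrr₀ : r₀ * r₀ = u) {y : C} (hy : y ∈ H) (hy2 : orderOf y = 2) (hyu : y ≠ u) :
    ∃ d ∈ H, d * (q₀ * r₀) * d⁻¹ = y := by
  classical
  haveI : Fact (Nat.Prime 2) := ⟨Nat.prime_two⟩
  have huu := h.uu
  have hu1 := ne_one_of_orderOf_two h.two
  have hmoves : ∀ x, x ∈ Q ∨ x ∈ Q' → x * x = u → x ∈ H ∧ ∃ g, Commute g x ∧ g ∉ H := fun x hx hxx => by
    have hcov : CoverRoot H u x := hx.elim (fun hx => s.cover x hx hxx) fun hx => s.cover' x hx hxx
    obtain ⟨g, hg, hgH⟩ := SetLike.not_le_iff_exists.1 hcov.moves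
    exact ⟨hcov.mem, g, mem_centralizer_singleton_iff.1 hg, hgH⟩
  have hQT : ∀ x, x ∈ Q ∨ x ∈ Q' → x ∈ (T : Subgroup C) := fun x hx => hx.elim (s.leT ·) (s.leT' ·)
  have hu' : ∀ x, x ∈ zpowers u → x = 1 ∨ x = u := fun x hx => by
    obtain ⟨i, rfl⟩ := mem_zpowers_iff.1 hx
    rcases Int.even_or_odd i with ⟨j, rfl⟩ | ⟨j, rfl⟩
    · exact Or.inl (by rw [← two_mul, zpow_mul, zpow_two, huu, one_zpow])
    · exact Or.inr (by rw [zpow_add, zpow_mul, zpow_two, huu, one_zpow, one_mul, zpow_one])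
  have hnot : ∀ {q r : C}, q ∈ Q → r ∈ Q' → q * q = u → q ≠ r ∧ q ≠ r * u := by
    intro q r hq hr hqq
    have huQ : u ∈ Q' := by rw [← hrr₀]; exact mul_mem hr₀ hr₀
    refine ⟨fun e => ?_, fun e => ?_⟩ <;>
    · have hm : q ∈ Q ⊓ Q' := ⟨hq, by rw [e]; first | exact hr | exact mul_mem hr huQ⟩
      rcases hu' q (s.inf hm) with e' | e'
      · exact hu1 (by rw [← hqq, e', one_mul])
      · exact hu1 (by rw [← hqq, e', huu])
  have hinner : ∀ {q r : C}, q ∈ Q → r ∈ Q' → q * q = u → r * r = u →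
      q * r ∈ H ∧ orderOf (q * r) = 2 ∧ q * r ≠ u := fun {q r} hq hr hqq hrr =>
    ⟨h.le (mul_mem (s.leT hq) (s.leT' hr)),
      h.invol_mul hqq hrr (s.comm q hq r hr) (hnot hq hr hqq).1 (hnot hq hr hqq).2⟩
  obtain ⟨hz, hz2, hzu⟩ := hinner hq₀ hr₀ hqq₀ hrr₀
  -- products of roots are conjugate
  have hall : ∀ {q r : C}, q ∈ Q → r ∈ Q' → q * q = u → r * r = u → ∃ d ∈ H, d * (q₀ * r₀) * d⁻¹ = q * r := by
    intro q r hq hr hqq hrr
    obtain ⟨hm, hm2, hmu⟩ := hinner hq hr hqq hrr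
    obtain ⟨hn, hn2, hnu⟩ := hinner hq hr₀ hqq hrr₀
    obtain ⟨-, g, hg, hgH⟩ := hmoves q (Or.inl hq) hqq
    obtain ⟨-, g', hg', hg'H⟩ := hmoves r₀ (Or.inr hr₀) hrr₀
    have hc : ∀ x ∈ Q', Commute (q * x) q := fun x hx => (Commute.refl q).mul_left (s.comm q hq x hx).symm
    obtain ⟨e, he, hee⟩ := h.conj_of_root hm hm2 hmu hn hn2 hnu hqq (hc r hr) (hc r₀ hr₀) hg hgH
    have hc' : ∀ x ∈ Q, Commute (x * r₀) r₀ := fun x hx => (s.comm x hx r₀ hr₀).mul_left (Commute.refl r₀)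
    obtain ⟨e', he', hee'⟩ := h.conj_of_root hn hn2 hnu hz hz2 hzu hrr₀ (hc' q hq) (hc' q₀ hq₀) hg' hg'H
    exact ⟨e * e', mul_mem he he', by rw [← hee, ← hee']; group⟩
  -- a root of `T` commutes with a member of the class
  have hroot : ∀ v ∈ (T : Subgroup C), v * v = u → ∃ w, (∃ d ∈ H, d * (q₀ * r₀) * d⁻¹ = w) ∧ Commute w v := by
    intro v hv hvv
    have hvvx : ∀ x, v * (v * x * v⁻¹) * v⁻¹ = x := fun x => by
      calc v * (v * x * v⁻¹) * v⁻¹ = v * v * x * (v * v)⁻¹ := by group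
        _ = x := by rw [hvv, ← (h.cent x).eq, mul_inv_cancel_right]
    have hconj : ∀ x, x * x = u → v * x * v⁻¹ * (v * x * v⁻¹) = u := fun x hx => by
      rw [show v * x * v⁻¹ * (v * x * v⁻¹) = v * (x * x) * v⁻¹ by group, hx, (h.cent v).eq, mul_inv_cancel_right]
    rcases s.stab v hv with ⟨hvQ, hvQ'⟩ | ⟨hvQ, hvQ'⟩
    · -- a root fixed up to `u` in each group
      have hfix : ∀ {X : Subgroup C}, (∀ x ∈ X, v * x * v⁻¹ ∈ X) → (∀ x ∈ X, x * x = 1 ∨ x * x = u) →
          (∀ x ∈ X, x * x = 1 → x = 1 ∨ x = u) → ∀ x ∈ X, x * x = u →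
          ∃ p ∈ X, p * p = u ∧ (Commute v p ∨ v * p * v⁻¹ = p * u) := by
        intro X hvX hXsq hX1 x hx hxx
        by_cases h1 : v * x * v⁻¹ = x
        · exact ⟨x, hx, hxx, Or.inl (mul_inv_eq_iff_eq_mul.1 h1)⟩
        by_cases h2 : v * x * v⁻¹ = x * u
        · exact ⟨x, hx, hxx, Or.inr h2⟩
        obtain ⟨x', hx'⟩ : ∃ x', x' = v * x * v⁻¹ := ⟨_, rfl⟩
        rw [← hx'] at h1 h2
        have hx'X : x' ∈ X := hx' ▸ hvX x hx
        have hx'x : x' * x' = u := hx' ▸ hconj x hxx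
        have hxi : x⁻¹ = x * u := inv_eq_of_mul_eq_one_right (by rw [← mul_assoc, hxx, huu])
        have hpp : x * x' * (x * x') = u := by
          rcases hXsq _ (mul_mem hx hx'X) with e | e
          · exfalso
            rcases hX1 _ (mul_mem hx hx'X) e with e' | e'
            · exact h2 ((eq_inv_of_mul_eq_one_right e').trans hxi)
            · exact h1 (mul_left_cancel (a := x) (e'.trans hxx.symm))
          · exact e
        have hmove : v * (x * x') * v⁻¹ = x' * x := by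
          rw [show v * (x * x') * v⁻¹ = (v * x * v⁻¹) * (v * x' * v⁻¹) by group, ← hx']
          conv_lhs => arg 2; rw [hx', hvvx x]
        refine ⟨x * x', mul_mem hx hx'X, hpp, Or.inr ?_⟩
        rw [hmove]
        refine mul_left_cancel (a := x * x') ?_
        calc x * x' * (x' * x) = x * (x' * x') * x := by group
          _ = u * (x * x) := by rw [hx'x, (h.cent x).eq]; group
          _ = x * x' * (x * x') * u := by rw [hxx, hpp]
          _ = x * x' * (x * x' * u) := by group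
      have hQ'sq : ∀ x ∈ Q', x * x = 1 ∨ x * x = u := fun x hx => by
        have e : x * x = a⁻¹ * (a * x * a⁻¹ * (a * x * a⁻¹)) * a := by group
        rcases hsq _ (s.conj' x hx) with e' | e' <;> rw [e, e']
        · exact Or.inl (by group)
        · exact Or.inr (by rw [mul_assoc, ← (h.cent a).eq, inv_mul_cancel_left])
      have hQ'1 : ∀ x ∈ Q', x * x = 1 → x = 1 ∨ x = u := fun x hx hxx => by
        have e : a * x * a⁻¹ * (a * x * a⁻¹) = 1 := by
          rw [show a * x * a⁻¹ * (a * x * a⁻¹) = a * (x * x) * a⁻¹ by group, hxx, mul_one, mul_inv_cancel]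
        rcases s.uniq _ (s.conj' x hx) e with e' | e'
        · exact Or.inl (by rw [show x = a⁻¹ * (a * x * a⁻¹) * a by group, e']; group)
        · exact Or.inr (by rw [show x = a⁻¹ * (a * x * a⁻¹) * a by group, e', mul_assoc, ← (h.cent a).eq,
            inv_mul_cancel_left])
      obtain ⟨p, hp, hpp, hvp⟩ := hfix hvQ hsq s.uniq q₀ hq₀ hqq₀
      obtain ⟨p', hp', hp'p, hvp'⟩ := hfix hvQ' hQ'sq hQ'1 r₀ hr₀ hrr₀
      -- with a commuting root `x` the involution is `v * x`, unless `v` is `x` or `x * u`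
      have hside : ∀ x, x ∈ Q ∨ x ∈ Q' → x * x = u → Commute v x → ∀ y', y' ∈ H → orderOf y' = 2 → y' ≠ u →
          Commute y' x → (∃ d ∈ H, d * (q₀ * r₀) * d⁻¹ = y') →
          ∃ w, (∃ d ∈ H, d * (q₀ * r₀) * d⁻¹ = w) ∧ Commute w v := by
        intro x hx hxx hvx y' hy'H hy'2 hy'u hy'x hy'd
        by_cases h1 : v = x
        · exact ⟨y', hy'd, h1 ▸ hy'x⟩
        by_cases h2 : v = x * u
        · exact ⟨y', hy'd, h2 ▸ hy'x.mul_right (h.cent y')⟩
        obtain ⟨hxH, g, hg, hgH⟩ := hmoves x hx hxx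
        obtain ⟨hw2, hwu⟩ := h.invol_mul hvv hxx hvx h1 h2
        obtain ⟨e, he, hee⟩ := h.conj_of_root (h.le (mul_mem hv (hQT x hx))) hw2 hwu hy'H hy'2 hy'u hxx
          (hvx.mul_left (Commute.refl x)) hy'x hg hgH
        obtain ⟨d, hd, hdd⟩ := hy'd
        refine ⟨v * x, ⟨e * d, mul_mem he hd, ?_⟩, (Commute.refl v).mul_left hvx.symm⟩
        rw [← hee, ← hdd]
        group
      rcases hvp with hvp | hvp
      · obtain ⟨hm, hm2, hmu⟩ := hinner hp hr₀ hpp hrr₀
        exact hside p (Or.inl hp) hpp hvp _ hm hm2 hmu ((Commute.refl p).mul_left (s.comm p hp r₀ hr₀).symm)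
          (hall hp hr₀ hpp hrr₀)
      rcases hvp' with hvp' | hvp'
      · obtain ⟨hm, hm2, hmu⟩ := hinner hq₀ hp' hqq₀ hp'p
        exact hside p' (Or.inr hp') hp'p hvp' _ hm hm2 hmu ((s.comm q₀ hq₀ p' hp').mul_left (Commute.refl p'))
          (hall hq₀ hp' hqq₀ hp'p)
      refine ⟨p * p', hall hp hp' hpp hp'p, Commute.symm (mul_inv_eq_iff_eq_mul.1 ?_)⟩
      rw [show v * (p * p') * v⁻¹ = (v * p * v⁻¹) * (v * p' * v⁻¹) by group, hvp, hvp',
        show p * u * (p' * u) = p * (u * p') * u by group, ← (h.cent p').eq,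
        show p * (p' * u) * u = p * p' * (u * u) by group, huu, mul_one]
    · have hrr := hconj q₀ hqq₀
      refine ⟨q₀ * (v * q₀ * v⁻¹), hall hq₀ (hvQ q₀ hq₀) hqq₀ hrr, Commute.symm (mul_inv_eq_iff_eq_mul.1 ?_)⟩
      rw [show v * (q₀ * (v * q₀ * v⁻¹)) * v⁻¹ = (v * q₀ * v⁻¹) * (v * (v * q₀ * v⁻¹) * v⁻¹) by group, hvvx,
        (s.comm q₀ hq₀ _ (hvQ q₀ hq₀)).eq]
  -- a root of `H`
  have hrootH : ∀ o ∈ H, o * o = u →
      ∃ w, w ∈ H ∧ orderOf w = 2 ∧ w ≠ u ∧ (∃ d ∈ H, d * (q₀ * r₀) * d⁻¹ = w) ∧ Commute w o := by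
    intro o ho hoo
    obtain ⟨k, hk⟩ := exists_conj_mem_sylow (x := (⟨o, ho⟩ : H)) (p := 2) (n := 2) (by
      rw [Subgroup.orderOf_mk]
      refine orderOf_eq_prime_pow (n := 1) ?_ ?_
      · rw [pow_one, pow_two, hoo]; exact hu1
      · rw [pow_succ, pow_one, pow_mul, pow_two, pow_two, hoo, huu]) (T.subtype h.le)
    have hk' : (k : C) * o * (k : C)⁻¹ ∈ (T : Subgroup C) := hk
    obtain ⟨w, ⟨d, hd, hdw⟩, hwv⟩ := hroot _ hk' (by
      rw [show (k : C) * o * (k : C)⁻¹ * ((k : C) * o * (k : C)⁻¹) = (k : C) * (o * o) * (k : C)⁻¹ by group, hoo,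
        (h.cent _).eq, mul_inv_cancel_right])
    have hd' : (k : C)⁻¹ * d ∈ H := mul_mem (inv_mem k.2) hd
    have e : (k : C)⁻¹ * d * (q₀ * r₀) * ((k : C)⁻¹ * d)⁻¹ = (k : C)⁻¹ * w * k := by rw [← hdw]; group
    refine ⟨(k : C)⁻¹ * w * k, ?_, ?_, ?_, ⟨_, hd', e⟩, ?_⟩
    · exact e ▸ mul_mem (mul_mem hd' hz) (inv_mem hd')
    · rw [← e, orderOf_conj_eq, hz2]
    · intro e'
      refine hzu ?_
      calc q₀ * r₀ = ((k : C)⁻¹ * d)⁻¹ * ((k : C)⁻¹ * d * (q₀ * r₀) * ((k : C)⁻¹ * d)⁻¹) * ((k : C)⁻¹ * d) := by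
            group
        _ = u := by rw [e, e', mul_assoc, ← (h.cent _).eq, inv_mul_cancel_left]
    · have := hwv.map (MulAut.conj (k : C)⁻¹).toMonoidHom
      simpa [mul_assoc] using this
  -- the chain
  obtain ⟨c, -, hc⟩ := SetLike.lt_iff_le_and_exists.1 h.proper.lt_top |>.2
  have hfH : c * (q₀ * r₀) * c⁻¹ ∉ H := fun e => hc (h.fix _ hz hz2 hzu c e)
  rcases h.conj_or_root hy hy2 hyu (f := c * (q₀ * r₀) * c⁻¹) (by rw [orderOf_conj_eq, hz2]) hfH with
    ⟨d, hd⟩ | ⟨o, k, ho, hoo, hyo, hfo⟩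
  · exact h.conj_of_conj_mul hy hy2 hyu hz hz2 hzu hd
  have hoH := h.root_mem hy hy2 hyu hoo hyo
  obtain ⟨w, hwH, hw2, hwu, ⟨d, hd, hdw⟩, hwo⟩ := hrootH o hoH hoo
  have hgo : Commute (y * (c * (q₀ * r₀) * c⁻¹)) o := by
    rw [ho]; exact Commute.self_pow _ k
  have hgH : y * (c * (q₀ * r₀) * c⁻¹) ∉ H := fun e => hfH (by
    have := mul_mem (inv_mem hy) e
    rwa [inv_mul_cancel_left] at this)
  rcases h.conj_or_next hy hy2 hyu hwH hw2 hwu hoo hyo hwo hgo hgH with ⟨e, he, hew⟩ | ⟨o', g, hoo', hoH', hyo', hgo', hgH'⟩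
  · exact ⟨e * d, mul_mem he hd, by rw [← hew, ← hdw]; group⟩
  obtain ⟨w', hwH', hw2', hwu', ⟨d', hd', hdw'⟩, hwo'⟩ := hrootH o' hoH' hoo'
  obtain ⟨e, he, hew⟩ := h.conj_of_root hy hy2 hyu hwH' hw2' hwu' hoo' hyo' hwo' hgo' hgH'
  exact ⟨e * d', mul_mem he hd', by rw [← hew, ← hdw']; group⟩

end TwistC

end Cfsg.Agent.Invol.Core2
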