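import Cfsg.Agent.Lib.Invol.Core2.TwistCompQuat

/-!
# Twisted bad involution: inner elements of a component

`Q` times the part of `T` fixing a component pointwise consists of the inner elements. Of two elements of `T` in the
stabiliser that are not inner the product is inner. A quaternion group with a root centralising it, both inside the
stabiliser, either lies in `Q` and has the same component or lies in the pointwise stabiliser.
-/

set_option autoImplicit false
set_option linter.unusedSectionVars false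
set_option linter.style.haveILetI false

namespace Cfsg.Agent.Invol.Core2

open Subgroup
open scoped Pointwise

variable {C : Type*} [Group C] [Finite C] {H : Subgroup C} {T : Sylow 2 C} {u v : C} {Q : Subgroup C}

/-- A quaternion group together with a root centralising it. -/
structure QuatRoot (u : C) (Q : Subgroup C) (v : C) : Prop where
  uniq : ∀ q ∈ Q, q * q = 1 → q = 1 ∨ q = u
  sq : ∀ q ∈ Q, q * q = 1 ∨ q * q = u
  anti : ∀ q ∈ Q, q * q = u → ∃ r ∈ Q, r * r = u ∧ r * q = q * r * u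
  root : ∃ q ∈ Q, q * q = u
  vv : v * v = u
  comm : ∀ q ∈ Q, Commute q v

namespace QuatRoot

theorem mul_root (h : TwistC H T u) (p : QuatRoot u Q v) {q : C} (hq : q ∈ Q) (hqq : q * q = u) :
    orderOf (q * v) = 2 ∧ q * v ≠ u := by
  have hu1 := ne_one_of_orderOf_two h.two
  have hsq : q * v * (q * v) = 1 := by
    rw [show q * v * (q * v) = q * (v * q) * v by group, ← (p.comm q hq).eq,
      show q * (q * v) * v = q * q * (v * v) by group, hqq, p.vv, h.uu]
  obtain ⟨r, hr, -, hrq⟩ := p.anti q hq hqq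
  have hne : ∀ z, z = 1 ∨ z = u → q * v ≠ z := fun z hz e => by
    have hv : v = q⁻¹ * z := by rw [← e, inv_mul_cancel_left]
    have hrz : Commute r z := by
      rcases hz with rfl | rfl
      exacts [Commute.one_right r, h.cent r]
    have h1 : Commute r (q⁻¹ * z) := hv ▸ p.comm r hr
    have h2 := h1.mul_right hrz.inv_right
    rw [mul_inv_cancel_right] at h2
    have h3 := h2.inv_right
    rw [inv_inv] at h3
    rw [h3.eq] at hrq
    exact hu1 (mul_eq_left.1 hrq.symm)
  exact ⟨orderOf_two_iff.2 ⟨hsq, hne 1 (Or.inl rfl)⟩, hne u (Or.inr rfl)⟩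

/-- The product of a root and an anticommuting root is a root anticommuting with both. -/
theorem mul_anti (h : TwistC H T u) {q r : C} (hqq : q * q = u) (hrr : r * r = u) (hrq : r * q = q * r * u) :
    q * r * (q * r) = u ∧ q * r * q = q * (q * r) * u ∧ r * (q * r) = q * r * r * u := by
  refine ⟨?_, ?_, ?_⟩
  · calc q * r * (q * r) = q * (r * q) * r := by group
      _ = q * q * r * (u * r) := by rw [hrq]; group
      _ = u * r * (r * u) := by rw [hqq, ← (h.cent r).eq]
      _ = u := by rw [show u * r * (r * u) = u * (r * r) * u by group, hrr, h.uu, one_mul]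
  · rw [mul_assoc q r q, hrq]; group
  · rw [← mul_assoc, hrq, mul_assoc _ u r, ← (h.cent r).eq, ← mul_assoc]

end QuatRoot

namespace Comp

/-- The inner elements. -/
def inn (H : Subgroup C) (T : Sylow 2 C) (v : C) (Q : Subgroup C) : Subgroup C := Q ⊔ T0 H T v

namespace Five

variable (h : TwistC H T u) (h5 : FiveAt H u) (F : Five H T u v Q)
include h h5 F

theorem mem_inn {x : C} (hx : x ∈ inn H T v Q) : ∃ q ∈ Q, ∃ t ∈ T0 H T v, x = q * t := by
  have hle : T0 H T v ≤ normalizer (Q : Set C) := fun t ht => mem_normalizer_fintype fun q hq => by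
    rw [← (F.comm q hq t ht).eq, mul_inv_cancel_right]; exact hq
  have h1 : x ∈ (Q : Set C) * (T0 H T v : Set C) := by
    rw [← Subgroup.coe_mul_of_right_le_normalizer_left Q (T0 H T v) hle]; exact hx
  obtain ⟨q, hq, t, ht, rfl⟩ := h1
  exact ⟨q, hq, t, ht, rfl⟩

theorem inn_le : inn H T v Q ≤ (T : Subgroup C) ⊓ st H v :=
  sup_le F.leT (le_inf inf_le_left (inf_le_right.trans (ker_le_st v)))

theorem invol_mem_inn {y : C} (hy : y ∈ (T : Subgroup C) ⊓ st H v) (hy2 : orderOf y = 2) : y ∈ inn H T v Q := by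
  by_cases hyu : y = u
  · exact mem_sup_left (hyu ▸ F.umem)
  · obtain ⟨q, hq, c, hc, -, -, rfl⟩ := F.invol y hy hy2 hyu
    exact mul_mem (mem_sup_left hq) (mem_sup_right hc)

theorem v_mem : v ∈ T0 H T v := ⟨F.vT, root_mem_ker F.cov.mem⟩

theorem inf_T0 {q : C} (hq : q ∈ Q) (hqT : q ∈ T0 H T v) : q * q ≠ u := fun e => by
  obtain ⟨r, hr, -, hrq⟩ := F.anti q hq e
  rw [(F.comm r hr q hqT).eq] at hrq
  exact ne_one_of_orderOf_two h.two (mul_eq_left.1 hrq.symm)

theorem root_mem {x : C} (hx : x ∈ inn H T v Q) (hxx : x * x = u) : x ∈ Q ∨ x ∈ T0 H T v := by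
  obtain ⟨q, hq, t, ht, rfl⟩ := mem_inn h h5 F hx
  rw [show q * t * (q * t) = q * (t * q) * t by group, ← (F.comm q hq t ht).eq,
    show q * (q * t) * t = q * q * (t * t) by group] at hxx
  rcases F.sq q hq with e | e
  · refine Or.inr (mul_mem ?_ ht)
    rcases F.uniq q hq e with rfl | rfl
    exacts [one_mem _, u_mem_T0 h]
  · refine Or.inl (mul_mem hq ?_)
    rw [e] at hxx
    rcases ker_uniq h h5 F.cov ht.2 (mul_eq_left.1 hxx) with rfl | rfl
    exacts [one_mem _, F.umem]

theorem quatRoot : QuatRoot u Q v := by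
  refine ⟨F.uniq, F.sq, F.anti, ?_, F.cov.sq, fun q hq => F.comm q hq v (v_mem h h5 F)⟩
  by_contra hno
  push Not at hno
  have hle : (Q : Set C) ⊆ ({1, u} : Set C) := fun q hq => by
    rcases F.uniq q hq ((F.sq q hq).resolve_right (hno q hq)) with rfl | rfl <;> simp
  have h1 := (Set.ncard_le_ncard hle (Set.toFinite _)).trans (Set.ncard_insert_le _ _)
  rw [← Nat.card_coe_set_eq, Set.ncard_singleton] at h1
  have h2 := F.card
  simp only [SetLike.coe_sort_coe] at h1
  omega

/-- The inner elements are normalised by `T` in the stabiliser. -/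
theorem inn_normal {x y : C} (hx : x ∈ (T : Subgroup C) ⊓ st H v) (hy : y ∈ inn H T v Q) :
    x * y * x⁻¹ ∈ inn H T v Q := by
  have hP : ∀ {a b : C}, a ∈ (T : Subgroup C) ⊓ st H v → b ∈ (T : Subgroup C) ⊓ st H v →
      a * b ∈ (T : Subgroup C) ⊓ st H v := fun ha hb => Subgroup.mul_mem _ ha hb
  have hT0 : ∀ t ∈ T0 H T v, x * t * x⁻¹ ∈ T0 H T v := fun t ht =>
    ⟨(T : Subgroup C).mul_mem ((T : Subgroup C).mul_mem hx.1 ht.1) ((T : Subgroup C).inv_mem hx.1), ker_normal hx.2 ht.2⟩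
  obtain ⟨q, hq, t, ht, rfl⟩ := mem_inn h h5 F hy
  rw [show x * (q * t) * x⁻¹ = x * q * x⁻¹ * (x * t * x⁻¹) by group]
  refine mul_mem ?_ (mem_sup_right (hT0 t ht))
  rcases F.sq q hq with e | e
  · rcases F.uniq q hq e with rfl | rfl
    · simp
    · rw [(h.cent x).eq, mul_inv_cancel_right]; exact mem_sup_left F.umem
  · obtain ⟨h1, -⟩ := (quatRoot h h5 F).mul_root h hq e
    rw [show x * q * x⁻¹ = x * (q * v) * x⁻¹ * (x * v * x⁻¹)⁻¹ by group]
    refine mul_mem (invol_mem_inn h h5 F (hP (hP hx ?_) (Subgroup.inv_mem _ hx)) (by rw [orderOf_conj_eq, h1]))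
      (inv_mem (mem_sup_right (hT0 v (v_mem h h5 F))))
    exact hP (F.leT hq) ⟨F.vT, commute_mem_st (Commute.refl v)⟩

/-- Of two elements that are not inner the product is inner. -/
theorem mul_mem_inn {x y : C} (hx : x ∈ (T : Subgroup C) ⊓ st H v) (hy : y ∈ (T : Subgroup C) ⊓ st H v) :
    x ∈ inn H T v Q ∨ y ∈ inn H T v Q ∨ x * y ∈ inn H T v Q := by
  classical
  haveI : Fact (Nat.Prime 2) := ⟨Nat.prime_two⟩
  haveI : Fintype ↥(comp H v) := Fintype.ofFinite _
  have hcard : Fintype.card ↥(comp H v) = 5 := by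
    rw [← Nat.card_eq_fintype_card, Nat.card_coe_set_eq]; exact h5 v F.cov
  obtain ⟨p, hp, hpne⟩ := comp_two_points h5 F.cov
  set o := base H v with ho
  set a : ↥(comp H v) := ⟨p, hp⟩ with ha
  have hao : a ≠ o := fun e => hpne (congrArg Subtype.val e)
  set P := (T : Subgroup C) ⊓ st H v with hP
  set f := (perm H v).comp (Subgroup.inclusion (inf_le_right : P ≤ st H v)) with hf
  have hfo : ∀ z : ↥P, f z o = o := fun z => perm_base.2 (h.le z.2.1)
  -- every element agrees at `a` with an inner one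
  have hadj : ∀ z : ↥P, ∃ q : ↥P, (q : C) ∈ inn H T v Q ∧ f q a = f z a := by
    intro z
    obtain ⟨q₁, hq₁, hq₁q⟩ := (quatRoot h h5 F).root
    obtain ⟨q₂, hq₂, hq₂q, hanti⟩ := F.anti q₁ hq₁ hq₁q
    obtain ⟨h3, -, -⟩ := QuatRoot.mul_anti h hq₁q hq₂q hanti
    have hone : ∀ {q : C} (hq : q ∈ Q), q * q = u → Core2.Five.OneFix (f ⟨q, F.leT hq⟩) (base H v) := by
      intro q hq hqq
      obtain ⟨hy2, hyu⟩ := (quatRoot h h5 F).mul_root h hq hqq
      have hqv : q * v ∈ st H v := mul_mem (F.leT hq).2 (commute_mem_st (Commute.refl v))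
      have h1 := h.oneFix (v := v) (y := ⟨q * v, hqv⟩) hy2 hyu (H.mul_mem (h.le (F.leT hq).1) F.cov.mem)
      have e : perm H v ⟨q * v, hqv⟩ = f ⟨q, F.leT hq⟩ := by
        refine (perm_eq_iff.2 ?_).symm
        show q⁻¹ * (q * v) ∈ ker H v
        rw [inv_mul_cancel_left]
        exact root_mem_ker F.cov.mem
      exact e ▸ h1
    have hq₁' := hone hq₁ hq₁q
    have hq₂' := hone hq₂ hq₂q
    have hq₃' := hone (mul_mem hq₁ hq₂) h3
    have hmul : f ⟨q₁ * q₂, F.leT (mul_mem hq₁ hq₂)⟩ = f ⟨q₁, F.leT hq₁⟩ * f ⟨q₂, F.leT hq₂⟩ := by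
      rw [← map_mul]; rfl
    rw [hmul] at hq₃'
    have hne : f ⟨q₁, F.leT hq₁⟩ ≠ f ⟨q₂, F.leT hq₂⟩ := fun e => by
      have h1 : f ⟨q₁, F.leT hq₁⟩ * f ⟨q₂, F.leT hq₂⟩ = 1 := by
        rw [← e]; exact Equiv.ext fun z => hq₁'.sq z
      rw [h1] at hq₃'
      exact one_ne h5 F.cov hq₃' rfl
    have h0 : ∀ {w : Equiv.Perm ↥(comp H v)}, Core2.Five.OneFix w (base H v) → a ≠ w a ∧ o ≠ w a := fun {w} hw =>
      ⟨fun e => hao (hw.uniq _ e.symm), fun e => hao (by rw [← hw.sq a, ← e, hw.fix])⟩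
    have h12 : f ⟨q₂, F.leT hq₂⟩ a ≠ f ⟨q₁, F.leT hq₁⟩ a := fun e => hne (hq₁'.ext_at hcard hq₂' hao e.symm)
    have h31 : (f ⟨q₁, F.leT hq₁⟩ * f ⟨q₂, F.leT hq₂⟩) a ≠ f ⟨q₁, F.leT hq₁⟩ a := fun e =>
      (h0 hq₂').1 ((f ⟨q₁, F.leT hq₁⟩).injective e).symm
    have h32 : (f ⟨q₁, F.leT hq₁⟩ * f ⟨q₂, F.leT hq₂⟩) a ≠ f ⟨q₂, F.leT hq₂⟩ a := fun e =>
      (h0 hq₂').2 (hq₁'.uniq (f ⟨q₂, F.leT hq₂⟩ a) e).symm
    rcases Core2.Five.cover_of_card hcard (Ne.symm hao) (h0 hq₁').2 (h0 hq₂').2 (h0 hq₃').2 (h0 hq₁').1 (h0 hq₂').1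
      (h0 hq₃').1 h12.symm h31.symm h32.symm (f z a) with e | e | e | e | e
    · exact absurd ((f z).injective (e.trans (hfo z).symm)) hao
    · exact ⟨1, one_mem _, by rw [map_one, e]; rfl⟩
    · exact ⟨_, mem_sup_left hq₁, e.symm⟩
    · exact ⟨_, mem_sup_left hq₂, e.symm⟩
    · exact ⟨⟨q₁ * q₂, F.leT (mul_mem hq₁ hq₂)⟩, mem_sup_left (mul_mem hq₁ hq₂), by rw [hmul]; exact e.symm⟩
  -- the elements fixing two points
  set X := (MulAction.stabilizer (Equiv.Perm ↥(comp H v)) a).comap f with hX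
  have hXmem : ∀ {z : ↥P}, z ∈ X ↔ f z a = a := Iff.rfl
  have hXp : IsPGroup 2 ↥(X.map f) := IsPGroup.map ((T.isPGroup'.to_le inf_le_left).to_subgroup X) f
  have hsmall : Nat.card ↥(X.map f) ≤ 2 := by
    set N : Subgroup (Equiv.Perm ↥(comp H v)) :=
      MulAction.stabilizer (Equiv.Perm ↥(comp H v)) a ⊓ MulAction.stabilizer (Equiv.Perm ↥(comp H v)) o with hN
    have hle : X.map f ≤ N := by
      rintro _ ⟨z, hz, rfl⟩
      exact ⟨hz, hfo z⟩
    let res : ↥N →* Equiv.Perm {z : ↥(comp H v) // z ≠ o ∧ z ≠ a} :=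
      { toFun := fun w => (w : Equiv.Perm ↥(comp H v)).subtypePerm fun z => by
          have h1 : (w : Equiv.Perm ↥(comp H v)) o = o := w.2.2
          have h2 : (w : Equiv.Perm ↥(comp H v)) a = a := w.2.1
          constructor
          · rintro ⟨e1, e2⟩
            exact ⟨fun e => e1 (by rw [e, h1]), fun e => e2 (by rw [e, h2])⟩
          · rintro ⟨e1, e2⟩
            exact ⟨fun e => e1 ((Equiv.injective _) (e.trans h1.symm)),
              fun e => e2 ((Equiv.injective _) (e.trans h2.symm))⟩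
        map_one' := Equiv.ext fun z => rfl
        map_mul' := fun w w' => Equiv.ext fun z => rfl }
    have hres : Function.Injective res := fun w w' e => Subtype.ext (Equiv.ext fun z => by
      by_cases h1 : z = o
      · subst h1
        exact (show (w : Equiv.Perm ↥(comp H v)) o = o from w.2.2).trans (show _ = o from w'.2.2).symm
      by_cases h2 : z = a
      · subst h2
        exact (show (w : Equiv.Perm ↥(comp H v)) a = a from w.2.1).trans (show _ = a from w'.2.1).symm
      exact congrArg Subtype.val (Equiv.ext_iff.1 e ⟨z, h1, h2⟩))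
    have h3 : Fintype.card {z : ↥(comp H v) // z ≠ o ∧ z ≠ a} = 3 := by
      rw [Fintype.card_subtype, show (Finset.univ.filter fun z : ↥(comp H v) => z ≠ o ∧ z ≠ a) =
          (Finset.univ.erase o).erase a by ext z; simp [and_comm],
        Finset.card_erase_of_mem (by simp [hao]), Finset.card_erase_of_mem (Finset.mem_univ o), Finset.card_univ, hcard]
    have hd : Nat.card ↥(X.map f) ∣ 6 := by
      refine (card_dvd_of_le hle).trans ?_
      have h1 := Subgroup.card_dvd_of_injective res hres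
      rwa [Nat.card_perm, Nat.card_eq_fintype_card (α := {z : ↥(comp H v) // z ≠ o ∧ z ≠ a}), h3] at h1
    obtain ⟨k, hk⟩ := hXp.exists_card_eq
    rw [hk] at hd ⊢
    rcases k with _ | _ | k
    · norm_num
    · norm_num
    · exfalso
      have h4 : 4 ∣ 6 := (dvd_trans (⟨2 ^ k, by rw [pow_add]; ring⟩ : 4 ∣ 2 ^ (k + 1 + 1)) hd)
      norm_num at h4
  have hkerinn : ∀ {z : ↥P}, f z = 1 → (z : C) ∈ inn H T v Q := fun {z} hz =>
    mem_sup_right ⟨z.2.1, perm_eq_one.1 hz⟩
  obtain ⟨q, hq, hqa⟩ := hadj ⟨x, hx⟩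
  obtain ⟨r, hr, hra⟩ := hadj ⟨y, hy⟩
  have hfix : ∀ {s z : ↥P}, f s a = f z a → f (s⁻¹ * z) a = a := fun {s z} e => by
    rw [map_mul, Equiv.Perm.mul_apply, ← e, map_inv]
    exact (f s).symm_apply_apply a
  set x' : ↥P := q⁻¹ * ⟨x, hx⟩ with hx'
  set y' : ↥P := r⁻¹ * ⟨y, hy⟩ with hy'
  have hxx' : (x : C) = q * x' := by simp [hx']
  have hyy' : (y : C) = r * y' := by simp [hy']
  by_cases h1 : f x' = 1
  · exact Or.inl (hxx' ▸ mul_mem hq (hkerinn h1))
  by_cases h2 : f y' = 1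
  · exact Or.inr (Or.inl (hyy' ▸ mul_mem hr (hkerinn h2)))
  refine Or.inr (Or.inr ?_)
  have h3 : f (x' * y') = 1 := by
    by_contra h3
    have hsub : ({1, f x', f (x' * y')} : Finset (Equiv.Perm ↥(comp H v))) ⊆
        (Set.toFinite (X.map f : Set (Equiv.Perm ↥(comp H v)))).toFinset := fun w hw => by
      rw [Set.Finite.mem_toFinset]
      simp only [Finset.mem_insert, Finset.mem_singleton] at hw
      rcases hw with rfl | rfl | rfl
      · exact one_mem _
      · exact mem_map_of_mem f (hXmem.2 (hfix hqa))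
      · exact mem_map_of_mem f (X.mul_mem (hXmem.2 (hfix hqa)) (hXmem.2 (hfix hra)))
    have h4 := Finset.card_le_card hsub
    rw [← Set.ncard_eq_toFinset_card _, ← Nat.card_coe_set_eq] at h4
    have h5' : ({1, f x', f (x' * y')} : Finset (Equiv.Perm ↥(comp H v))).card = 3 := by
      have h6 : f (x' * y') ≠ f x' := fun e => h2 (by rw [map_mul] at e; exact mul_eq_left.1 e)
      rw [Finset.card_insert_of_notMem (by
          simp only [Finset.mem_insert, Finset.mem_singleton]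
          exact not_or.2 ⟨Ne.symm h1, Ne.symm h3⟩),
        Finset.card_pair h6.symm]
    simp only [SetLike.coe_sort_coe] at h4
    omega
  have hsplit : x * y = (q : C) * ((x' : C) * r * (x' : C)⁻¹) * (x' * y' : ↥P) := by
    rw [Subgroup.coe_mul]
    show x * y = _
    simp only [hx', hy', Subgroup.coe_mul, Subgroup.coe_inv]
    group
  rw [hsplit]
  exact mul_mem (mul_mem hq (inn_normal h h5 F x'.2 hr)) (hkerinn h3)

/-- A quaternion group with a root inside the stabiliser. -/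
theorem quat_cases {R : Subgroup C} {w : C} (p : QuatRoot u R w) (hR : R ≤ (T : Subgroup C) ⊓ st H v)
    (hw : w ∈ (T : Subgroup C) ⊓ st H v) :
    (R ≤ Q ∧ w ∈ T0 H T v ∧ comp H w = comp H v) ∨ (R ≤ T0 H T v ∧ w ∈ Q) := by
  classical
  have hu1 := ne_one_of_orderOf_two h.two
  have huI : u ∈ inn H T v Q := mem_sup_left F.umem
  have hqv : ∀ q ∈ R, q * q = u → q * w ∈ inn H T v Q := fun q hq hqq =>
    invol_mem_inn h h5 F (Subgroup.mul_mem _ (hR hq) hw) (p.mul_root h hq hqq).1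
  obtain ⟨q₁, hq₁, hq₁q⟩ := p.root
  obtain ⟨q₂, hq₂, hq₂q, hanti⟩ := p.anti q₁ hq₁ hq₁q
  obtain ⟨h3, -, -⟩ := QuatRoot.mul_anti h hq₁q hq₂q hanti
  have hk : q₁ * q₂ ∈ inn H T v Q := by
    have h1 := mul_mem (mul_mem (hqv q₁ hq₁ hq₁q) (hqv q₂ hq₂ hq₂q)) huI
    rwa [show q₁ * w * (q₂ * w) * u = q₁ * (w * q₂) * w * u by group, ← (p.comm q₂ hq₂).eq,
      show q₁ * (q₂ * w) * w * u = q₁ * q₂ * (w * w) * u by group, p.vv, mul_assoc, h.uu, mul_one] at h1
  have hwI : w ∈ inn H T v Q := by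
    have h1 := mul_mem (inv_mem hk) (hqv _ (mul_mem hq₁ hq₂) h3)
    rwa [inv_mul_cancel_left] at h1
  have hroots : ∀ q ∈ R, q * q = u → q ∈ Q ∨ q ∈ T0 H T v := fun q hq hqq => by
    refine root_mem h h5 F ?_ hqq
    have h1 := mul_mem (hqv q hq hqq) (inv_mem hwI)
    rwa [mul_inv_cancel_right] at h1
  have hw' := root_mem h h5 F hwI p.vv
  have hnc : ∀ {q r : C}, r * q = q * r * u → ¬ Commute r q := fun {q r} e hc => by
    rw [hc.eq] at e
    exact hu1 (mul_eq_left.1 e.symm)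
  -- all roots on one side
  have hside : ∀ q ∈ R, q * q = u → (q ∈ Q ↔ q₁ ∈ Q) := by
    have hstep : ∀ q ∈ R, ∀ r ∈ R, q * q = u → r * r = u → r * q = q * r * u → (q ∈ Q ↔ r ∈ Q) := by
      intro q hq r hr hqq hrr e
      constructor
      · intro hqQ
        exact (hroots r hr hrr).resolve_right fun hrT => hnc e (F.comm q hqQ r hrT).symm
      · intro hrQ
        exact (hroots q hq hqq).resolve_right fun hqT => hnc e (F.comm r hrQ q hqT)
    have h12 := hstep q₁ hq₁ q₂ hq₂ hq₁q hq₂q hanti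
    intro q hq hqq
    by_cases hc1 : Commute q q₁
    · have h1 : q * q₁ * (q * q₁) = 1 := by
        rw [show q * q₁ * (q * q₁) = q * (q₁ * q) * q₁ by group, ← hc1.eq,
          show q * (q * q₁) * q₁ = q * q * (q₁ * q₁) by group, hqq, hq₁q, h.uu]
      have hQu : ∀ {x : C}, x ∈ Q → x * u ∈ Q := fun hx => mul_mem hx F.umem
      rcases p.uniq _ (mul_mem hq hq₁) h1 with e | e
      · rw [mul_eq_one_iff_eq_inv.1 e, inv_mem_iff]
      · rw [eq_mul_inv_of_mul_eq e]
        exact ⟨fun hx => by simpa using inv_mem (mul_mem (inv_mem F.umem) hx),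
          fun hx => mul_mem F.umem (inv_mem hx)⟩
    · rcases hroots q hq hqq with hqQ | hqT <;> rcases hroots q₁ hq₁ hq₁q with h1Q | h1T
      · exact iff_of_true hqQ h1Q
      · exact absurd (F.comm q hqQ q₁ h1T) hc1
      · exact absurd (F.comm q₁ h1Q q hqT).symm hc1
      · exact iff_of_false (fun hqQ => inf_T0 h h5 F hqQ hqT hqq) fun h1Q => inf_T0 h h5 F h1Q h1T hq₁q
  have h12 : q₂ ∈ Q ↔ q₁ ∈ Q := hside q₂ hq₂ hq₂q
  have hnon : ∀ q ∈ R, q * q ≠ u → q = 1 ∨ q = u := fun q hq hne => p.uniq q hq ((p.sq q hq).resolve_right hne)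
  by_cases h1 : q₁ ∈ Q
  · left
    have hwT : w ∈ T0 H T v := by
      refine hw'.resolve_left fun hwQ => ?_
      have hc : ∀ {x : C}, x ∈ Q → x * x = u → Commute x w → w = x ∨ w = x * u := fun {x} hx hxx hxw => by
        have h2 : x * w * (x * w) = 1 := by
          rw [show x * w * (x * w) = x * (w * x) * w by group, ← hxw.eq,
            show x * (x * w) * w = x * x * (w * w) by group, hxx, p.vv, h.uu]
        rcases F.uniq _ (mul_mem hx hwQ) h2 with e | e
        · right
          rw [eq_inv_of_mul_eq_one_right e]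
          exact inv_eq_of_mul_eq_one_right (by rw [← mul_assoc, hxx, h.uu])
        · left
          exact mul_left_cancel (e.trans hxx.symm)
      have hq₂w := p.comm q₂ hq₂
      rcases hc h1 hq₁q (p.comm q₁ hq₁) with e | e
      · exact hnc hanti (e ▸ hq₂w)
      · rw [e] at hq₂w
        have h2 := hq₂w.mul_right (h.cent q₂)
        rw [mul_assoc, h.uu, mul_one] at h2
        exact hnc hanti h2
    refine ⟨fun q hq => ?_, hwT, (F.cover0 w hwT p.vv).2⟩
    by_cases hqq : q * q = u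
    · exact (hside q hq hqq).2 h1
    · rcases hnon q hq hqq with rfl | rfl
      exacts [one_mem _, F.umem]
  · right
    have hT0 : ∀ q ∈ R, q ∈ T0 H T v := fun q hq => by
      by_cases hqq : q * q = u
      · exact (hroots q hq hqq).resolve_left fun hqQ => h1 ((hside q hq hqq).1 hqQ)
      · rcases hnon q hq hqq with rfl | rfl
        exacts [one_mem _, u_mem_T0 h]
    refine ⟨hT0, hw'.resolve_right fun hwT => ?_⟩
    obtain ⟨ho, hne⟩ := p.mul_root h hq₁ hq₁q
    rcases ker_uniq h h5 F.cov (mul_mem (hT0 q₁ hq₁).2 hwT.2) (mul_self_of_orderOf_two ho) with e | e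
    · exact ne_one_of_orderOf_two ho e
    · exact hne e

end Five

end Comp

end Cfsg.Agent.Invol.Core2
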