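import Cfsg.Agent.Lib.Invol.Core2.TwistPerm

/-!
# Permutations of five points: a transitive normal subgroup contains the four group

If a group contains two commuting involutions with one common fixed point and a normal subgroup contains an element
of order five, then the normal subgroup contains the two involutions.
-/

set_option autoImplicit false

namespace Cfsg.Agent.Invol.Core2.Five

open Equiv

variable {X : Type*} [Fintype X] [DecidableEq X] {o : X}

/-- The powers of a nontrivial permutation whose fifth power is trivial move any point to any point. -/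
theorem transitive_of_five (h5 : Fintype.card X = 5) {σ : Perm X} (hσ : σ ^ 5 = 1) (hσ1 : σ ≠ 1) (x y : X) :
    ∃ n : ℕ, (σ ^ n) x = y := by
  classical
  have hfix : ∀ {d : ℕ} {z : X}, 0 < d → d < 5 → (σ ^ d) z = z → σ z = z := by
    intro d z hd hd5 hz
    have hk : ∀ k : ℕ, (σ ^ (d * k)) z = z := fun k => by
      induction k with
      | zero => simp
      | succ k ih => rw [Nat.mul_succ, pow_add, Perm.mul_apply, hz, ih]
    have h5' : ∀ k : ℕ, σ ^ (5 * k + 1) = σ := fun k => by rw [pow_succ, pow_mul, hσ, one_pow, one_mul]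
    interval_cases d
    · simpa using hz
    · rw [← h5' 1]; exact hk 3
    · rw [← h5' 1]; exact hk 2
    · rw [← h5' 3]; exact hk 4
  obtain ⟨z, hz⟩ : ∃ z, σ z ≠ z := by
    by_contra h
    push Not at h
    exact hσ1 (Equiv.ext h)
  have hcov : ∀ w, ∃ n : ℕ, (σ ^ n) z = w := by
    have hinj : Function.Injective fun i : Fin 5 => (σ ^ (i : ℕ)) z := by
      intro i k e
      simp only at e
      by_contra hne
      rcases Nat.lt_or_gt_of_ne (fun h => hne (Fin.ext h)) with h | h
      · refine hz (hfix (d := (k : ℕ) - i) (by omega) (by omega) ((σ ^ (i : ℕ)).injective ?_))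
        rw [← Perm.mul_apply, ← pow_add, Nat.add_sub_cancel' h.le, ← e]
      · refine hz (hfix (d := (i : ℕ) - k) (by omega) (by omega) ((σ ^ (k : ℕ)).injective ?_))
        rw [← Perm.mul_apply, ← pow_add, Nat.add_sub_cancel' h.le, e]
    intro w
    obtain ⟨i, hi⟩ := ((Fintype.bijective_iff_injective_and_card _).2 ⟨hinj, by simp [h5]⟩).2 w
    exact ⟨i, hi⟩
  obtain ⟨m, hm⟩ := hcov x
  obtain ⟨n, hn⟩ := hcov y
  refine ⟨n + 4 * m, ?_⟩
  rw [← hm, ← Perm.mul_apply, ← pow_add, show n + 4 * m + m = n + 5 * m by ring, pow_add, pow_mul, hσ, one_pow,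
    mul_one, hn]

theorem OneFix.conj {b g : Perm X} (hb : OneFix b o) (hg : g o = o) : OneFix (g * b * g⁻¹) o := by
  have hg' : g⁻¹ o = o := Perm.inv_eq_iff_eq.2 hg.symm
  refine ⟨fun x => by simp [hb.sq], by simp only [Perm.mul_apply, hg', hb.fix, hg], fun x hx => ?_⟩
  have h1 : b (g⁻¹ x) = g⁻¹ x := by
    have := congrArg (fun y => g⁻¹ y) hx
    simpa [Perm.mul_apply] using this
  have h2 := hb.uniq _ h1
  exact (Perm.inv_eq_iff_eq.1 h2).trans hg

/-- A normal subgroup with an element of order five contains the four group. -/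
theorem four_le_normal (h5 : Fintype.card X = 5) {Y N : Subgroup (Perm X)} (hNY : N ≤ Y)
    (hn : ∀ y ∈ Y, ∀ x ∈ N, y * x * y⁻¹ ∈ N) {σ : Perm X} (hσN : σ ∈ N) (hσ : σ ^ 5 = 1) (hσ1 : σ ≠ 1)
    {b c : Perm X} (hbY : b ∈ Y) (hcY : c ∈ Y) (hb : OneFix b o) (hc : OneFix c o) (hbc : OneFix (b * c) o)
    (hne : b ≠ c) (hcomm : b * c = c * b) : b ∈ N ∧ c ∈ N := by
  classical
  have hsq : ∀ {w : Perm X}, OneFix w o → w * w = 1 := fun {w} hw => Equiv.ext fun x => by simp [hw.sq]
  have hinv : ∀ {w : Perm X}, OneFix w o → w⁻¹ = w := fun {w} hw => inv_eq_of_mul_eq_one_right (hsq hw)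
  by_cases hreg : ∀ x ∈ N, x o = o → x = 1
  · -- the regular case is impossible
    exfalso
    have hpow : ∀ x ∈ N, ∃ n : ℕ, x = σ ^ n := fun x hx => by
      obtain ⟨n, hn'⟩ := transitive_of_five h5 hσ hσ1 o (x o)
      refine ⟨n, ?_⟩
      have h1 := hreg ((σ ^ n)⁻¹ * x) (mul_mem (inv_mem (pow_mem hσN n)) hx) (by
        rw [Perm.mul_apply, ← hn']; exact (σ ^ n).symm_apply_apply o)
      exact (inv_mul_eq_one.1 h1).symm
    have hcm : ∀ x ∈ N, ∀ y ∈ N, x * y = y * x := fun x hx y hy => by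
      obtain ⟨i, rfl⟩ := hpow x hx
      obtain ⟨k, rfl⟩ := hpow y hy
      rw [← pow_add, ← pow_add, add_comm]
    have key : ∀ w ∈ Y, OneFix w o → w * σ * w⁻¹ = σ⁻¹ := fun w hwY hw => by
      set τ := w * σ * w⁻¹ with hτ
      have hτN : τ ∈ N := hn w hwY σ hσN
      have hfix : w * (σ * τ) = σ * τ * w := by
        calc w * (σ * τ) = w * σ * w⁻¹ * (w * τ * w⁻¹) * w := by group
          _ = τ * σ * w := by
            rw [hτ, show w * (w * σ * w⁻¹) * w⁻¹ = w * w * σ * (w * w)⁻¹ by group, hsq hw]; group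
          _ = σ * τ * w := by rw [hcm τ hτN σ hσN]
      have h1 : (σ * τ) o = o := hw.uniq _ (by
        have := congrArg (fun p : Perm X => p o) hfix
        simp only [Perm.mul_apply, hw.fix] at this
        exact this)
      exact eq_inv_of_mul_eq_one_right (hreg _ (mul_mem hσN hτN) h1)
    have h1 : b * c * σ * (b * c)⁻¹ = σ := by
      calc b * c * σ * (b * c)⁻¹ = b * (c * σ * c⁻¹) * b⁻¹ := by group
        _ = (b * σ * b⁻¹)⁻¹ := by rw [key c hcY hc]; group
        _ = σ := by rw [key b hbY hb, inv_inv]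
    rw [key _ (mul_mem hbY hcY) hbc] at h1
    refine hσ1 ?_
    have h2 : σ * σ = 1 := inv_eq_iff_mul_eq_one.1 h1
    calc σ = σ * (σ * σ) * (σ * σ) := by rw [h2, mul_one, mul_one]
      _ = σ ^ 5 := by simp [pow_succ, mul_assoc]
      _ = 1 := hσ
  push Not at hreg
  obtain ⟨x, hxN, hxo, hx1⟩ := hreg
  have hfour : ∀ {w : Perm X}, OneFix w o → w = b ∨ w = c ∨ w = b * c := fun hw => hw.mem_four h5 hb hc hbc hne
  have hbcb : b * c * b = c := by rw [hcomm, mul_assoc, hsq hb, mul_one]
  have hbcc : b * c * c = b := by rw [mul_assoc, hsq hc, mul_one]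
  -- one of the three lies in the normal subgroup
  obtain ⟨w, hwN, hw⟩ : ∃ w ∈ N, OneFix w o := by
    by_cases hxb : x * b = b * x
    · by_cases hxc : x * c = c * x
      · obtain ⟨a, ha⟩ := exists_avoid h5 {o} (by rw [Finset.card_singleton]; norm_num)
        simp only [Finset.mem_singleton] at ha
        have h0 : ∀ {w : Perm X}, OneFix w o → a ≠ w a ∧ o ≠ w a := fun {w} hw =>
          ⟨fun e => ha (hw.uniq _ e.symm), fun e => ha (by rw [← hw.sq a, ← e, hw.fix])⟩
        have hca : c a ≠ b a := fun e => hne (hb.ext_at h5 hc ha e.symm)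
        have h1 : (b * c) a ≠ b a := fun e => (h0 hc).1 (b.injective e).symm
        have h2 : (b * c) a ≠ c a := fun e => (h0 hc).2 (hb.uniq (c a) e).symm
        have hcov := cover_of_card h5 (Ne.symm ha) (h0 hb).2 (h0 hc).2 (h0 hbc).2 (h0 hb).1 (h0 hc).1 (h0 hbc).1
          hca.symm h1.symm h2.symm
        have hex : ∀ v : Perm X, v * b = b * v → v * c = c * v → v o = o → x a = v a → x = v := by
          intro v hvb hvc hvo he
          have hb' : x (b a) = v (b a) := by
            rw [← Perm.mul_apply, ← Perm.mul_apply, hxb, hvb, Perm.mul_apply, Perm.mul_apply, he]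
          have hc' : x (c a) = v (c a) := by
            rw [← Perm.mul_apply, ← Perm.mul_apply, hxc, hvc, Perm.mul_apply, Perm.mul_apply, he]
          ext y
          rcases hcov y with e | e | e | e | e <;> subst e
          · rw [hxo, hvo]
          · exact he
          · exact hb'
          · exact hc'
          · rw [Perm.mul_apply, ← Perm.mul_apply x b, ← Perm.mul_apply v b, hxb, hvb, Perm.mul_apply,
              Perm.mul_apply, hc']
        rcases hcov (x a) with e | e | e | e | e
        · exact absurd (x.injective (e.trans hxo.symm)) ha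
        · exact absurd (hex 1 (by simp) (by simp) rfl (by simpa using e)) hx1
        · exact ⟨b, hex b rfl hcomm hb.fix e ▸ hxN, hb⟩
        · exact ⟨c, hex c hcomm.symm rfl hc.fix e ▸ hxN, hc⟩
        · exact ⟨b * c, hex (b * c) (by rw [hbcb, ← mul_assoc, hsq hb, one_mul])
            (by rw [hbcc, ← mul_assoc, ← hcomm, hbcc]) hbc.fix e ▸ hxN, hbc⟩
      · refine ⟨x * (c * x⁻¹ * c⁻¹), mul_mem hxN (hn c hcY _ (inv_mem hxN)), ?_⟩
        rw [← mul_assoc, ← mul_assoc, hinv hc]
        rcases hfour (hc.conj hxo) with e | e | e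
        · rw [e]; exact hbc
        · exact absurd (mul_inv_eq_iff_eq_mul.1 e) hxc
        · rw [e, hbcc]; exact hb
    · refine ⟨x * (b * x⁻¹ * b⁻¹), mul_mem hxN (hn b hbY _ (inv_mem hxN)), ?_⟩
      rw [← mul_assoc, ← mul_assoc, hinv hb]
      rcases hfour (hb.conj hxo) with e | e | e
      · exact absurd (mul_inv_eq_iff_eq_mul.1 e) hxb
      · rw [e, ← hcomm]; exact hbc
      · rw [e, hbcb]; exact hc
  -- an element of order three gives a second one
  obtain ⟨g, hgY, hgo, hg3, hg1⟩ := exists_three h5 Y (fun y => by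
    obtain ⟨n, hn'⟩ := transitive_of_five h5 hσ hσ1 o y
    exact ⟨σ ^ n, hNY (pow_mem hσN n), hn'⟩) hbY hcY hb hc hbc hne
  have hgw : g * w * g⁻¹ ≠ w := fun e => hg1 (by
    refine eq_one_of_odd h5 hw hgo ?_ (Or.inl ?_)
    · rw [orderOf_eq_prime (p := 3) (by rw [pow_succ, pow_two, hg3]) hg1]; exact ⟨1, rfl⟩
    · rw [mul_inv_eq_iff_eq_mul] at e ⊢; exact e.symm)
  have hgwN : g * w * g⁻¹ ∈ N := hn g hgY w hwN
  have hmem : ∀ {v v' : Perm X}, v ∈ N → v' ∈ N → OneFix v o → OneFix v' o → v ≠ v' → b ∈ N ∧ c ∈ N := by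
    intro v v' hv hv' h h' hd
    rcases hfour h with rfl | rfl | rfl <;> rcases hfour h' with rfl | rfl | rfl
    · exact absurd rfl hd
    · exact ⟨hv, hv'⟩
    · exact ⟨hv, by have := N.mul_mem hv' hv; rwa [hbcb] at this⟩
    · exact ⟨hv', hv⟩
    · exact absurd rfl hd
    · exact ⟨by have := N.mul_mem hv' hv; rwa [hbcc] at this, hv⟩
    · exact ⟨hv', by have := N.mul_mem hv hv'; rwa [hbcb] at this⟩
    · exact ⟨by have := N.mul_mem hv hv'; rwa [hbcc] at this, hv'⟩
    · exact absurd rfl hd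
  exact hmem hgwN hwN (hw.conj hgo) hw hgw

end Cfsg.Agent.Invol.Core2.Five
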