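import Cfsg.Agent.Lib.Invol.OneInvol
import Cfsg.Agent.Lib.Fus.DihedralAut

/-!
# 2-groups with a single involution: roots, centre, automorphisms of five-power order

For the pointwise stabiliser of a five-point component: such a group is cyclic or quaternion, so an automorphism of
five-power order is trivial, a root of the involution in a noncommutative one has an anticommuting root, and the
centre of a noncommutative one is generated by the involution.
-/

set_option autoImplicit false
set_option linter.unusedSectionVars false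
set_option linter.style.haveILetI false

namespace Cfsg.Agent.Invol.Core2.RankOneTwo

open Subgroup

variable {R : Type*} [Group R] [Finite R] {u : R}

/-- The hypothesis: a 2-group in which `u` is the only involution. -/
structure OneInv (R : Type*) [Group R] (u : R) : Prop where
  pgroup : IsPGroup 2 R
  two : orderOf u = 2
  uniq : ∀ x : R, x * x = 1 → x = 1 ∨ x = u

theorem OneInv.uu (h : OneInv R u) : u * u = 1 := Invol.mul_self_of_orderOf_two h.two

theorem OneInv.central (h : OneInv R u) (x : R) : Commute u x := by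
  rcases h.uniq (x * u * x⁻¹) (by
    rw [show x * u * x⁻¹ * (x * u * x⁻¹) = x * (u * u) * x⁻¹ by group, h.uu, mul_one, mul_inv_cancel]) with e | e
  · exact absurd (conj_eq_one_iff.1 e) (Invol.ne_one_of_orderOf_two h.two)
  · exact (mul_inv_eq_iff_eq_mul.1 e).symm

theorem OneInv.shape (h : OneInv R u) : IsCyclic R ∨ ∃ a : R, 4 ∣ orderOf a ∧ (zpowers a).index = 2 ∧
    ∀ x ∉ zpowers a, x * a * x⁻¹ = a⁻¹ ∧ x * x = u := by
  rcases Cfsg.Agent.OneInvol.cyclic_or_quatShape h.pgroup (fun s t hs ht => by
    have key : ∀ {x : R}, orderOf x = 2 → x = u := fun {x} hx =>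
      (h.uniq x (Invol.mul_self_of_orderOf_two hx)).resolve_left (Invol.ne_one_of_orderOf_two hx)
    rw [key hs, key ht]) with h' | ⟨a, ha4, hidx, hinv⟩
  · exact Or.inl h'
  refine Or.inr ⟨a, ha4, hidx, fun x hx => ⟨hinv x hx, ?_⟩⟩
  obtain ⟨i, hi⟩ := mem_zpowers_iff.1 (mul_self_mem_of_index_two hidx x)
  have h1 : x * (x * x) * x⁻¹ = (x * x)⁻¹ := by rw [← hi, ← conj_zpow, hinv x hx, inv_zpow]
  rw [show x * (x * x) * x⁻¹ = x * x by group] at h1
  rcases h.uniq (x * x) (mul_eq_one_iff_eq_inv.2 h1) with e | e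
  · rcases h.uniq x e with e' | e'
    · exact absurd (e'.symm ▸ one_mem (zpowers a)) hx
    · subst e'
      refine absurd ?_ hx
      obtain ⟨m, hm⟩ := ha4
      have ho : orderOf (a ^ (2 * m)) = 2 := by
        have hpos := orderOf_pos a
        have hm0 : 0 < m := by omega
        rw [orderOf_pow' a (by omega), hm, Nat.gcd_eq_right ⟨2, by ring⟩, show 4 * m = 2 * (2 * m) by ring,
          Nat.mul_div_cancel _ (by omega)]
      rw [← (h.uniq _ (Invol.mul_self_of_orderOf_two ho)).resolve_left (Invol.ne_one_of_orderOf_two ho)]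
      exact npow_mem_zpowers a _
  · exact e

/-- An element of a noncommutative group inverted by all outer elements of the cyclic subgroup. -/
theorem OneInv.shape_of_noncomm (h : OneInv R u) (hn : ¬ ∀ x y : R, Commute x y) :
    ∃ a : R, 4 ∣ orderOf a ∧ (zpowers a).index = 2 ∧ ∀ x ∉ zpowers a, x * a * x⁻¹ = a⁻¹ ∧ x * x = u :=
  h.shape.resolve_left fun hc => hn fun x y => mul_comm_of_isCyclic x y
where
  mul_comm_of_isCyclic {R : Type _} [Group R] [IsCyclic R] (x y : R) : Commute x y := by
    obtain ⟨g, hg⟩ := IsCyclic.exists_generator (α := R)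
    obtain ⟨i, rfl⟩ := mem_zpowers_iff.1 (hg x)
    obtain ⟨j, rfl⟩ := mem_zpowers_iff.1 (hg y)
    exact Commute.zpow_zpow_self g i j

/-- The centre of a noncommutative group is generated by the involution. -/
theorem OneInv.center_le (h : OneInv R u) (hn : ¬ ∀ x y : R, Commute x y) {z : R} (hz : ∀ x, Commute z x) :
    z = 1 ∨ z = u := by
  obtain ⟨a, ha4, hidx, hinv⟩ := h.shape_of_noncomm hn
  obtain ⟨x, hx⟩ : ∃ x, x ∉ zpowers a := by
    by_contra hall
    push Not at hall
    rw [show zpowers a = ⊤ from eq_top_iff.2 fun x _ => hall x, index_top] at hidx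
    omega
  have haa : a * a ≠ 1 := fun e => by
    have h1 : orderOf a ∣ 2 := orderOf_dvd_of_pow_eq_one (by rw [pow_two, e])
    have := Nat.le_of_dvd two_pos (ha4.trans h1)
    omega
  by_cases hz' : z ∈ zpowers a
  · obtain ⟨i, rfl⟩ := mem_zpowers_iff.1 hz'
    have h1 : x * a ^ i * x⁻¹ = (a ^ i)⁻¹ := by rw [← conj_zpow, (hinv x hx).1, inv_zpow]
    rw [← (hz x).eq, mul_inv_cancel_right] at h1
    exact h.uniq _ (mul_eq_one_iff_eq_inv.2 h1)
  · have h1 := (hinv z hz').1
    rw [(hz a).eq, mul_inv_cancel_right] at h1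
    exact absurd (mul_eq_one_iff_eq_inv.2 h1) haa

/-- A root in a noncommutative group has an anticommuting root. -/
theorem OneInv.exists_anti (h : OneInv R u) (hn : ¬ ∀ x y : R, Commute x y) {c : R} (hc : c * c = u) :
    ∃ r : R, r * r = u ∧ r * c = c * r * u := by
  obtain ⟨a, ha4, hidx, hinv⟩ := h.shape_of_noncomm hn
  have hcinv : c⁻¹ = c * u := inv_eq_of_mul_eq_one_right (by rw [← mul_assoc, hc, h.uu])
  by_cases hca : c ∈ zpowers a
  · obtain ⟨x, hx⟩ : ∃ x, x ∉ zpowers a := by
      by_contra hall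
      push Not at hall
      rw [show zpowers a = ⊤ from eq_top_iff.2 fun x _ => hall x, index_top] at hidx
      omega
    obtain ⟨i, rfl⟩ := mem_zpowers_iff.1 hca
    refine ⟨x, (hinv x hx).2, ?_⟩
    have h1 : x * a ^ i * x⁻¹ = (a ^ i)⁻¹ := by rw [← conj_zpow, (hinv x hx).1, inv_zpow]
    rw [hcinv, mul_inv_eq_iff_eq_mul, mul_assoc, (h.central x).eq, ← mul_assoc] at h1
    exact h1
  · obtain ⟨m, hm⟩ := ha4
    have hm0 : 0 < m := by have := orderOf_pos a; omega
    have ho : orderOf (a ^ m * a ^ m) = 2 := by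
      rw [← pow_add, orderOf_pow' a (by omega), hm, Nat.gcd_eq_right ⟨2, by ring⟩,
        show 4 * m = 2 * (m + m) by ring, Nat.mul_div_cancel _ (by omega)]
    have hru : a ^ m * a ^ m = u :=
      (h.uniq _ (Invol.mul_self_of_orderOf_two ho)).resolve_left (Invol.ne_one_of_orderOf_two ho)
    refine ⟨a ^ m, hru, ?_⟩
    have hinv' : (a ^ m)⁻¹ = a ^ m * u := inv_eq_of_mul_eq_one_right (by rw [← mul_assoc, hru, h.uu])
    have h1 : c * a ^ m * c⁻¹ = a ^ m * u := by rw [← conj_pow, (hinv c hca).1, inv_pow, hinv']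
    rw [mul_inv_eq_iff_eq_mul] at h1
    rw [h1, mul_assoc (a ^ m * u) c u, ← (h.central c).eq]
    calc a ^ m * c = a ^ m * (u * u) * c := by rw [h.uu, mul_one]
      _ = a ^ m * u * (u * c) := by group

/-- An automorphism of five-power order is trivial. -/
theorem OneInv.aut_five (h : OneInv R u) (α : MulAut R) {j : ℕ} (hα : α ^ 5 ^ j = 1) : α = 1 := by
  haveI : Fact (Nat.Prime 2) := ⟨Nat.prime_two⟩
  have hd5 : orderOf α ∣ 5 ^ j := orderOf_dvd_of_pow_eq_one hα
  have hcop : ∀ n : ℕ, orderOf α ∣ 2 ^ n → α = 1 := fun n hn => by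
    rw [← orderOf_eq_one_iff]
    exact Nat.eq_one_of_dvd_coprimes (Nat.Coprime.pow j n (by norm_num)) hd5 hn
  rcases h.shape with hc | ⟨a, ha4, hidx, hinv⟩
  · haveI := hc
    obtain ⟨k, hk⟩ := h.pgroup.exists_card_eq
    have h1 : orderOf α ∣ Nat.totient (2 ^ k) := by
      rw [← hk, ← IsCyclic.card_mulAut]
      exact orderOf_dvd_natCard α
    rcases k with _ | k
    · exact hcop 0 (by simpa using h1)
    · rw [Nat.totient_prime_pow Nat.prime_two (Nat.succ_pos k)] at h1
      exact hcop k (by simpa using h1)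
  obtain ⟨x, hx⟩ : ∃ x, x ∉ zpowers a := by
    by_contra hall
    push Not at hall
    rw [show zpowers a = ⊤ from eq_top_iff.2 fun x _ => hall x, index_top] at hidx
    omega
  obtain ⟨k, hk⟩ := IsPGroup.iff_orderOf.1 h.pgroup a
  have hout : ∀ g : R, g ∉ zpowers a → orderOf g = 4 := fun g hg => by
    have h2 := (hinv g hg).2
    refine orderOf_eq_prime_pow (p := 2) (n := 1) ?_ ?_
    · rw [pow_one, pow_two, h2]; exact Invol.ne_one_of_orderOf_two h.two
    · rw [pow_succ, pow_one, pow_mul, pow_two, pow_two, h2, h.uu]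
  by_cases ha8 : orderOf a = 4
  · -- order eight: the automorphism fixes the pairs `{x, xu}`
    have hcard : Nat.card R = 8 := by
      rw [← (zpowers a).index_mul_card, hidx, Nat.card_zpowers, ha8]
    haveI : (zpowers u).Normal := ⟨fun g hg x => by
      obtain ⟨i, rfl⟩ := mem_zpowers_iff.1 hg
      rw [((h.central x).symm.zpow_right i).eq, mul_inv_cancel_right]
      exact hg⟩
    have hαu : α u = u := by
      rcases h.uniq (α u) (by rw [← map_mul, h.uu, map_one]) with e | e
      · exact absurd (α.injective (e.trans (map_one α).symm)) (Invol.ne_one_of_orderOf_two h.two)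
      · exact e
    have hαi : ∀ g ∈ zpowers u, α g ∈ zpowers u := fun g hg => by
      obtain ⟨i, rfl⟩ := mem_zpowers_iff.1 hg
      rw [map_zpow, hαu]
      exact hg
    let f : R ⧸ zpowers u → R ⧸ zpowers u := Quotient.lift (fun g => (α g : R ⧸ zpowers u)) fun g g' e => by
      refine QuotientGroup.eq.2 ?_
      rw [← map_inv, ← map_mul]
      exact hαi _ (QuotientGroup.leftRel_apply.1 e)
    have hf : Function.Injective f := by
      intro p q e
      obtain ⟨g, rfl⟩ := QuotientGroup.mk_surjective p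
      obtain ⟨g', rfl⟩ := QuotientGroup.mk_surjective q
      have h1 := QuotientGroup.eq.1 (show (α g : R ⧸ zpowers u) = α g' from e)
      rw [← map_inv, ← map_mul] at h1
      refine QuotientGroup.eq.2 ?_
      obtain ⟨i, hi⟩ := mem_zpowers_iff.1 h1
      rw [← hαu, ← map_zpow] at hi
      exact mem_zpowers_iff.2 ⟨i, α.injective hi⟩
    let β : Equiv.Perm (R ⧸ zpowers u) := Equiv.ofBijective f (Finite.injective_iff_bijective.1 hf)
    have hβ : ∀ (n : ℕ) (g : R), (β ^ n) (g : R ⧸ zpowers u) = ((α ^ n) g : R) := fun n => by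
      induction n with
      | zero => intro g; simp
      | succ n ih =>
        intro g
        rw [pow_succ', Equiv.Perm.mul_apply, ih, pow_succ', MulAut.mul_apply]
        rfl
    have hβ5 : orderOf β ∣ 5 ^ j := orderOf_dvd_of_pow_eq_one (by
      ext q
      obtain ⟨g, rfl⟩ := QuotientGroup.mk_surjective q
      rw [hβ, hα]
      simp)
    have hq : Nat.card (R ⧸ zpowers u) = 4 := by
      have h2 := (zpowers u).card_eq_card_quotient_mul_card_subgroup
      rw [hcard, Nat.card_zpowers, h.two] at h2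
      omega
    have hβ24 : orderOf β ∣ 24 := by
      have h2 := orderOf_dvd_natCard β
      rwa [Nat.card_perm, hq] at h2
    have hβ1 : β = 1 := orderOf_eq_one_iff.1
      (Nat.eq_one_of_dvd_coprimes (Nat.Coprime.pow_left j (by norm_num)) hβ5 hβ24)
    refine hcop 1 (orderOf_dvd_of_pow_eq_one (MulEquiv.ext fun g => ?_))
    have h1 := hβ 1 g
    rw [hβ1, pow_one] at h1
    obtain ⟨i, hi⟩ := mem_zpowers_iff.1 (QuotientGroup.eq.1 (h1 : (g : R ⧸ zpowers u) = (α g : R)))
    have hg : α g = g * u ^ i := by rw [hi, mul_inv_cancel_left, pow_one]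
    rw [pow_one, pow_two, MulAut.mul_apply, hg, map_mul, map_zpow, hαu, hg, mul_assoc, ← zpow_add,
      ← two_mul, zpow_mul, zpow_two, h.uu, one_zpow, mul_one]
    rfl
  · have h2 : IsPGroup 2 (MulAut R) := Fus.isPGroup_mulAut_of_cyclic_index_two hk (fun g hg => by
      by_contra hga
      rw [hout g hga, ← hk] at hg
      exact ha8 hg.symm) hx fun g => by
        by_cases hg : g ∈ zpowers a
        · exact Or.inl hg
        · exact Or.inr ((mul_mem_iff_of_index_two hidx).2
            (iff_of_false (fun e => hx (inv_mem_iff.1 e)) hg))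
    obtain ⟨n, hn⟩ := IsPGroup.iff_orderOf.1 h2 α
    exact hcop n (dvd_of_eq hn)

end Cfsg.Agent.Invol.Core2.RankOneTwo
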