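import Cfsg.Agent.Lib.Invol.Core2.TwistCompBase
import Cfsg.Agent.Lib.Invol.Core2.TwistRankOne
import Cfsg.Agent.Lib.Invol.Core2.TwistPermFour

/-!
# Twisted bad involution: the kernel on a well placed component

`T` meets the pointwise stabiliser of the component in a 2-group with one involution, a Sylow 2-subgroup of it. The
centraliser of that group in the stabiliser induces a transitive group containing the four group of the two
anticommuting involutions, and each involution of that four group lifts to an element of `T` centralising the group.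
-/

set_option autoImplicit false
set_option linter.unusedSectionVars false
set_option linter.style.haveILetI false

namespace Cfsg.Agent.Invol.Core2

open Subgroup

variable {C : Type*} [Group C] [Finite C] {H : Subgroup C} {T : Sylow 2 C} {u v a b : C}

namespace Comp

/-- The part of `T` fixing the component pointwise. -/
def T0 (H : Subgroup C) (T : Sylow 2 C) (v : C) : Subgroup C := (T : Subgroup C) ⊓ ker H v

/-- The elements of the stabiliser centralising that part and normalising it. -/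
def centT0 (H : Subgroup C) (T : Sylow 2 C) (v : C) : Subgroup C :=
  st H v ⊓ centralizer (T0 H T v : Set C)

theorem u_mem_ker (h : TwistC H T u) : u ∈ ker H v := mem_ker.2 fun p _ => h.u_fix p

theorem u_mem_T0 (h : TwistC H T u) : u ∈ T0 H T v := ⟨h.u_mem_T, u_mem_ker h⟩

theorem comp_two_points (h5 : FiveAt H u) (hv : CoverRoot H u v) :
    ∃ p ∈ comp H v, p ≠ (QuotientGroup.mk 1 : C ⧸ H) :=
  Set.exists_ne_of_one_lt_ncard (by rw [h5 v hv]; norm_num) _

/-- Only one involution fixes the component pointwise. -/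
theorem ker_uniq (h : TwistC H T u) (h5 : FiveAt H u) (hv : CoverRoot H u v) {t : C} (ht : t ∈ ker H v)
    (htt : t * t = 1) : t = 1 ∨ t = u := by
  by_cases h1 : t = 1
  · exact Or.inl h1
  by_cases h2 : t = u
  · exact Or.inr h2
  obtain ⟨p, hp, hpne⟩ := comp_two_points h5 hv
  exact absurd (h.fix_one (orderOf_two_iff.2 ⟨htt, h1⟩) h2 (mem_ker.1 ht p hp) (mem_ker.1 ht _ (base_mem v))) hpne

theorem oneInv (h : TwistC H T u) (h5 : FiveAt H u) (hv : CoverRoot H u v) :
    RankOneTwo.OneInv ↥(T0 H T v) (⟨u, u_mem_T0 h⟩ : ↥(T0 H T v)) :=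
  ⟨T.isPGroup'.to_le inf_le_left, by rw [orderOf_mk]; exact h.two, fun x hx => by
    rcases ker_uniq h h5 hv x.2.2 (congrArg Subtype.val hx) with e | e
    · exact Or.inl (Subtype.ext e)
    · exact Or.inr (Subtype.ext e)⟩

/-- The elements of `T0` commuting with a root commute with each other. -/
theorem commute_T0 (h : TwistC H T u) (h5 : FiveAt H u) (hv : CoverRoot H u v) (hvT : v ∈ (T : Subgroup C))
    {c d : C} (hc : c ∈ T0 H T v) (hd : d ∈ T0 H T v) (hcv : Commute c v) (hdv : Commute d v) : Commute c d := by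
  have hR := oneInv h h5 hv
  by_cases hab : ∀ x y : ↥(T0 H T v), Commute x y
  · exact congrArg Subtype.val (hab ⟨c, hc⟩ ⟨d, hd⟩).eq
  obtain ⟨g, -, hidx, hinv⟩ := hR.shape_of_noncomm hab
  let v' : ↥(T0 H T v) := ⟨v, hvT, root_mem_ker hv.mem⟩
  have hv1 : v' ≠ 1 ∧ v' * v' ≠ 1 := by
    refine ⟨fun e => ne_one_of_orderOf_two h.two ?_, fun e => ne_one_of_orderOf_two h.two ?_⟩
    · rw [← hv.sq, show v = 1 from congrArg Subtype.val e, one_mul]
    · rw [← hv.sq]; exact congrArg Subtype.val e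
  -- what commutes with the root
  have key : ∀ x : ↥(T0 H T v), Commute x v' → (v' ∈ zpowers g → x ∈ zpowers g) ∧
      (v' ∉ zpowers g → x ∈ zpowers v') := by
    intro x hx
    refine ⟨fun hv' => by_contra fun hx' => hv1.2 ?_, fun hv' => ?_⟩
    · obtain ⟨i, hi⟩ := mem_zpowers_iff.1 hv'
      have h1 : x * v' * x⁻¹ = v'⁻¹ := by rw [← hi, ← conj_zpow, (hinv x hx').1, inv_zpow]
      rw [hx.eq, mul_inv_cancel_right] at h1
      exact mul_eq_one_iff_eq_inv.2 h1
    · have hin : ∀ z ∈ zpowers g, Commute z v' → z ∈ zpowers v' := fun z hz hzv => by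
        obtain ⟨i, rfl⟩ := mem_zpowers_iff.1 hz
        have h1 : v' * g ^ i * v'⁻¹ = (g ^ i)⁻¹ := by rw [← conj_zpow, (hinv v' hv').1, inv_zpow]
        rw [← hzv.eq, mul_inv_cancel_right] at h1
        rcases hR.uniq _ (mul_eq_one_iff_eq_inv.2 h1) with e | e
        · rw [e]; exact one_mem _
        · rw [e, show (⟨u, u_mem_T0 h⟩ : ↥(T0 H T v)) = v' * v' from Subtype.ext hv.sq.symm]
          exact mul_mem (mem_zpowers _) (mem_zpowers _)
      by_cases hx' : x ∈ zpowers g
      · exact hin x hx' hx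
      · have h1 : v'⁻¹ * x ∈ zpowers g :=
          (mul_mem_iff_of_index_two hidx).2 (iff_of_false (fun e => hv' (inv_mem_iff.1 e)) hx')
        have h2 := mul_mem (mem_zpowers v') (hin _ h1 ((Commute.refl v').inv_left.mul_left hx))
        rwa [mul_inv_cancel_left] at h2
  have hc' := key ⟨c, hc⟩ (Subtype.ext hcv.eq)
  have hd' := key ⟨d, hd⟩ (Subtype.ext hdv.eq)
  by_cases hv' : v' ∈ zpowers g
  · obtain ⟨i, hi⟩ := mem_zpowers_iff.1 (hc'.1 hv')
    obtain ⟨k, hk⟩ := mem_zpowers_iff.1 (hd'.1 hv')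
    have := congrArg Subtype.val (Commute.zpow_zpow_self g i k).eq
    rw [hi, hk] at this
    exact this
  · obtain ⟨i, hi⟩ := mem_zpowers_iff.1 (hc'.2 hv')
    obtain ⟨k, hk⟩ := mem_zpowers_iff.1 (hd'.2 hv')
    have := congrArg Subtype.val (Commute.zpow_zpow_self v' i k).eq
    rw [hi, hk] at this
    exact this

/-- An involution with one fixed point on a component is not trivial. -/
theorem one_ne (h5 : FiveAt H u) (hv : CoverRoot H u v) {w : Equiv.Perm ↥(comp H v)}
    (hw : Five.OneFix w (base H v)) : w ≠ 1 := fun e => by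
  obtain ⟨p, hp, hpne⟩ := comp_two_points h5 hv
  exact hpne (congrArg Subtype.val (hw.uniq ⟨p, hp⟩ (by rw [e]; rfl)))

/-- The two involutions act as commuting, different permutations fixing only the base point. -/
theorem oneFix_pair (h : TwistC H T u) (h5 : FiveAt H u) (g : Good H T u v a b) :
    Five.OneFix (perm H v ⟨a, commute_mem_st g.av⟩) (base H v) ∧
    Five.OneFix (perm H v ⟨b, commute_mem_st g.bv⟩) (base H v) ∧
    Five.OneFix (perm H v ⟨a, commute_mem_st g.av⟩ * perm H v ⟨b, commute_mem_st g.bv⟩) (base H v) ∧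
    perm H v ⟨a, commute_mem_st g.av⟩ ≠ perm H v ⟨b, commute_mem_st g.bv⟩ ∧
    perm H v ⟨a, commute_mem_st g.av⟩ * perm H v ⟨b, commute_mem_st g.bv⟩ =
      perm H v ⟨b, commute_mem_st g.bv⟩ * perm H v ⟨a, commute_mem_st g.av⟩ := by
  have hu1 := ne_one_of_orderOf_two h.two
  have haa := mul_self_of_orderOf_two g.a2
  have hbb := mul_self_of_orderOf_two g.b2
  have hau : a ≠ u := fun e => hu1 (by
    have h1 := g.ab
    rw [e, ← (h.cent b).symm.eq.symm, mul_assoc, h.uu, mul_one] at h1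
    exact mul_eq_left.1 h1)
  have hbu : b ≠ u := fun e => hu1 (by
    have h1 := g.ab
    rw [e, mul_assoc, h.uu, mul_one, ← (h.cent a).eq] at h1
    exact mul_eq_left.1 h1)
  have hab2 : a * b * (a * b) = u := by
    calc a * b * (a * b) = a * (b * a) * b := by group
      _ = a * a * b * (u * b) := by rw [g.ab]; group
      _ = u := by rw [haa, one_mul, (h.cent b).symm.eq, ← mul_assoc, hbb, one_mul]
  have hvu : Commute v u := h.cent v
  have habv : Commute (a * b) v := g.av.mul_left g.bv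
  set w : C := v * (a * b) with hw
  have hww : w * w = 1 := by
    calc v * (a * b) * (v * (a * b)) = v * (a * b * v) * (a * b) := by group
      _ = v * v * (a * b * (a * b)) := by rw [habv.eq]; group
      _ = 1 := by rw [g.cov.sq, hab2, h.uu]
  have hwne : ∀ z : C, z = 1 ∨ z = u → w ≠ z := fun z hz e => by
    -- otherwise `b` is `a` times a root commuting with it
    obtain ⟨x, hxv, hxx, hbx⟩ : ∃ x, Commute a x ∧ x * x = u ∧ b = a * x := by
      refine ⟨v⁻¹ * z, g.av.inv_right.mul_right ?_, ?_, ?_⟩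
      · rcases hz with rfl | rfl
        exacts [Commute.one_right a, h.cent a]
      · have hvi : v⁻¹ * v⁻¹ = u := by
          rw [← mul_inv_rev, g.cov.sq, inv_of_orderOf_two h.two]
        rcases hz with rfl | rfl
        · rw [mul_one, hvi]
        · rw [show v⁻¹ * z * (v⁻¹ * z) = v⁻¹ * (z * v⁻¹) * z by group, ← (h.cent v⁻¹).eq,
            show v⁻¹ * (v⁻¹ * z) * z = v⁻¹ * v⁻¹ * (z * z) by group, hvi, h.uu, mul_one]
      · calc b = a * (v⁻¹ * (v * (a * b))) := by rw [inv_mul_cancel_left, ← mul_assoc, haa, one_mul]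
          _ = a * (v⁻¹ * z) := by rw [← hw, e]
    refine hu1 ?_
    rw [← hxx, ← hbb, hbx, show a * x * (a * x) = a * (x * a) * x by group, ← hxv.eq,
      show a * (a * x) * x = a * a * (x * x) by group, haa, one_mul]
  have hw2 : orderOf w = 2 := orderOf_two_iff.2 ⟨hww, hwne 1 (Or.inl rfl)⟩
  have hwH : w ∈ H := H.mul_mem g.cov.mem (H.mul_mem (h.le g.aT) (h.le g.bT))
  have hA := h.oneFix (v := v) (y := ⟨a, commute_mem_st g.av⟩) g.a2 hau (h.le g.aT)
  have hB := h.oneFix (v := v) (y := ⟨b, commute_mem_st g.bv⟩) g.b2 hbu (h.le g.bT)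
  have hW := h.oneFix (v := v) (y := ⟨w, mul_mem (ker_le_st v (root_mem_ker g.cov.mem))
    (mul_mem (commute_mem_st g.av) (commute_mem_st g.bv))⟩) hw2 (hwne u (Or.inr rfl)) hwH
  have heq : perm H v ⟨a, commute_mem_st g.av⟩ * perm H v ⟨b, commute_mem_st g.bv⟩ =
      perm H v ⟨w, mul_mem (ker_le_st v (root_mem_ker g.cov.mem))
        (mul_mem (commute_mem_st g.av) (commute_mem_st g.bv))⟩ := by
    rw [← map_mul, perm_eq_iff]
    show (a * b)⁻¹ * (v * (a * b)) ∈ ker H v
    rw [← habv.eq, inv_mul_cancel_left]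
    exact root_mem_ker g.cov.mem
  refine ⟨hA, hB, heq ▸ hW, fun e => one_ne h5 g.cov hW ?_, ?_⟩
  · rw [← heq, ← e]
    exact Equiv.ext fun p => hA.sq p
  · rw [← map_mul, ← map_mul, perm_eq_iff]
    show (a * b)⁻¹ * (b * a) ∈ ker H v
    rw [g.ab, inv_mul_cancel_left]
    exact u_mem_ker h

namespace Good

variable (h : TwistC H T u) (h5 : FiveAt H u) (g : Good H T u v a b)
include h h5 g

/-- `T0` is a Sylow 2-subgroup of the pointwise stabiliser. -/
theorem exists_conj_T0 {R : Subgroup C} (hR : IsPGroup 2 ↥R) (hRK : R ≤ ker H v) :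
    ∃ k ∈ ker H v, ∀ r ∈ R, k * r * k⁻¹ ∈ T0 H T v := by
  classical
  haveI : Fact (Nat.Prime 2) := ⟨Nat.prime_two⟩
  obtain ⟨R₀, hR₀⟩ := ((T.isPGroup'.to_le (inf_le_left : T0 H T v ≤ _)).comap_subtype (K := ker H v)).exists_le_sylow
  set R₀' := (R₀ : Subgroup ↥(ker H v)).map (ker H v).subtype with hR₀'
  have hle : T0 H T v ≤ R₀' := fun t ht => ⟨⟨t, ht.2⟩, hR₀ ht, rfl⟩
  obtain ⟨l, hl, hlR⟩ := g.syl R₀' (R₀.isPGroup'.map _)
    (le_inf ((map_subtype_le _).trans (ker_le_st v)) ((map_subtype_le _).trans (ker_le v)))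
  have h1 : R₀'.map (MulAut.conj l).toMonoidHom ≤ T0 H T v := by
    rintro _ ⟨r, hr, rfl⟩
    exact ⟨hlR r hr, ker_normal hl.1 ((map_subtype_le _) hr)⟩
  have h2 := card_le_of_le h1
  rw [card_map_of_injective (MulAut.conj l).injective] at h2
  have heq : T0 H T v = R₀' := eq_of_le_of_card_ge hle h2
  obtain ⟨k, hk⟩ := exists_conj_subset_sylow (G := ↥(ker H v)) (H := R.subgroupOf _) hR.comap_subtype R₀
  exact ⟨k, k.2, fun r hr => heq ▸ ⟨_, hk ⟨r, hRK hr⟩ hr, rfl⟩⟩

/-- Frattini: the stabiliser is the pointwise one times the normaliser of `T0`. -/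
theorem exists_frattini {x : C} (hx : x ∈ st H v) :
    ∃ k ∈ ker H v, k * x ∈ normalizer (T0 H T v : Set C) := by
  obtain ⟨k, hk, hkR⟩ := exists_conj_T0 h h5 g
    (R := (T0 H T v).map (MulAut.conj x).toMonoidHom) ((T.isPGroup'.to_le inf_le_left).map _) (by
      rintro _ ⟨t, ht, rfl⟩
      exact ker_normal hx ht.2)
  refine ⟨k, hk, mem_normalizer_fintype fun t ht => ?_⟩
  have h1 := hkR _ ⟨t, ht, rfl⟩
  rwa [MulEquiv.coe_toMonoidHom, MulAut.conj_apply,
    show k * (x * t * x⁻¹) * k⁻¹ = k * x * t * (k * x)⁻¹ by group] at h1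

/-- An element of the centraliser moves the component as a five-cycle. -/
theorem exists_five_cycle : ∃ e : ↥(st H v), (e : C) ∈ centralizer (T0 H T v : Set C) ∧
    perm H v e ^ 5 = 1 ∧ perm H v e ≠ 1 := by
  classical
  haveI : Fintype ↥(comp H v) := Fintype.ofFinite _
  haveI : Fact (Nat.Prime 5) := ⟨by norm_num⟩
  set N := normalizer (T0 H T v : Set C) with hN
  set f := (perm H v).comp (N.subgroupOf (st H v)).subtype with hf
  haveI : MulAction.IsPretransitive ↥f.range ↥(comp H v) := by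
    have hb : ∀ p : ↥(comp H v), ∃ y ∈ f.range, y (base H v) = p := by
      intro p
      obtain ⟨c, hc, hcp⟩ := p.2
      obtain ⟨k, hk, hkN⟩ := exists_frattini h h5 g (commute_mem_st (H := H) hc)
      refine ⟨_, ⟨⟨⟨k * c, mul_mem (ker_le_st v hk) (commute_mem_st hc)⟩, hkN⟩, rfl⟩, Subtype.ext ?_⟩
      show (k * c) • (QuotientGroup.mk 1 : C ⧸ H) = p
      rw [mul_smul, smul_base, hcp]
      exact mem_ker.1 hk p p.2
    refine ⟨fun p q => ?_⟩
    obtain ⟨y, hy, hyp⟩ := hb p
    obtain ⟨z, hz, hzq⟩ := hb q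
    refine ⟨⟨z * y⁻¹, mul_mem hz (inv_mem hy)⟩, ?_⟩
    show (z * y⁻¹) p = q
    rw [Equiv.Perm.mul_apply, ← hyp, ← hzq]
    congr 1
    exact y.symm_apply_apply _
  have hdvd : 5 ∣ Nat.card ↥f.range := by
    have h1 := MulAction.index_stabilizer_of_transitive ↥f.range (base H v)
    rw [Nat.card_coe_set_eq, h5 v g.cov] at h1
    exact ⟨_, ((MulAction.stabilizer ↥f.range (base H v)).index_mul_card.symm.trans (by rw [h1]))⟩
  obtain ⟨⟨y, hy⟩, hy5⟩ := exists_prime_orderOf_dvd_card' (G := ↥f.range) 5 hdvd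
  rw [orderOf_mk] at hy5
  obtain ⟨n, rfl⟩ := hy
  obtain ⟨i, m, hm, hord⟩ := Nat.exists_eq_pow_mul_and_not_dvd (orderOf_pos n).ne' 5 (by norm_num)
  have hy1 : f (n ^ m) ≠ 1 := fun e => hm (by
    rw [map_pow] at e
    have := orderOf_dvd_of_pow_eq_one e
    rwa [hy5] at this)
  refine ⟨(n ^ m : ↥(N.subgroupOf (st H v))), ?_, ?_, hy1⟩
  · let φ : ↥(N.subgroupOf (st H v)) →* MulAut ↥(T0 H T v) := (T0 H T v).normalizerMonoidHom.comp
      (MonoidHom.mk' (fun x => (⟨((x : ↥(st H v)) : C), x.2⟩ : ↥(normalizer (T0 H T v : Set C)))) fun _ _ => rfl)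
    let α : MulAut ↥(T0 H T v) := φ (n ^ m)
    have hα : α ^ 5 ^ i = 1 := by
      show φ (n ^ m) ^ 5 ^ i = 1
      rw [← map_pow, ← pow_mul, mul_comm, ← hord, pow_orderOf_eq_one, map_one]
    have hα1 := (oneInv h h5 g.cov).aut_five α hα
    refine mem_centralizer_iff.2 fun t ht => ?_
    have h1 : (((n ^ m : ↥(N.subgroupOf (st H v))) : ↥(st H v)) : C) * t *
        ((((n ^ m : ↥(N.subgroupOf (st H v))) : ↥(st H v)) : C))⁻¹ = t :=
      congrArg Subtype.val (congrArg (fun φ : MulAut ↥(T0 H T v) => φ ⟨t, ht⟩) hα1)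
    rw [mul_inv_eq_iff_eq_mul] at h1
    exact h1.symm
  · show f (n ^ m) ^ 5 = 1
    rw [map_pow, ← pow_mul, mul_comm, pow_mul, ← hy5, pow_orderOf_eq_one, one_pow]

/-- The elements of `T` in the stabiliser normalise `T0`. -/
theorem mem_normalizer {x : C} (hx : x ∈ (T : Subgroup C)) (hxs : x ∈ st H v) :
    x ∈ normalizer (T0 H T v : Set C) :=
  mem_normalizer_fintype fun _ ht => ⟨(T : Subgroup C).mul_mem ((T : Subgroup C).mul_mem hx ht.1) ((T : Subgroup C).inv_mem hx), ker_normal hxs ht.2⟩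

/-- The images of the two involutions and their product lift to elements of `T` centralising `T0`. -/
theorem exists_lifts :
    ∃ r s : ↥(st H v), (r : C) ∈ (T : Subgroup C) ⊓ centralizer (T0 H T v : Set C) ∧
      (s : C) ∈ (T : Subgroup C) ⊓ centralizer (T0 H T v : Set C) ∧
      perm H v r = perm H v ⟨a, commute_mem_st g.av⟩ ∧ perm H v s = perm H v ⟨b, commute_mem_st g.bv⟩ := by
  classical
  haveI : Fact (Nat.Prime 2) := ⟨Nat.prime_two⟩
  haveI : Fintype ↥(comp H v) := Fintype.ofFinite _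
  set a' : ↥(st H v) := ⟨a, commute_mem_st g.av⟩ with ha'
  set b' : ↥(st H v) := ⟨b, commute_mem_st g.bv⟩ with hb'
  have hcard : Fintype.card ↥(comp H v) = 5 := by
    rw [← Nat.card_eq_fintype_card, Nat.card_coe_set_eq]; exact h5 v g.cov
  obtain ⟨hA, hB, hAB, hne, hcomm⟩ := Comp.oneFix_pair h h5 g
  obtain ⟨e, he, he5, he1⟩ := exists_five_cycle h h5 g
  set N := (normalizer (T0 H T v : Set C)).subgroupOf (st H v) with hN
  set Z := (centralizer (T0 H T v : Set C)).subgroupOf (st H v) with hZ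
  have hZN : Z ≤ N := fun x hx => centralizer_le_normalizer _ hx
  have hZn : ∀ x ∈ N, ∀ z ∈ Z, x * z * x⁻¹ ∈ Z := fun x hx z hz => mem_centralizer_iff.2 fun t ht => by
    have h1 := mem_centralizer_iff.1 hz _ ((mem_normalizer_iff.1 (inv_mem hx) t).1 ht)
    simp only [Subgroup.coe_mul, Subgroup.coe_inv, Subgroup.coe_subtype, inv_inv] at h1 ⊢
    calc t * ((x : C) * z * (x : C)⁻¹) = x * ((x : C)⁻¹ * t * x * z) * (x : C)⁻¹ := by group
      _ = x * (z * ((x : C)⁻¹ * t * x)) * (x : C)⁻¹ := by rw [h1]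
      _ = x * z * (x : C)⁻¹ * t := by group
  have haN : a' ∈ N := mem_normalizer h h5 g g.aT a'.2
  have hbN : b' ∈ N := mem_normalizer h h5 g g.bT b'.2
  obtain ⟨haX, hbX⟩ := Five.four_le_normal hcard (Y := N.map (perm H v)) (N := Z.map (perm H v)) (map_mono hZN)
    (by
      rintro _ ⟨x, hx, rfl⟩ _ ⟨z, hz, rfl⟩
      exact ⟨x * z * x⁻¹, hZn x hx z hz, by simp⟩)
    (mem_map_of_mem _ (show e ∈ Z from he)) he5 he1 (mem_map_of_mem _ haN) (mem_map_of_mem _ hbN) hA hB hAB hne hcomm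
  -- Sylow subgroup of the part fixing the base point
  set E := Z ⊓ H.subgroupOf (st H v) with hE
  set RE := ((T : Subgroup C).subgroupOf (st H v) ⊓ E) with hRE
  have hmax : ∀ R : Subgroup ↥(st H v), IsPGroup 2 ↥R → R ≤ E → Nat.card ↥R ≤ Nat.card ↥RE := by
    intro R hR hRE'
    set R' := R.map (st H v).subtype with hR'
    have hRp : IsPGroup 2 ↥(R' ⊔ T0 H T v) := (hR.map _).to_sup_of_normal_right'
      (T.isPGroup'.to_le inf_le_left) (by
        rintro _ ⟨r, hr, rfl⟩
        exact hZN (hRE' hr).1)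
    obtain ⟨l, hl, hlR⟩ := g.syl _ hRp (sup_le (fun x hx => by
      obtain ⟨r, hr, rfl⟩ := hx
      exact ⟨r.2, (hRE' hr).2⟩) (le_inf (inf_le_right.trans (ker_le_st v)) (inf_le_right.trans (ker_le v))))
    let l' : ↥(st H v) := ⟨l, hl.1⟩
    have hlN : l' ∈ N := mem_normalizer_fintype fun t ht =>
      ⟨hlR t (mem_sup_right ht), ker_normal hl.1 ht.2⟩
    have h1 : R.map (MulAut.conj l').toMonoidHom ≤ RE := by
      rintro _ ⟨r, hr, rfl⟩
      refine ⟨hlR r (mem_sup_left ⟨r, hr, rfl⟩), hZn l' hlN r (hRE' hr).1, ?_⟩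
      exact H.mul_mem (H.mul_mem hl.2 (hRE' hr).2) (H.inv_mem hl.2)
    have h2 := card_le_of_le h1
    rwa [card_map_of_injective (MulAut.conj l').injective] at h2
  -- a Sylow subgroup of `E` maps onto a subgroup containing the four group
  have hREp : IsPGroup 2 ↥RE := (T.isPGroup'.comap_subtype (K := st H v)).to_le inf_le_left
  obtain ⟨P, hP⟩ := (hREp.comap_subtype (K := E)).exists_le_sylow
  have hPeq : (P : Subgroup ↥E).map E.subtype = RE :=
    (eq_of_le_of_card_ge (show RE ≤ (P : Subgroup ↥E).map E.subtype from fun x hx => ⟨⟨x, hx.2⟩, hP hx, rfl⟩)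
      (hmax _ (P.isPGroup'.map _) (map_subtype_le _))).symm
  set f := (perm H v).comp E.subtype with hf
  set P' := P.mapSurjective (f := f.rangeRestrict) f.rangeRestrict_surjective with hP'
  set pa := perm H v a' with hpa
  set pb := perm H v b' with hpb
  have hmem : ∀ {x}, x ∈ Z.map (perm H v) → x (base H v) = base H v → x ∈ f.range := by
    rintro _ ⟨z, hz, rfl⟩ hzb
    exact ⟨⟨z, hz, perm_base.1 hzb⟩, rfl⟩
  have hpaR : pa ∈ f.range := hmem haX (hA.fix)
  have hpbR : pb ∈ f.range := hmem hbX (hB.fix)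
  set V := closure ({pa, pb} : Set (Equiv.Perm ↥(comp H v))) with hV
  have hsq : ∀ {w : Equiv.Perm ↥(comp H v)}, Five.OneFix w (base H v) → w * w = 1 := fun {w} hw =>
    Equiv.ext fun p => hw.sq p
  have hVp : IsPGroup 2 ↥V := by
    refine isPGroup_closure_pair (orderOf_two_iff.2 ⟨hsq hA, ?_⟩) (orderOf_two_iff.2 ⟨hsq hB, ?_⟩) (a := 1) ?_
    · exact one_ne h5 g.cov hA
    · exact one_ne h5 g.cov hB
    · rw [pow_one]
      exact orderOf_two_iff.2 ⟨hsq hAB, one_ne h5 g.cov hAB⟩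
  haveI : (V.subgroupOf f.range).Normal := ⟨fun n hn x => by
    obtain ⟨x, z, rfl⟩ := x
    rw [mem_subgroupOf] at hn ⊢
    simp only [Subgroup.coe_mul, Subgroup.coe_inv]
    have hle : V ≤ V.comap (MulAut.conj (f z)).toMonoidHom := (closure_le _).2 fun w hw => by
      have hw' : Five.OneFix w (base H v) := by
        rcases hw with rfl | rfl
        exacts [hA, hB]
      have hz0 : f z (base H v) = base H v := perm_base.2 z.2.2
      show f z * w * (f z)⁻¹ ∈ V
      rcases (hw'.conj hz0).mem_four hcard hA hB hAB hne with e | e | e <;> rw [e]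
      · exact subset_closure (by simp)
      · exact subset_closure (by simp)
      · exact mul_mem (subset_closure (by simp)) (subset_closure (by simp))
    exact hle hn⟩
  have hsup := P'.is_maximal' (P'.isPGroup'.to_sup_of_normal_right (show IsPGroup 2 ↥(V.subgroupOf f.range) from hVp.comap_subtype))
    le_sup_left
  have hlift : ∀ w (hw : w ∈ f.range), (⟨w, hw⟩ : ↥f.range) ∈ V.subgroupOf f.range →
      ∃ r : ↥(st H v), (r : C) ∈ (T : Subgroup C) ⊓ centralizer (T0 H T v : Set C) ∧ perm H v r = w := by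
    intro w hw hwV
    have h1 : (⟨w, hw⟩ : ↥f.range) ∈ (P' : Subgroup ↥f.range) := hsup ▸ mem_sup_right hwV
    rw [hP', Sylow.coe_mapSurjective] at h1
    obtain ⟨r, hr, e⟩ := h1
    have h2 : (r : ↥(st H v)) ∈ RE := hPeq ▸ ⟨r, hr, rfl⟩
    exact ⟨r, ⟨h2.1, h2.2.1⟩, congrArg Subtype.val e⟩
  obtain ⟨r, hr, hra⟩ := hlift pa hpaR (subset_closure (by simp : pa ∈ ({pa, pb} : Set _)))
  obtain ⟨s, hs, hsb⟩ := hlift pb hpbR (subset_closure (by simp : pb ∈ ({pa, pb} : Set _)))
  exact ⟨r, s, hr, hs, hra, hsb⟩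
end Good

end Comp

end Cfsg.Agent.Invol.Core2
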