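import Cfsg.Agent.Lib.Invol.Core2.TwistCompKernel

/-!
# Twisted bad involution: the quaternion group of a component

On a well placed component `T` contains a quaternion group of order eight centralising the part `T0` of `T` fixing
the component pointwise, every involution of `T` in the stabiliser is a product of roots from the two groups, and
every root in `T0` is a cover root with the same component.
-/

set_option autoImplicit false
set_option linter.unusedSectionVars false
set_option linter.style.haveILetI false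

namespace Cfsg.Agent.Invol.Core2

open Subgroup

variable {C : Type*} [Group C] [Finite C] {H : Subgroup C} {T : Sylow 2 C} {u v a b : C}

/-- A quaternion group of order eight from two anticommuting roots. -/
theorem exists_quat {u q r : C} (hu : orderOf u = 2) (hcu : ∀ c : C, Commute c u) (hq : q * q = u) (hr : r * r = u)
    (hqr : r * q = q * r * u) :
    Nat.card ↥(closure ({q, r} : Set C)) = 8 ∧
      (∀ x ∈ closure ({q, r} : Set C), x * x = 1 → x = 1 ∨ x = u) ∧
      (∀ x ∈ closure ({q, r} : Set C), x * x = 1 ∨ x * x = u) ∧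
      (∀ x ∈ closure ({q, r} : Set C), x * x = u →
        ∃ y ∈ closure ({q, r} : Set C), y * y = u ∧ y * x = x * y * u) ∧
      u ∈ closure ({q, r} : Set C) := by
  classical
  set Q := closure ({q, r} : Set C) with hQ
  have huu := mul_self_of_orderOf_two hu
  have hu1 := ne_one_of_orderOf_two hu
  have hqQ : q ∈ Q := subset_closure (by simp)
  have hrQ : r ∈ Q := subset_closure (by simp)
  have huQ : u ∈ Q := hq ▸ mul_mem hqQ hqQ
  have huc : ∀ c : C, u * c = c * u := fun c => (hcu c).eq.symm
  have huu' : ∀ c : C, c * u * u = c := fun c => by rw [mul_assoc, huu, mul_one]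
  have hrq : ∀ c : C, r * (q * c) = q * (r * (u * c)) := fun c => by rw [← mul_assoc, hqr]; group
  have h1 : ∀ c : C, u * (q * c) = q * (u * c) := fun c => by rw [← mul_assoc, huc q, mul_assoc]
  have h2 : ∀ c : C, u * (r * c) = r * (u * c) := fun c => by rw [← mul_assoc, huc r, mul_assoc]
  have h3 : ∀ c : C, u * (u * c) = c := fun c => by rw [← mul_assoc, huu, one_mul]
  have h4 : ∀ c : C, q * (q * c) = u * c := fun c => by rw [← mul_assoc, hq]
  have h5 : ∀ c : C, r * (r * c) = u * c := fun c => by rw [← mul_assoc, hr]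
  have hlist : ∀ x ∈ Q, x ∈ ({1, u, q, q * u, r, r * u, q * r, q * r * u} : Set C) := by
    have hmul : ∀ g ∈ ({q, r} : Set C), ∀ y ∈ ({1, u, q, q * u, r, r * u, q * r, q * r * u} : Set C),
        g * y ∈ ({1, u, q, q * u, r, r * u, q * r, q * r * u} : Set C) := by
      intro g hg y hy
      simp only [Set.mem_insert_iff, Set.mem_singleton_iff] at hg hy ⊢
      rcases hg with hg | hg <;> subst g <;> rcases hy with hy | hy | hy | hy | hy | hy | hy | hy <;> subst y <;>
        simp [mul_assoc, hq, hr, hrq, huu, huc q, huc r, h1, h2, h3, h4, h5,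
          show r * q = q * (r * u) by rw [hqr, mul_assoc]]
    intro x hx
    induction hx using closure_induction_left with
    | one => simp
    | mul_left g hg x hx ih => exact hmul g hg x ih
    | inv_mul_cancel g hg x hx ih =>
      have hinv : g⁻¹ = g * g * g := by
        refine inv_eq_of_mul_eq_one_right ?_
        rcases hg with hg | hg <;> subst g <;>
          simp [mul_assoc, hq, hr, huu, huc q, huc r, h4, h5]
      rw [hinv, show g * g * g * x = g * (g * (g * x)) by simp only [mul_assoc]]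
      exact hmul g hg _ (hmul g hg _ (hmul g hg x ih))
  have hsq1 : ∀ {x : C}, x * x = u → (x * u) * (x * u) = u := fun {x} hx => by
    rw [show x * u * (x * u) = x * (u * x) * u by group, huc, ← mul_assoc, hx, huu, one_mul]
  have hqr2 : q * r * (q * r) = u := by
    calc q * r * (q * r) = q * (r * q) * r := by group
      _ = q * q * r * (u * r) := by rw [hqr]; group
      _ = u := by simp [mul_assoc, hq, hr, huu, huc r, h2, h3, h4, h5]
  have hroot : ∀ x ∈ Q, x = 1 ∨ x = u ∨ x * x = u := fun x hx => by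
    have h := hlist x hx
    simp only [Set.mem_insert_iff, Set.mem_singleton_iff] at h
    rcases h with h | h | h | h | h | h | h | h <;> subst h
    exacts [Or.inl rfl, Or.inr (Or.inl rfl), Or.inr (Or.inr hq), Or.inr (Or.inr (hsq1 hq)), Or.inr (Or.inr hr),
      Or.inr (Or.inr (hsq1 hr)), Or.inr (Or.inr hqr2), Or.inr (Or.inr (hsq1 hqr2))]
  refine ⟨?_, fun x hx hxx => ?_, fun x hx => ?_, fun x hx hxx => ?_, huQ⟩
  · have hle : Nat.card ↥Q ≤ 8 := by
      have hs : (Q : Set C) ⊆ (({1, u, q, q * u, r, r * u, q * r, q * r * u} : Finset C) : Set C) := fun x hx => by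
        simpa using hlist x hx
      have h1 := Set.ncard_le_ncard hs (Set.toFinite _)
      rw [Set.ncard_coe_finset] at h1
      rw [← SetLike.coe_sort_coe, Nat.card_coe_set_eq]
      refine h1.trans ?_
      refine (Finset.card_insert_le _ _).trans (Nat.succ_le_succ ?_)
      refine (Finset.card_insert_le _ _).trans (Nat.succ_le_succ ?_)
      refine (Finset.card_insert_le _ _).trans (Nat.succ_le_succ ?_)
      refine (Finset.card_insert_le _ _).trans (Nat.succ_le_succ ?_)
      refine (Finset.card_insert_le _ _).trans (Nat.succ_le_succ ?_)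
      refine (Finset.card_insert_le _ _).trans (Nat.succ_le_succ ?_)
      refine (Finset.card_insert_le _ _).trans (Nat.succ_le_succ ?_)
      simp
    have hq4 : Nat.card ↥(zpowers q) = 4 := by
      rw [Nat.card_zpowers, orderOf_eq_prime_pow (p := 2) (n := 1) (by rw [pow_one, pow_two, hq]; exact hu1)
        (by rw [pow_succ, pow_one, pow_mul, pow_two, pow_two, hq, huu])]
      norm_num
    have hlt : Nat.card ↥(zpowers q) < Nat.card ↥Q := by
      refine Nat.lt_of_not_le fun h => hu1 ?_
      have hr' : r ∈ zpowers q := by rw [eq_of_le_of_card_ge (zpowers_le.2 hqQ) h]; exact hrQ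
      obtain ⟨i, rfl⟩ := mem_zpowers_iff.1 hr'
      have h1 := hqr
      rw [((Commute.refl q).zpow_left i).eq] at h1
      exact mul_eq_left.1 h1.symm
    have hdvd := card_dvd_of_le (zpowers_le.2 hqQ)
    rw [hq4] at hdvd hlt
    omega
  · rcases hroot x hx with e | e | e
    · exact Or.inl e
    · exact Or.inr e
    · exact absurd (e.symm.trans hxx) hu1
  · rcases hroot x hx with e | e | e
    · left; rw [e, mul_one]
    · left; rw [e, huu]
    · exact Or.inr e
  · have h := hlist x hx
    simp only [Set.mem_insert_iff, Set.mem_singleton_iff] at h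
    rcases h with h | h | h | h | h | h | h | h <;> rw [h] at hxx ⊢
    · exact absurd ((one_mul (1 : C)).symm.trans hxx).symm hu1
    · exact absurd (hxx.symm.trans huu) hu1
    · exact ⟨r, hrQ, hr, hqr⟩
    · exact ⟨r, hrQ, hr, by simp [mul_assoc, hrq, huu, huc q, huc r, h1, h2, h3, h4, h5, hq, hr, show r * q = q * (r * u) by rw [hqr, mul_assoc]]⟩
    · exact ⟨q, hqQ, hq, by simp [mul_assoc, hrq, huu, huc q, huc r, h1, h2, h3, h4, h5, hq, hr, show r * q = q * (r * u) by rw [hqr, mul_assoc]]⟩
    · exact ⟨q, hqQ, hq, by simp [mul_assoc, hrq, huu, huc q, huc r, h1, h2, h3, h4, h5, hq, hr, show r * q = q * (r * u) by rw [hqr, mul_assoc]]⟩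
    · exact ⟨q, hqQ, hq, by simp [mul_assoc, hrq, huu, huc q, huc r, h1, h2, h3, h4, h5, hq, hr, show r * q = q * (r * u) by rw [hqr, mul_assoc]]⟩
    · exact ⟨q, hqQ, hq, by simp [mul_assoc, hrq, huu, huc q, huc r, h1, h2, h3, h4, h5, hq, hr, show r * q = q * (r * u) by rw [hqr, mul_assoc]]⟩

namespace Comp

/-- A component with its quaternion group. -/
structure Five (H : Subgroup C) (T : Sylow 2 C) (u v : C) (Q : Subgroup C) : Prop where
  cov : CoverRoot H u v
  vT : v ∈ (T : Subgroup C)
  syl : ∀ R : Subgroup C, IsPGroup 2 ↥R → R ≤ st H v ⊓ H → ∃ k ∈ st H v ⊓ H, ∀ r ∈ R, k * r * k⁻¹ ∈ (T : Subgroup C)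
  leT : Q ≤ (T : Subgroup C) ⊓ st H v
  card : Nat.card ↥Q = 8
  uniq : ∀ q ∈ Q, q * q = 1 → q = 1 ∨ q = u
  sq : ∀ q ∈ Q, q * q = 1 ∨ q * q = u
  anti : ∀ q ∈ Q, q * q = u → ∃ r ∈ Q, r * r = u ∧ r * q = q * r * u
  umem : u ∈ Q
  comm : ∀ q ∈ Q, ∀ t ∈ T0 H T v, Commute q t
  inf : Q ⊓ T0 H T v ≤ zpowers u
  invol : ∀ y ∈ (T : Subgroup C) ⊓ st H v, orderOf y = 2 → y ≠ u →
    ∃ q ∈ Q, ∃ c ∈ T0 H T v, q * q = u ∧ c * c = u ∧ y = q * c
  cover0 : ∀ c ∈ T0 H T v, c * c = u → CoverRoot H u c ∧ comp H c = comp H v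

namespace Good

variable (h : TwistC H T u) (h5 : FiveAt H u) (g : Good H T u v a b)
include h h5 g

/-- In the noncommutative case the lifts of conjugate involutions are of one kind. -/
theorem sq_transfer (hn : ¬ ∀ x y : ↥(T0 H T v), Commute x y) {x e e' : ↥(st H v)}
    (hx : (x : C) ∈ normalizer (T0 H T v : Set C))
    (he : (e : C) ∈ centralizer (T0 H T v : Set C))
    (he'T : (e' : C) ∈ (T : Subgroup C) ⊓ centralizer (T0 H T v : Set C))
    (hp : perm H v x * perm H v e * (perm H v x)⁻¹ = perm H v e') (hp1 : perm H v e' ≠ 1)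
    (hp2 : perm H v e' * perm H v e' = 1) (hee : (e : C) * e = 1) (he'' : (e' : C) * e' = 1 ∨ (e' : C) * e' = u) :
    (e' : C) * e' = 1 := by
  classical
  haveI : Fact (Nat.Prime 2) := ⟨Nat.prime_two⟩
  refine he''.resolve_right fun he'u => ?_
  have hR := oneInv h h5 g.cov
  set Z := (centralizer (T0 H T v : Set C)).subgroupOf (st H v) with hZ
  set E := Z ⊓ (zpowers (perm H v e')).comap (perm H v) with hE
  set e₁ := x * e * x⁻¹ with he₁
  have he₁Z : e₁ ∈ Z := mem_centralizer_iff.2 fun t ht => by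
    have h1 := mem_centralizer_iff.1 he _ ((mem_normalizer_iff.1 (inv_mem hx) t).1 ht)
    simp only [he₁, Subgroup.coe_subtype, Subgroup.coe_mul, Subgroup.coe_inv, inv_inv] at h1 ⊢
    calc t * ((x : C) * e * (x : C)⁻¹) = x * ((x : C)⁻¹ * t * x * e) * (x : C)⁻¹ := by group
      _ = x * (e * ((x : C)⁻¹ * t * x)) * (x : C)⁻¹ := by rw [h1]
      _ = x * e * (x : C)⁻¹ * t := by group
  have he₁p : perm H v e₁ = perm H v e' := by rw [he₁, map_mul, map_mul, map_inv, hp]
  have he₁E : e₁ ∈ E := ⟨he₁Z, show perm H v e₁ ∈ zpowers (perm H v e') from he₁p ▸ mem_zpowers _⟩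
  have he'E : e' ∈ E := ⟨he'T.2, mem_zpowers _⟩
  have hu1 := ne_one_of_orderOf_two h.two
  let e'' : ↥E := ⟨e', he'E⟩
  have hord : orderOf e'' = 2 ^ 2 := by
    rw [← Subgroup.orderOf_coe, ← Subgroup.orderOf_coe]
    exact h.root_order he'u
  obtain ⟨R, hR'⟩ := (isPGroup_zpowers hord).exists_le_sylow
  obtain ⟨k, hk⟩ := exists_conj_mem_sylow (x := (⟨e₁, he₁E⟩ : ↥E)) (p := 2) (n := 1) (by
    have he2 : orderOf e₁ = 2 := by
      rw [he₁, orderOf_conj_eq]
      refine orderOf_two_iff.2 ⟨Subtype.ext hee, fun h0 => hp1 ?_⟩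
      rw [← hp, h0, map_one, mul_one, mul_inv_cancel]
    rw [← Subgroup.orderOf_coe, pow_one]
    exact he2) R
  set y : ↥E := k * ⟨e₁, he₁E⟩ * k⁻¹ with hy
  have hy2 : ((y : ↥(st H v)) : C) * ((y : ↥(st H v)) : C) = 1 := by
    have : y * y = 1 := by
      have h2 : (⟨e₁, he₁E⟩ : ↥E) * ⟨e₁, he₁E⟩ = 1 := Subtype.ext (by
        show e₁ * e₁ = 1
        rw [he₁, show x * e * x⁻¹ * (x * e * x⁻¹) = x * (e * e) * x⁻¹ by group,
          show e * e = 1 from Subtype.ext hee, mul_one, mul_inv_cancel])
      rw [hy, show k * (⟨e₁, he₁E⟩ : ↥E) * k⁻¹ * (k * ⟨e₁, he₁E⟩ * k⁻¹) =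
        k * ((⟨e₁, he₁E⟩ : ↥E) * ⟨e₁, he₁E⟩) * k⁻¹ by group, h2, mul_one, mul_inv_cancel]
    exact congrArg Subtype.val (congrArg Subtype.val this)
  -- the elements of the Sylow subgroup fixing the component
  have hker : ∀ z : ↥E, z ∈ (R : Subgroup ↥E) → ((z : ↥(st H v)) : C) ∈ ker H v →
      ((z : ↥(st H v)) : C) = 1 ∨ ((z : ↥(st H v)) : C) = u := by
    intro z hzR hzK
    set R' := ((R : Subgroup ↥E).map E.subtype).map (st H v).subtype ⊓ ker H v with hR''
    have hR'p : IsPGroup 2 ↥(R' ⊔ T0 H T v) := (((R.isPGroup'.map _).map _).to_le inf_le_left).to_sup_of_normal_right'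
      (T.isPGroup'.to_le inf_le_left) (by
        rintro _ ⟨⟨w, ⟨w', -, rfl⟩, rfl⟩, -⟩
        exact centralizer_le_normalizer _ w'.2.1)
    obtain ⟨l, -, hl⟩ := exists_conj_T0 h h5 g hR'p (sup_le inf_le_right inf_le_right)
    have h1 : (R' ⊔ T0 H T v).map (MulAut.conj l).toMonoidHom ≤ T0 H T v := by
      rintro _ ⟨r, hr, rfl⟩
      exact hl r hr
    have h2 := card_le_of_le h1
    rw [card_map_of_injective (MulAut.conj l).injective] at h2
    have h3 : R' ⊔ T0 H T v = T0 H T v := (eq_of_le_of_card_ge le_sup_right h2).symm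
    have hz : ((z : ↥(st H v)) : C) ∈ T0 H T v :=
      h3 ▸ mem_sup_left ⟨⟨_, ⟨z, hzR, rfl⟩, rfl⟩, hzK⟩
    rcases hR.center_le hn (z := ⟨_, hz⟩) (fun w => Subtype.ext
      (mem_centralizer_iff.1 z.2.1 w w.2).symm) with e0 | e0
    · exact Or.inl (congrArg Subtype.val e0)
    · exact Or.inr (congrArg Subtype.val e0)
  have hyR : y ∈ (R : Subgroup ↥E) := hk
  have he''R : e'' ∈ (R : Subgroup ↥E) := hR' (mem_zpowers _)
  obtain ⟨i, hi⟩ := mem_zpowers_iff.1 (y.2.2 : perm H v (y : ↥(st H v)) ∈ zpowers (perm H v e'))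
  have hye : ((y : ↥(st H v)) : C) = 1 ∨ ((y : ↥(st H v)) : C) = u := by
    rcases Int.even_or_odd i with ⟨j, rfl⟩ | ⟨j, rfl⟩
    · refine hker y hyR (perm_eq_one.1 ?_)
      rw [← hi, ← two_mul, zpow_mul, zpow_two, hp2, one_zpow]
    · have h1 : perm H v (e'' : ↥(st H v)) = perm H v (y : ↥(st H v)) := by
        rw [← hi, zpow_add, zpow_mul, zpow_two, hp2, one_zpow, one_mul, zpow_one]
      rcases hker (e''⁻¹ * y) (mul_mem (inv_mem he''R) hyR) (perm_eq_iff.1 h1) with e0 | e0
      · exfalso
        have h2 : ((y : ↥(st H v)) : C) = e' := (inv_mul_eq_one.1 e0).symm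
        rw [h2, he'u] at hy2
        exact hu1 hy2
      · exfalso
        have h2 : ((y : ↥(st H v)) : C) = e' * u := inv_mul_eq_iff_eq_mul.1 e0
        rw [h2, show (e' : C) * u * (e' * u) = e' * (u * e') * u by group, ← (h.cent e').eq,
          show (e' : C) * (e' * u) * u = e' * e' * (u * u) by group, he'u, h.uu, mul_one] at hy2
        exact hu1 hy2
  have hpy : perm H v (k : ↥(st H v)) * perm H v e' * (perm H v (k : ↥(st H v)))⁻¹ = perm H v (y : ↥(st H v)) := by
    rw [← he₁p, ← map_inv, ← map_mul, ← map_mul]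
    rfl
  refine hp1 ?_
  have h1 : perm H v (y : ↥(st H v)) = 1 := by
    rcases hye with e0 | e0
    · rw [show (y : ↥(st H v)) = 1 from Subtype.ext e0, map_one]
    · exact perm_eq_one.2 (by rw [e0]; exact u_mem_ker h)
  rw [h1, conj_eq_one_iff] at hpy
  exact hpy

/-- The quaternion group of a well placed component. -/
theorem exists_five : ∃ Q : Subgroup C, Five H T u v Q := by
  classical
  haveI : Fintype ↥(comp H v) := Fintype.ofFinite _
  have hcard : Fintype.card ↥(comp H v) = 5 := by
    rw [← Nat.card_eq_fintype_card, Nat.card_coe_set_eq]; exact h5 v g.cov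
  obtain ⟨r, s, hr, hs, hra, hsb⟩ := exists_lifts h h5 g
  obtain ⟨hA, hB, hAB, hne, hcomm⟩ := oneFix_pair h h5 g
  rw [← hra, ← hsb] at hAB hne hcomm
  rw [← hra] at hA
  rw [← hsb] at hB
  have hR := oneInv h h5 g.cov
  have hu1 := ne_one_of_orderOf_two h.two
  have haa := mul_self_of_orderOf_two g.a2
  have hbb := mul_self_of_orderOf_two g.b2
  have hvT0 : v ∈ T0 H T v := ⟨g.vT, root_mem_ker g.cov.mem⟩
  obtain ⟨c, hc⟩ : ∃ c, c = (r : C)⁻¹ * a := ⟨_, rfl⟩
  obtain ⟨d, hd⟩ : ∃ d, d = (s : C)⁻¹ * b := ⟨_, rfl⟩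
  have hcT0 : c ∈ T0 H T v := hc ▸ ⟨(T : Subgroup C).mul_mem ((T : Subgroup C).inv_mem hr.1) g.aT, perm_eq_iff.1 hra⟩
  have hdT0 : d ∈ T0 H T v := hd ▸ ⟨(T : Subgroup C).mul_mem ((T : Subgroup C).inv_mem hs.1) g.bT, perm_eq_iff.1 hsb⟩
  have hrc : ∀ t ∈ T0 H T v, Commute (r : C) t := fun t ht => (mem_centralizer_iff.1 hr.2 t ht).symm
  have hsc : ∀ t ∈ T0 H T v, Commute (s : C) t := fun t ht => (mem_centralizer_iff.1 hs.2 t ht).symm
  have hcv : Commute c v := hc ▸ (hrc v hvT0).inv_left.mul_left g.av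
  have hdv : Commute d v := hd ▸ (hsc v hvT0).inv_left.mul_left g.bv
  have hcd := commute_T0 h h5 g.cov g.vT hcT0 hdT0 hcv hdv
  have hae : a = r * c := by rw [hc, mul_inv_cancel_left]
  have hbe : b = s * d := by rw [hd, mul_inv_cancel_left]
  have hsr : (s : C) * r = r * s * u := by
    have h1 := g.ab
    rw [hae, hbe] at h1
    have h2 : (s : C) * r * (c * d) = r * s * u * (c * d) := by
      calc (s : C) * r * (c * d) = s * r * (d * c) := by rw [hcd.eq]
        _ = s * (r * d) * c := by group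
        _ = s * d * (r * c) := by rw [(hrc d hdT0).eq]; group
        _ = r * c * (s * d) * u := h1
        _ = r * (c * s) * (d * u) := by group
        _ = r * s * (c * d) * u := by rw [← (hsc c hcT0).eq]; group
        _ = r * s * u * (c * d) := by rw [mul_assoc _ (c * d) u, (h.cent (c * d)).eq, ← mul_assoc]
    exact mul_right_cancel h2
  have hpair : ∃ q q' : ↥(st H v), (q : C) ∈ (T : Subgroup C) ⊓ centralizer (T0 H T v : Set C) ∧
      (q' : C) ∈ (T : Subgroup C) ⊓ centralizer (T0 H T v : Set C) ∧ (q : C) * q = u ∧ (q' : C) * q' = u ∧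
      (q' : C) * q = q * q' * u ∧ perm H v q = perm H v r ∧ perm H v q' = perm H v s := by
    by_cases hab : ∀ x y : ↥(T0 H T v), Commute x y
    · have hcom : ∀ x ∈ T0 H T v, ∀ y ∈ T0 H T v, Commute x y := fun x hx y hy =>
        congrArg Subtype.val (hab ⟨x, hx⟩ ⟨y, hy⟩).eq
      have hmk : ∀ {e : ↥(st H v)} {z : C}, (e : C) ∈ (T : Subgroup C) ⊓ centralizer (T0 H T v : Set C) →
          z ∈ T0 H T v → ∃ q : ↥(st H v), (q : C) = e * z * v ∧
            (q : C) ∈ (T : Subgroup C) ⊓ centralizer (T0 H T v : Set C) ∧ perm H v q = perm H v e := by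
        intro e z he hz
        have hzv : z * v ∈ T0 H T v := mul_mem hz hvT0
        refine ⟨e * ⟨z * v, ker_le_st v hzv.2⟩, by simp [mul_assoc], ⟨(T : Subgroup C).mul_mem he.1 hzv.1,
          mul_mem he.2 (mem_centralizer_iff.2 fun t ht => (hcom t ht _ hzv).eq)⟩, ?_⟩
        rw [map_mul, show perm H v ⟨z * v, ker_le_st v hzv.2⟩ = 1 from perm_eq_one.2 hzv.2, mul_one]
      obtain ⟨q, hqe, hqT, hqp⟩ := hmk hr hcT0
      obtain ⟨q', hq'e, hq'T, hq'p⟩ := hmk hs hdT0
      rw [← hae] at hqe
      rw [← hbe] at hq'e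
      refine ⟨q, q', hqT, hq'T, ?_, ?_, ?_, hqp, hq'p⟩
      · rw [hqe, show a * v * (a * v) = a * (v * a) * v by group, ← g.av.eq,
          show a * (a * v) * v = a * a * (v * v) by group, haa, g.cov.sq, one_mul]
      · rw [hq'e, show b * v * (b * v) = b * (v * b) * v by group, ← g.bv.eq,
          show b * (b * v) * v = b * b * (v * v) by group, hbb, g.cov.sq, one_mul]
      · rw [hqe, hq'e]
        calc b * v * (a * v) = b * (v * a) * v := by group
          _ = b * a * (v * v) := by rw [← g.av.eq]; group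
          _ = a * (b * u) * (v * v) := by rw [g.ab]; group
          _ = a * (b * v) * v * u := by
            rw [g.cov.sq, show a * (b * v) * v * u = a * b * (v * v) * u by group, g.cov.sq]; group
          _ = a * (v * b) * v * u := by rw [g.bv.eq]
          _ = a * v * (b * v) * u := by group
    · refine ⟨r, s, hr, hs, ?_, ?_, hsr, rfl, rfl⟩
      all_goals
        have hz : ∀ e : ↥(st H v), (e : C) ∈ (T : Subgroup C) ⊓ centralizer (T0 H T v : Set C) →
            perm H v e * perm H v e = 1 → (e : C) * e = 1 ∨ (e : C) * e = u := by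
          intro e he hp
          rw [← map_mul] at hp
          have hee : (e : C) * e ∈ T0 H T v := ⟨(T : Subgroup C).mul_mem he.1 he.1, perm_eq_one.1 hp⟩
          rcases hR.center_le hab (z := ⟨_, hee⟩) (fun w => Subtype.ext
            ((((show Commute (e : C) w from (mem_centralizer_iff.1 he.2 w w.2).symm)).mul_left
              (show Commute (e : C) w from (mem_centralizer_iff.1 he.2 w w.2).symm)).eq)) with e0 | e0
          · exact Or.inl (congrArg Subtype.val e0)
          · exact Or.inr (congrArg Subtype.val e0)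
        have hp2 : ∀ {w : Equiv.Perm ↥(comp H v)}, Five.OneFix w (base H v) → w * w = 1 :=
          fun {w} hw => Equiv.ext fun p => hw.sq p
        have hrs : ((r * s : ↥(st H v)) : C) ∈ (T : Subgroup C) ⊓ centralizer (T0 H T v : Set C) := by
          rw [Subgroup.coe_mul]; exact mul_mem hr hs
        have hprs : Five.OneFix (perm H v (r * s)) (base H v) := by rw [map_mul]; exact hAB
        have hall : ∀ e : ↥(st H v), (e : C) ∈ (T : Subgroup C) ⊓ centralizer (T0 H T v : Set C) →
            Five.OneFix (perm H v e) (base H v) → (e : C) * e = 1 → ∀ e' : ↥(st H v),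
            (e' : C) ∈ (T : Subgroup C) ⊓ centralizer (T0 H T v : Set C) →
            Five.OneFix (perm H v e') (base H v) → (e' : C) * e' = 1 := by
          intro e he hpe hee e' he' hpe'
          have htrans : ∀ p, ∃ y ∈ (perm H v).range, y (base H v) = p := fun p => by
            obtain ⟨w, hw, hwp⟩ := p.2
            exact ⟨_, ⟨⟨w, commute_mem_st hw⟩, rfl⟩, Subtype.ext ((smul_base w).trans hwp)⟩
          obtain ⟨γ, ⟨y, rfl⟩, hγo, hγ3, hγ1⟩ := Five.exists_three hcard (perm H v).range htrans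
            (b := perm H v r) (c := perm H v s) ⟨r, rfl⟩ ⟨s, rfl⟩ hA hB hAB hne
          obtain ⟨k, hk, hkN⟩ := exists_frattini h h5 g y.2
          set x : ↥(st H v) := ⟨k, ker_le_st v hk⟩ * y with hx
          have hxp : perm H v x = perm H v y := by
            rw [hx, map_mul, show perm H v ⟨k, ker_le_st v hk⟩ = 1 from perm_eq_one.2 hk, one_mul]
          have hodd : Odd (orderOf (perm H v y)) := by
            rw [orderOf_eq_prime (p := 3) (by rw [pow_succ, pow_two, hγ3]) hγ1]; exact ⟨1, rfl⟩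
          set z := perm H v y with hzdef
          have hne1 : z * perm H v e * z⁻¹ ≠ perm H v e := fun e0 => hγ1
            (Five.eq_one_of_odd hcard hpe hγo hodd (Or.inl (by
              rw [mul_inv_eq_iff_eq_mul] at e0 ⊢; exact e0.symm)))
          have hne2 : z * (z * perm H v e * z⁻¹) * z⁻¹ ≠ perm H v e := fun e0 => by
            refine hne1 ?_
            conv_lhs => rw [← e0]
            calc z * (z * (z * perm H v e * z⁻¹) * z⁻¹) * z⁻¹ = z * z * z * perm H v e * (z * z * z)⁻¹ := by group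
              _ = _ := by rw [hγ3, inv_one, one_mul, mul_one]
          have hne3 : z * (z * perm H v e * z⁻¹) * z⁻¹ ≠ z * perm H v e * z⁻¹ := fun e0 =>
            hne1 (mul_left_cancel (mul_right_cancel e0))
          have hc1 := hpe.conj hγo
          have hc2 := hc1.conj hγo
          have key : perm H v e' = perm H v e ∨ perm H v e' = z * perm H v e * z⁻¹ ∨
              perm H v e' = z * (z * perm H v e * z⁻¹) * z⁻¹ := by
            rcases hpe'.mem_four hcard hA hB hAB hne with h1 | h1 | h1 <;>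
              rcases hpe.mem_four hcard hA hB hAB hne with h2 | h2 | h2 <;>
              rcases hc1.mem_four hcard hA hB hAB hne with h3 | h3 | h3 <;>
              rcases hc2.mem_four hcard hA hB hAB hne with h4 | h4 | h4 <;>
              first
                | exact Or.inl (h1.trans h2.symm)
                | exact Or.inr (Or.inl (h1.trans h3.symm))
                | exact Or.inr (Or.inr (h1.trans h4.symm))
                | exact absurd (h3.trans h2.symm) hne1
                | exact absurd (h4.trans h2.symm) hne2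
                | exact absurd (h4.trans h3.symm) hne3
          have hN : (x : C) ∈ normalizer (T0 H T v : Set C) := hkN
          have hp1 : perm H v e' ≠ 1 := one_ne h5 g.cov hpe'
          have h' := hz e' he' (hp2 hpe')
          rcases key with h1 | h1 | h1
          · exact sq_transfer h h5 g hab (x := 1) (one_mem _) he.2 he'
              (by rw [map_one, one_mul, inv_one, mul_one, h1]) hp1 (hp2 hpe') hee h'
          · exact sq_transfer h h5 g hab hN he.2 he' (by rw [hxp, ← h1]) hp1 (hp2 hpe') hee h'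
          · exact sq_transfer h h5 g hab (x := x * x) (mul_mem hN hN) he.2 he'
              (by rw [map_mul, hxp, h1]; group) hp1 (hp2 hpe') hee h'
      · refine (hz r hr (hp2 hA)).resolve_left fun e0 => hu1 ?_
        have h1 := hall r hr hA e0 s hs hB
        have h2 := hall r hr hA e0 (r * s) hrs hprs
        rw [Subgroup.coe_mul] at h2
        rw [show (r : C) * s * (r * s) = r * (s * r) * s by group, hsr,
          show (r : C) * (r * s * u) * s = r * r * s * (u * s) by group, e0, one_mul, ← (h.cent s).eq, ← mul_assoc,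
          h1, one_mul] at h2
        exact h2
      · refine (hz s hs (hp2 hB)).resolve_left fun e0 => hu1 ?_
        have h1 := hall s hs hB e0 r hr hA
        have h2 := hall s hs hB e0 (r * s) hrs hprs
        rw [Subgroup.coe_mul] at h2
        rw [show (r : C) * s * (r * s) = r * (s * r) * s by group, hsr,
          show (r : C) * (r * s * u) * s = r * r * s * (u * s) by group, h1, one_mul, ← (h.cent s).eq, ← mul_assoc,
          e0, one_mul] at h2
        exact h2
  obtain ⟨q, q', hq, hq', hqq, hq'q, hanti, hqp, hq'p⟩ := hpair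
  rw [← hqp] at hA hAB hne
  rw [← hq'p] at hB hAB hne
  set Q := closure ({(q : C), (q' : C)} : Set C) with hQ
  obtain ⟨hcardQ, hQ1, hQsq, hQanti, huQ⟩ := exists_quat h.two h.cent hqq hq'q hanti
  have hqQ : (q : C) ∈ Q := subset_closure (by simp)
  have hq'Q : (q' : C) ∈ Q := subset_closure (by simp)
  have hQle : Q ≤ (T : Subgroup C) ⊓ st H v := (closure_le _).2 fun x hx => by
    rcases hx with rfl | rfl
    exacts [⟨hq.1, q.2⟩, ⟨hq'.1, q'.2⟩]
  have hQcomm : ∀ x ∈ Q, ∀ t ∈ T0 H T v, Commute x t := fun x hx t ht => by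
    have h1 : Q ≤ centralizer (T0 H T v : Set C) := (closure_le _).2 fun y hy => by
      rcases hy with rfl | rfl
      exacts [hq.2, hq'.2]
    exact (mem_centralizer_iff.1 (h1 hx) t ht).symm
  have hrootQ : ∀ {w : Equiv.Perm ↥(comp H v)}, Five.OneFix w (base H v) →
      ∃ x : ↥(st H v), (x : C) ∈ Q ∧ (x : C) * x = u ∧ perm H v x = w := fun {w} hw => by
    rcases hw.mem_four hcard hA hB hAB hne with e | e | e
    · exact ⟨q, hqQ, hqq, e.symm⟩
    · exact ⟨q', hq'Q, hq'q, e.symm⟩
    · refine ⟨q * q', by rw [Subgroup.coe_mul]; exact mul_mem hqQ hq'Q, ?_, by rw [map_mul, e]⟩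
      rw [Subgroup.coe_mul, show (q : C) * q' * (q * q') = q * (q' * q) * q' by group, hanti,
        show (q : C) * (q * q' * u) * q' = q * q * q' * (u * q') by group, hqq,
        show u * (q' : C) * (u * q') = u * ((q' : C) * u) * q' by group, (h.cent q').eq,
        show u * (u * (q' : C)) * q' = u * u * ((q' : C) * q') by group, h.uu, hq'q, one_mul]
  refine ⟨Q, g.cov, g.vT, g.syl, hQle, hcardQ, hQ1, hQsq, hQanti, huQ, hQcomm, ?_, ?_, ?_⟩
  · rintro x ⟨hxQ, hxT⟩
    rcases hQsq x hxQ with e | e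
    · rcases hQ1 x hxQ e with rfl | rfl
      exacts [one_mem _, mem_zpowers _]
    · exfalso
      obtain ⟨y, hy, -, hyx⟩ := hQanti x hxQ e
      rw [(hQcomm y hy x hxT).eq] at hyx
      exact hu1 (mul_eq_left.1 hyx.symm)
  · intro y hy hy2 hyu
    obtain ⟨x, hxQ, hxx, hxp⟩ := hrootQ (h.oneFix (v := v) (y := ⟨y, hy.2⟩) hy2 hyu (h.le hy.1))
    have hcT : (x : C)⁻¹ * y ∈ T0 H T v :=
      ⟨(T : Subgroup C).mul_mem ((T : Subgroup C).inv_mem (hQle hxQ).1) hy.1, perm_eq_iff.1 hxp⟩
    have hxc := hQcomm x hxQ _ hcT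
    have hcc : (x : C) * ((x : C)⁻¹ * y) * (x * ((x : C)⁻¹ * y)) = u * (((x : C)⁻¹ * y) * ((x : C)⁻¹ * y)) := by
      rw [show (x : C) * ((x : C)⁻¹ * y) * (x * ((x : C)⁻¹ * y)) = x * (((x : C)⁻¹ * y) * x) * ((x : C)⁻¹ * y) by
          group, ← hxc.eq,
        show (x : C) * ((x : C) * ((x : C)⁻¹ * y)) * ((x : C)⁻¹ * y) =
          x * x * (((x : C)⁻¹ * y) * ((x : C)⁻¹ * y)) by group, hxx]
    rw [mul_inv_cancel_left, mul_self_of_orderOf_two hy2] at hcc
    refine ⟨x, hxQ, (x : C)⁻¹ * y, hcT, hxx, ?_, by rw [mul_inv_cancel_left]⟩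
    rw [← inv_eq_of_mul_eq_one_right hcc.symm, inv_of_orderOf_two h.two]
  · intro t ht htt
    obtain ⟨e, he, he5, he1⟩ := exists_five_cycle h h5 g
    have hte : Commute (e : C) t := (mem_centralizer_iff.1 he t ht).symm
    have hmoves : ¬ centralizer ({t} : Set C) ≤ H := fun hle => he1 (by
      by_contra hne1
      obtain ⟨p, hp, hpne⟩ := comp_two_points h5 g.cov
      obtain ⟨n, hn⟩ := Five.transitive_of_five hcard he5 hne1 (base H v) ⟨p, hp⟩
      have h1 : perm H v e (base H v) = base H v := perm_base.2 (hle (mem_centralizer_singleton_iff.2 hte.eq))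
      have h2 : ∀ n : ℕ, (perm H v e ^ n) (base H v) = base H v := fun n => by
        induction n with
        | zero => rfl
        | succ n ih => rw [pow_succ, Equiv.Perm.mul_apply, h1, ih]
      exact hpne (congrArg Subtype.val (hn.symm.trans (h2 n))))
    have hcov : CoverRoot H u t := by
      refine ⟨ker_le v ht.2, htt, hmoves, (q : C) * t, (q' : C) * t, ?_, ?_, ?_, ?_, ?_⟩
      · refine orderOf_two_iff.2 ⟨?_, fun e0 => ?_⟩
        · rw [show (q : C) * t * (q * t) = q * (t * q) * t by group, ← (hQcomm _ hqQ t ht).eq,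
            show (q : C) * (q * t) * t = q * q * (t * t) by group, hqq, htt, h.uu]
        · exact one_ne h5 g.cov hA (perm_eq_one.2 (by rw [mul_eq_one_iff_eq_inv.1 e0]; exact inv_mem ht.2))
      · refine orderOf_two_iff.2 ⟨?_, fun e0 => ?_⟩
        · rw [show (q' : C) * t * (q' * t) = q' * (t * q') * t by group, ← (hQcomm _ hq'Q t ht).eq,
            show (q' : C) * (q' * t) * t = q' * q' * (t * t) by group, hq'q, htt, h.uu]
        · exact one_ne h5 g.cov hB (perm_eq_one.2 (by rw [mul_eq_one_iff_eq_inv.1 e0]; exact inv_mem ht.2))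
      · exact (hQcomm _ hqQ t ht).mul_left (Commute.refl t)
      · exact (hQcomm _ hq'Q t ht).mul_left (Commute.refl t)
      · calc (q' : C) * t * (q * t) = q' * (t * q) * t := by group
          _ = q' * q * (t * t) := by rw [← (hQcomm _ hqQ t ht).eq]; group
          _ = q * q' * (t * t) * u := by
            rw [htt, hanti]
          _ = q * (q' * t) * t * u := by group
          _ = q * (t * q') * t * u := by rw [(hQcomm _ hq'Q t ht).eq]
          _ = q * t * (q' * t) * u := by group
    refine ⟨hcov, (Set.eq_of_subset_of_ncard_le ?_ (by rw [h5 t hcov, h5 v g.cov]) (Set.toFinite _)).symm⟩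
    intro p hp
    obtain ⟨n, hn⟩ := Five.transitive_of_five hcard he5 he1 (base H v) ⟨p, hp⟩
    refine ⟨(e : C) ^ n, hte.pow_left n, ?_⟩
    rw [← map_pow] at hn
    have h1 := congrArg Subtype.val hn
    rw [perm_apply, SubmonoidClass.coe_pow] at h1
    exact (smul_base _).symm.trans h1

end Good

end Comp

end Cfsg.Agent.Invol.Core2
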