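import Cfsg.Agent.Lib.Invol.Core2.Main
import Cfsg.Agent.Lib.Invol.Core2.TwistWiring
import Cfsg.Agent.Lib.Invol.Core2.Closure

/-!
# Two-generated core: fixed points only normalised by the centralisers

When the fixed points in `W` are only normalised by the centralisers and no three involutions exhaust a Sylow
subgroup, the cores `O(C(b))` form a functor on `Ω₁(S)`, whose closure replaces `W`.
-/

set_option autoImplicit false
set_option linter.unusedSectionVars false
set_option linter.style.haveILetI false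

namespace Cfsg.Agent.Invol.Core2

open Subgroup

universe u

variable {G : Type u} [Group G] [Finite G] {M W : Subgroup G}

/-- Fixed points normalised by the centraliser lie in its core. -/
theorem AX.inf_le_core (h : AX M W) {S : Sylow 2 G} (hfix : FixNormal W S) {a : G}
    (ha : a ∈ (S : Subgroup G)) (ha2 : orderOf a = 2) : W ⊓ centralizer ({a} : Set G) ≤ coreC a :=
  Grp.le_centralizerPPrimeCore (fun _ hy => mem_centralizer_singleton_iff.1 hy.2)
    (fun g hg y hy => hfix a ha ha2 g hg y hy)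
    (Nat.coprime_two_right.2 (h.odd.of_dvd_nat (card_dvd_of_le inf_le_left)))

/-- The closure of balanced cores on a connected Sylow subgroup replaces `W`, given the theorem with fixed points
equal to the cores. -/
theorem eq_bot_of_balance_core (hO : Cfsg.oddCore G = ⊥) {S : Sylow 2 G}
    (hbot : ∀ M' W' : Subgroup G, (S : Subgroup G) ≤ M' → AX M' W' →
      (∀ x ∈ (S : Subgroup G), orderOf x = 2 → W' ⊓ centralizer ({x} : Set G) = coreC x) → W' = ⊥)
    (hS : (S : Subgroup G) ≤ M) (h : AX M W) (hfix : FixNormal W S)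
    (hconn : Cfsg.IsFourConnected ↥(S : Subgroup G)) (h3 : ¬ Cfsg.PRankLE 2 2 ↥(S : Subgroup G))
    (hbal : ∀ a ∈ (S : Subgroup G), orderOf a = 2 → ∀ b ∈ (S : Subgroup G), orderOf b = 2 → Commute a b →
      coreC a ⊓ centralizer ({b} : Set G) ≤ coreC b)
    {a b : G} (ha : a ∈ (S : Subgroup G)) (ha2 : orderOf a = 2) (hca : ∀ s ∈ (S : Subgroup G), Commute s a)
    (hb : b ∈ (S : Subgroup G)) (hb2 : orderOf b = 2) (hba : b ≠ a) : W = ⊥ := by
  classical
  haveI : Fact (Nat.Prime 2) := ⟨Nat.prime_two⟩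
  by_contra hW
  set P := (S : Subgroup G) with hP
  have hk : ∀ t : ↥P, orderOf t = 2 → ∃ V : Subgroup ↥P, IsKleinFour V ∧ t ∈ V := fun t ht =>
    CoreConsumers.exists_klein_mem S.isPGroup' h3 ht
  have hel : ∀ {x : G}, orderOf x = 2 → Cfsg.IsElementaryAbelian 2 (zpowers x) := fun {x} hx =>
    ConstrainedCores.elemAb_zpowers (orderOf_eq_prime_iff.1 hx).1
  have hab : Commute a b := (hca b hb).symm
  have hfun : EightFunctor P (fun x => coreC x) :=
    ⟨fun g x _ => CoreConsumers.map_conj_core_le x g, fun E hEP hE _ => ⟨⟨fun x _ _ y hy =>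
      mem_centralizer_singleton_iff.2 (Grp.centralizerPPrimeCore_commute hy), fun x _ _ =>
      Nat.two_dvd_ne_zero.2 (Nat.odd_iff.1 (coreC_odd x)), fun x hx _ y hy z hz =>
      Grp.centralizerPPrimeCore_conj (Grp.elemAb_comm hE y hy x hx) hz, fun x hx hx1 y hy hy1 =>
      hbal x (hEP hx) (orderOf_eq_prime (hE.2 x hx) hx1) y (hEP hy) (orderOf_eq_prime (hE.2 y hy) hy1)
        (Grp.elemAb_comm hE x hx y hy)⟩,
      fun x _ _ => Cfsg.Agent.S0205.result (coreC_odd x)⟩⟩
  obtain ⟨W', hodd', hW'fix, hmove⟩ := hfun.exists_closure hconn h3 hk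
  -- the old `W` lies in the new one
  have hWle : W ≤ W' := by
    set A := closure ({a, b} : Set G) with hA
    haveI : IsMulCommutative A := isMulCommutative_closure (by
      rintro x (rfl | rfl) y (rfl | rfl)
      exacts [rfl, hab.eq, hab.eq.symm, rfl])
    have hAP : A ≤ P := (closure_le _).2 (by rintro x (rfl | rfl) <;> assumption)
    have hA2 : orderOf (a * b) = 2 ^ 1 := by
      rw [pow_one]
      refine orderOf_two_iff.2 ⟨?_, mul_ne_one_of_ne ha2 hba.symm⟩
      calc a * b * (a * b) = a * (b * a) * b := by group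
        _ = a * a * (b * b) := by rw [← hab.eq]; group
        _ = 1 := by rw [mul_self_of_orderOf_two ha2, mul_self_of_orderOf_two hb2, one_mul]
    have hsub : A ≤ zpowers a ⊔ zpowers b := (closure_le _).2 (by
      rintro x (rfl | rfl)
      exacts [mem_sup_left (mem_zpowers _), mem_sup_right (mem_zpowers _)])
    have hAe := Grp.elemAb_mono (ConstrainedCores.elemAb_sup (hel ha2) (hel hb2) (fun p hp q hq => by
      obtain ⟨i, rfl⟩ := mem_zpowers_iff.1 hp
      obtain ⟨j, rfl⟩ := mem_zpowers_iff.1 hq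
      exact hab.zpow_zpow i j)) hsub
    have hncyc : ¬ IsCyclic A := fun hcy => hba.symm (by
      haveI := hcy
      exact congrArg Subtype.val (involution_unique_of_isCyclic
        (x := (⟨a, subset_closure (Or.inl rfl)⟩ : A)) (y := (⟨b, subset_closure (Or.inr rfl)⟩ : A))
        (by rw [Subgroup.orderOf_mk, ha2]) (by rw [Subgroup.orderOf_mk, hb2])))
    have hcop : (Nat.card A).Coprime (Nat.card W) := by
      obtain ⟨k, hk'⟩ := (isPGroup_closure_pair ha2 hb2 hA2).exists_card_eq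
      rw [hk']; exact (Nat.coprime_two_left.2 h.odd).pow_left k
    rw [← Grp.generated_by_centralizers A W hncyc ((hAP.trans hS).trans h.norm) hcop]
    refine iSup₂_le fun z hz x hx => ?_
    have hz2 : orderOf z = 2 := orderOf_eq_prime (hAe.2 z hz.1) hz.2
    exact (hW'fix z (hAP hz.1) hz2).1 (h.inf_le_core hfix (hAP hz.1) hz2 hx)
  have hW' : W' ≠ ⊥ := fun e => hW (le_bot_iff.1 (e ▸ hWle))
  have hPn : P ≤ normalizer (W' : Set G) := fun s hs =>
    hmove s a b ha hb ha2 hb2 hba.symm hab (mul_mem (mul_mem hs ha) (inv_mem hs))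
      (mul_mem (mul_mem hs hb) (inv_mem hs))
  have hax : AX (normalizer (W' : Set G)) W' := by
    refine ⟨fun e => ?_, hodd', le_normalizer, le_rfl, ?_, ?_⟩
    · haveI : W'.Normal := normalizer_eq_top_iff.1 e
      exact hW' (le_bot_iff.1 (hO ▸ Grp.le_pPrimeCore inferInstance (Nat.coprime_two_right.2 hodd')))
    · intro x y g hx2 hy2 hne hxy hxK hyK hgx hgy
      obtain ⟨k, hk', hkx, hky⟩ := exists_conj_pair S hPn hxK hyK hx2 hy2 hne hxy
      obtain ⟨l, hl, hlx, hly⟩ := exists_conj_pair S hPn hgx hgy (by rwa [orderOf_conj_eq])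
        (by rwa [orderOf_conj_eq]) (fun e => hne (by simpa using e))
        ((show Commute x y from hxy).map (MulAut.conj g).toMonoidHom)
      have h1 := hmove (l * g * k⁻¹) (k * x * k⁻¹) (k * y * k⁻¹) hkx hky (by rwa [orderOf_conj_eq])
        (by rwa [orderOf_conj_eq]) (fun e => hne (by simpa using e))
        ((show Commute x y from hxy).map (MulAut.conj k).toMonoidHom)
        (by rw [show l * g * k⁻¹ * (k * x * k⁻¹) * (l * g * k⁻¹)⁻¹ = l * (g * x * g⁻¹) * l⁻¹ by group]; exact hlx)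
        (by rw [show l * g * k⁻¹ * (k * y * k⁻¹) * (l * g * k⁻¹)⁻¹ = l * (g * y * g⁻¹) * l⁻¹ by group]; exact hly)
      have h2 := mul_mem (mul_mem (inv_mem hl) h1) hk'
      rwa [show l⁻¹ * (l * g * k⁻¹) * k = g by group] at h2
    · intro x hx hx2
      obtain ⟨z, hz, hz2, hne, hxz⟩ := exists_partner S hPn ha ha2 hca hb hb2 hba hx hx2
      exact ⟨z, hz, hz2, hne, hxz.eq⟩
  exact hW' (hbot _ W' hPn hax fun x hx hx2 => (hW'fix x hx hx2).2)

/-- The closure of balanced cores on a connected Sylow subgroup replaces `W`. -/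
theorem eq_bot_of_balance (hI : SplitInput.{u}) (hII : TwistInput.{u}) (hO : Cfsg.oddCore G = ⊥) {S : Sylow 2 G}
    (hS : (S : Subgroup G) ≤ M) (h : AX M W) (hfix : FixNormal W S)
    (hconn : Cfsg.IsFourConnected ↥(S : Subgroup G)) (h3 : ¬ Cfsg.PRankLE 2 2 ↥(S : Subgroup G))
    (hbal : ∀ a ∈ (S : Subgroup G), orderOf a = 2 → ∀ b ∈ (S : Subgroup G), orderOf b = 2 → Commute a b →
      coreC a ⊓ centralizer ({b} : Set G) ≤ coreC b)
    {a b : G} (ha : a ∈ (S : Subgroup G)) (ha2 : orderOf a = 2) (hca : ∀ s ∈ (S : Subgroup G), Commute s a)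
    (hb : b ∈ (S : Subgroup G)) (hb2 : orderOf b = 2) (hba : b ≠ a) : W = ⊥ :=
  eq_bot_of_balance_core hO (fun _ _ hS' h' hfix' => eq_bot_of_inputs hI hII hO S hS' h' hfix') hS h hfix hconn h3
    hbal ha ha2 hca hb hb2 hba


/-- The theorem with normalised fixed points over a connected Sylow subgroup of rank at least three. -/
theorem eq_bot_of_normal (hI : SplitInput.{u}) (hII : TwistInput.{u}) (hL : TwistLocal.{u})
    (hO : Cfsg.oddCore G = ⊥) (S : Sylow 2 G) (hS₀ : (S : Subgroup G) ≤ M) (h₀ : AX M W) (hfix : FixNormal W S)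
    (hconn : Cfsg.IsFourConnected ↥(S : Subgroup G)) (h3 : ¬ Cfsg.PRankLE 2 2 ↥(S : Subgroup G))
    (hmore : ∀ u ∈ (S : Subgroup G), ∀ f ∈ (S : Subgroup G), orderOf u = 2 → orderOf f = 2 →
      ∃ y ∈ (S : Subgroup G), orderOf y = 2 ∧ y ≠ u ∧ y ≠ f ∧ y ≠ f * u) : W = ⊥ := by
  classical
  haveI : Fact (Nat.Prime 2) := ⟨Nat.prime_two⟩
  by_contra hW
  have h := h₀.normalizer_ax hO S hS₀ hW
  have hS := hS₀.trans h₀.norm
  have h8 : HasEight S := by
    obtain ⟨E, hE, hE2, hEc⟩ : ∃ E : Subgroup ↥(S : Subgroup G), IsMulCommutative E ∧ (∀ x ∈ E, x ^ 2 = 1) ∧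
        2 ^ 2 < Nat.card E := by
      simpa [Cfsg.PRankLE] using h3
    have hel := CoreConsumers.elemAb_map (S : Subgroup G).subtype (E := E) ⟨hE, hE2⟩
    obtain ⟨k, hk⟩ := IsPGroup.iff_card.1 (Grp.elemAb_isPGroup (p := 2) hel)
    have h8le : 2 ^ 3 ≤ Nat.card ↥(E.map (S : Subgroup G).subtype) := by
      rw [card_map_of_injective (Subgroup.subtype_injective _)] at hk ⊢
      rw [hk] at hEc ⊢
      exact Nat.pow_le_pow_right two_pos ((Nat.pow_lt_pow_iff_right one_lt_two).1 hEc)
    obtain ⟨A, hA, -, hA8⟩ := Transfer.SFT.exists_rank_three hel h8le (one_mem _)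
    exact ⟨A, hA.trans (map_subtype_le _), Grp.elemAb_mono hel hA, by rw [hA8]; norm_num⟩
  obtain ⟨hdata, third⟩ := AX.central_data hI hO hS h hW hfix
    (fun u hu hu2 hcu huniq hbad => by
      obtain ⟨hone, -, hloc⟩ := hL G hO (ihyp_all hI hII _) _ W S hS h le_rfl hW hfix h8 u hu hu2 hcu huniq hbad
      obtain ⟨b, hb, hb2, hbu, -, -⟩ := hmore u hu u hu hu2 hu2
      exact hW (eq_bot_of_balance hI hII hO hS h hfix hconn h3
        (fun x hx hx2 y hy hy2 hxy => balance_of_local h hS hu hu2 hone hloc hx hx2 hy hy2 hxy)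
        hu hu2 hcu hb hb2 hbu))
    fun u f hu hu2 hf hf2 h3 => by
      obtain ⟨y, hy, hy2, h1, h2, h3'⟩ := hmore u hu f hf hu2 hf2
      rcases h3 y hy hy2 with e | e | e
      exacts [absurd e h1, absurd e h2, absurd e h3']
  obtain ⟨a, ha, ha2⟩ : ∃ a ∈ (S : Subgroup G), orderOf a = 2 := by
    obtain ⟨A, hA, hA2, hA8⟩ := h8
    obtain ⟨x, hx, hx1⟩ : ∃ x ∈ A, x ∉ (⊥ : Subgroup G) := SetLike.not_le_iff_exists.1 fun hle => by
      have := card_le_of_le hle
      rw [hA8, Subgroup.card_bot] at this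
      omega
    exact ⟨x, hA hx, orderOf_eq_prime (hA2.2 x hx) fun e => hx1 (mem_bot.2 e)⟩
  exact hW (eq_bot_of_balance hI hII hO hS h hfix hconn h3 (fun x hx hx2 y hy hy2 hxy => by
    by_cases e : x = y
    · subst e; exact inf_le_left
    exact CentralData.le_core h hdata hy hy2 hx hx2 e
      ((coreC_odd x).of_dvd_nat (card_dvd_of_le inf_le_left)) (fun z hz => mem_centralizer_singleton_iff.1 hz.2)
      (fun z hz => Grp.centralizerPPrimeCore_commute hz.1)
      (fun g hgy hgx z hz => ⟨Grp.centralizerPPrimeCore_conj hgx.eq hz.1, mem_centralizer_singleton_iff.2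
        ((hgy.mul_left (mem_centralizer_singleton_iff.1 hz.2)).mul_left hgy.inv_left).eq⟩))
    ha ha2 (hdata.cen a ha ha2) (hmore a ha a ha ha2 ha2).choose_spec.1
    (hmore a ha a ha ha2 ha2).choose_spec.2.1 (hmore a ha a ha ha2 ha2).choose_spec.2.2.1)

end Cfsg.Agent.Invol.Core2
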