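import Cfsg.Agent.Lib.Invol.Core2.TwistWiring
import Cfsg.Agent.Lib.Invol.Core2.Weak
import Cfsg.Agent.Lib.Invol.NormalFour

/-!
# Two-generated core, one central involution: reduction to one local fact

Suppose the fixed points in `W` are normalised by the centralisers and the core at the central involution `u` lies
in `W`. The chain argument needs only this: for some involution `y` of `M` commuting with `u` and moved by `M` to `u`,
an odd subgroup of `C(u) ∩ M` normalised by `C(u, y)` whose fixed points under `y` lie in `O(C(u))` lies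
in `O(C(u))`.
-/

set_option autoImplicit false
set_option linter.unusedSectionVars false
set_option linter.style.haveILetI false

namespace Cfsg.Agent.Invol.Core2

open Subgroup

universe v

/-- The induction hypothesis with the weaker invariant. -/
def IHypC (n : ℕ) : Prop :=
  ∀ (K : Type v) [Group K] [Finite K], Nat.card K < n → Cfsg.oddCore K = ⊥ →
    ∀ (M W : Subgroup K) (S : Sylow 2 K), (S : Subgroup K) ≤ M → HasEight S → AX M W → FixNormal W S →
      (∀ a ∈ (S : Subgroup K), orderOf a = 2 → (∀ s ∈ (S : Subgroup K), Commute s a) → coreC a ≤ W) → W = ⊥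

variable {G : Type v} [Group G] [Finite G] {M W : Subgroup G} {S : Sylow 2 G} {u : G}

/-- The local fact at `y`. -/
def LocOn (M : Subgroup G) (u y : G) : Prop :=
  ∀ D : Subgroup G, Odd (Nat.card D) → D ≤ centralizer ({u} : Set G) → D ≤ M →
    (∀ g : G, Commute g u → Commute g y → ∀ d ∈ D, g * d * g⁻¹ ∈ D) →
    (∀ d ∈ D, Commute d y → d ∈ coreC u) → D ≤ coreC u

/-- The local fact holds at some involution moved by `M` to `u`. -/
def LocSome (M : Subgroup G) (u : G) : Prop :=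
  ∃ y ∈ M, orderOf y = 2 ∧ Commute y u ∧ y ≠ u ∧ (∃ m ∈ M, m * y * m⁻¹ = u) ∧ LocOn M u y

/-- The twisted case with the weak invariant. -/
structure TwistCore (M W : Subgroup G) (S : Sylow 2 G) (u : G) : Prop where
  ax : AX M W
  le : (S : Subgroup G) ≤ M
  maxM : normalizer (W : Set G) ≤ M
  mem : u ∈ (S : Subgroup G)
  two_u : orderOf u = 2
  cent : ∀ s ∈ (S : Subgroup G), Commute s u
  uniq : ∀ a ∈ (S : Subgroup G), orderOf a = 2 → (∀ s ∈ (S : Subgroup G), Commute s a) → a = u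
  bad : ∃ c : G, Commute c u ∧ c ∉ M
  fixN : FixNormal W S
  core_le : coreC u ≤ W
  eight : HasEight S
  loc : LocSome M u

/-- An involution moved only to its product with the central involution. -/
theorem exists_normal_second_core (S : Sylow 2 G) (h8 : HasEight S) {u : G} (hu : u ∈ (S : Subgroup G))
    (hu2 : orderOf u = 2)
    (hcent : ∀ s ∈ (S : Subgroup G), Commute s u)
    (huniq : ∀ a ∈ (S : Subgroup G), orderOf a = 2 → (∀ s ∈ (S : Subgroup G), Commute s a) → a = u) :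
    ∃ f ∈ (S : Subgroup G), orderOf f = 2 ∧ f ≠ u ∧
      ∀ s ∈ (S : Subgroup G), s * f * s⁻¹ = f ∨ s * f * s⁻¹ = f * u := by
  classical
  haveI : Fact (Nat.Prime 2) := ⟨Nat.prime_two⟩
  obtain ⟨F, hFS, hF, hF8⟩ := h8
  set P := (S : Subgroup G) with hP
  obtain ⟨V, hVn, hV4, hV2⟩ := NormalFour.exists_normal_four (R := ↥P) S.isPGroup' (F.subgroupOf P)
    (by rw [Nat.card_congr (subgroupOfEquivOfLe hFS).toEquiv, hF8]) fun e he => Subtype.ext (hF.2 _ he)
  -- `u` lies in `V`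
  have huV : (⟨u, hu⟩ : ↥P) ∈ V := by
    haveI : Nontrivial V := Finite.one_lt_card_iff_nontrivial.1 (by omega)
    obtain ⟨z, hz, hz1, hzc⟩ : ∃ z ∈ V, z ≠ 1 ∧ ∀ x : ↥P, Commute x z := by
      haveI : Group.IsNilpotent ↥P := S.isPGroup'.isNilpotent
      have hne : V ⊓ center ↥P ≠ ⊥ := Grp.inf_center_ne_bot V ((Subgroup.nontrivial_iff_ne_bot V).1 inferInstance)
      obtain ⟨⟨z, hz⟩, hz1⟩ := ne_bot_iff_exists_ne_one.1 hne
      exact ⟨z, hz.1, fun e => hz1 (Subtype.ext e), fun x => mem_center_iff.1 hz.2 x⟩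
    have hz2 : orderOf (z : G) = 2 := by
      rw [Subgroup.orderOf_coe]
      exact orderOf_eq_prime (hV2 z hz) hz1
    have hzu : (z : G) = u := huniq z z.2 hz2 fun s hs => congrArg Subtype.val (hzc ⟨s, hs⟩).eq
    rwa [show (⟨u, hu⟩ : ↥P) = z from Subtype.ext hzu.symm]
  obtain ⟨f, hf, hfu⟩ : ∃ f ∈ V, f ∉ zpowers (⟨u, hu⟩ : ↥P) := SetLike.not_le_iff_exists.1 fun hle => by
    have := card_le_of_le hle
    rw [hV4, Nat.card_zpowers, Subgroup.orderOf_mk, hu2] at this
    omega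
  have hf1 : f ≠ 1 := fun e => hfu (e ▸ one_mem _)
  have hf2 : orderOf (f : G) = 2 := by rw [Subgroup.orderOf_coe]; exact orderOf_eq_prime (hV2 f hf) hf1
  have hfne : (f : G) ≠ u := fun e => hfu (by
    rw [show f = ⟨u, hu⟩ from Subtype.ext e]; exact mem_zpowers _)
  refine ⟨f, f.2, hf2, hfne, fun s hs => ?_⟩
  haveI : Fintype V := Fintype.ofFinite V
  have hall : ∀ x ∈ V, (x : G) = 1 ∨ (x : G) = u ∨ (x : G) = f ∨ (x : G) = f * u := fun x hx => by
    by_contra hcon
    push Not at hcon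
    have hfuV : f * ⟨u, hu⟩ ∈ V := mul_mem hf huV
    let T : Finset G := {1, u, (f : G), (f : G) * u, (x : G)}
    have hT : T.card = 5 := by
      have e1 := ne_one_of_orderOf_two hu2
      have e2 := ne_one_of_orderOf_two hf2
      have e3 : (f : G) * u ≠ 1 := mul_ne_one_of_ne hf2 hfne
      have e4 : (f : G) * u ≠ u := fun e => e2 (mul_eq_right.1 e)
      have e5 : (f : G) * u ≠ f := fun e => e1 (mul_eq_left.1 e)
      simp [T, Finset.card_insert_of_notMem, e1.symm, e2.symm, e3.symm, e4.symm, e5.symm, hfne.symm,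
        hcon.1.symm, hcon.2.1.symm, hcon.2.2.1.symm, hcon.2.2.2.symm]
    have hsub : T ⊆ Finset.univ.image fun w : V => ((w : ↥P) : G) := fun w hw => by
      simp only [T, Finset.mem_insert, Finset.mem_singleton] at hw
      rw [Finset.mem_image]
      rcases hw with rfl | rfl | rfl | rfl | rfl
      exacts [⟨1, Finset.mem_univ _, rfl⟩, ⟨⟨_, huV⟩, Finset.mem_univ _, rfl⟩, ⟨⟨_, hf⟩, Finset.mem_univ _, rfl⟩,
        ⟨⟨_, hfuV⟩, Finset.mem_univ _, rfl⟩, ⟨⟨_, hx⟩, Finset.mem_univ _, rfl⟩]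
    have h5 := (Finset.card_le_card hsub).trans Finset.card_image_le
    rw [hT, Finset.card_univ, ← Nat.card_eq_fintype_card, hV4] at h5
    omega
  have h2 : orderOf (s * (f : G) * s⁻¹) = 2 := by rw [orderOf_conj_eq, hf2]
  rcases hall _ (hVn.conj_mem f hf ⟨s, hs⟩) with e | e | e | e
  · exact absurd e (ne_one_of_orderOf_two h2)
  · refine absurd ?_ hfne
    have e' : s * (f : G) * s⁻¹ = u := e
    calc (f : G) = s⁻¹ * (s * (f : G) * s⁻¹) * s := by group
      _ = u := by rw [e', ← (hcent s⁻¹ (inv_mem hs)).symm.eq, inv_mul_cancel_right]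
  · exact Or.inl e
  · exact Or.inr e

/-- An odd subgroup normalised by `S` lies in `M` when `S` has an elementary subgroup of order eight. -/
theorem AX.le_M_of_eight (h : AX M W) (hS : (S : Subgroup G) ≤ M) (h8 : HasEight S) {R : Subgroup G}
    (hRo : Odd (Nat.card R)) (hsR : ∀ s ∈ (S : Subgroup G), s ∈ normalizer (R : Set G)) : R ≤ M := by
  classical
  haveI : Fact (Nat.Prime 2) := ⟨Nat.prime_two⟩
  obtain ⟨F, hFS, hF, hF8⟩ := h8
  have hF2 : ∀ x ∈ F, x ≠ 1 → orderOf x = 2 := fun x hx hx1 => orderOf_eq_prime (hF.2 x hx) hx1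
  have hFc : ∀ x ∈ F, ∀ z ∈ F, Commute x z := fun x hx z hz => Grp.elemAb_comm hF x hx z hz
  have havoid : ∀ T : Finset G, T.card < 8 → ∃ x ∈ F, x ∉ T := fun T hT => by
    haveI : Fintype F := Fintype.ofFinite F
    by_contra hcon
    push Not at hcon
    have h1 : (Finset.univ.image fun x : F => (x : G)).card ≤ T.card := Finset.card_le_card fun z hz => by
      obtain ⟨x, -, rfl⟩ := Finset.mem_image.1 hz
      exact hcon x x.2
    rw [Finset.card_image_of_injective _ Subtype.val_injective, Finset.card_univ, ← Nat.card_eq_fintype_card,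
      hF8] at h1
    omega
  have hin : ∀ a ∈ F, a ≠ 1 → R ⊓ centralizer ({a} : Set G) ≤ M := by
    intro a ha ha1
    obtain ⟨b, hb, hb'⟩ := havoid {1, a} (Finset.card_le_two.trans_lt (by norm_num))
    simp only [Finset.mem_insert, Finset.mem_singleton, not_or] at hb'
    obtain ⟨e, he, he'⟩ := havoid {1, a, b, b * a}
      (Finset.card_le_four.trans_lt (by norm_num))
    simp only [Finset.mem_insert, Finset.mem_singleton, not_or] at he'
    have key : ∀ z ∈ F, z ≠ 1 → z ≠ a →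
        R ⊓ centralizer ({a} : Set G) ⊓ centralizer ({z} : Set G) ≤ M := fun z hz hz1 hza x hx => by
      refine h.move a z x (hF2 a ha ha1) (hF2 z hz hz1) (Ne.symm hza) (hFc a ha z hz).eq (hS (hFS ha))
        (hS (hFS hz)) ?_ ?_
      · rw [mem_centralizer_singleton_iff.1 hx.1.2, mul_inv_cancel_right]; exact hS (hFS ha)
      · rw [mem_centralizer_singleton_iff.1 hx.2, mul_inv_cancel_right]; exact hS (hFS hz)
    have hn : ∀ z ∈ F, z ∈ normalizer ((R ⊓ centralizer ({a} : Set G) : Subgroup G) : Set G) := fun z hz =>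
      mem_normalizer_fintype fun x hx => ⟨(mem_normalizer_iff.1 (hsR z (hFS hz)) x).1 hx.1, mem_centralizer_singleton_iff.2
        (((hFc z hz a ha).mul_left (mem_centralizer_singleton_iff.1 hx.2)).mul_left (hFc z hz a ha).inv_left).eq⟩
    have heb : e * b ≠ 1 := fun h0 => he'.2.2.1 (by
      rw [mul_eq_one_iff_eq_inv.1 h0, inv_of_orderOf_two (hF2 b hb hb'.1)])
    refine le_of_four (hRo.of_dvd_nat (card_dvd_of_le inf_le_left)) (hF2 b hb hb'.1) (hF2 e he he'.1)
      he'.2.2.1 (hFc e he b hb) (hn b hb) (hn e he) (key b hb hb'.1 hb'.2) (key e he he'.1 he'.2.1)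
      (key _ (mul_mem he hb) heb fun h0 => he'.2.2.2 ?_)
    rw [← h0, (hFc b hb (e * b) (mul_mem he hb)).eq, mul_assoc, mul_self_of_orderOf_two (hF2 b hb hb'.1), mul_one]
  obtain ⟨a, ha, ha'⟩ := havoid {1} (by rw [Finset.card_singleton]; norm_num)
  simp only [Finset.mem_singleton] at ha'
  obtain ⟨b, hb, hb'⟩ := havoid {1, a} (Finset.card_le_two.trans_lt (by norm_num))
  simp only [Finset.mem_insert, Finset.mem_singleton, not_or] at hb'
  exact le_of_four hRo (hF2 a ha ha') (hF2 b hb hb'.1) hb'.2 (hFc b hb a ha) (hsR a (hFS ha)) (hsR b (hFS hb))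
    (hin a ha ha') (hin b hb hb'.1) (hin _ (mul_mem hb ha)
      fun h0 => hb'.2 (by rw [mul_eq_one_iff_eq_inv.1 h0, inv_of_orderOf_two (hF2 a ha ha')]))

/-- The core at a central involution lies in `M`. -/
theorem AX.coreC_le_M (h : AX M W) (hS : (S : Subgroup G) ≤ M) (h8 : HasEight S)
    (hcu : ∀ s ∈ (S : Subgroup G), Commute s u) : coreC u ≤ M :=
  h.le_M_of_eight hS h8 (coreC_odd u) fun s hs => mem_normalizer_fintype fun _ hx =>
    Grp.centralizerPPrimeCore_conj (hcu s hs).eq hx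

namespace TwistCore

theorem inf_le_core (c : TwistCore M W S u) {a : G} (ha : a ∈ (S : Subgroup G)) (ha2 : orderOf a = 2) :
    W ⊓ centralizer ({a} : Set G) ≤ coreC a := c.ax.inf_le_core c.fixN ha ha2

/-- The central involution is fused in `M` to a commuting pair, by elements returning to the local involution. -/
theorem fused_loc (c : TwistCore M W S u) :
    ∃ y ∈ (S : Subgroup G), orderOf y = 2 ∧ y ≠ u ∧
      (∃ m ∈ M, m * u * m⁻¹ = y ∧ LocOn M u (m⁻¹ * u * m)) ∧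
      ∃ m ∈ M, m * u * m⁻¹ = y * u ∧ LocOn M u (m⁻¹ * u * m) := by
  classical
  haveI : Fact (Nat.Prime 2) := ⟨Nat.prime_two⟩
  obtain ⟨y₀, hy₀M, hy₀2, hy₀u, hy₀ne, ⟨m, hm, hmy⟩, hloc⟩ := c.loc
  set H := M ⊓ centralizer ({u} : Set G) with hH
  obtain ⟨y₁, hy₁⟩ : ∃ y₁, y₁ = m * u * m⁻¹ := ⟨_, rfl⟩
  have hy₁u : Commute y₁ u := by
    have := hy₀u.map (MulAut.conj m).toMonoidHom
    simp only [MulEquiv.coe_toMonoidHom, MulAut.conj_apply] at this
    rw [hmy, ← hy₁] at this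
    exact this.symm
  have hSH : (S : Subgroup G) ≤ H := le_inf c.le fun x hx => mem_centralizer_singleton_iff.2 (c.cent x hx).eq
  have hy₁M : y₁ ∈ M := hy₁ ▸ M.mul_mem (M.mul_mem hm (c.le c.mem)) (M.inv_mem hm)
  obtain ⟨k, hk⟩ := exists_conj_mem_sylow
    (x := (⟨y₁, hy₁M, mem_centralizer_singleton_iff.2 hy₁u.eq⟩ : ↥H))
    (p := 2) (n := 1) (by rw [← Subgroup.orderOf_coe, pow_one]; show orderOf y₁ = 2; rw [hy₁, orderOf_conj_eq, c.two_u]) (S.subtype hSH)
  have hku : Commute (k : G) u := mem_centralizer_singleton_iff.1 k.2.2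
  obtain ⟨y, hy⟩ : ∃ y, y = (k : G) * y₁ * (k : G)⁻¹ := ⟨_, rfl⟩
  have hyS : y ∈ (S : Subgroup G) := hy ▸ hk
  have hy2 : orderOf y = 2 := by rw [hy, hy₁, orderOf_conj_eq, orderOf_conj_eq, c.two_u]
  have hyu : y ≠ u := fun e => hy₀ne (by
    have h1 : y₁ = u := by
      calc y₁ = (k : G)⁻¹ * y * k := by rw [hy]; group
        _ = u := by rw [e, mul_assoc, ← hku.eq, inv_mul_cancel_left]
    calc y₀ = m⁻¹ * (m * y₀ * m⁻¹) * m := by group
      _ = m⁻¹ * (m * u * m⁻¹) * m := by rw [hmy, ← hy₁, h1]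
      _ = u := by group)
  have hback : ∀ l : G, Commute l u → (l * m)⁻¹ * u * (l * m) = y₀ := fun l hl => by
    calc (l * m)⁻¹ * u * (l * m) = m⁻¹ * (l⁻¹ * (u * l)) * m := by group
      _ = m⁻¹ * (m * y₀ * m⁻¹) * m := by rw [← hl.eq, inv_mul_cancel_left, hmy]
      _ = y₀ := by group
  -- conjugate to the product with `u`
  obtain ⟨f, hf, hf2, hfu, hmove⟩ := exists_normal_second_core S c.eight c.mem c.two_u c.cent c.uniq
  obtain ⟨s, hs, hsf⟩ : ∃ s ∈ (S : Subgroup G), ¬ Commute s f := by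
    by_contra hcon
    push Not at hcon
    exact hfu (c.uniq f hf hf2 hcon)
  have hsfu : s * f * s⁻¹ = f * u := (hmove s hs).resolve_left fun e => hsf (mul_inv_eq_iff_eq_mul.1 e)
  obtain ⟨e, heu, he⟩ := c.ax.conj_mul c.two_u (c.le c.mem)
    (fun hle => by obtain ⟨x, hx, hxM⟩ := c.bad; exact hxM (hle (mem_centralizer_singleton_iff.2 hx.eq)))
    hf2 (c.le hf) hfu (c.cent f hf).eq ⟨s, (c.cent s hs).eq, hsfu⟩ hy2 (c.le hyS) hyu (c.cent y hyS).eq
  have heM : e ∈ M := c.ax.bad_fix c.two_u (c.le c.mem) hy2 (c.le hyS) hyu (c.cent y hyS).eq heu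
    (by rw [he]; exact mul_mem (c.le hyS) (c.le c.mem))
  refine ⟨y, hyS, hy2, hyu, ⟨(k : G) * m, mul_mem k.2.1 hm, by rw [hy, hy₁]; group, ?_⟩,
    e * k * m, mul_mem (mul_mem heM k.2.1) hm, by rw [← he, hy, hy₁]; group, ?_⟩
  · rw [hback _ hku]; exact hloc
  · rw [hback _ ((show Commute e u from heu).mul_left hku)]; exact hloc

theorem fused (c : TwistCore M W S u) : ∃ y ∈ (S : Subgroup G), orderOf y = 2 ∧ y ≠ u ∧
    (∃ m ∈ M, m * u * m⁻¹ = y) ∧ ∃ m ∈ M, m * u * m⁻¹ = y * u := by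
  obtain ⟨y, hy, hy2, hyu, ⟨m, hm, e, -⟩, ⟨n, hn, e', -⟩⟩ := c.fused_loc
  exact ⟨y, hy, hy2, hyu, ⟨m, hm, e⟩, n, hn, e'⟩

/-- Each involution of `S` has a partner in `S`. -/
theorem exists_partner_mem (c : TwistCore M W S u) {a : G} (ha : a ∈ (S : Subgroup G)) :
    ∃ s ∈ (S : Subgroup G), orderOf s = 2 ∧ s ≠ a ∧ Commute s a := by
  by_cases e : a = u
  · obtain ⟨y, hy, hy2, hyu, -⟩ := c.fused
    exact ⟨y, hy, hy2, e ▸ hyu, e ▸ c.cent y hy⟩
  · exact ⟨u, c.mem, c.two_u, fun e' => e e'.symm, (c.cent a ha).symm⟩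

/-- No central involution inverts a nontrivial `O_p(W)`. -/
theorem exists_fixed (c : TwistCore M W S u) {P : Subgroup G} (hPo : Odd (Nat.card P)) (hP : P ≠ ⊥)
    (hPM : ∀ m ∈ M, ∀ x ∈ P, m * x * m⁻¹ ∈ P) : ∃ x ∈ P, x ≠ 1 ∧ Commute x u := by
  classical
  obtain ⟨y, hy, hy2, hyu, hm1, hm2⟩ := c.fused
  have hyu' := c.cent y hy
  have hnormP : ∀ s ∈ (S : Subgroup G), s ∈ normalizer (P : Set G) := fun s hs =>
    mem_normalizer_fintype (hPM s (c.le hs))
  by_contra hfix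
  push Not at hfix
  have hbot : ∀ a, (∃ m ∈ M, m * u * m⁻¹ = a) → P ⊓ centralizer ({a} : Set G) ≤ ⊥ := by
    rintro a ⟨m, hm, rfl⟩ x hx
    refine mem_bot.2 (by_contra fun hx1 => hfix (m⁻¹ * x * m) ?_ ?_ ?_)
    · simpa using hPM m⁻¹ (inv_mem hm) x hx.1
    · intro e
      refine hx1 ?_
      calc x = m * (m⁻¹ * x * m) * m⁻¹ := by group
        _ = 1 := by rw [e, mul_one, mul_inv_cancel]
    · have := (show Commute x (m * u * m⁻¹) from mem_centralizer_singleton_iff.1 hx.2).map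
        (MulAut.conj m⁻¹).toMonoidHom
      simpa [mul_assoc] using this
  exact hP (le_bot_iff.1 (le_of_four hPo c.two_u hy2 hyu hyu' (hnormP u c.mem) (hnormP y hy)
    (hbot u ⟨1, one_mem _, by group⟩) (hbot y hm1) (hbot _ hm2)))

theorem eq_bot_of_core (c : TwistCore M W S u) (e : coreC u = ⊥) : W = ⊥ := by
  classical
  by_contra hW
  obtain ⟨x, hx, hx1, hxu⟩ := c.exists_fixed c.ax.odd hW fun m hm x hx =>
    (mem_normalizer_iff.1 (c.ax.norm hm) x).1 hx
  have h1 : x ∈ coreC u := c.inf_le_core c.mem c.two_u ⟨hx, mem_centralizer_singleton_iff.2 hxu.eq⟩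
  rw [e, mem_bot] at h1
  exact hx1 h1

/-- An odd subgroup normalised by `C(u)` lies in `W`. -/
theorem le_W_of_normalised (c : TwistCore M W S u) {R : Subgroup G} (hRo : Odd (Nat.card R))
    (hRn : ∀ g : G, Commute g u → ∀ y ∈ R, g * y * g⁻¹ ∈ R) : R ≤ W := by
  classical
  haveI : Fact (Nat.Prime 2) := ⟨Nat.prime_two⟩
  have hsR : ∀ s ∈ (S : Subgroup G), s ∈ normalizer (R : Set G) := fun s hs =>
    mem_normalizer_fintype (hRn s (c.cent s hs))
  have hRM : R ≤ M := c.ax.le_M_of_eight c.le c.eight hRo hsR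
  have hRu : R ⊓ centralizer ({u} : Set G) ≤ W := by
    refine le_trans (Grp.le_centralizerPPrimeCore (fun z hz => mem_centralizer_singleton_iff.1 hz.2) ?_
      (Nat.coprime_two_right.2 (hRo.of_dvd_nat (card_dvd_of_le inf_le_left)))) c.core_le
    intro g hg z hz
    exact ⟨hRn g hg z hz.1, mem_centralizer_singleton_iff.2 (((show Commute g u from hg).mul_left
      (mem_centralizer_singleton_iff.1 hz.2)).mul_left (show Commute g u from hg).inv_left).eq⟩
  obtain ⟨y, hy, hy2, hyu, hm1, hm2⟩ := c.fused_loc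
  have hpart : ∀ a ∈ (S : Subgroup G), orderOf a = 2 → a ≠ u →
      (∃ m ∈ M, m * u * m⁻¹ = a ∧ LocOn M u (m⁻¹ * u * m)) →
      R ⊓ centralizer ({a} : Set G) ≤ W := by
    rintro a ha ha2 hau ⟨m, hm, rfl, hl⟩
    set Y := R ⊓ centralizer ({m * u * m⁻¹} : Set G) with hY
    have hua : Commute u (m * u * m⁻¹) := (c.cent _ ha).symm
    set D := Y.map (MulAut.conj m⁻¹).toMonoidHom with hD
    have hmem : ∀ {x : G}, x ∈ D → m * x * m⁻¹ ∈ Y := by
      rintro _ ⟨x, hx, rfl⟩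
      simpa [mul_assoc] using hx
    have hDu : ∀ x ∈ D, Commute x u := fun x hx => by
      have := (show Commute (m * x * m⁻¹) (m * u * m⁻¹) from mem_centralizer_singleton_iff.1 (hmem hx).2).map
        (MulAut.conj m⁻¹).toMonoidHom
      simpa [mul_assoc] using this
    have hle : D ≤ coreC u := by
      refine hl D ?_
        (fun x hx => mem_centralizer_singleton_iff.2 (hDu x hx).eq) ?_ ?_ ?_
      · rw [hD, card_map_of_injective (MulAut.conj m⁻¹).injective]
        exact hRo.of_dvd_nat (card_dvd_of_le inf_le_left)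
      · intro x hx
        have := mul_mem (mul_mem (inv_mem hm) (hRM (hmem hx).1)) hm
        simpa [mul_assoc] using this
      · intro g hgu hgy x hx
        have hg1 : Commute (m * g * m⁻¹) (m * u * m⁻¹) := by
          have := hgu.map (MulAut.conj m).toMonoidHom
          simpa [mul_assoc] using this
        have hg2 : Commute (m * g * m⁻¹) u := by
          have := hgy.map (MulAut.conj m).toMonoidHom
          simpa [mul_assoc] using this
        refine ⟨m * g * m⁻¹ * (m * x * m⁻¹) * (m * g * m⁻¹)⁻¹, ⟨hRn _ hg2 _ (hmem hx).1,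
          mem_centralizer_singleton_iff.2 ((hg1.mul_left
            (mem_centralizer_singleton_iff.1 (hmem hx).2)).mul_left hg1.inv_left).eq⟩, ?_⟩
        simp [mul_assoc]
      · intro x hx hxy
        have h1 : Commute (m * x * m⁻¹) u := by
          have := hxy.map (MulAut.conj m).toMonoidHom
          simpa [mul_assoc] using this
        have h2 : m * x * m⁻¹ ∈ W := hRu ⟨(hmem hx).1, mem_centralizer_singleton_iff.2 h1.eq⟩
        have h3 : x ∈ W := by
          have := (mem_normalizer_iff.1 (c.ax.norm (inv_mem hm)) (m * x * m⁻¹)).1 h2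
          simpa [mul_assoc] using this
        exact c.inf_le_core c.mem c.two_u ⟨h3, mem_centralizer_singleton_iff.2 (hDu x hx).eq⟩
    intro x hx
    have h1 := c.core_le (hle (mem_map_of_mem _ hx))
    exact (mem_normalizer_iff.1 (c.ax.norm (inv_mem hm)) x).2 (by simpa using h1)
  have hyu2 : orderOf (y * u) = 2 := orderOf_two_mul hy2 c.two_u hyu (c.cent y hy)
  exact le_of_four hRo c.two_u hy2 hyu (c.cent y hy) (hsR u c.mem) (hsR y hy) hRu (hpart y hy hy2 hyu hm1)
    (hpart _ (mul_mem hy c.mem) hyu2 (fun e => ne_one_of_orderOf_two hy2 (mul_eq_right.1 e)) hm2)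

/-- The normaliser in `W` of a subgroup normalised by `C(u)` is normalised by `C(u)`. -/
theorem step (c : TwistCore M W S u) (hO : Cfsg.oddCore G = ⊥) (IH : IHypC.{v} (Nat.card G))
    {Q : Subgroup G} (hQ1 : Q ≠ ⊥) (hQW : Q ≤ W)
    (hQn : ∀ g : G, Commute g u → ∀ q ∈ Q, g * q * g⁻¹ ∈ Q) :
    ∀ g : G, Commute g u → ∀ y ∈ W ⊓ normalizer (Q : Set G), g * y * g⁻¹ ∈ W ⊓ normalizer (Q : Set G) := by
  classical
  haveI : Fact (Nat.Prime 2) := ⟨Nat.prime_two⟩
  have hu := c.mem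
  have hu2 := c.two_u
  set K := normalizer (Q : Set G) with hKdef
  have hCK : ∀ g : G, Commute g u → g ∈ K := fun g hg => mem_normalizer_fintype fun q hq => hQn g hg q hq
  have hSK : (S : Subgroup G) ≤ K := fun s hs => hCK s (c.cent s hs)
  have hKtop : K ≠ ⊤ := fun e => by
    haveI : Q.Normal := normalizer_eq_top_iff.1 e
    refine hQ1 (le_bot_iff.1 (hO ▸ Grp.le_pPrimeCore inferInstance ?_))
    exact Nat.coprime_two_right.2 (c.ax.odd.of_dvd_nat (card_dvd_of_le hQW))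
  haveI := Grp.pPrimeCore_isNormal (p := 2) (G := ↥K)
  set π := QuotientGroup.mk' (Cfsg.pPrimeCore 2 ↥K) with hπdef
  have hπ : Function.Surjective π := QuotientGroup.mk'_surjective _
  have hker : π.ker = Cfsg.pPrimeCore 2 ↥K := QuotientGroup.ker_mk' _
  have hkero : Odd (Nat.card π.ker) := by
    rw [hker]; exact Nat.coprime_two_right.1 Grp.pPrimeCore_coprime
  set R := π.ker.map K.subtype with hRdef
  have hRo : Odd (Nat.card R) := by rw [hRdef, card_map_of_injective K.subtype_injective]; exact hkero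
  have hRn : ∀ g ∈ K, ∀ y ∈ R, g * y * g⁻¹ ∈ R := by
    rintro g hg _ ⟨k, hk, rfl⟩
    exact ⟨_, (π.normal_ker).conj_mem k hk ⟨g, hg⟩, rfl⟩
  have hRW : R ≤ W := c.le_W_of_normalised hRo fun g hg => hRn g (hCK g hg)
  have hkW : ∀ k : ↥K, k ∈ π.ker → (k : G) ∈ W := fun k hk => hRW ⟨k, hk, rfl⟩
  set M' := (M.subgroupOf K).map π with hM'
  set W' := (W.subgroupOf K).map π with hW'
  have hback : ∀ k : ↥K, π k ∈ M' → (k : G) ∈ M := by
    rintro k ⟨m, hm, e⟩
    have h1 : m⁻¹ * k ∈ π.ker := by rw [MonoidHom.mem_ker, map_mul, map_inv, e, inv_mul_cancel]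
    have h2 := mul_mem (show (m : G) ∈ M from hm) (c.ax.le (hkW _ h1))
    simpa using h2
  set S₀ : Sylow 2 ↥K := S.subtype hSK with hS₀
  set S' : Sylow 2 (↥K ⧸ Cfsg.pPrimeCore 2 ↥K) := S₀.mapSurjective hπ with hS'
  have hS'mem : ∀ x ∈ (S' : Subgroup (↥K ⧸ Cfsg.pPrimeCore 2 ↥K)), ∃ s : ↥K, (s : G) ∈ S ∧ π s = x := by
    intro x hx
    rw [hS', Sylow.coe_mapSurjective] at hx
    obtain ⟨s, hs, rfl⟩ := hx
    exact ⟨s, hs, rfl⟩
  have hinj : ∀ s : ↥K, (s : G) ∈ S → π s = 1 → (s : G) = 1 := fun s hs h1 => by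
    obtain ⟨k, hk⟩ := S.isPGroup'.exists_card_eq
    have hd : (S : Subgroup G) ⊓ W = ⊥ := Grp.inf_eq_bot_of_coprime (by
      rw [hk]; exact (Nat.coprime_two_left.2 c.ax.odd).pow_left k)
    exact mem_bot.1 (hd ▸ ⟨hs, hkW s h1⟩)
  -- lifting an involution of `M'`
  have hlift : ∀ x, orderOf x = 2 → x ∈ M' →
      ∃ a : ↥K, (a : G) ∈ M ∧ orderOf (a : G) = 2 ∧ π a = x := by
    rintro x hx ⟨m, hm, rfl⟩
    obtain ⟨a, haz, haa, hax⟩ := exists_invol_lift π hkero (mul_self_of_orderOf_two hx)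
    refine ⟨a, (zpowers_le.2 hm : zpowers m ≤ M.subgroupOf K) haz, ?_, hax⟩
    rw [Subgroup.orderOf_coe]
    exact orderOf_two_iff.2 ⟨haa, fun e => ne_one_of_orderOf_two hx (by rw [← hax, e, map_one])⟩
  have hM'top : M' ≠ ⊤ := fun e => by
    obtain ⟨d, hd, hdM⟩ := c.bad
    exact hdM (hback ⟨d, hCK d hd⟩ (e ▸ mem_top _))
  have hW'odd : Odd (Nat.card W') :=
    (c.ax.odd.of_dvd_nat (card_comap_dvd_of_injective W K.subtype K.subtype_injective)).of_dvd_nat
      (card_map_dvd (W.subgroupOf K) π)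
  have hM'n : M' ≤ normalizer (W' : Set (↥K ⧸ Cfsg.pPrimeCore 2 ↥K)) := by
    rintro _ ⟨m, hm, rfl⟩
    refine mem_normalizer_fintype ?_
    rintro _ ⟨w, hw, rfl⟩
    exact ⟨m * w * m⁻¹, (mem_normalizer_iff.1 (c.ax.norm hm) w).1 hw, by simp⟩
  have hax : AX M' W' := by
    refine ⟨hM'top, hW'odd, map_mono fun x hx => c.ax.le hx, hM'n, ?_, ?_⟩
    · intro x y g hx hy hne hxy hxM hyM hgx hgy
      obtain ⟨a, haM, ha2, rfl⟩ := hlift x hx hxM
      obtain ⟨k, hkM, rfl⟩ := hyM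
      obtain ⟨r, hr, hrc⟩ := exists_comm_lift π hkero (a := a) (k := k) (by rwa [← Subgroup.orderOf_coe])
        hxy.symm
      have hπk : π (r⁻¹ * k) = π k := by
        rw [map_mul, map_inv, MonoidHom.mem_ker.1 hr, inv_one, one_mul]
      have hrkM : r⁻¹ * k ∈ M.subgroupOf K := mul_mem (inv_mem (c.ax.le (hkW r hr))) hkM
      obtain ⟨b, hbz, hbb, hbπ⟩ := exists_invol_lift π hkero (k := r⁻¹ * k)
        (by rw [hπk]; exact mul_self_of_orderOf_two hy)
      obtain ⟨i, rfl⟩ := mem_zpowers_iff.1 hbz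
      have hb2 : orderOf (((r⁻¹ * k) ^ i : ↥K) : G) = 2 := by
        rw [Subgroup.orderOf_coe]
        exact orderOf_two_iff.2 ⟨hbb, fun e => ne_one_of_orderOf_two hy (by rw [← hπk, ← hbπ, e, map_one])⟩
      obtain ⟨g', rfl⟩ := hπ g
      refine mem_map_of_mem π (show g' ∈ M.subgroupOf K from ?_)
      refine c.ax.move a (((r⁻¹ * k) ^ i : ↥K) : G) g' ha2 hb2 ?_ ?_ haM
        (zpow_mem hrkM i : _) ?_ ?_
      · intro e
        exact hne (by rw [Subtype.ext e, hbπ, hπk])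
      · exact congrArg Subtype.val (hrc.zpow_left i).eq.symm
      · have h1 := hback (g' * a * g'⁻¹) (by rw [map_mul, map_mul, map_inv]; exact hgx)
        simpa using h1
      · have h1 := hback (g' * (r⁻¹ * k) ^ i * g'⁻¹) (by
          rw [map_mul, map_mul, map_inv, hbπ, hπk]; exact hgy)
        simpa using h1
    · intro x hxM hx
      obtain ⟨a, haM, ha2, rfl⟩ := hlift x hx hxM
      set H := M ⊓ K with hH
      obtain ⟨m, hm⟩ := exists_conj_mem_sylow (x := (⟨(a : G), haM, a.2⟩ : ↥H)) (p := 2) (n := 1)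
        (by rw [← Subgroup.orderOf_coe, pow_one]; exact ha2) (S.subtype (le_inf c.le hSK))
      have hms : (m : G) * a * (m : G)⁻¹ ∈ (S : Subgroup G) := hm
      obtain ⟨s, hs, hs2, hsne, hst⟩ := c.exists_partner_mem hms
      let t : ↥K := ⟨s, hSK hs⟩
      let m' : ↥K := ⟨m, m.2.2⟩
      refine ⟨π (m'⁻¹ * t * m'), mem_map_of_mem π (show _ ∈ M.subgroupOf K from
        mul_mem (mul_mem (inv_mem m.2.1) (c.le hs)) m.2.1), ?_, ?_, ?_⟩
      · have ht : orderOf t = 2 := by rw [← Subgroup.orderOf_coe]; exact hs2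
        refine orderOf_two_iff.2 ⟨?_, fun e => ?_⟩
        · rw [← map_mul, show m'⁻¹ * t * m' * (m'⁻¹ * t * m') = m'⁻¹ * (t * t) * m' by group,
            mul_self_of_orderOf_two ht, mul_one, inv_mul_cancel, map_one]
        · refine ne_one_of_orderOf_two hs2 (hinj t hs ?_)
          rw [map_mul, map_mul, map_inv] at e
          calc π t = π m' * ((π m')⁻¹ * π t * π m') * (π m')⁻¹ := by group
            _ = 1 := by rw [e, mul_one, mul_inv_cancel]
      · intro e
        refine hsne ?_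
        have h1 : π (t⁻¹ * (m' * a * m'⁻¹)) = 1 := by
          rw [map_mul, map_mul, map_mul, map_inv, map_inv, e, map_mul, map_mul, map_inv]
          group
        have h2 := hinj _ (by show _ ∈ (S : Subgroup G); simpa [t, m', mul_assoc] using mul_mem (inv_mem hs) hms) h1
        simp only [t, m', Subgroup.coe_mul, Subgroup.coe_inv, inv_mul_eq_one] at h2
        exact h2
      · rw [← map_mul, ← map_mul]
        refine congrArg π (Subtype.ext ?_)
        simp only [t, m', Subgroup.coe_mul, Subgroup.coe_inv]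
        calc (a : G) * ((m : G)⁻¹ * s * m) = (m : G)⁻¹ * ((m : G) * a * (m : G)⁻¹ * s) * m := by group
          _ = (m : G)⁻¹ * s * m * a := by rw [← hst.eq]; group
  have hS'le : (S' : Subgroup (↥K ⧸ Cfsg.pPrimeCore 2 ↥K)) ≤ M' := fun x hx => by
    obtain ⟨s, hs, rfl⟩ := hS'mem x hx
    exact mem_map_of_mem π (show s ∈ M.subgroupOf K from c.le hs)
  have hs_invol : ∀ s : ↥K, (s : G) ∈ S → orderOf (π s) = 2 → orderOf (s : G) = 2 := fun s hs hx2 => by
    have hss : (s : G) * s = 1 := hinj (s * s) (mul_mem hs hs) (by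
      rw [map_mul]; exact mul_self_of_orderOf_two hx2)
    exact orderOf_two_iff.2 ⟨hss, fun e =>
      ne_one_of_orderOf_two hx2 (by rw [show s = 1 from Subtype.ext e, map_one])⟩
  have hC : ∀ s : ↥K, orderOf (s : G) = 2 → ∀ y : ↥K, Commute (π y) (π s) →
      ∃ r ∈ π.ker, Commute (r⁻¹ * y) s ∧ π (r⁻¹ * y) = π y := fun s hs2 y hy => by
    obtain ⟨r, hr, hrc⟩ := exists_comm_lift π hkero (by rwa [← Subgroup.orderOf_coe]) hy
    exact ⟨r, hr, hrc, by rw [map_mul, map_inv, MonoidHom.mem_ker.1 hr, inv_one, one_mul]⟩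
  have hfix : FixNormal W' S' := by
    intro x hx hx2 g hg y hy
    obtain ⟨s, hs, rfl⟩ := hS'mem x hx
    have hs2 := hs_invol s hs hx2
    obtain ⟨⟨w, hw, rfl⟩, hwc⟩ := hy
    obtain ⟨r, hr, hrc, hrπ⟩ := hC s hs2 w (mem_centralizer_singleton_iff.1 hwc)
    obtain ⟨g', rfl⟩ := hπ g
    obtain ⟨r', -, hrc', hrπ'⟩ := hC s hs2 g' hg
    have h1 := c.fixN s hs hs2 _ (congrArg Subtype.val hrc'.eq) _
      (Subgroup.mem_inf.2 ⟨mul_mem (inv_mem (hkW r hr)) hw, mem_centralizer_singleton_iff.2 (congrArg Subtype.val hrc.eq)⟩)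
    rw [← hrπ, ← hrπ']
    refine Subgroup.mem_inf.2 ⟨⟨r'⁻¹ * g' * (r⁻¹ * w) * (r'⁻¹ * g')⁻¹, h1.1,
      by rw [map_mul, map_mul, map_inv]⟩, mem_centralizer_singleton_iff.2 ?_⟩
    rw [← map_inv π, ← map_mul π, ← map_mul π, ← map_mul π, ← map_mul π]
    exact congrArg π (Subtype.ext (mem_centralizer_singleton_iff.1 h1.2))
  have hcentral : ∀ x ∈ (S' : Subgroup (↥K ⧸ Cfsg.pPrimeCore 2 ↥K)), orderOf x = 2 →
      (∀ t ∈ (S' : Subgroup (↥K ⧸ Cfsg.pPrimeCore 2 ↥K)), Commute t x) → coreC x ≤ W' := by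
    intro x hx hx2 hxc
    obtain ⟨s, hs, rfl⟩ := hS'mem x hx
    have hs2 := hs_invol s hs hx2
    have hsu : (s : G) = u := by
      refine c.uniq s hs hs2 fun t ht => ?_
      let t' : ↥K := ⟨t, hSK ht⟩
      have h1 : π t' * π s = π s * π t' := (hxc (π t') (by
        rw [hS', Sylow.coe_mapSurjective]; exact mem_map_of_mem π ht)).eq
      have h2 := hinj (t' * s * t'⁻¹ * s⁻¹)
        (mul_mem (mul_mem (mul_mem ht hs) (inv_mem ht)) (inv_mem hs))
        (by rw [map_mul, map_mul, map_mul, map_inv, map_inv, h1, mul_inv_cancel_right, mul_inv_cancel])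
      exact mul_inv_eq_iff_eq_mul.1 (mul_inv_eq_one.1 h2)
    intro y hy
    have hyc : Commute y (π s) := Grp.centralizerPPrimeCore_commute hy
    obtain ⟨k, hk⟩ := hπ y
    subst hk
    obtain ⟨r, -, hrc, hrπ⟩ := hC s hs2 k hyc
    rw [← hrπ] at hy ⊢
    set Z : Subgroup G := ((coreC (π s)).comap π).map K.subtype ⊓ centralizer ({u} : Set G) with hZ
    have hZo : Odd (Nat.card Z) := Nat.not_even_iff_odd.1 fun hev => by
      obtain ⟨t, ⟨⟨t', ht', rfl⟩, -⟩, ht2⟩ := exists_orderOf_two_mem hev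
      have h1 : π t' * π t' = 1 := by
        rw [← map_mul, show t' * t' = 1 from Subtype.ext (mul_self_of_orderOf_two ht2), map_one]
      have h2 := eq_pow_sq (coreC_odd (π s)) (orderOf_dvd_iff_pow_eq_one.1
        ((coreC (π s)).orderOf_dvd_natCard ht'))
      rw [h1, one_pow] at h2
      exact (Nat.not_even_iff_odd.2 c.ax.odd) (even_card_of_mem ht2 (hkW t' (MonoidHom.mem_ker.2 h2)))
    have hZW : Z ≤ W := by
      refine le_trans (Grp.le_centralizerPPrimeCore (fun z hz => mem_centralizer_singleton_iff.1 hz.2) ?_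
        (Nat.coprime_two_right.2 hZo)) c.core_le
      intro g hgu z hz
      obtain ⟨⟨z', hz', rfl⟩, hzc⟩ := hz
      refine ⟨⟨⟨g, hCK g hgu⟩ * z' * ⟨g, hCK g hgu⟩⁻¹, ?_, rfl⟩, mem_centralizer_singleton_iff.2
        (((show Commute g u from hgu).mul_left (mem_centralizer_singleton_iff.1 hzc)).mul_left
          (show Commute g u from hgu).inv_left).eq⟩
      show π (⟨g, hCK g hgu⟩ * z' * ⟨g, hCK g hgu⟩⁻¹) ∈ coreC (π s)
      rw [map_mul, map_mul, map_inv]
      exact Grp.centralizerPPrimeCore_conj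
        ((show Commute (⟨g, hCK g hgu⟩ : ↥K) s from Subtype.ext (by rw [Subgroup.coe_mul, Subgroup.coe_mul, hsu]; exact hgu)).map π).eq hz'
    refine mem_map_of_mem π (hZW ?_)
    exact ⟨⟨_, hy, rfl⟩, mem_centralizer_singleton_iff.2 (by
      have := congrArg Subtype.val hrc.eq
      rwa [Subgroup.coe_mul _ (r⁻¹ * k) s, Subgroup.coe_mul _ s (r⁻¹ * k), hsu] at this)⟩
  have hcard : Nat.card (↥K ⧸ Cfsg.pPrimeCore 2 ↥K) < Nat.card G :=
    (Nat.card_le_card_of_surjective π hπ).trans_lt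
      ((card_le_card_group K).lt_of_ne fun e => hKtop (eq_top_of_card_eq _ e))
  have h8 : HasEight S' := by
    obtain ⟨F, hFS, hF, hF8⟩ := c.eight
    have hFK : F ≤ K := hFS.trans hSK
    let φ : ↥F →* ↥K ⧸ Cfsg.pPrimeCore 2 ↥K := π.comp (Subgroup.inclusion hFK)
    have hφ : Function.Injective φ := (injective_iff_map_eq_one φ).2 fun x hx =>
      Subtype.ext (hinj _ (hFS x.2) hx)
    have hr : φ.range = (F.subgroupOf K).map π := by
      rw [MonoidHom.range_comp, Subgroup.inclusion_range]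
    refine ⟨(F.subgroupOf K).map π, ?_, CoreConsumers.elemAb_map π
      ⟨⟨⟨fun a b => Subtype.ext (Subtype.ext (Grp.elemAb_comm hF _ a.2 _ b.2))⟩⟩,
        fun x hx => Subtype.ext (hF.2 _ hx)⟩, ?_⟩
    · rw [hS', Sylow.coe_mapSurjective]
      exact map_mono fun x hx => hFS hx
    · rw [← hr, ← Nat.card_congr (MonoidHom.ofInjective hφ).toEquiv, hF8]
  have hbot := IH _ hcard Grp.pPrimeCore_quotient_bot M' W' S' hS'le h8 hax hfix hcentral
  intro g hg y hy
  have h1 : (⟨y, hy.2⟩ : ↥K) ∈ π.ker := MonoidHom.mem_ker.2 (mem_bot.1 (hbot ▸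
    mem_map_of_mem π (show (⟨y, hy.2⟩ : ↥K) ∈ W.subgroupOf K from hy.1)))
  exact Subgroup.mem_inf.2 ⟨hkW _ (π.normal_ker.conj_mem _ h1 ⟨g, hCK g hg⟩),
    mul_mem (mul_mem (hCK g hg) hy.2) (inv_mem (hCK g hg))⟩

/-- The twisted case is impossible. -/
theorem false_of_twist (c : TwistCore M W S u) (hO : Cfsg.oddCore G = ⊥) (hW : W ≠ ⊥)
    (IH : IHypC.{v} (Nat.card G)) : False := by
  classical
  have hu := c.mem
  have hu2 := c.two_u
  have hcu : coreC u ≠ ⊥ := fun e => hW (c.eq_bot_of_core e)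
  -- a maximal member containing it
  have hfam : ({Q : Subgroup G | coreC u ≤ Q ∧ Q ≤ W ∧ ∀ g : G, Commute g u → ∀ q ∈ Q, g * q * g⁻¹ ∈ Q}).Nonempty :=
    ⟨coreC u, le_rfl, c.core_le, fun g hg q hq => Grp.centralizerPPrimeCore_conj hg.eq hq⟩
  obtain ⟨Q, ⟨hQu, hQW, hQn⟩, hmax⟩ := Set.Finite.exists_maximal (Set.toFinite _) hfam
  have hQ1 : Q ≠ ⊥ := fun e => hcu (le_bot_iff.1 (e ▸ hQu))
  have hQtop : Q.subgroupOf W ≠ ⊤ := fun e => by
    have hWQ : W ≤ Q := subgroupOf_eq_top.1 e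
    obtain ⟨d, hd, hdM⟩ := c.bad
    exact hdM (c.maxM (mem_normalizer_fintype fun w hw => hQW (hQn d hd w (hWQ hw))))
  refine false_of_member (X := ↥W) c.ax.odd hQtop ?_ ?_ ?_
  · intro e
    exact hQ1 (le_bot_iff.1 fun q hq => by
      have h1 : (⟨q, hQW hq⟩ : ↥W) ∈ (⊥ : Subgroup ↥W) := e ▸ hq
      exact congrArg Subtype.val (mem_bot.1 h1 : _))
  · intro N hN hN1
    set N₁ : Subgroup G := (N.map (Q.subgroupOf W).subtype).map W.subtype with hN₁
    have hN₁Q : N₁ ≤ Q := by rintro _ ⟨_, ⟨x, -, rfl⟩, rfl⟩; exact x.2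
    have hN₁ne : N₁ ≠ ⊥ := fun e => hN1 ((map_eq_bot_iff_of_injective _ (Q.subgroupOf W).subtype_injective).1
      ((map_eq_bot_iff_of_injective _ W.subtype_injective).1 e))
    have hN₁n : ∀ g : G, Commute g u → ∀ x ∈ N₁, g * x * g⁻¹ ∈ N₁ := by
      rintro g hg _ ⟨_, ⟨x, hx, rfl⟩, rfl⟩
      have hgQ : g ∈ normalizer (Q : Set G) := mem_normalizer_fintype fun q hq => hQn g hg q hq
      let e := subgroupOfEquivOfLe hQW
      let φ : ↥(Q.subgroupOf W) ≃* ↥(Q.subgroupOf W) :=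
        (e.trans (Q.normalizerMonoidHom ⟨g, hgQ⟩)).trans e.symm
      exact ⟨_, mem_map_of_mem _ ((characteristic_iff_le_comap.1 hN φ) hx), rfl⟩
    have hst := c.step hO IH hN₁ne (hN₁Q.trans hQW) hN₁n
    have hQN : Q ≤ W ⊓ normalizer (N₁ : Set G) := fun q hq => by
      refine ⟨hQW hq, mem_normalizer_fintype ?_⟩
      rintro _ ⟨_, ⟨x, hx, rfl⟩, rfl⟩
      let q' : ↥(Q.subgroupOf W) := ⟨⟨q, hQW hq⟩, hq⟩
      haveI : N.Normal := normal_of_characteristic N
      exact ⟨_, mem_map_of_mem _ (Subgroup.Normal.conj_mem inferInstance x hx q'), rfl⟩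
    intro y hy
    have h1 : (y : G) ∈ W ⊓ normalizer (N₁ : Set G) := by
      refine ⟨y.2, mem_normalizer_fintype ?_⟩
      rintro _ ⟨z, hz, rfl⟩
      exact ⟨y * z * y⁻¹, (mem_normalizer_iff.1 hy z).1 hz, rfl⟩
    exact hmax ⟨hQu.trans hQN, inf_le_left, hst⟩ hQN h1
  · intro p hp hP
    haveI := Fact.mk hp
    set P := (Cfsg.pCore p ↥W).map W.subtype with hPdef
    obtain ⟨x, hxP, hx1, hxu⟩ := c.exists_fixed (P := P)
      (by rw [hPdef, card_map_of_injective W.subtype_injective]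
          exact c.ax.odd.of_dvd_nat (card_subgroup_dvd_card _))
      (fun e => hP ((map_eq_bot_iff_of_injective _ W.subtype_injective).1 e))
      (fun m hm y hy => by
        obtain ⟨v, hv, rfl⟩ := hy
        exact ⟨_, (characteristic_iff_le_comap.1 inferInstance
          (W.normalizerMonoidHom ⟨m, c.ax.norm hm⟩)) hv, rfl⟩)
    obtain ⟨v, hv, rfl⟩ := hxP
    intro e
    have hvQ : (v : G) ∈ Q := hQu (c.inf_le_core hu hu2 ⟨v.2, mem_centralizer_singleton_iff.2 hxu.eq⟩)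
    have h1 : v ∈ (⊥ : Subgroup ↥W) := e ▸ ⟨hv, hvQ⟩
    exact hx1 (congrArg Subtype.val (mem_bot.1 h1) : _)

end TwistCore

end Cfsg.Agent.Invol.Core2
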