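import Cfsg.Agent.Lib.Invol.Core2.Setting

/-!
# Twisted bad involution: the involutions in the centraliser of a root

Let `v * v = u`. Two involutions other than `u` commuting with `v` and fixing different cosets of `M` are conjugate
modulo `u` in the group they generate: otherwise their product has order divisible by 4, a rotation of order 4
times `v` is an involution moved to itself times `u` by both, so both fix its coset.
-/

set_option autoImplicit false
set_option linter.unusedSectionVars false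

namespace Cfsg.Agent.Invol.Core2

open Subgroup

variable {G : Type*} [Group G] [Finite G] {M W : Subgroup G}

/-- An involution commuting with a central `u` is carried into `M` inside `C(u)`. -/
theorem exists_conj_centralizer {S : Sylow 2 G} (hS : (S : Subgroup G) ≤ M) {u : G}
    (hcu : ∀ s ∈ (S : Subgroup G), Commute s u) {s : G} (hs : orderOf s = 2) (hsu : Commute s u) :
    ∃ e : G, Commute e u ∧ e * s * e⁻¹ ∈ M := by
  haveI : Fact (Nat.Prime 2) := ⟨Nat.prime_two⟩
  have hSC : (S : Subgroup G) ≤ centralizer ({u} : Set G) := fun x hx =>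
    mem_centralizer_singleton_iff.2 (hcu x hx).eq
  obtain ⟨e, he⟩ := exists_conj_mem_sylow
    (x := (⟨s, mem_centralizer_singleton_iff.2 hsu.eq⟩ : centralizer ({u} : Set G))) (p := 2) (n := 1)
    (by rw [Subgroup.orderOf_mk, hs, pow_one]) (S.subtype hSC)
  exact ⟨e, mem_centralizer_singleton_iff.1 e.2, hS he⟩

/-- The involution `u` carried by a conjugation modulo `u`. -/
theorem conj_mul_central {d x u : G} (hd : Commute d u) : d * (x * u) * d⁻¹ = d * x * d⁻¹ * u := by
  calc d * (x * u) * d⁻¹ = d * x * (u * d⁻¹) := by group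
    _ = d * x * d⁻¹ * u := by rw [← hd.inv_left.eq, ← mul_assoc]

/-- Involutions commuting with a root and fixing different cosets are conjugate modulo `u`. -/
theorem AX.root_conj (h : AX M W) {S : Sylow 2 G} (hS : (S : Subgroup G) ≤ M) {u v y y' c : G}
    (hu : orderOf u = 2) (huM : u ∈ M) (hcu : ∀ s ∈ (S : Subgroup G), Commute s u) (hv : v * v = u)
    (hy : orderOf y = 2) (hyM : y ∈ M) (hyu : Commute y u) (hyne : y ≠ u) (hyv : Commute y v)
    (hy' : orderOf y' = 2) (hy'u : Commute y' u) (hy'ne : y' ≠ u) (hy'v : Commute y' v)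
    (hc : Commute c u) (hcM : c ∉ M) (hcy : c⁻¹ * y' * c ∈ M) :
    ∃ d ∈ closure ({y, y'} : Set G), y = d * y' * d⁻¹ ∨ y = d * (y' * u) * d⁻¹ := by
  have hvu : Commute v u := by rw [← hv]; exact (Commute.refl v).mul_right (Commute.refl v)
  have huu := mul_self_of_orderOf_two hu
  obtain ⟨a, b, hb, hab⟩ := Nat.exists_eq_two_pow_mul_odd (orderOf_pos (y * y')).ne'
  obtain ⟨d, hd, hdy, hord⟩ := exists_conj_two_part hy hy' hab hb
  have hdu : Commute d u := by
    refine mem_centralizer_singleton_iff.1 ((closure_le _).2 ?_ hd)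
    rintro x (rfl | rfl)
    · exact mem_centralizer_singleton_iff.2 hyu.eq
    · exact mem_centralizer_singleton_iff.2 hy'u.eq
  rcases a with _ | a
  · rw [pow_zero, orderOf_eq_one_iff] at hord
    rw [hord, mul_one] at hdy
    exact ⟨d, hd, Or.inl hdy.symm⟩
  -- the central involution is `u`
  obtain ⟨w, hwdef⟩ : ∃ w, w = (y * y') ^ (2 ^ a * b) := ⟨_, rfl⟩
  have hpos : 0 < 2 ^ a * b := Nat.mul_pos (Nat.two_pow_pos _) hb.pos
  have hw2 : orderOf w = 2 := by
    rw [hwdef, orderOf_pow' _ hpos.ne', hab, Nat.gcd_eq_right ⟨2, by ring⟩,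
      show 2 ^ (a + 1) * b = 2 * (2 ^ a * b) by ring, Nat.mul_div_cancel _ hpos]
  have hinv : ∀ k : ℕ, y * (y * y') ^ k * y⁻¹ = ((y * y') ^ k)⁻¹ := fun k => by
    rw [← conj_pow, ← inv_pow]
    congr 1
    rw [mul_inv_rev, inv_of_orderOf_two hy, inv_of_orderOf_two hy']
    calc y * (y * y') * y = y * y * y' * y := by group
      _ = y' * y := by rw [mul_self_of_orderOf_two hy, one_mul]
  have hinv' : ∀ k : ℕ, y' * (y * y') ^ k * y'⁻¹ = ((y * y') ^ k)⁻¹ := fun k => by
    rw [← conj_pow, ← inv_pow]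
    congr 1
    rw [mul_inv_rev, inv_of_orderOf_two hy, inv_of_orderOf_two hy']
    calc y' * (y * y') * y' = y' * y * (y' * y') := by group
      _ = y' * y := by rw [mul_self_of_orderOf_two hy', mul_one]
  have hwy : Commute y w := by
    have h1 := hinv (2 ^ a * b)
    rw [← hwdef, inv_of_orderOf_two hw2] at h1
    exact mul_inv_eq_iff_eq_mul.1 h1
  have hwy' : Commute y' w := by
    have h1 := hinv' (2 ^ a * b)
    rw [← hwdef, inv_of_orderOf_two hw2] at h1
    exact mul_inv_eq_iff_eq_mul.1 h1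
  have hpu : ∀ k : ℕ, Commute ((y * y') ^ k) u := fun k => (hyu.mul_left hy'u).pow_left k
  have hwu : w = u := h.centre_eq hu huM hy hyM hyne hyu.eq hy' hy'ne hy'u.eq hc.eq hcM hcy hw2
    (hwdef ▸ (hpu _).eq) hwy.eq.symm hwy'.eq.symm
  rcases a with _ | a
  · rw [pow_zero, one_mul] at hwdef
    rw [← hwdef, hwu] at hdy
    refine ⟨d, hd, Or.inr ?_⟩
    rw [conj_mul_central hdu, hdy, mul_assoc, huu, mul_one]
  -- a rotation of order four
  exfalso
  obtain ⟨r, hr⟩ : ∃ r, r = (y * y') ^ (2 ^ a * b) := ⟨_, rfl⟩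
  have hrr : r * r = u := by
    rw [← hwu, hwdef, hr, ← pow_add]
    congr 1
    ring
  have hrinv : r⁻¹ = r * u := inv_eq_of_mul_eq_one_right (by rw [← mul_assoc, hrr, huu])
  have hrv : Commute r v := hr ▸ (hyv.mul_left hy'v).pow_left _
  have hru : Commute r u := hr ▸ hpu _
  have hne : ∀ q, r = q → Commute y q → False := fun q e he => by
    have h1 := hinv (2 ^ a * b)
    rw [← hr, hrinv, e, mul_inv_eq_iff_eq_mul] at h1
    rw [he.eq, mul_assoc, ← hyu.eq] at h1
    exact ne_one_of_orderOf_two hu (mul_eq_left.1 (mul_left_cancel h1).symm)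
  have hs2 : orderOf (r * v) = 2 := by
    refine orderOf_two_iff.2 ⟨?_, fun e => hne v⁻¹ (eq_inv_of_mul_eq_one_left e) hyv.inv_right⟩
    calc r * v * (r * v) = r * (v * r) * v := by group
      _ = r * r * (v * v) := by rw [← hrv.eq]; group
      _ = 1 := by rw [hrr, hv, huu]
  have hsne : r * v ≠ u := fun e => hne (u * v⁻¹) (by rw [← e]; group) (hyu.mul_right hyv.inv_right)
  have hsu : Commute (r * v) u := hru.mul_left hvu
  obtain ⟨e, he, heM⟩ := exists_conj_centralizer hS hcu hs2 hsu
  have hflip : ∀ q, Commute q u → Commute q v → q * r * q⁻¹ = r⁻¹ → e * q * e⁻¹ ∈ M := by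
    intro q hqu hqv hq
    refine h.bad_fix hu huM (by rw [orderOf_conj_eq, hs2]) heM (fun e' => hsne ?_)
      ((he.mul_left hsu).mul_left he.inv_left).eq ?_ ?_
    · calc r * v = e⁻¹ * (e * (r * v) * e⁻¹) * e := by group
        _ = e⁻¹ * (u * e) := by rw [e', mul_assoc]
        _ = u := by rw [← he.eq]; group
    · exact ((he.mul_left hqu).mul_left he.inv_left).eq
    · rw [show e * q * e⁻¹ * (e * (r * v) * e⁻¹) * (e * q * e⁻¹)⁻¹ = e * ((q * r * q⁻¹) * (q * v * q⁻¹)) * e⁻¹
          by group, hq, hrinv, hqv.eq, mul_inv_cancel_right, mul_assoc r u v, ← hvu.eq, ← mul_assoc r v u,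
        conj_mul_central he]
      exact M.mul_mem heM huM
  have h1 : e ∈ M := h.bad_fix hu huM hy hyM hyne hyu.eq he.eq (hflip y hyu hyv (by rw [hr]; exact hinv _))
  have h2 : e * c ∈ M := by
    refine h.bad_fix hu huM (y := c⁻¹ * y' * c) ?_ hcy (fun e' => hy'ne ?_) ?_ (he.mul_left hc).eq ?_
    · have := orderOf_conj_eq c⁻¹ y'
      rw [inv_inv] at this
      rw [this, hy']
    · calc y' = c * (c⁻¹ * y' * c) * c⁻¹ := by group
        _ = c * u * c⁻¹ := by rw [e']
        _ = u := by rw [hc.eq, mul_inv_cancel_right]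
    · exact ((hc.inv_left.mul_left hy'u).mul_left hc).eq
    · rw [show e * c * (c⁻¹ * y' * c) * (e * c)⁻¹ = e * y' * e⁻¹ by group]
      exact hflip y' hy'u hy'v (by rw [hr]; exact hinv' _)
  exact hcM (by simpa using M.mul_mem (M.inv_mem h1) h2)

end Cfsg.Agent.Invol.Core2
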