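import Cfsg.Agent.Lib.Invol.Core2.TwistFinishData
import Cfsg.Agent.Lib.Grp.Frattini

/-!
# Two five-point components: no cores

In the setting of `TwoFive` the subgroup `W0` generated by the cores of the six roots lies in `H` and is normalised by
the centralisers of the six roots and by `S`. The orbit of the base point under its normaliser is everything, since a
root outside the two factors is conjugate to one of the six. Hence `W0 = 1`, and an odd subgroup of `H` normalised by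
the centraliser of a product of two roots is trivial.
-/

set_option autoImplicit false
set_option linter.unusedSectionVars false

namespace Cfsg.Agent.Invol.Core2

open Subgroup

universe v

variable {Q : Type v} [Group Q] [Finite Q]

/-- Generated by the centralisers of the two factors, the Sylow subgroup and the cores of the roots. -/
def normGens (A B : Subgroup Q) (S : Sylow 2 Q) : Subgroup Q :=
  closure {g | (∀ p ∈ A, Commute g p) ∨ (∀ p ∈ B, Commute g p) ∨ g ∈ (S : Subgroup Q) ∨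
    ∃ x : Q, (x ∈ A ∨ x ∈ B) ∧ x ≠ 1 ∧ g ∈ coreC x}

/-- Two five-point components in `Q = C(u)` modulo `u` and its odd core. -/
structure TwoFive (H : Subgroup Q) (S : Sylow 2 Q) (K : Set Q) (A B : Subgroup Q) (a a' b b' : Q) : Prop where
  core : Cfsg.oddCore Q = ⊥
  top : H ≠ ⊤
  le : (S : Subgroup Q) ≤ H
  K2 : ∀ k ∈ K, orderOf k = 2
  Kc : ∀ k ∈ K, ∀ g : Q, g * k * g⁻¹ ∈ K
  fix : ∀ k ∈ K, k ∈ H → ∀ g : Q, g * k * g⁻¹ ∈ H → g ∈ H
  hA : A ≤ (S : Subgroup Q)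
  hB : B ≤ (S : Subgroup Q)
  ha : a ∈ A
  ha' : a' ∈ A
  hb : b ∈ B
  hb' : b' ∈ B
  a2 : orderOf a = 2
  a'2 : orderOf a' = 2
  b2 : orderOf b = 2
  b'2 : orderOf b' = 2
  aa' : a' ≠ a
  bb' : b' ≠ b
  A2 : ∀ x ∈ A, x * x = 1
  B2 : ∀ x ∈ B, x * x = 1
  comm : ∀ x ∈ A, ∀ y ∈ B, Commute x y
  mulK : ∀ x ∈ A, x ≠ 1 → ∀ y ∈ B, y ≠ 1 → x * y ∈ K
  notK : ∀ x : Q, x ∈ A ∨ x ∈ B → x ∉ K
  perm : ∀ s ∈ (S : Subgroup Q), ∀ x : Q, x ∈ A ∨ x ∈ B → s * x * s⁻¹ ∈ A ∨ s * x * s⁻¹ ∈ B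
  central : ∀ s ∈ (S : Subgroup Q), Commute s (a * b)
  uniq : ∀ z ∈ (S : Subgroup Q), orderOf z = 2 → (∀ s ∈ (S : Subgroup Q), Commute s z) → z ∈ K
  odd : ∀ x : Q, x ∈ A ∨ x ∈ B → x ≠ 1 → ∀ p ∈ A, p ≠ 1 → ∀ q ∈ B, q ≠ 1 → ∀ d : Q, Odd (orderOf d) →
    Commute d x → Commute d (p * q) → d ∈ coreC x
  inv : ∀ p ∈ A, p ≠ 1 → ∀ q ∈ B, q ≠ 1 → ∀ d ∈ H, Odd (orderOf d) →
    (Commute d p ∧ q * d * q⁻¹ = d⁻¹ → d ∈ coreC p) ∧ (Commute d q ∧ p * d * p⁻¹ = d⁻¹ → d ∈ coreC q)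
  gen : ∀ x : Q, x ∈ A ∨ x ∈ B → x ≠ 1 → ∀ c : Q, Commute c x → c ∈ normGens A B S
  syl : ∀ t : Q, orderOf t = 2 → Commute t a → ∃ c : Q, Commute c a ∧ c * t * c⁻¹ ∈ (S : Subgroup Q)
  five : (H.subgroupOf (centralizer ({a} : Set Q))).index = 5
  out : ∀ z ∈ (S : Subgroup Q), orderOf z = 2 → Commute z a → z ∉ K → z ∉ A → z ∉ B →
    Commute z b ∧ z * a ∉ K ∧ (∃ c : Q, Commute c a ∧ c * z * c⁻¹ = z * b) ∧ (∃ c : Q, Commute c a ∧ Commute c z ∧ c ∉ H) ∧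
      (∃ c : Q, Commute c b ∧ Commute c z ∧ c ∉ H) ∧
      ∃ g : Q, g * a * g⁻¹ = b ∧ (g * z * g⁻¹ = z ∨ g * z * g⁻¹ = z * a ∨ g * z * g⁻¹ = z * b ∨
        g * z * g⁻¹ = z * (a * b))

namespace TwoFive

variable {H : Subgroup Q} {S : Sylow 2 Q} {K : Set Q} {A B : Subgroup Q} {a a' b b' : Q}

/-- The subgroup generated by the cores of the six roots. -/
def rootCores (A B : Subgroup Q) : Subgroup Q :=
  ⨆ x : {x : Q // (x ∈ A ∨ x ∈ B) ∧ x ≠ 1}, coreC (x : Q)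

theorem core_le_rootCores {x : Q} (hx : x ∈ A ∨ x ∈ B) (hx1 : x ≠ 1) : coreC x ≤ rootCores A B :=
  le_iSup (fun x : {x : Q // (x ∈ A ∨ x ∈ B) ∧ x ≠ 1} => coreC (x : Q)) ⟨x, hx, hx1⟩

/-- The cores along one factor. -/
def sideCores (A : Subgroup Q) : Subgroup Q := ⨆ x : {x : Q // x ∈ A ∧ x ≠ 1}, coreC (x : Q)

theorem core_le_sideCores {x : Q} (hx : x ∈ A) (hx1 : x ≠ 1) : coreC x ≤ sideCores A :=
  le_iSup (fun x : {x : Q // x ∈ A ∧ x ≠ 1} => coreC (x : Q)) ⟨x, hx, hx1⟩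

theorem odd_orderOf {Y : Subgroup Q} (hY : Odd (Nat.card Y)) {y : Q} (hy : y ∈ Y) : Odd (orderOf y) :=
  hY.of_dvd_nat (Y.orderOf_dvd_natCard hy)

theorem two {x : Q} (h : x * x = 1) (h1 : x ≠ 1) : orderOf x = 2 := orderOf_two_iff.2 ⟨h, h1⟩

/-- `A` and `B` may be exchanged in the statements about cores. -/
theorem cross (d : TwoFive H S K A B a a' b b') {x y : Q} (hx : x ∈ A) (hx1 : x ≠ 1) (hy : y ∈ B) (hy1 : y ≠ 1)
    {g : Q} : (g ∈ coreC x → Commute g y → g ∈ coreC y) ∧ (g ∈ coreC y → Commute g x → g ∈ coreC x) := by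
  refine ⟨fun hg hgy => ?_, fun hg hgx => ?_⟩
  · exact d.odd y (Or.inr hy) hy1 x hx hx1 y hy hy1 g (odd_orderOf (coreC_odd x) hg) hgy
      ((show Commute g x from Grp.centralizerPPrimeCore_commute hg).mul_right hgy)
  · exact d.odd x (Or.inl hx) hx1 x hx hx1 y hy hy1 g (odd_orderOf (coreC_odd y) hg) hgx
      (hgx.mul_right (Grp.centralizerPPrimeCore_commute hg))

/-- The core of a root is generated by its fixed points of the other factor. -/
theorem core_le (d : TwoFive H S K A B a a' b b') {x : Q} {T : Subgroup Q} :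
    (x ∈ A → x ≠ 1 → (∀ y ∈ B, y ≠ 1 → coreC x ⊓ centralizer ({y} : Set Q) ≤ T) → coreC x ≤ T) ∧
    (x ∈ B → x ≠ 1 → (∀ y ∈ A, y ≠ 1 → coreC x ⊓ centralizer ({y} : Set Q) ≤ T) → coreC x ≤ T) := by
  have hn : ∀ {x y : Q}, Commute y x → y ∈ normalizer (coreC x : Set Q) := fun {x y} hc =>
    mem_normalizer_fintype fun z hz => Grp.centralizerPPrimeCore_conj hc.eq hz
  refine ⟨fun hx _ hT => ?_, fun hx _ hT => ?_⟩
  · refine le_of_four (coreC_odd x) d.b2 d.b'2 d.bb' ?_ (hn (d.comm x hx b d.hb).symm)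
      (hn (d.comm x hx b' d.hb').symm) (hT b d.hb (ne_one_of_orderOf_two d.b2))
      (hT b' d.hb' (ne_one_of_orderOf_two d.b'2))
      (hT (b' * b) (mul_mem d.hb' d.hb) (mul_ne_one_of_ne d.b'2 d.bb'))
    have h1 := d.B2 (b' * b) (mul_mem d.hb' d.hb)
    calc b' * b = b' * b * (b' * b) * (b⁻¹ * b'⁻¹) := by group
      _ = b * b' := by rw [h1, one_mul, inv_of_orderOf_two d.b2, inv_of_orderOf_two d.b'2]
  · refine le_of_four (coreC_odd x) d.a2 d.a'2 d.aa' ?_ (hn (d.comm a d.ha x hx)) (hn (d.comm a' d.ha' x hx))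
      (hT a d.ha (ne_one_of_orderOf_two d.a2)) (hT a' d.ha' (ne_one_of_orderOf_two d.a'2))
      (hT (a' * a) (mul_mem d.ha' d.ha) (mul_ne_one_of_ne d.a'2 d.aa'))
    have h1 := d.A2 (a' * a) (mul_mem d.ha' d.ha)
    calc a' * a = a' * a * (a' * a) * (a⁻¹ * a'⁻¹) := by group
      _ = a * a' := by rw [h1, one_mul, inv_of_orderOf_two d.a2, inv_of_orderOf_two d.a'2]

theorem rootCores_eq (d : TwoFive H S K A B a a' b b') :
    rootCores A B ≤ sideCores A ∧ rootCores A B ≤ sideCores B := by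
  constructor <;> refine iSup_le fun ⟨x, hx, hx1⟩ => ?_ <;> rcases hx with hx | hx
  · exact core_le_sideCores hx hx1
  · exact d.core_le.2 hx hx1 fun y hy hy1 g hg => core_le_sideCores hy hy1
      ((d.cross hy hy1 hx hx1).2 hg.1 (mem_C.1 hg.2))
  · exact d.core_le.1 hx hx1 fun y hy hy1 g hg => core_le_sideCores hy hy1
      ((d.cross hx hx1 hy hy1).1 hg.1 (mem_C.1 hg.2))
  · exact core_le_sideCores hx hx1

/-- The centralisers of either factor and `S` normalise `rootCores`. -/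
theorem normalizes (d : TwoFive H S K A B a a' b b') {l : Q}
    (hl : (∀ p ∈ A, Commute l p) ∨ (∀ p ∈ B, Commute l p) ∨ l ∈ (S : Subgroup Q)) :
    l ∈ normalizer (rootCores A B : Set Q) := by
  refine mem_normalizer_fintype fun g hg => ?_
  have hstep : ∀ x : Q, (x ∈ A ∨ x ∈ B) → x ≠ 1 → ((l * x * l⁻¹ = x) ∨ l ∈ (S : Subgroup Q)) →
      (coreC x).map (MulAut.conj l).toMonoidHom ≤ rootCores A B := by
    intro x hx hx1 h
    refine (CoreConsumers.map_conj_core_le x l).trans (core_le_rootCores ?_ fun e => hx1 (by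
      calc x = l⁻¹ * (l * x * l⁻¹) * l := by group
        _ = 1 := by rw [e]; group))
    rcases h with e | hs
    · rw [e]; exact hx
    · exact d.perm l hs x hx
  suffices h : (rootCores A B).map (MulAut.conj l).toMonoidHom ≤ rootCores A B from h ⟨g, hg, rfl⟩
  rcases hl with hl | hl | hl
  · refine (map_mono d.rootCores_eq.1).trans ?_
    rw [sideCores, Subgroup.map_iSup]
    exact iSup_le fun ⟨x, hx, hx1⟩ => hstep x (Or.inl hx) hx1 (Or.inl (by rw [(hl x hx).eq, mul_inv_cancel_right]))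
  · refine (map_mono d.rootCores_eq.2).trans ?_
    rw [sideCores, Subgroup.map_iSup]
    exact iSup_le fun ⟨x, hx, hx1⟩ => hstep x (Or.inr hx) hx1 (Or.inl (by rw [(hl x hx).eq, mul_inv_cancel_right]))
  · rw [rootCores, Subgroup.map_iSup]
    exact iSup_le fun ⟨x, hx, hx1⟩ => hstep x hx hx1 (Or.inr hl)

/-- The centraliser of a root normalises `rootCores`. -/
theorem centralizer_le (d : TwoFive H S K A B a a' b b') {x c : Q} (hx : x ∈ A ∨ x ∈ B) (hx1 : x ≠ 1)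
    (hc : Commute c x) : c ∈ normalizer (rootCores A B : Set Q) := by
  refine (closure_le _).2 ?_ (d.gen x hx hx1 c hc)
  rintro g (h | h | h | ⟨w, hw, hw1, hgw⟩)
  · exact d.normalizes (Or.inl h)
  · exact d.normalizes (Or.inr (Or.inl h))
  · exact d.normalizes (Or.inr (Or.inr h))
  · exact le_normalizer (core_le_rootCores hw hw1 hgw)

theorem rootCores_le (d : TwoFive H S K A B a a' b b') : rootCores A B ≤ H := by
  have key : ∀ {p q g : Q}, p ∈ A → p ≠ 1 → q ∈ B → q ≠ 1 → Commute g p → Commute g q → g ∈ H := by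
    intro p q g hp hp1 hq hq1 hgp hgq
    have hm : p * q ∈ H := d.le (mul_mem (d.hA hp) (d.hB hq))
    exact d.fix _ (d.mulK p hp hp1 q hq hq1) hm g (by rwa [(hgp.mul_right hgq).eq, mul_inv_cancel_right])
  refine iSup_le fun ⟨x, hx, hx1⟩ => ?_
  rcases hx with hx | hx
  · exact d.core_le.1 hx hx1 fun y hy hy1 g hg =>
      key hx hx1 hy hy1 (Grp.centralizerPPrimeCore_commute hg.1) (mem_C.1 hg.2)
  · exact d.core_le.2 hx hx1 fun y hy hy1 g hg =>
      key hy hy1 hx hx1 (mem_C.1 hg.2) (Grp.centralizerPPrimeCore_commute hg.1)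

/-- A member of `K` in the normaliser fixes a point of the orbit of the base point. -/
theorem point_of_mem (d : TwoFive H S K A B a a' b b') {g : Q}
    (hy : g * (a * b) * g⁻¹ ∈ normalizer (rootCores A B : Set Q)) :
    ∃ j ∈ normalizer (rootCores A B : Set Q), j⁻¹ * g ∈ H := by
  haveI : Fact (Nat.Prime 2) := ⟨Nat.prime_two⟩
  set J := normalizer (rootCores A B : Set Q)
  have hab : a * b ∈ K := d.mulK a d.ha (ne_one_of_orderOf_two d.a2) b d.hb (ne_one_of_orderOf_two d.b2)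
  have hSJ : (S : Subgroup Q) ≤ J := fun s hs => d.normalizes (Or.inr (Or.inr hs))
  obtain ⟨j, hj⟩ := exists_conj_mem_sylow (x := (⟨_, hy⟩ : J)) (p := 2) (n := 1)
    (by rw [← Subgroup.orderOf_coe, pow_one]; exact d.K2 _ (d.Kc _ hab g)) (S.subtype hSJ)
  have hj' : (j : Q) * (g * (a * b) * g⁻¹) * (j : Q)⁻¹ ∈ (S : Subgroup Q) := hj
  refine ⟨(j : Q)⁻¹, inv_mem j.2, ?_⟩
  rw [inv_inv]
  refine d.fix _ hab (d.le (mul_mem (d.hA d.ha) (d.hB d.hb))) _ ?_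
  rw [show (j : Q) * g * (a * b) * ((j : Q) * g)⁻¹ = (j : Q) * (g * (a * b) * g⁻¹) * (j : Q)⁻¹ by group]
  exact d.le hj'

/-- A point fixed by `a` or `b` lies in the orbit of the base point. -/
theorem point_of_fix (d : TwoFive H S K A B a a' b b') {g x : Q} (hx : x = a ∨ x = b) (hg : g⁻¹ * x * g ∈ H) :
    ∃ j ∈ normalizer (rootCores A B : Set Q), j⁻¹ * g ∈ H := by
  haveI : Fact (Nat.Prime 2) := ⟨Nat.prime_two⟩
  have hxm : (x ∈ A ∨ x ∈ B) ∧ orderOf x = 2 := by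
    rcases hx with rfl | rfl
    exacts [⟨Or.inl d.ha, d.a2⟩, ⟨Or.inr d.hb, d.b2⟩]
  have hg2 : orderOf (⟨g⁻¹ * x * g, hg⟩ : H) = 2 := by
    rw [← Subgroup.orderOf_coe]
    have := orderOf_conj_eq g⁻¹ x
    rwa [inv_inv, hxm.2] at this
  obtain ⟨h, hh⟩ := exists_conj_mem_sylow (x := (⟨g⁻¹ * x * g, hg⟩ : H)) (p := 2) (n := 1)
    (by rw [pow_one, hg2]) (S.subtype d.le)
  have hh' : (h : Q) * (g⁻¹ * x * g) * (h : Q)⁻¹ ∈ (S : Subgroup Q) := hh
  obtain ⟨k, hk⟩ : ∃ k, k = g * (h : Q)⁻¹ := ⟨_, rfl⟩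
  have hcomm : Commute (k * (a * b) * k⁻¹) x := by
    have h1 := commute_conj (g := k) (d.central _ hh').symm
    rwa [show k * ((h : Q) * (g⁻¹ * x * g) * (h : Q)⁻¹) * k⁻¹ = x by rw [hk]; group] at h1
  obtain ⟨j, hj, hjk⟩ := d.point_of_mem (g := k) (d.centralizer_le hxm.1 (ne_one_of_orderOf_two hxm.2) hcomm)
  refine ⟨j, hj, ?_⟩
  have h2 := mul_mem hjk h.2
  rwa [hk, show j⁻¹ * (g * (h : Q)⁻¹) * (h : Q) = j⁻¹ * g by group] at h2

/-- A root outside the two factors is conjugate to `a`. -/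
theorem out_conj (d : TwoFive H S K A B a a' b b') {z g : Q} (hzb : ∃ c : Q, Commute c a ∧ c * z * c⁻¹ = z * b)
    (hza : IsConj a (z * a)) (hga : g * a * g⁻¹ = b)
    (hg : g * z * g⁻¹ = z ∨ g * z * g⁻¹ = z * a ∨ g * z * g⁻¹ = z * b ∨ g * z * g⁻¹ = z * (a * b)) :
    IsConj a z := by
  obtain ⟨c, hca, hc⟩ := hzb
  have hbb := mul_self_of_orderOf_two d.b2
  have hzb' : IsConj z (z * b) := isConj_iff.2 ⟨c, hc⟩
  have hzab : IsConj (z * a) (z * (a * b)) := isConj_iff.2 ⟨c, by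
    rw [(d.comm a d.ha b d.hb).eq, ← mul_assoc z b a, ← hc,
      show c * (z * a) * c⁻¹ = c * z * c⁻¹ * (c * a * c⁻¹) by group, hca.eq, mul_inv_cancel_right]⟩
  have h1 : IsConj (z * a) (g * z * g⁻¹ * b) := isConj_iff.2 ⟨g, by rw [← hga]; group⟩
  have h2 : IsConj z (g * z * g⁻¹) := isConj_iff.2 ⟨g, rfl⟩
  rcases hg with e | e | e | e <;> rw [e] at h1 h2
  · exact (hza.trans h1).trans hzb'.symm
  · exact hza.trans h2.symm
  · rw [mul_assoc, hbb, mul_one] at h1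
    exact hza.trans h1
  · exact (hza.trans hzab).trans h2.symm

/-- The orbit of the base point under the normaliser of `rootCores` is everything. -/
theorem exists_point (d : TwoFive H S K A B a a' b b') (g : Q) :
    ∃ j ∈ normalizer (rootCores A B : Set Q), j⁻¹ * g ∈ H := by
  haveI : Fact (Nat.Prime 2) := ⟨Nat.prime_two⟩
  set J := normalizer (rootCores A B : Set Q) with hJ
  have ha1 := ne_one_of_orderOf_two d.a2
  have hb1 := ne_one_of_orderOf_two d.b2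
  have hf : a * b ∈ K := d.mulK a d.ha ha1 b d.hb hb1
  have hfH : a * b ∈ H := d.le (mul_mem (d.hA d.ha) (d.hB d.hb))
  have haK : a ∉ K := d.notK a (Or.inl d.ha)
  obtain ⟨z₀, hz₀2, hz₀a, hz₀y, hz₀c⟩ := exists_central_pair d.a2 (d.K2 _ (d.Kc _ hf g)) (fun hcj => haK (by
    obtain ⟨c, hc⟩ := isConj_iff.1 hcj.symm
    exact hc ▸ d.Kc _ (d.Kc _ hf g) c))
  obtain ⟨c, hca, hcz⟩ := d.syl z₀ hz₀2 hz₀a
  have hcJ : c ∈ J := d.centralizer_le (Or.inl d.ha) ha1 hca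
  -- it suffices to treat the conjugate by `c`
  suffices h : ∃ j ∈ J, j⁻¹ * (c * g) ∈ H by
    obtain ⟨j, hj, hjg⟩ := h
    exact ⟨c⁻¹ * j, mul_mem (inv_mem hcJ) hj, by rwa [mul_inv_rev, inv_inv, mul_assoc]⟩
  have hz2 : orderOf (c * z₀ * c⁻¹) = 2 := by rw [orderOf_conj_eq, hz₀2]
  have hca' : c * a * c⁻¹ = a := by rw [hca.eq, mul_inv_cancel_right]
  have hza : Commute (c * z₀ * c⁻¹) a := by
    have := commute_conj (g := c) hz₀a
    rwa [hca'] at this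
  have hzy : Commute (c * z₀ * c⁻¹) (c * g * (a * b) * (c * g)⁻¹) := by
    have := commute_conj (g := c) hz₀y
    rwa [show c * (g * (a * b) * g⁻¹) * c⁻¹ = c * g * (a * b) * (c * g)⁻¹ by group] at this
  obtain ⟨z, hzdef⟩ : ∃ z, z = c * z₀ * c⁻¹ := ⟨_, rfl⟩
  rw [← hzdef] at hcz hz2 hza hzy
  obtain ⟨g', hg'def⟩ : ∃ g', g' = c * g := ⟨_, rfl⟩
  rw [← hg'def] at hzy ⊢
  by_cases hzK : z ∈ K
  · refine ⟨1, one_mem _, ?_⟩
    rw [inv_one, one_mul]
    refine d.fix _ hf hfH g' (d.fix z hzK (d.le hcz) _ ?_)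
    rw [← hzy.eq, mul_inv_cancel_right]
    exact d.le hcz
  by_cases hzAB : z ∈ A ∨ z ∈ B
  · exact d.point_of_mem (d.centralizer_le hzAB (ne_one_of_orderOf_two hz2) hzy.symm)
  push Not at hzAB
  obtain ⟨hzb, hzaK, hzzb, ⟨ca, hcaa, hcaz, hcaH⟩, ⟨cb, hcbb, hcbz, hcbH⟩, k, hka, hkz⟩ :=
    d.out z hcz hz2 hza hzK hzAB.1 hzAB.2
  have haz : IsConj a (z * a) := by
    have e : z * a = c * (z₀ * a) * c⁻¹ := by
      rw [hzdef, show c * (z₀ * a) * c⁻¹ = c * z₀ * c⁻¹ * (c * a * c⁻¹) by group, hca']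
    rcases hz₀c with h | h
    · exact h.trans (isConj_iff.2 ⟨c, e.symm⟩)
    · refine absurd ?_ hzaK
      obtain ⟨w, hw⟩ := isConj_iff.1 (h.trans (isConj_iff.2 ⟨c, e.symm⟩))
      exact hw ▸ d.Kc _ (d.Kc _ hf g) w
  obtain ⟨x, hx⟩ := isConj_iff.1 (d.out_conj hzzb haz hka hkz)
  -- transport to `C(a)`
  have hback : ∀ w : Q, Commute w z → Commute (x⁻¹ * w * x) a := fun w hw => by
    have h1 := commute_conj (g := x⁻¹) hw
    rwa [inv_inv, show x⁻¹ * z * x = a by rw [← hx]; group] at h1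
  set Ca := centralizer ({a} : Set Q)
  let H0 := H.subgroupOf Ca
  have h5 : Nat.card (Ca ⧸ H0) = 5 := d.five
  let P : Ca := ⟨x⁻¹ * a * x, mem_C.2 (hback a hza.symm)⟩
  let R : Ca := ⟨x⁻¹ * b * x, mem_C.2 (hback b hzb.symm)⟩
  -- the point of a member of `K` commuting with `a`
  have hpt : ∀ w : Q, Commute (w * (a * b) * w⁻¹) z → ∃ e : Ca, ∃ h ∈ H, x⁻¹ * w = (e : Q) * h := by
    intro w hw
    obtain ⟨e, hea, hes⟩ := d.syl (x⁻¹ * (w * (a * b) * w⁻¹) * x) (by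
      have := orderOf_conj_eq x⁻¹ (w * (a * b) * w⁻¹)
      rw [inv_inv] at this
      rw [this, orderOf_conj_eq, d.K2 _ hf]) (hback _ hw)
    refine ⟨⟨e⁻¹, mem_C.2 hea.inv_left⟩, e * (x⁻¹ * w), ?_, by show _ = e⁻¹ * _; group⟩
    refine d.fix _ hf hfH _ ?_
    rw [show e * (x⁻¹ * w) * (a * b) * (e * (x⁻¹ * w))⁻¹ = e * (x⁻¹ * (w * (a * b) * w⁻¹) * x) * e⁻¹ by group]
    exact d.le hes
  obtain ⟨o, h₀, hh₀, ho⟩ := hpt 1 (by rw [one_mul, inv_one, mul_one]; exact hza.symm.mul_left hzb.symm)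
  rw [mul_one] at ho
  obtain ⟨e, h₁, hh₁, he⟩ := hpt g' hzy.symm
  -- fixed points
  have hfixed : ∀ (w : Ca) (t : Ca), w • (t : Ca ⧸ H0) = (t : Ca ⧸ H0) ↔
      (t : Q)⁻¹ * (w : Q) * (t : Q) ∈ H := fun w t => by
    rw [MulAction.Quotient.smul_coe, eq_comm, QuotientGroup.eq, mem_subgroupOf, smul_eq_mul]
    simp [mul_assoc]
  have hbase : ∀ w : Q, ∀ (hw : Commute w z), w ∈ H → ∀ c : Q, (hc : Commute c z) → Commute c w →
      (⟨x⁻¹ * w * x, mem_C.2 (hback w hw)⟩ : Ca) • ((⟨x⁻¹ * c * x, mem_C.2 (hback c hc)⟩ * o : Ca) : Ca ⧸ H0) =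
        ((⟨x⁻¹ * c * x, mem_C.2 (hback c hc)⟩ * o : Ca) : Ca ⧸ H0) := fun w hw hwH c hc hcw => by
    rw [hfixed]
    show ((x⁻¹ * c * x) * (o : Q))⁻¹ * (x⁻¹ * w * x) * ((x⁻¹ * c * x) * (o : Q)) ∈ H
    have e1 : (o : Q) = x⁻¹ * h₀⁻¹ := by rw [ho]; group
    rw [show ((x⁻¹ * c * x) * (o : Q))⁻¹ * (x⁻¹ * w * x) * ((x⁻¹ * c * x) * (o : Q)) =
      h₀ * (c⁻¹ * (w * c)) * h₀⁻¹ by rw [e1]; group, ← hcw.eq, inv_mul_cancel_left]
    exact mul_mem (mul_mem hh₀ hwH) (inv_mem hh₀)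
  have hne : ∀ c : Q, (hc : Commute c z) → c ∉ H →
      ((⟨x⁻¹ * c * x, mem_C.2 (hback c hc)⟩ * o : Ca) : Ca ⧸ H0) ≠ (o : Ca ⧸ H0) := fun c hc hcH e' => by
    rw [QuotientGroup.eq, mem_subgroupOf] at e'
    apply hcH
    have e1 : (o : Q) = x⁻¹ * h₀⁻¹ := by rw [ho]; group
    have e2 : ((x⁻¹ * c * x) * (o : Q))⁻¹ * (o : Q) ∈ H := e'
    rw [show ((x⁻¹ * c * x) * (o : Q))⁻¹ * (o : Q) = h₀ * c⁻¹ * h₀⁻¹ by rw [e1]; group] at e2
    have := mul_mem (mul_mem (inv_mem hh₀) e2) hh₀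
    rw [show h₀⁻¹ * (h₀ * c⁻¹ * h₀⁻¹) * h₀ = c⁻¹ by group] at this
    exact inv_mem_iff.1 this
  have hbase0 : ∀ (w : Q) (hw : Commute w z), w ∈ H →
      (⟨x⁻¹ * w * x, mem_C.2 (hback w hw)⟩ : Ca) • (o : Ca ⧸ H0) = (o : Ca ⧸ H0) := fun w hw hwH => by
    have := hbase w hw hwH 1 (Commute.one_left z) (Commute.one_left w)
    rwa [show ((⟨x⁻¹ * 1 * x, mem_C.2 (hback 1 (Commute.one_left z))⟩ : Ca) * o) = o from
      Subtype.ext (by simp)] at this
  have hPR : ∀ q : Ca ⧸ H0, P • (R • q) = R • (P • q) := fun q => by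
    rw [smul_smul, smul_smul]
    congr 1
    refine Subtype.ext ?_
    show x⁻¹ * a * x * (x⁻¹ * b * x) = x⁻¹ * b * x * (x⁻¹ * a * x)
    rw [show x⁻¹ * a * x * (x⁻¹ * b * x) = x⁻¹ * (a * b) * x by group, (d.comm a d.ha b d.hb).eq]
    group
  have huniq : ∀ q : Ca ⧸ H0, P • (R • q) = q → q = (o : Ca ⧸ H0) := by
    intro q
    refine Quotient.inductionOn' q fun t ht => ?_
    change P • (R • (t : Ca ⧸ H0)) = (t : Ca ⧸ H0) at ht
    rw [smul_smul, hfixed] at ht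
    have h1 : (x * (t : Q))⁻¹ * (a * b) * (x * (t : Q)) ∈ H := by
      have e1 : ((P * R : Ca) : Q) = x⁻¹ * (a * b) * x := by
        show x⁻¹ * a * x * (x⁻¹ * b * x) = _
        group
      rw [e1] at ht
      simpa [mul_assoc] using ht
    have h2 : x * (t : Q) ∈ H := inv_mem_iff.1 (d.fix _ hf hfH _ (by rwa [inv_inv]))
    show (t : Ca ⧸ H0) = (o : Ca ⧸ H0)
    rw [QuotientGroup.eq, mem_subgroupOf]
    show (t : Q)⁻¹ * (o : Q) ∈ H
    rw [show (o : Q) = x⁻¹ * h₀⁻¹ by rw [ho]; group, ← mul_assoc, ← mul_inv_rev]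
    exact mul_mem (inv_mem h2) (inv_mem hh₀)
  have hcover := five_cover h5 (MulAction.toPerm P) (MulAction.toPerm R) hPR huniq
    (hbase0 a hza.symm (d.le (d.hA d.ha))) (hbase a hza.symm (d.le (d.hA d.ha)) ca hcaz hcaa)
    (hbase0 b hzb.symm (d.le (d.hB d.hb))) (hbase b hzb.symm (d.le (d.hB d.hb)) cb hcbz hcbb)
    (hne ca hcaz hcaH) (hne cb hcbz hcbH) (e : Ca ⧸ H0)
  have hfin : ∀ (w : Q) (hw : Commute w z),
      (⟨x⁻¹ * w * x, mem_C.2 (hback w hw)⟩ : Ca) • (e : Ca ⧸ H0) = (e : Ca ⧸ H0) → g'⁻¹ * w * g' ∈ H := by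
    intro w hw h
    rw [hfixed] at h
    have e1 : g' = x * (e : Q) * h₁ := by rw [mul_assoc, ← he]; group
    rw [show g'⁻¹ * w * g' = h₁⁻¹ * ((e : Q)⁻¹ * (x⁻¹ * w * x) * (e : Q)) * h₁ by rw [e1]; group]
    exact mul_mem (mul_mem (inv_mem hh₁) h) hh₁
  rcases hcover with h | h
  · exact d.point_of_fix (Or.inl rfl) (hfin a hza.symm h)
  · exact d.point_of_fix (Or.inr rfl) (hfin b hzb.symm h)

/-- The six cores are trivial. -/
theorem rootCores_eq_bot (d : TwoFive H S K A B a a' b b') : rootCores A B = ⊥ := by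
  classical
  haveI : Fact (Nat.Prime 2) := ⟨Nat.prime_two⟩
  set N := H.normalCore with hNdef
  haveI hNn : N.Normal := normalCore_normal H
  have hle : rootCores A B ≤ N := fun w hw g => by
    obtain ⟨j, hj, hjg⟩ := d.exists_point g⁻¹
    have h1 : j⁻¹ * w * j ∈ rootCores A B := (mem_normalizer_iff''.1 hj w).1 hw
    have h2 := mul_mem (mul_mem (inv_mem hjg) (d.rootCores_le h1)) hjg
    rwa [show (j⁻¹ * g⁻¹)⁻¹ * (j⁻¹ * w * j) * (j⁻¹ * g⁻¹) = g * w * g⁻¹ by group] at h2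
  have hodd : Odd (Nat.card N) := by
    rw [← Nat.not_even_iff_odd]
    intro hev
    obtain ⟨t, ht, ht2⟩ := exists_orderOf_two_mem hev
    obtain ⟨g, hg⟩ := exists_conj_mem_sylow (x := t) (p := 2) (n := 1) (by rw [ht2, pow_one]) S
    set T := (S : Subgroup Q) ⊓ N
    have hT1 : T.subgroupOf (S : Subgroup Q) ≠ ⊥ := fun e => by
      have hm : g * t * g⁻¹ ∈ T := ⟨hg, hNn.conj_mem t ht g⟩
      have : (⟨g * t * g⁻¹, hg⟩ : (S : Subgroup Q)) = 1 := mem_bot.1 (e ▸ hm)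
      exact ne_one_of_orderOf_two (show orderOf (g * t * g⁻¹) = 2 by rw [orderOf_conj_eq, ht2])
        (congrArg Subtype.val this)
    haveI hTn : (T.subgroupOf (S : Subgroup Q)).Normal :=
      ⟨fun w hw s => ⟨(s * w * s⁻¹).2, hNn.conj_mem w hw.2 s⟩⟩
    have hne : T.subgroupOf (S : Subgroup Q) ⊓ center ↥(S : Subgroup Q) ≠ ⊥ :=
      haveI : Group.IsNilpotent ↥(S : Subgroup Q) := S.isPGroup'.isNilpotent
      Grp.inf_center_ne_bot _ hT1
    obtain ⟨w, hw, hw2, -⟩ := CoreConsumers.exists_central_involution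
      (S.isPGroup'.to_subgroup (T.subgroupOf (S : Subgroup Q) ⊓ center ↥(S : Subgroup Q))) hne
    have hwK : (w : Q) ∈ K := d.uniq w w.2 (by rw [Subgroup.orderOf_coe, hw2]) fun s hs =>
      (show Commute (⟨s, hs⟩ : ↥(S : Subgroup Q)) w from mem_center_iff.1 hw.2 ⟨s, hs⟩).map
        (S : Subgroup Q).subtype
    have hwN : (w : Q) ∈ N := hw.1.2
    exact d.top (eq_top_iff.2 fun c _ => d.fix _ hwK (normalCore_le H hwN) c
      (normalCore_le H (hNn.conj_mem _ hwN c)))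
  exact le_bot_iff.1 (d.core ▸ hle.trans (Grp.le_pPrimeCore hNn (Nat.coprime_two_right.2 hodd)))

/-- An odd subgroup of `H` normalised by a normal subgroup `N` of the centraliser of `p * q` containing `p`, `q` and
the fixed points of `p * q` on it is trivial. -/
theorem eq_bot_of_normalized (d : TwoFive H S K A B a a' b b') {p q : Q} (hp : p ∈ A) (hp1 : p ≠ 1) (hq : q ∈ B)
    (hq1 : q ≠ 1) {D N : Subgroup Q} (hDo : Odd (Nat.card D))
    (hDH : D ≤ H) (hNc : ∀ c ∈ N, Commute c (p * q))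
    (hNn : ∀ c : Q, Commute c (p * q) → ∀ n ∈ N, c * n * c⁻¹ ∈ N) (hpN : p ∈ N) (hqN : q ∈ N)
    (hDN : D ⊓ centralizer ({p * q} : Set Q) ≤ N) (hDn : ∀ c ∈ N, ∀ z ∈ D, c * z * c⁻¹ ∈ D) : D = ⊥ := by
  classical
  haveI : Fact (Nat.Prime 2) := ⟨Nat.prime_two⟩
  have h0 := d.rootCores_eq_bot
  have hcore : ∀ x : Q, x ∈ A ∨ x ∈ B → x ≠ 1 → ∀ z ∈ coreC x, z = 1 := fun x hx hx1 z hz =>
    mem_bot.1 (h0 ▸ core_le_rootCores hx hx1 hz)
  have hb1 := ne_one_of_orderOf_two d.b2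
  have hp2 : orderOf p = 2 := two (d.A2 p hp) hp1
  have hq2 : orderOf q = 2 := two (d.B2 q hq) hq1
  have hb'1 := ne_one_of_orderOf_two d.b'2
  have hpq := d.comm p hp q hq
  have han : ∀ c ∈ N, c ∈ normalizer (D : Set Q) := fun c hc =>
    mem_normalizer_fintype fun z hz => hDn c hc z hz
  -- fixed points of `p` and of `q`
  have side : ∀ (x y : Q), x ∈ A ∨ x ∈ B → orderOf y = 2 → Commute y x → y ∈ N →
      (∀ z : Q, Odd (orderOf z) → Commute z x → Commute z (p * q) → z ∈ coreC x) → x ≠ 1 →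
      (∀ z ∈ H, Odd (orderOf z) → Commute z x → y * z * y⁻¹ = z⁻¹ → z ∈ coreC x) →
      (∀ z : Q, Commute z x → Commute z y → Commute z (p * q)) →
      D ⊓ centralizer ({x} : Set Q) ≤ ⊥ := by
    intro x y hx hy2 hyx hyf hodd hx1 hinv hxy w hw
    rw [mem_bot]
    set D1 := D ⊓ centralizer ({x} : Set Q)
    have hy1 : ∀ z ∈ D1, y * z * y⁻¹ ∈ D1 := fun z hz => ⟨hDn y hyf z hz.1, mem_C.2 (by
      have := commute_conj (g := y) (mem_C.1 hz.2)
      rwa [hyx.eq, mul_inv_cancel_right] at this)⟩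
    have hD1o : Odd (Nat.card D1) := hDo.of_dvd_nat (card_dvd_of_le inf_le_left)
    have hfixy : ∀ z ∈ D1, y * z * y⁻¹ = z → z = 1 := fun z hz e =>
      hcore x hx hx1 z (hodd z (odd_orderOf hD1o hz) (mem_C.1 hz.2)
        (hxy z (mem_C.1 hz.2) (mul_inv_eq_iff_eq_mul.1 e).symm))
    -- so `y` inverts `D1`
    let φ : D1 →* D1 :=
      { toFun := fun z => ⟨y * z * y⁻¹, hy1 z z.2⟩
        map_one' := Subtype.ext (by simp)
        map_mul' := fun p q => Subtype.ext (by simp [mul_assoc]) }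
    have hφ2 : Function.Involutive φ := fun z => Subtype.ext (by
      show y * (y * z * y⁻¹) * y⁻¹ = z
      have hyy := mul_self_of_orderOf_two hy2
      rw [inv_of_orderOf_two hy2, ← mul_assoc, ← mul_assoc, hyy, one_mul, mul_assoc, hyy, mul_one])
    have hφfix : MonoidHom.FixedPointFree φ := fun z hz =>
      Subtype.ext (hfixy z z.2 (congrArg Subtype.val hz))
    have hwinv : y * w * y⁻¹ = w⁻¹ :=
      congrArg Subtype.val (congrFun (hφfix.coe_eq_inv_of_involutive hφ2) ⟨w, hw⟩)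
    exact hcore x hx hx1 w (hinv w (hDH hw.1) (odd_orderOf hD1o hw) (mem_C.1 hw.2) hwinv)
  have hA : D ⊓ centralizer ({p} : Set Q) ≤ ⊥ :=
    side p q (Or.inl hp) hq2 hpq.symm hqN
      (fun z hz h1 h2 => d.odd p (Or.inl hp) hp1 p hp hp1 q hq hq1 z hz h1 h2) hp1
      (fun z hz ho h1 h2 => (d.inv p hp hp1 q hq hq1 z hz ho).1 ⟨h1, h2⟩) fun z h1 h2 => h1.mul_right h2
  have hB : D ⊓ centralizer ({q} : Set Q) ≤ ⊥ :=
    side q p (Or.inr hq) hp2 hpq hpN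
      (fun z hz h1 h2 => d.odd q (Or.inr hq) hq1 p hp hp1 q hq hq1 z hz h1 h2) hq1
      (fun z hz ho h1 h2 => (d.inv p hp hp1 q hq hq1 z hz ho).2 ⟨h1, h2⟩) fun z h1 h2 => h2.mul_right h1
  -- fixed points of `p * q`: the four `B` has no fixed points on them
  set F := D ⊓ centralizer ({p * q} : Set Q) with hF
  have hFo : Odd (Nat.card F) := hDo.of_dvd_nat (card_dvd_of_le inf_le_left)
  have hNC : N ≤ centralizer ({p * q} : Set Q) := fun c hc => mem_C.2 (hNc c hc)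
  have hFc : F ≤ coreC (p * q) := by
    -- the odd core of `N`
    haveI := Grp.pPrimeCore_isNormal (p := 2) (G := ↥N)
    have h1 : F ≤ (Cfsg.pPrimeCore 2 ↥N).map N.subtype := by
      intro z hz
      refine ⟨⟨z, hDN hz⟩, Grp.le_pPrimeCore (N := F.subgroupOf N) ⟨fun m hm n => ?_⟩ ?_ hz, rfl⟩
      · exact ⟨hDn n n.2 m hm.1, mem_C.2 (by
          have := commute_conj (g := (n : Q)) (mem_C.1 hm.2)
          rwa [(hNc n n.2).eq, mul_inv_cancel_right] at this)⟩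
      · exact Nat.coprime_two_right.2 (hFo.of_dvd_nat (card_comap_dvd_of_injective F N.subtype N.subtype_injective))
    refine h1.trans (Grp.le_centralizerPPrimeCore (fun z hz => (mem_C.1 (hNC (map_subtype_le _ hz))).eq)
      (fun c hc => ?_) ?_)
    · rintro _ ⟨z, hz, rfl⟩
      have hcn : c ∈ normalizer (N : Set Q) := mem_normalizer_fintype fun n hn => hNn c hc n hn
      haveI : (Cfsg.pPrimeCore 2 ↥N).Characteristic := inferInstance
      exact ⟨N.normalizerMonoidHom ⟨c, hcn⟩ z, (characteristic_iff_le_comap.1 inferInstance _) hz, rfl⟩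
    · rw [card_map_of_injective N.subtype_injective]
      exact Grp.pPrimeCore_coprime
  have hcab : ∀ y ∈ B, Commute y (p * q) := fun y hy => by
    refine (d.comm p hp y hy).symm.mul_right ?_
    have h1 := d.B2 (y * q) (mul_mem hy hq)
    calc y * q = y * q * (y * q) * (q⁻¹ * y⁻¹) := by group
      _ = q * y := by rw [h1, one_mul, inv_of_orderOf_two hq2, inv_eq_of_mul_eq_one_right (d.B2 y hy)]
  have hFB : ∀ y ∈ B, y ≠ 1 → coreC (p * q) ⊓ centralizer ({y} : Set Q) ≤ ⊥ := fun y hy hy1 z hz =>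
    mem_bot.2 (hcore y (Or.inr hy) hy1 z (d.odd y (Or.inr hy) hy1 p hp hp1 q hq hq1 z
      (odd_orderOf (coreC_odd _) hz.1) (mem_C.1 hz.2) (Grp.centralizerPPrimeCore_commute hz.1)))
  have hn : ∀ y ∈ B, y ∈ normalizer (coreC (p * q) : Set Q) := fun y hy =>
    mem_normalizer_fintype fun z hz => Grp.centralizerPPrimeCore_conj (hcab y hy).eq hz
  have hbb' : Commute b' b := by
    have h1 := d.B2 (b' * b) (mul_mem d.hb' d.hb)
    calc b' * b = b' * b * (b' * b) * (b⁻¹ * b'⁻¹) := by group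
      _ = b * b' := by rw [h1, one_mul, inv_of_orderOf_two d.b2, inv_of_orderOf_two d.b'2]
  have hF0 : coreC (p * q) ≤ ⊥ := le_of_four (coreC_odd _) d.b2 d.b'2 d.bb' hbb' (hn b d.hb) (hn b' d.hb')
    (hFB b d.hb hb1) (hFB b' d.hb' hb'1)
    (hFB (b' * b) (mul_mem d.hb' d.hb) (mul_ne_one_of_ne d.b'2 d.bb'))
  have hne : p ≠ q := fun e => ne_one_of_orderOf_two (d.K2 _ (d.mulK p hp hp1 q hq hq1))
    (by rw [e, mul_self_of_orderOf_two hq2])
  exact le_bot_iff.1 (le_of_four hDo hq2 hp2 hne hpq (han q hqN) (han p hpN) hB hA (hFc.trans hF0))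

end TwoFive

end Cfsg.Agent.Invol.Core2
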