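import Cfsg.Agent.Lib.Invol.Core2.TwistBasic
import Cfsg.Agent.Lib.Local.CoreConsumers.Connected

/-!
# Two five-point components: the data

`Q` stands for `C(u)` modulo `u` and its odd core, `H` for the point stabiliser, `K` for the images of the involutions
other than `u`, `A` and `B` for the images of the two quaternion factors. The six involutions of `A` and `B` are
roots of `u`, the nine products are liftable. Here: the elementary facts about two nonconjugate involutions and about
five points.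
-/

set_option autoImplicit false
set_option linter.unusedSectionVars false

namespace Cfsg.Agent.Invol.Core2

open Subgroup

universe v

variable {Q : Type v} [Group Q] [Finite Q]

/-- Two involutions, not conjugate, commute with a common involution `z`, and `z * x` is conjugate to one of them. -/
theorem exists_central_pair {x y : Q} (hx : orderOf x = 2) (hy : orderOf y = 2) (hne : ¬ IsConj x y) :
    ∃ z : Q, orderOf z = 2 ∧ Commute z x ∧ Commute z y ∧ (IsConj x (z * x) ∨ IsConj y (z * x)) := by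
  obtain ⟨n, hn⟩ : ∃ n, orderOf (x * y) = n := ⟨_, rfl⟩
  have hxx := mul_self_of_orderOf_two hx
  have hxi := inv_of_orderOf_two hx
  -- conjugation of `x` and `y` by the powers of `x * y`
  have key : ∀ m : ℤ, (x * y) ^ m * x * ((x * y) ^ m)⁻¹ = (x * y) ^ (2 * m) * x := fun m => by
    rw [← zpow_neg, mul_assoc, mul_zpow_comm hx hy, neg_neg, ← mul_assoc, ← zpow_add, two_mul]
  have key' : ∀ m : ℤ, (x * y) ^ m * y * ((x * y) ^ m)⁻¹ = (x * y) ^ (2 * m - 1) * x := fun m => by
    calc (x * y) ^ m * y * ((x * y) ^ m)⁻¹ = (x * y) ^ m * ((x * y) ^ (-1 : ℤ) * x) * ((x * y) ^ m)⁻¹ := by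
          rw [← y_eq' hx hy]
      _ = (x * y) ^ (-1 : ℤ) * ((x * y) ^ m * x * ((x * y) ^ m)⁻¹) := by
          rw [← mul_assoc ((x * y) ^ m), ← zpow_add, add_comm, zpow_add]; group
      _ = (x * y) ^ (2 * m - 1) * x := by
          rw [key, ← mul_assoc, ← zpow_add, show (-1 : ℤ) + 2 * m = 2 * m - 1 by ring]
  rcases Nat.even_or_odd n with ⟨k, hk⟩ | ⟨k, hk⟩
  · have hk0 : k ≠ 0 := fun e => (orderOf_pos (x * y)).ne' (by rw [hn, hk, e])
    obtain ⟨z, hz⟩ : ∃ z, z = (x * y) ^ (k : ℤ) := ⟨_, rfl⟩
    have hz2 : orderOf z = 2 := by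
      rw [hz, zpow_natCast, orderOf_pow' _ hk0, hn, hk, ← two_mul, Nat.gcd_eq_right (Dvd.intro_left _ rfl),
        Nat.mul_div_cancel _ (Nat.pos_of_ne_zero hk0)]
    have hzx : Commute z x := by
      have h1 := conj_mul_zpow_eq_inv hx hy (k : ℤ)
      rw [zpow_neg, ← hz, inv_of_orderOf_two hz2] at h1
      exact (mul_inv_eq_iff_eq_mul.1 h1).symm
    have hzy : Commute z y := by
      have h1 : Commute z (x * y) := hz ▸ Commute.zpow_self (x * y) k
      have h2 := hzx.mul_right h1
      rwa [← mul_assoc, hxx, one_mul] at h2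
    refine ⟨z, hz2, hzx, hzy, ?_⟩
    rcases Int.even_or_odd (k : ℤ) with ⟨m, hm⟩ | ⟨m, hm⟩
    · exact Or.inl (isConj_iff.2 ⟨(x * y) ^ m, by rw [key, hz, hm, two_mul]⟩)
    · exact Or.inr (isConj_iff.2 ⟨(x * y) ^ (m + 1), by
        rw [key', hz, hm, show 2 * (m + 1) - 1 = 2 * m + 1 by ring]⟩)
  · refine absurd (isConj_iff.2 ⟨(x * y) ^ (k : ℤ), ?_⟩) hne
    have h1 : (x * y) ^ ((2 * k + 1 : ℕ) : ℤ) = 1 := by rw [zpow_natCast, ← hk, ← hn, pow_orderOf_eq_one]
    have h2 : (x * y) ^ (2 * (k : ℤ)) = (x * y) ^ (-1 : ℤ) := by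
      rw [show 2 * (k : ℤ) = ((2 * k + 1 : ℕ) : ℤ) + (-1) by push_cast; ring, zpow_add, h1, one_mul]
    rw [key, h2, ← y_eq' hx hy]

/-- Two commuting permutations of five points, each fixing a second point, whose product fixes exactly one, fix all
five points between them. -/
theorem five_cover {X : Type*} [Finite X] (h5 : Nat.card X = 5) (p q : Equiv.Perm X)
    (hcomm : ∀ x, p (q x) = q (p x)) {o a b : X} (huniq : ∀ x, p (q x) = x → x = o) (hp : p o = o) (hpa : p a = a)
    (hq : q o = o) (hqb : q b = b) (ha : a ≠ o) (hb : b ≠ o) (x : X) : p x = x ∨ q x = x := by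
  classical
  by_contra hx
  push Not at hx
  haveI : Fintype X := Fintype.ofFinite X
  have hqa : q a ≠ a := fun e => ha (huniq a (by rw [e, hpa]))
  have hpb : p b ≠ b := fun e => hb (huniq b (by rw [hqb, e]))
  have hpqa : p (q a) = q a := by rw [hcomm, hpa]
  have hqpb : q (p b) = p b := by rw [← hcomm, hqb]
  have h1 : a ≠ b := fun e => hqa (by rw [e, hqb])
  have h2 : a ≠ p b := fun e => hqa (by rw [e, hqpb])
  have h3 : q a ≠ b := fun e => hpb (by rw [← e, hpqa])
  have h4 : q a ≠ p b := fun e => hqa (q.injective (by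
    calc q (q a) = q (p b) := by rw [e]
      _ = q a := by rw [hqpb, e]))
  have h5' : q a ≠ o := fun e => ha (q.injective (e.trans hq.symm))
  have h6 : p b ≠ o := fun e => hb (p.injective (e.trans hp.symm))
  let T : Finset X := {o, a, q a, b, p b, x}
  have hT : T.card = 6 := by
    have x1 : x ≠ o := fun e => hx.1 (by rw [e, hp])
    have x2 : x ≠ a := fun e => hx.1 (by rw [e, hpa])
    have x3 : x ≠ q a := fun e => hx.1 (by rw [e, hpqa])
    have x4 : x ≠ b := fun e => hx.2 (by rw [e, hqb])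
    have x5 : x ≠ p b := fun e => hx.2 (by rw [e, hqpb])
    simp [T, Finset.card_insert_of_notMem, ha.symm, h5'.symm, hb.symm, h6.symm, x1.symm, hqa.symm, h1, h2, x2.symm,
      h3, h4, x3.symm, hpb.symm, x4.symm, x5.symm]
  have := Finset.card_le_univ T
  rw [Nat.card_eq_fintype_card] at h5
  omega

end Cfsg.Agent.Invol.Core2
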