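import Cfsg.Agent.Lib.Invol.Core2.TwistSection
import Cfsg.Agent.Lib.Invol.Core2.TwistSetting

/-!
# Twisted bad involution: what the members generate meets a cyclic group over `u`

A strongly embedded section has no double cover generated by a class of involutions closed under commuting
products. So for `|U| ≥ 8` the group generated by the members meets `U` in squares, and for a root `v` it contains
`v` only if two involutions centralising `v` anticommute.
-/

set_option autoImplicit false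
set_option linter.unusedSectionVars false
set_option linter.style.haveILetI false

namespace Cfsg.Agent.Invol.Core2

open Subgroup

variable {G : Type*} [Group G] [Finite G] {M W : Subgroup G} {U : Subgroup G} {u : G}

/-- The squares of a commutative group with one involution have index two. -/
theorem Cyc.squares (c : Cyc M U u) (hu : orderOf u = 2) : ∃ Q : Subgroup G, Q ≤ U ∧
    (∀ g : G, g ∈ Q ↔ ∃ a ∈ U, g = a * a) ∧ (Q.subgroupOf U).index = 2 ∧ 2 * Nat.card Q = Nat.card U := by
  classical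
  let Q : Subgroup G :=
    { carrier := {g | ∃ a ∈ U, g = a * a}
      one_mem' := ⟨1, one_mem U, (mul_one 1).symm⟩
      mul_mem' := by
        rintro _ _ ⟨a, ha, rfl⟩ ⟨b, hb, rfl⟩
        refine ⟨a * b, mul_mem ha hb, ?_⟩
        rw [show a * b * (a * b) = a * (b * a) * b by group, ← c.comm a ha b hb]
        group
      inv_mem' := by
        rintro _ ⟨a, ha, rfl⟩
        exact ⟨a⁻¹, inv_mem ha, mul_inv_rev a a⟩ }
  have hle : Q ≤ U := by rintro _ ⟨a, ha, rfl⟩; exact mul_mem ha ha
  let f : ↥U →* ↥U :=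
    { toFun := fun a => a * a
      map_one' := mul_one 1
      map_mul' := fun a b => Subtype.ext (by
        show (a : G) * b * (a * b) = a * a * (b * b)
        rw [show (a : G) * b * (a * b) = a * (b * a) * b by group, ← c.comm a a.2 b b.2]
        group) }
  have hrange : f.range = Q.subgroupOf U := by
    refine SetLike.ext fun g => ⟨?_, fun hg => ?_⟩
    · rintro ⟨a, rfl⟩; exact ⟨a, a.2, rfl⟩
    · obtain ⟨a, ha, e⟩ := mem_subgroupOf.1 hg
      exact ⟨⟨a, ha⟩, Subtype.ext e.symm⟩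
  have hker : Nat.card f.ker = 2 := by
    have e : f.ker = zpowers (⟨u, c.mem⟩ : ↥U) := by
      refine le_antisymm (fun a ha => ?_) (zpowers_le.2 (Subtype.ext (mul_self_of_orderOf_two hu)))
      rcases c.uniq a a.2 (congrArg Subtype.val ha) with h | h
      · rw [show a = 1 from Subtype.ext h]; exact one_mem _
      · rw [show a = ⟨u, c.mem⟩ from Subtype.ext h]; exact mem_zpowers _
    rw [e, Nat.card_zpowers, Subgroup.orderOf_mk, hu]
  have hcard : 2 * Nat.card Q = Nat.card U := by
    have h1 := f.ker.card_mul_index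
    rw [Subgroup.index_ker, hrange, Nat.card_congr (subgroupOfEquivOfLe hle).toEquiv, hker] at h1
    exact h1
  refine ⟨Q, hle, fun g => Iff.rfl, ?_, hcard⟩
  have h1 := (Q.subgroupOf U).card_mul_index
  rw [Nat.card_congr (subgroupOfEquivOfLe hle).toEquiv, ← hcard, mul_comm 2] at h1
  exact Nat.eq_of_mul_eq_mul_left Nat.card_pos h1

/-- A subgroup with more than two elements contains a root. -/
theorem Cyc.exists_root_of_card (c : Cyc M U u) (hu : orderOf u = 2) {R : Subgroup G} (hR : R ≤ U)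
    (h2 : 2 < Nat.card R) : ∃ a ∈ R, a * a = u := by
  classical
  obtain ⟨a, ha, hne⟩ : ∃ a ∈ R, a * a ≠ 1 := by
    by_contra hcon
    push Not at hcon
    have hle : R ≤ zpowers u := fun a ha => by
      rcases c.uniq a (hR ha) (hcon a ha) with rfl | rfl
      · exact one_mem _
      · exact mem_zpowers _
    have := card_le_of_le hle
    rw [Nat.card_zpowers, hu] at this
    omega
  haveI : Fact (Nat.Prime 2) := ⟨Nat.prime_two⟩
  obtain ⟨k, hk⟩ := IsPGroup.iff_orderOf.1 c.isP ⟨a, hR ha⟩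
  rw [← Subgroup.orderOf_coe] at hk
  rcases k with _ | _ | k
  · exact absurd (by rw [show a = 1 from orderOf_eq_one_iff.1 (by simpa using hk), mul_one]) hne
  · exact absurd (mul_self_of_orderOf_two (by simpa using hk)) hne
  · refine ⟨a ^ 2 ^ k, pow_mem ha _, ?_⟩
    have hp : orderOf (a ^ 2 ^ (k + 1)) = 2 := by
      rw [orderOf_pow_of_dvd (by positivity) (hk ▸ pow_dvd_pow 2 (Nat.le_succ _)), hk, pow_succ,
        Nat.mul_div_cancel_left _ (by positivity)]
    rw [← pow_add, ← two_mul, ← pow_succ']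
    exact (c.uniq _ (pow_mem (hR ha) _) (mul_self_of_orderOf_two hp)).resolve_left (ne_one_of_orderOf_two hp)

variable {S : Sylow 2 G}

/-- No double cover: what the members generate meets `U` in squares, unless they anticommute and `|U| = 4`. -/
theorem AX.members_bound (h : AX M W) (hS : (S : Subgroup G) ≤ M) (hcu : ∀ s ∈ (S : Subgroup G), Commute s u)
    (hu : orderOf u = 2) (c : Cyc M U u) (hroot : ∃ a ∈ U, a * a = u) (hm : Moved M U u)
    (hno : ∀ U' : Subgroup G, Cyc M U' u → Nat.card U < Nat.card U' → Moved M U' u → SquareBound U' u)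
    (hanti : 8 ≤ Nat.card U ∨ ∀ y ∈ members U u, ∀ z ∈ members U u, z * y ≠ y * z * u) : SquareBound U u := by
  classical
  haveI : Fact (Nat.Prime 2) := ⟨Nat.prime_two⟩
  have hse := h.members_se hS hcu hu c hroot hm hno
  by_contra hcon
  obtain ⟨b, hbU, hbL, hb⟩ : ∃ b ∈ U, b ∈ closure (members U u) ∧ ∀ a ∈ U, b ≠ a * a := by
    simpa [SquareBound] using hcon
  obtain ⟨Q, hQU, hQ, hidx, hQc⟩ := c.squares hu
  have huu := mul_self_of_orderOf_two hu
  set L := closure (members U u) with hL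
  have hLC : L ≤ centralizer (U : Set G) := (closure_le _).2 fun y hy => hy.2.2
  set N : Subgroup ↥L := U.subgroupOf L with hN
  set π := QuotientGroup.mk' N with hπ
  set N₁ : Subgroup ↥L := Q.subgroupOf L with hN₁
  have hN₁N : N₁ ≤ N := fun a ha => hQU ha
  haveI hN₁n : N₁.Normal := ⟨fun a ha g => by
    rw [hN₁, mem_subgroupOf] at ha ⊢
    rw [Subgroup.coe_mul, Subgroup.coe_mul, Subgroup.coe_inv, ← mem_centralizer_iff.1 (hLC g.2) _ (hQU ha),
      mul_inv_cancel_right]
    exact ha⟩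
  set e₀ : ↥L := ⟨b, hbL⟩ with he₀
  have he₀N : e₀ ∈ N := mem_subgroupOf.2 hbU
  have he₀N₁ : e₀ ∉ N₁ := fun e => by
    obtain ⟨a, ha, e'⟩ := (hQ b).1 (mem_subgroupOf.1 e)
    exact hb a ha e'
  have hidx' : ∀ p ∈ N, p ∉ N₁ → ∀ q ∈ N, q ∉ N₁ → p * q ∈ N₁ := fun p hp hp₁ q hq hq₁ => by
    have h2 := (Subgroup.mul_mem_iff_of_index_two hidx (a := (⟨p, hp⟩ : ↥U)) (b := ⟨q, hq⟩)).2
      (iff_of_false (by simpa [mem_subgroupOf, hN₁] using hp₁) (by simpa [mem_subgroupOf, hN₁] using hq₁))
    simpa [mem_subgroupOf, hN₁] using h2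
  set φ : ↥L ⧸ N₁ →* ↥L ⧸ N := QuotientGroup.map N₁ N (MonoidHom.id _) hN₁N with hφ
  set ν := QuotientGroup.mk' N₁ with hν
  have hν1 : ∀ a : ↥L, ν a = 1 ↔ a ∈ N₁ := fun a => QuotientGroup.eq_one_iff a
  have hνeq : ∀ {p q : ↥L}, (p : G)⁻¹ * q ∈ Q → ν p = ν q := fun e => QuotientGroup.eq.2 (mem_subgroupOf.2 e)
  have hφ' : ∀ a : ↥L, φ (ν a) = π a := fun a => rfl
  have he₀2 : orderOf (ν e₀) = 2 := orderOf_two_iff.2 ⟨by
    rw [← map_mul]
    exact (hν1 _).2 ((hQ _).2 ⟨b, hbU, rfl⟩), fun e => he₀N₁ ((hν1 _).1 e)⟩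
  set Z := {q : ↥L ⧸ N₁ | ∃ y : ↥L, (y : G) ∈ members U u ∧ ν y = q} with hZ
  obtain ⟨x, hx, -⟩ := hm.1
  have hU1 : ∀ {y : ↥L}, (y : G) ∈ members U u → y ∉ N₁ := fun {y} hy e => members_notMem c hy (hN₁N e)
  refine Fus.SClosedSE.se_cover_false φ ?_ (ν e₀) ?_ he₀2 ((hφ' e₀).trans ((QuotientGroup.eq_one_iff e₀).2 he₀N))
    ?_ _ hse Z ⟨_, ⟨x, subset_closure hx⟩, hx, rfl⟩ ?_ ?_ ?_ ?_ ?_
  · intro q
    obtain ⟨a, rfl⟩ := QuotientGroup.mk'_surjective N q
    exact ⟨ν a, hφ' a⟩
  · intro q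
    obtain ⟨a, rfl⟩ := QuotientGroup.mk'_surjective N₁ q
    rw [hν, ← map_mul, ← map_mul]
    exact congrArg _ (Subtype.ext (mem_centralizer_iff.1 (hLC a.2) _ hbU))
  · intro q hq
    obtain ⟨a, rfl⟩ := QuotientGroup.mk'_surjective N₁ q
    have haN : a ∈ N := (QuotientGroup.eq_one_iff a).1 hq
    by_cases ha : a ∈ N₁
    · exact Or.inl ((hν1 a).2 ha)
    · refine Or.inr (QuotientGroup.eq.2 ?_)
      exact hidx' _ (inv_mem haN) (fun e => ha (by simpa using N₁.inv_mem e)) _ he₀N he₀N₁
  · rintro _ ⟨y, hy, rfl⟩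
    exact orderOf_two_iff.2 ⟨by rw [← map_mul, show y * y = 1 from Subtype.ext (mul_self_of_orderOf_two hy.1), map_one],
      fun e => hU1 hy ((hν1 y).1 e)⟩
  · rintro _ ⟨y, hy, rfl⟩ g
    obtain ⟨g, rfl⟩ := QuotientGroup.mk'_surjective N₁ g
    exact ⟨g * y * g⁻¹, members_conj c hy (hLC g.2), by simp only [hν, map_mul, map_inv]⟩
  · rw [eq_top_iff]
    intro q _
    obtain ⟨a, rfl⟩ := QuotientGroup.mk'_surjective N₁ q
    have ha : L ≤ ((closure Z).comap ν).map L.subtype := (closure_le _).2 fun y hy =>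
      ⟨⟨y, subset_closure hy⟩, mem_comap.2 (subset_closure ⟨⟨y, subset_closure hy⟩, hy, rfl⟩), rfl⟩
    obtain ⟨a', ha', e⟩ := ha a.2
    rw [← (Subtype.ext e : a' = a)]
    exact ha'
  · rintro ⟨y, hy, e⟩
    have h1 : y⁻¹ * e₀ ∈ N := hN₁N ((QuotientGroup.eq.1 e))
    exact members_notMem c hy (mem_subgroupOf.1 (show y ∈ N by simpa using N.mul_mem he₀N (N.inv_mem h1)))
  · rintro _ ⟨y, hy, rfl⟩ _ ⟨z, hz, rfl⟩ hcom hne
    have hzy : (y : G) * z * (y : G)⁻¹ = z ∨ (y : G) * z * (y : G)⁻¹ = z * u := by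
      refine conj_small c hz.2.2 hy.2.2 (by rw [mul_self_of_orderOf_two hz.1]; exact one_mem U) ?_
      have e : ν z = ν (y * z * y⁻¹) := by rw [map_mul, map_mul, map_inv, hcom, mul_inv_cancel_right]
      exact mem_subgroupOf.1 (hN₁N (QuotientGroup.eq.1 e))
    have hmem : ∀ {a : G}, a ∈ Q → (y : G) * z * a * (y * z * a) = 1 → ν y * ν z ∈ Z := fun {a} ha ha2 => by
      have hwne : ∀ p ∈ Q, (y : G) * z * a ≠ p := fun p hp e => hne (hνeq (by
        rw [inv_of_orderOf_two hy.1, show (y : G) * z = p * a⁻¹ by rw [← e]; group]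
        exact mul_mem hp (inv_mem ha)))
      have hw : (y : G) * z * a ∈ members U u := by
        refine ⟨orderOf_two_iff.2 ⟨ha2, hwne 1 (one_mem Q)⟩, fun e => ?_,
          mul_mem (mul_mem hy.2.2 hz.2.2) (mem_centralizer_iff.2 fun p hp => c.comm p hp a (hQU ha))⟩
        by_cases huQ : u ∈ Q
        · exact hwne u huQ e
        · -- `U` has order four
          have h4 : ¬ 8 ≤ Nat.card U := fun h8 => by
            obtain ⟨a', ha', e'⟩ := c.exists_root_of_card hu hQU (by omega)
            exact huQ (e' ▸ mul_mem ha' ha')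
          obtain ⟨r, hr, hrr⟩ := hroot
          exact huQ ((hQ u).2 ⟨r, hr, hrr.symm⟩)
      refine ⟨⟨_, subset_closure hw⟩, hw, ?_⟩
      rw [← map_mul]
      refine hνeq ?_
      show ((y : G) * z * a)⁻¹ * ((y : G) * z) ∈ Q
      rw [show ((y : G) * z * a)⁻¹ * ((y : G) * z) = a⁻¹ by group]
      exact inv_mem ha
    have hyy := mul_self_of_orderOf_two hy.1
    have hzz := mul_self_of_orderOf_two hz.1
    rcases hzy with e | e
    all_goals rw [inv_of_orderOf_two hy.1] at e
    · exact hmem (one_mem Q) (by rw [mul_one, show (y : G) * z * (y * z) = y * z * y * z by group, e, hzz])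
    · obtain ⟨a, ha, haa⟩ : ∃ a ∈ Q, a * a = u := by
        rcases hanti with h8 | hanti
        · exact c.exists_root_of_card hu hQU (by omega)
        · refine absurd ?_ (hanti z hz y hy)
          calc (y : G) * z = y * z * y * y := by rw [mul_assoc (y * z : G), hyy, mul_one]
            _ = z * u * y := by rw [e]
            _ = z * y * u := by rw [mul_assoc, ← (c.commute_u hy.2.2).eq, ← mul_assoc]
      refine hmem ha ?_
      have hay : a * ((y : G) * z) = y * z * a := mem_centralizer_iff.1 (mul_mem hy.2.2 hz.2.2) a (hQU ha)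
      rw [show (y : G) * z * a * (y * z * a) = y * z * (a * (y * z)) * a by group, hay,
        show (y : G) * z * (y * z * a) * a = y * z * y * z * (a * a) by group, e, haa,
        show (z : G) * u * z * u = z * (u * z) * u by group, ← (c.commute_u hz.2.2).eq, ← mul_assoc (z : G), hzz,
        one_mul, huu]

/-- The bound for `|U| ≥ 8`. -/
theorem AX.square_bound (h : AX M W) (hS : (S : Subgroup G) ≤ M) (hcu : ∀ s ∈ (S : Subgroup G), Commute s u)
    (hu : orderOf u = 2) (U : Subgroup G) (c : Cyc M U u) (h8 : 8 ≤ Nat.card U) (hm : Moved M U u) :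
    SquareBound U u := by
  induction hn : Nat.card G - Nat.card U using Nat.strong_induction_on generalizing U with
  | _ n ih =>
  refine h.members_bound hS hcu hu c (c.exists_root_of_card hu le_rfl (by omega)) hm
    (fun U' c' hlt hm' => ?_) (Or.inl h8)
  refine ih (Nat.card G - Nat.card U') ?_ U' c' (by omega) hm' rfl
  have := Subgroup.card_le_card_group U'
  omega

/-- The section of a root is strongly embedded. -/
theorem AX.root_se (h : AX M W) (hS : (S : Subgroup G) ≤ M) (hcu : ∀ s ∈ (S : Subgroup G), Commute s u)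
    (hu : orderOf u = 2) (c : Cyc M U u) (hroot : ∃ a ∈ U, a * a = u) (hm : Moved M U u) :
    Cfsg.IsStronglyEmbedded ((M.subgroupOf (closure (members U u))).map
      (QuotientGroup.mk' (U.subgroupOf (closure (members U u))))) ∧
    ((∀ y ∈ members U u, ∀ z ∈ members U u, z * y ≠ y * z * u) → SquareBound U u) := by
  have hno : ∀ U' : Subgroup G, Cyc M U' u → Nat.card U < Nat.card U' → Moved M U' u → SquareBound U' u := by
    haveI : Fact (Nat.Prime 2) := ⟨Nat.prime_two⟩
    intro U' c' hlt hm'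
    refine h.square_bound hS hcu hu U' c' ?_ hm'
    obtain ⟨k, hk⟩ := IsPGroup.iff_card.1 c'.isP
    obtain ⟨a, ha, haa⟩ := hroot
    have h4 : 4 ≤ Nat.card U := by
      refine le_trans (le_of_eq ?_) (Subgroup.card_le_of_le (zpowers_le.2 ha))
      rw [Nat.card_zpowers]
      symm
      refine orderOf_eq_prime_pow (p := 2) (n := 1) ?_ ?_
      · rw [pow_one, pow_two, haa]; exact ne_one_of_orderOf_two hu
      · rw [pow_succ, pow_one, pow_mul, pow_two, pow_two, haa, mul_self_of_orderOf_two hu]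
    have h5 : 2 ^ 2 < 2 ^ k := by rw [← hk]; norm_num; omega
    have h3 : 3 ≤ k := (Nat.pow_lt_pow_iff_right one_lt_two).1 h5
    rw [hk]
    exact le_trans (by norm_num) (Nat.pow_le_pow_right two_pos h3)
  exact ⟨h.members_se hS hcu hu c hroot hm hno, fun hanti => h.members_bound hS hcu hu c hroot hm hno (Or.inr hanti)⟩

namespace TwistC

variable {C : Type*} [Group C] [Finite C] {H : Subgroup C} {T : Sylow 2 C} {u : C}

/-- The local setting is a setting of a two-generated core. -/
theorem ax (t : TwistC H T u) : AX H (⊥ : Subgroup C) := by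
  have huT : u ∈ (T : Subgroup C) := by
    haveI : Fact (Nat.Prime 2) := ⟨Nat.prime_two⟩
    obtain ⟨g, hg⟩ := exists_conj_mem_sylow (x := u) (p := 2) (n := 1) (by rw [t.two, pow_one]) T
    rwa [(t.cent g).eq, mul_inv_cancel_right] at hg
  refine ⟨t.proper, by simp, bot_le, fun _ _ => ?_, fun a b g ha hb hab _ haH hbH hga hgb => ?_, fun a ha ha2 => ?_⟩
  · exact mem_normalizer_fintype fun b hb => by simp_all
  · by_cases hau : a = u
    · exact t.fix b hbH hb (fun e => hab (hau.trans e.symm)) g hgb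
    · exact t.fix a haH ha hau g hga
  · by_cases hau : a = u
    · obtain ⟨E, hET, hE, hE8⟩ := t.eight
      obtain ⟨e, he, heu⟩ : ∃ e ∈ E, e ∉ zpowers u := SetLike.not_le_iff_exists.1 fun hle => by
        have := card_le_of_le hle
        rw [Nat.card_zpowers, t.two, hE8] at this
        omega
      refine ⟨e, t.le (hET he), orderOf_eq_prime (hE.2 e he) fun e1 => heu (e1 ▸ one_mem _),
        fun e' => heu (e' ▸ hau ▸ mem_zpowers _), ?_⟩
      rw [hau]
      exact ((t.cent e).symm).eq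
    · exact ⟨u, t.le huT, t.two, hau, (t.cent a).eq⟩

/-- The cyclic group of a root. -/
theorem cyc_root (t : TwistC H T u) {v : C} (hv : v ∈ H) (hvv : v * v = u) : Cyc H (zpowers v) u := by
  haveI : Fact (Nat.Prime 2) := ⟨Nat.prime_two⟩
  have huu := mul_self_of_orderOf_two t.two
  have hcases : ∀ a ∈ zpowers v, a = 1 ∨ a = u ∨ a = v ∨ a = v * u := fun a ha => by
    obtain ⟨i, rfl⟩ := mem_zpowers_iff.1 ha
    rcases Int.even_or_odd i with ⟨j, rfl⟩ | ⟨j, rfl⟩ <;> rcases Int.even_or_odd j with ⟨k, rfl⟩ | ⟨k, rfl⟩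
    · left; rw [← two_mul, zpow_mul, zpow_two, hvv, ← two_mul, zpow_mul, zpow_two, huu, one_zpow]
    · right; left
      rw [← two_mul, zpow_mul, zpow_two, hvv, zpow_add, zpow_mul, zpow_two, huu, one_zpow, one_mul, zpow_one]
    · right; right; left
      rw [zpow_add, zpow_one, zpow_mul, zpow_two, hvv, ← two_mul, zpow_mul, zpow_two, huu, one_zpow, one_mul]
    · right; right; right
      rw [zpow_add, zpow_one, zpow_mul, zpow_two, hvv, zpow_add, zpow_mul, zpow_two, huu, one_zpow, one_mul,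
        zpow_one, (t.cent v).eq]
  refine ⟨hvv ▸ mul_mem (mem_zpowers v) (mem_zpowers v), zpowers_le.2 hv, IsPGroup.of_card (n := 2) ?_,
    fun a ha b hb => ?_, fun a ha ha2 => ?_⟩
  · rw [Nat.card_zpowers]
    refine orderOf_eq_prime_pow (p := 2) (n := 1) ?_ ?_
    · rw [pow_one, pow_two, hvv]; exact ne_one_of_orderOf_two t.two
    · rw [pow_succ, pow_one, pow_mul, pow_two, pow_two, hvv, huu]
  · obtain ⟨i, rfl⟩ := mem_zpowers_iff.1 ha
    obtain ⟨j, rfl⟩ := mem_zpowers_iff.1 hb
    exact ((Commute.refl v).zpow_zpow i j).eq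
  · rcases hcases a ha with rfl | rfl | rfl | rfl
    · exact Or.inl rfl
    · exact Or.inr rfl
    · exact absurd (hvv.symm.trans ha2) (ne_one_of_orderOf_two t.two)
    · rw [show v * u * (v * u) = v * (u * v) * u by group, ← (t.cent v).eq,
        show v * (v * u) * u = v * v * (u * u) by group, hvv, huu, mul_one] at ha2
      exact absurd ha2 (ne_one_of_orderOf_two t.two)

/-- A root outside the squares of its section is a cover root. -/
theorem cover_of_mem (t : TwistC H T u) {v : C} (hv : v ∈ H) (hvv : v * v = u) (hm : Moved H (zpowers v) u)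
    (hmem : v ∈ closure (members (zpowers v) u)) : CoverRoot H u v := by
  have hC : ∀ {y : C}, y ∈ members (zpowers v) u → Commute y v := fun hy =>
    (mem_centralizer_iff.1 hy.2.2 v (mem_zpowers v)).symm
  obtain ⟨⟨x, hx, hxH⟩, s, hs, hsH⟩ := hm
  have hu : orderOf u = 2 := t.two
  have hcu : ∀ s ∈ (T : Subgroup C), Commute s u := fun s _ => t.cent s
  have hroot : ∃ a ∈ zpowers v, a * a = u := ⟨v, mem_zpowers v, hvv⟩
  refine ⟨hv, hvv, fun hle => hsH (hle (mem_centralizer_singleton_iff.2 (hC hs).eq)), ?_⟩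
  by_contra hno
  push Not at hno
  have hb := (t.ax.root_se t.le hcu hu (t.cyc_root hv hvv) hroot ⟨⟨x, hx, hxH⟩, s, hs, hsH⟩).2
    fun y hy z hz => hno y z hy.1 hz.1 (hC hy) (hC hz)
  obtain ⟨a, ha, e⟩ := hb v (mem_zpowers v) hmem
  obtain ⟨i, rfl⟩ := mem_zpowers_iff.1 ha
  have h4 : orderOf v = 2 ^ 2 := orderOf_eq_prime_pow (n := 1) (by
      rw [pow_one, pow_two, hvv]; exact ne_one_of_orderOf_two t.two)
    (by rw [pow_succ, pow_one, pow_mul, pow_two, pow_two, hvv, mul_self_of_orderOf_two t.two])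
  haveI : Fact (Nat.Prime 2) := ⟨Nat.prime_two⟩
  have h1 : v ^ (i + i - 1) = 1 := by rw [zpow_sub, zpow_add, ← e, zpow_one, mul_inv_cancel]
  rw [← orderOf_dvd_iff_zpow_eq_one, h4] at h1
  omega

end TwistC

end Cfsg.Agent.Invol.Core2
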