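import Cfsg.Agent.Lib.Invol.BenderCover.CoverIndex
import Cfsg.Agent.Lib.Invol.Core2.TwistCompBase
import Cfsg.Agent.Lib.Invol.Core2.TwistSectionBound
import Cfsg.Agent.Lib.Invol.Core2.TwistCore

/-!
# Twisted bad involution: the component of a cover root has five points

The involutions centralising a cover root `v` generate a group with strongly embedded section modulo `⟨v⟩`; two of
them anticommute, so the section is `A₅` modulo its core and their point has an orbit of five points. An involution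
of `H` normalising `⟨v⟩` preserves this orbit, so it fixes a point of it, which is the base point.
-/

set_option autoImplicit false
set_option linter.unusedSectionVars false
set_option linter.style.haveILetI false

namespace Cfsg.Agent.Invol.Core2

open Subgroup
open scoped Pointwise

universe v

variable {C : Type v} [Group C] [Finite C] {H : Subgroup C} {T : Sylow 2 C} {u : C}

namespace Comp

variable {w a b : C}

theorem commute_of_mem_closure {g : C} (hg : g ∈ closure (members (zpowers w) u)) : Commute g w :=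
  mem_centralizer_singleton_iff.1 ((closure_le (centralizer ({w} : Set C))).2
    (fun _ hy => mem_centralizer_singleton_iff.2 (mem_centralizer_iff.1 hy.2.2 w (mem_zpowers w)).symm) hg)

theorem mem_members {y : C} (hy : orderOf y = 2) (hyu : y ≠ u) (hyw : Commute y w) :
    y ∈ members (zpowers w) u := by
  refine ⟨hy, hyu, mem_centralizer_iff.2 fun g hg => ?_⟩
  obtain ⟨i, rfl⟩ := mem_zpowers_iff.1 hg
  exact (hyw.zpow_right i).symm.eq

/-- An element of `C(w)` differs from an element of the group of the members by one fixing the base point. -/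
theorem exists_transport (h : TwistC H T u) (hw : w ∈ H) (hww : w * w = u) (ha : a ∈ members (zpowers w) u)
    (haH : a ∈ H) {g : C} (hg : g * a * g⁻¹ ∈ members (zpowers w) u) :
    ∃ d ∈ closure (members (zpowers w) u), d * g ∈ H := by
  by_cases hgH : g * a * g⁻¹ ∈ H
  · exact ⟨1, one_mem _, by rw [one_mul]; exact h.fix a haH ha.1 ha.2.1 g hgH⟩
  obtain ⟨d, hd, e⟩ := h.ax.members_pair (h.cyc_root hw hww) h.two h.le (fun s _ => h.cent s)
    ⟨w, mem_zpowers w, hww⟩ ha haH hg hgH
  refine ⟨d, closure_pair_members ha hg hd, h.fix a haH ha.1 ha.2.1 (d * g) ?_⟩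
  rw [show d * g * a * (d * g)⁻¹ = d * (g * a * g⁻¹) * d⁻¹ by group]
  rcases e with e | e
  · rwa [← e]
  · rw [conj_mul_central (h.cent d)] at e
    have e' : d * (g * a * g⁻¹) * d⁻¹ = a * u := by
      calc d * (g * a * g⁻¹) * d⁻¹ = d * (g * a * g⁻¹) * d⁻¹ * u * u := by rw [mul_assoc _ u u, h.uu, mul_one]
        _ = a * u := by rw [← e]
    rw [e']
    exact mul_mem haH h.u_mem

/-- The component is an orbit of the group generated by the members. -/
theorem comp_eq_orbit (h : TwistC H T u) (hw : w ∈ H) (hww : w * w = u) (ha : a ∈ members (zpowers w) u)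
    (haH : a ∈ H) :
    comp H w = MulAction.orbit ↥(closure (members (zpowers w) u)) (QuotientGroup.mk 1 : C ⧸ H) := by
  ext p
  constructor
  · rintro ⟨c, hc, rfl⟩
    obtain ⟨d, hd, hdc⟩ := exists_transport h hw hww ha haH (g := c)
      (members_conj (h.cyc_root hw hww) ha (mem_members_centralizer hc))
    refine ⟨⟨d⁻¹, inv_mem hd⟩, ?_⟩
    show (d⁻¹ : C) • (QuotientGroup.mk 1 : C ⧸ H) = _
    rw [smul_base, QuotientGroup.eq, inv_inv]
    exact hdc
  · rintro ⟨⟨d, hd⟩, rfl⟩
    exact ⟨d, commute_of_mem_closure hd, (smul_base d).symm⟩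
where
  mem_members_centralizer {c : C} (hc : Commute c w) : c ∈ centralizer (zpowers w : Set C) := by
    refine mem_centralizer_iff.2 fun g hg => ?_
    obtain ⟨i, rfl⟩ := mem_zpowers_iff.1 hg
    exact (hc.zpow_right i).symm.eq

theorem se_of_eq {L : Type*} [Group L] {X N N' : Subgroup L} [N.Normal] [N'.Normal] (e : N = N')
    (h : Cfsg.IsStronglyEmbedded (X.map (QuotientGroup.mk' N))) :
    Cfsg.IsStronglyEmbedded (X.map (QuotientGroup.mk' N')) := by
  subst e
  exact h

/-- The point of two anticommuting involutions: the stabiliser in the group of the members has index five. -/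
theorem ncard_five (h : TwistC H T u) (hw : w ∈ H) (hww : w * w = u) (hm : Moved H (zpowers w) u)
    (ha : a ∈ members (zpowers w) u) (haH : a ∈ H) (hb : b ∈ members (zpowers w) u) (hab : b * a = a * b * u) :
    (comp H w).ncard = 5 := by
  classical
  set U := zpowers w with hU
  set L := closure (members U u) with hL
  obtain ⟨-, t, ht, htH⟩ := id hm
  have hbH : b ∈ H := h.fix a haH ha.1 ha.2.1 b (by
    rw [hab, show a * b * u * b⁻¹ = a * (b * u * b⁻¹) by group, ← (h.cent b).symm.eq |> fun e => e]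
    exact mul_mem haH (by rw [mul_inv_cancel_right]; exact h.u_mem))
  have haL : a ∈ L := subset_closure ha
  have hbL : b ∈ L := subset_closure hb
  have hbw : Commute b w := commute_of_mem_closure hbL
  have haw : Commute a w := commute_of_mem_closure haL
  have haa := mul_self_of_orderOf_two ha.1
  have hbb := mul_self_of_orderOf_two hb.1
  have habu : a * b * (a * b) = u := by
    calc a * b * (a * b) = a * (b * a) * b := by group
      _ = a * a * b * (u * b) := by rw [hab]; group
      _ = a * a * (b * b) * u := by rw [← (h.cent b).eq]; group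
      _ = u := by rw [haa, hbb, one_mul, one_mul]
  have habw : a * b * w * (a * b * w) = 1 := by
    calc a * b * w * (a * b * w) = a * b * (w * (a * b)) * w := by group
      _ = a * b * (a * b) * (w * w) := by rw [← ((haw.mul_left hbw)).eq]; group
      _ = 1 := by rw [habu, hww, h.uu]
  have hwL : w ∈ L := by
    have hd : a * b * w ∈ L := by
      by_cases h1 : a * b * w = 1
      · rw [h1]; exact one_mem _
      by_cases h2 : a * b * w = u
      · rw [h2, ← habu]
        exact mul_mem (mul_mem haL hbL) (mul_mem haL hbL)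
      exact subset_closure (mem_members (orderOf_two_iff.2 ⟨habw, h1⟩) h2
        ((haw.mul_left hbw).mul_left (Commute.refl w)))
    simpa [mul_assoc] using mul_mem (inv_mem (mul_mem haL hbL)) hd
  have huL : u ∈ L := hww ▸ mul_mem hwL hwL
  set v₀ : ↥L := ⟨w, hwL⟩ with hv₀
  set X := H.subgroupOf L with hX
  have hv : ∀ x : ↥L, Commute x v₀ := fun x => Subtype.ext (commute_of_mem_closure x.2).eq
  haveI hn : (zpowers v₀).Normal := ⟨fun x hx g => by
    obtain ⟨i, rfl⟩ := mem_zpowers_iff.1 hx
    rw [((hv g).zpow_right i).eq, mul_inv_cancel_right]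
    exact zpow_mem (mem_zpowers _) i⟩
  have hsub : U.subgroupOf L = zpowers v₀ := by
    ext x
    rw [mem_subgroupOf, mem_zpowers_iff, mem_zpowers_iff]
    exact ⟨fun ⟨i, hi⟩ => ⟨i, Subtype.ext (by simpa [v₀] using hi)⟩,
      fun ⟨i, hi⟩ => ⟨i, by simpa [v₀] using congrArg Subtype.val hi⟩⟩
  have hSE : Cfsg.IsStronglyEmbedded (X.map (QuotientGroup.mk' (zpowers v₀))) := by
    haveI : (U.subgroupOf L).Normal := members_normal U u
    exact se_of_eq hsub (h.ax.root_se h.le (fun s _ => h.cent s) h.two (h.cyc_root hw hww)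
      ⟨w, mem_zpowers w, hww⟩ hm).1
  have hidx : X.index = 5 := by
    refine BenderCover.index_eq_five X (u := (⟨u, huL⟩ : ↥L)) (v := v₀) (a := ⟨a, haL⟩) (b := ⟨b, hbL⟩)
      hv (Subtype.ext hww) (by rw [Subgroup.orderOf_mk, h.two]) hw ?_ (by rw [Subgroup.orderOf_mk, ha.1]) haH
      (by rw [Subgroup.orderOf_mk, hb.1]) hbH (Subtype.ext hab) (fun y hy hyu => ?_)
      (fun y hy hy2 hyu k hk => h.fix (y : C) hy (by rw [Subgroup.orderOf_coe]; exact hy2)
        (fun e => hyu (Subtype.ext e)) (k : C) hk) hSE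
    · refine eq_top_iff.2 ?_
      rw [← closure_closure_coe_preimage (k := members U u)]
      exact closure_mono fun x hx => by
        show orderOf x = 2
        rw [← Subgroup.orderOf_coe]; exact hx.1
    · obtain ⟨d, hd, e⟩ := h.ax.members_class (h.cyc_root hw hww) h.two h.le (fun s _ => h.cent s)
        ⟨w, mem_zpowers w, hww⟩ ha haH ht htH
        (mem_members (by rw [Subgroup.orderOf_coe]; exact hy) (fun e => hyu (Subtype.ext e))
          (commute_of_mem_closure y.2))
      refine ⟨⟨d⁻¹, inv_mem hd⟩, ?_⟩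
      rcases e with e | e
      · refine Or.inl (Subtype.ext ?_)
        show d⁻¹ * a * d⁻¹⁻¹ = (y : C)
        rw [← e]; group
      · refine Or.inr (Subtype.ext ?_)
        show d⁻¹ * a * d⁻¹⁻¹ = (y : C) * u
        have e' : a = d * y * d⁻¹ * u := by rw [e, mul_assoc _ u u, h.uu, mul_one]
        rw [e', ← conj_mul_central (h.cent d)]; group
  have hstab : MulAction.stabilizer ↥L (QuotientGroup.mk 1 : C ⧸ H) = X := by
    ext x
    exact smul_base_eq (g := (x : C))
  rw [comp_eq_orbit h hw hww ha haH, ← Nat.card_coe_set_eq,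
    Nat.card_congr (MulAction.orbitEquivQuotientStabilizer ↥L (QuotientGroup.mk 1 : C ⧸ H)), hstab]
  exact hidx

/-- Translates of a component. -/
theorem smul_comp {g v : C} (hg : (QuotientGroup.mk g : C ⧸ H) ∈ comp H (g * v * g⁻¹)) :
    g • comp H v = comp H (g * v * g⁻¹) := by
  obtain ⟨c₀, hc₀, e₀⟩ := hg
  have hmem : c₀⁻¹ * g ∈ H := QuotientGroup.eq.1 e₀
  ext p
  constructor
  · rintro ⟨_, ⟨c, hc, rfl⟩, rfl⟩
    refine ⟨g * c * g⁻¹ * c₀, ?_, ?_⟩
    · exact (hc.map (MulAut.conj g).toMonoidHom).mul_left hc₀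
    · show _ = QuotientGroup.mk (g * c)
      rw [QuotientGroup.eq, show (g * c * g⁻¹ * c₀)⁻¹ * (g * c) = c₀⁻¹ * g by group]
      exact hmem
  · rintro ⟨c, hc, rfl⟩
    refine ⟨QuotientGroup.mk (g⁻¹ * (c * c₀⁻¹) * g), ⟨_, ?_, rfl⟩, ?_⟩
    · have := (hc.mul_left hc₀.inv_left).map (MulAut.conj g⁻¹).toMonoidHom
      simpa [mul_assoc] using this
    · show QuotientGroup.mk (g * (g⁻¹ * (c * c₀⁻¹) * g)) = _
      rw [QuotientGroup.eq, show (g * (g⁻¹ * (c * c₀⁻¹) * g))⁻¹ * c = (c₀⁻¹ * g)⁻¹ by group]
      exact inv_mem hmem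

end Comp

open Cfsg.Agent.Invol.Core2.Comp

/-- The component of a cover root has five points. -/
theorem TwistC.fiveAt (h : TwistC H T u) : FiveAt H u := by
  classical
  haveI : Fact (Nat.Prime 2) := ⟨Nat.prime_two⟩
  rintro v ⟨hvH, hvv, hmv, a₀, b₀, ha₀, hb₀, hav, hbv, hab₀⟩
  have hu1 := ne_one_of_orderOf_two h.two
  have hne : ∀ {x y : C}, y * x = x * y * u → x ≠ u ∧ y ≠ u := fun {x y} e => by
    constructor <;> intro e' <;> rw [e'] at e
    · rw [(h.cent y).eq] at e; exact hu1 (left_eq_mul.1 e)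
    · rw [← (h.cent x).eq] at e; exact hu1 (left_eq_mul.1 e)
  -- move the point of `a₀` to the base
  obtain ⟨g, hgT⟩ := exists_conj_mem_sylow (x := a₀) (p := 2) (n := 1) (by rw [ha₀, pow_one]) T
  set w := g * v * g⁻¹ with hwdef
  set a := g * a₀ * g⁻¹ with hadef
  set b := g * b₀ * g⁻¹ with hbdef
  have haH : a ∈ H := h.le hgT
  have hab : b * a = a * b * u := by
    calc b * a = g * (b₀ * a₀) * g⁻¹ := by rw [hbdef, hadef]; group
      _ = g * (a₀ * b₀ * u) * g⁻¹ := by rw [hab₀]
      _ = a * b * u := by rw [conj_mul_central (h.cent g), hadef, hbdef]; group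
  have haw : Commute a w := hav.map (MulAut.conj g).toMonoidHom
  have hww : w * w = u := by
    rw [hwdef, conj_mul, hvv, (h.cent g).eq, mul_inv_cancel_right]
  have ha2 : orderOf a = 2 := by rw [hadef, orderOf_conj_eq, ha₀]
  have hau : a ≠ u := (hne hab).1
  have ha : a ∈ members (zpowers w) u := mem_members ha2 hau haw
  have hb : b ∈ members (zpowers w) u :=
    mem_members (by rw [hbdef, orderOf_conj_eq, hb₀]) (hne hab).2 (hbv.map (MulAut.conj g).toMonoidHom)
  have hwH : w ∈ H := h.fix a haH ha2 hau w (by rw [← haw.eq, mul_inv_cancel_right]; exact haH)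
  -- an involution of `H` normalising `⟨v⟩`
  obtain ⟨k, hk⟩ := exists_conj_mem_sylow (x := (⟨v, hvH⟩ : ↥H)) (p := 2) (n := 2)
    (by rw [Subgroup.orderOf_mk]; exact h.root_order hvv) (T.subtype h.le)
  have hkT : (k : C) * v * (k : C)⁻¹ ∈ (T : Subgroup C) := hk
  obtain ⟨f₀, hf₀, hf₀2, hf₀u, hmove⟩ := exists_normal_second_core T h.eight h.u_mem_T h.two
    (fun s _ => h.cent s) h.uniq
  set f := (k : C)⁻¹ * f₀ * k with hfdef
  have hfH : f ∈ H := mul_mem (mul_mem (inv_mem k.2) (h.le hf₀)) k.2
  have hf2 : orderOf f = 2 := by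
    have := orderOf_conj_eq (k : C)⁻¹ f₀
    rwa [inv_inv, hf₀2] at this
  have hfu : f ≠ u := fun e => hf₀u (by
    calc f₀ = (k : C) * f * (k : C)⁻¹ := by rw [hfdef]; group
      _ = u := by rw [e, (h.cent (k : C)).eq, mul_inv_cancel_right])
  have hfv : f * v * f⁻¹ = v ∨ f * v * f⁻¹ = v * u := by
    set t := (k : C) * v * (k : C)⁻¹ with ht
    have e0 : f * v * f⁻¹ = (k : C)⁻¹ * (f₀ * t * f₀⁻¹) * k := by rw [hfdef, ht]; group
    rw [e0]
    rcases hmove t hkT with e | e
    · left
      rw [show f₀ * t * f₀⁻¹ = t by rw [← (mul_inv_eq_iff_eq_mul.1 e), mul_inv_cancel_right], ht]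
      group
    · right
      have e1 : f₀ * t * f₀⁻¹ = t * u := by
        have e2 : t * f₀ = f₀ * u * t := mul_inv_eq_iff_eq_mul.1 e
        calc f₀ * t * f₀⁻¹ = f₀ * (u * t) * (u⁻¹ * f₀⁻¹) := by rw [← (h.cent t).eq]; group
          _ = t * f₀ * (f₀⁻¹ * u⁻¹) := by rw [e2, (Commute.inv_inv (h.cent f₀)).eq]; group
          _ = t * u := by rw [inv_of_orderOf_two h.two]; group
      rw [e1, ht, show (k : C)⁻¹ * ((k : C) * v * (k : C)⁻¹ * u) * k = v * ((k : C)⁻¹ * u * k) by group,
        mul_assoc ((k : C)⁻¹), ← (h.cent (k : C)).eq, inv_mul_cancel_left]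
  -- it preserves the orbit of the members of `w`
  set f' := g * f * g⁻¹ with hf'def
  have hf'w : f' * w * f'⁻¹ = w ∨ f' * w * f'⁻¹ = w * u := by
    rw [show f' * w * f'⁻¹ = g * (f * v * f⁻¹) * g⁻¹ by rw [hf'def, hwdef]; group]
    rcases hfv with e | e <;> rw [e]
    · exact Or.inl rfl
    · exact Or.inr (conj_mul_central (h.cent g))
  have hcw : ∀ {c : C}, Commute c w → Commute (f' * c * f'⁻¹) w := fun {c} hc => by
    have h1 : Commute (f' * c * f'⁻¹) (f' * w * f'⁻¹) := hc.map (MulAut.conj f').toMonoidHom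
    rcases hf'w with e | e <;> rw [e] at h1
    · exact h1
    · simpa [mul_assoc, h.uu] using h1.mul_right (h.cent (f' * c * f'⁻¹))
  have hfa : f' * a * f'⁻¹ ∈ members (zpowers w) u :=
    mem_members (by rw [orderOf_conj_eq, ha2]) (fun e => hau (by
      calc a = f'⁻¹ * (f' * a * f'⁻¹) * f' := by group
        _ = u := by rw [e, mul_assoc, ← (h.cent f').eq, inv_mul_cancel_left])) (hcw haw)
  obtain ⟨d, hd, hdf⟩ := exists_transport h hwH hww ha haH hfa
  have hdw : Commute d w := commute_of_mem_closure hd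
  have hf'2 : orderOf f' = 2 := by rw [hf'def, orderOf_conj_eq, hf2]
  have hf'g : f' • (QuotientGroup.mk g : C ⧸ H) = QuotientGroup.mk g := by
    show QuotientGroup.mk (f' * g) = _
    rw [QuotientGroup.eq, hf'def, show (g * f * g⁻¹ * g)⁻¹ * g = f⁻¹ by group]
    exact inv_mem hfH
  have hf'u : f' ≠ u := fun e => hfu (by
    calc f = g⁻¹ * f' * g := by rw [hf'def]; group
      _ = u := by rw [e, mul_assoc, ← (h.cent g).eq, inv_mul_cancel_left])
  have hm : Moved H (zpowers w) u := by
    refine ⟨⟨a, ha, haH⟩, ?_⟩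
    by_contra hno
    push Not at hno
    have hle : ∀ c : C, Commute c w → c ∈ H := fun c hc =>
      h.fix a haH ha2 hau c (hno _ (members_conj (h.cyc_root hwH hww) ha
        (comp_eq_orbit.mem_members_centralizer hc)))
    have hf'H : f' ∈ H := by simpa using mul_mem (inv_mem (hle d hdw)) hdf
    have hgH : g ∈ H := by
      have h1 : (QuotientGroup.mk g : C ⧸ H) = QuotientGroup.mk 1 := h.fix_one hf'2 hf'u hf'g (smul_base_eq.2 hf'H)
      exact inv_mem_iff.1 (by simpa using QuotientGroup.eq.1 h1)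
    exact hmv fun c hc => by
      have h1 := hle _ ((show Commute c v from mem_centralizer_singleton_iff.1 hc).map (MulAut.conj g).toMonoidHom)
      simpa [mul_assoc] using mul_mem (mul_mem (inv_mem hgH) h1) hgH
  have hfive := ncard_five h hwH hww hm ha haH hb hab
  have hst : f' ∈ st H w := mem_st fun p hp => by
    obtain ⟨c, hc, rfl⟩ := hp
    refine ⟨f' * c * f'⁻¹ * d⁻¹, (hcw hc).mul_left hdw.inv_left, ?_⟩
    show _ = QuotientGroup.mk (f' * c)
    rw [QuotientGroup.eq, show (f' * c * f'⁻¹ * d⁻¹)⁻¹ * (f' * c) = d * f' by group]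
    exact hdf
  have hbase : (QuotientGroup.mk g : C ⧸ H) ∈ comp H w := by
    by_contra hno
    haveI : Fintype ↥(comp H w) := Fintype.ofFinite _
    have hfix : ∀ p : ↥(comp H w), perm H w ⟨f', hst⟩ p ≠ p := fun p hp =>
      hno (h.fix_one hf'2 hf'u (congrArg Subtype.val hp) hf'g ▸ p.2)
    have hsq : perm H w ⟨f', hst⟩ ^ 2 = 1 := by
      rw [← map_pow, show (⟨f', hst⟩ : ↥(st H w)) ^ 2 = 1 from Subtype.ext (by
        rw [SubmonoidClass.coe_pow, ← hf'2, pow_orderOf_eq_one]; rfl), map_one]
    obtain ⟨p, hp⟩ := Equiv.Perm.exists_fixed_point_of_prime (p := 2) (n := 1)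
      (by rw [← Nat.card_eq_fintype_card, Nat.card_coe_set_eq, hfive]; omega) hsq
    exact hfix p hp
  rw [← Set.ncard_smul_set g, smul_comp hbase, hfive]

end Cfsg.Agent.Invol.Core2
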