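import Cfsg.Agent.Lib.Invol.Core2.TwistClass

/-!
# Twisted case: the facts of `TwistLocal` from the local setting

With one class of involutions other than `u` in `H` and the local fact at one of them, `M` fuses every involution of
`S` to `u`, each has a third involution, and the local fact holds everywhere.
-/

set_option autoImplicit false
set_option linter.unusedSectionVars false
set_option linter.style.haveILetI false

namespace Cfsg.Agent.Invol.Core2

open Subgroup

universe v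

/-- `H` is transitive on its involutions other than `u`. -/
def ClassOne {C : Type*} [Group C] (H : Subgroup C) (u : C) : Prop :=
  ∀ y ∈ H, orderOf y = 2 → y ≠ u → ∀ z ∈ H, orderOf z = 2 → z ≠ u → ∃ d ∈ H, d * z * d⁻¹ = y

namespace TwistPre

variable {G : Type v} [Group G] [Finite G] {M W : Subgroup G} {S : Sylow 2 G} {u : G}

theorem bar_ne (c : TwistPre M W S u) {a : ↥(centralizer ({u} : Set G))} (ha : orderOf (a : G) = 2)
    (hau : (a : G) ≠ u) : orderOf (toCBar u a) = 2 ∧ toCBar u a ≠ uBar u := by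
  have key : ∀ b : ↥(centralizer ({u} : Set G)), orderOf (b : G) = 2 → toCBar u b ≠ 1 := fun b hb e => by
    have h1 := toCBar_eq_one.1 e
    exact (Nat.not_even_iff_odd.2 (coreC_odd u)) (even_card_of_mem hb h1)
  refine ⟨orderOf_two_iff.2 ⟨?_, key a ha⟩, fun e => ?_⟩
  · rw [← map_mul, show a * a = 1 from Subtype.ext (mul_self_of_orderOf_two ha), map_one]
  · refine key (a * ⟨u, mem_centralizer_singleton_iff.2 rfl⟩) (orderOf_two_mul ha c.two_u hau
      (mem_centralizer_singleton_iff.1 a.2)) ?_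
    rw [map_mul, e, ← uBar, mul_self_of_orderOf_two c.orderOf_uBar]

/-- Conjugate images come from conjugate involutions. -/
theorem exists_conj_of_bar (c : TwistPre M W S u) {a b : ↥(centralizer ({u} : Set G))}
    (ha : orderOf (a : G) = 2) (hb : orderOf (b : G) = 2) (haM : (a : G) ∈ M) (hbM : (b : G) ∈ M) {d : CBar u} (hd : d ∈ hBar M u)
    (e : d * toCBar u b * d⁻¹ = toCBar u a) :
    ∃ k : ↥(centralizer ({u} : Set G)), (k : G) ∈ M ∧ k * b * k⁻¹ = a := by
  obtain ⟨l, rfl⟩ := toCBar_surjective u d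
  have hlM := c.back hd
  obtain ⟨b', hb'⟩ : ∃ b', b' = l * b * l⁻¹ := ⟨_, rfl⟩
  have ha' : orderOf a = 2 := by rwa [← Subgroup.orderOf_coe]
  have hb2 : orderOf b' = 2 := by rw [hb', orderOf_conj_eq, ← Subgroup.orderOf_coe, hb]
  have hker : a * b' ∈ (toCBar u).ker := by
    rw [MonoidHom.mem_ker, map_mul, hb', map_mul, map_mul, map_inv, e, ← map_mul,
      mul_self_of_orderOf_two ha', map_one]
  obtain ⟨j, hj⟩ := (toCBar_ker_odd u).of_dvd_nat ((toCBar u).ker.orderOf_dvd_natCard hker)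
  obtain ⟨k, hk, hka, hord⟩ := exists_conj_two_part ha' hb2 (a := 0) (b := 2 * j + 1) (by rw [pow_zero, one_mul, hj])
    ⟨j, rfl⟩
  rw [pow_zero, orderOf_eq_one_iff] at hord
  rw [hord, mul_one] at hka
  refine ⟨k * l, mul_mem (show k ∈ M.subgroupOf (centralizer ({u} : Set G)) from (closure_le _).2 ?_ hk) hlM,
    by rw [← hka, hb']; group⟩
  rintro x (rfl | rfl)
  · exact haM
  · exact hb' ▸ mul_mem (mul_mem hlM hbM) (inv_mem hlM)

/-- The facts of `TwistLocal`. -/
theorem localFacts (c : TwistPre M W S u) (hO : Cfsg.oddCore G = ⊥) (hW : W ≠ ⊥) (hfix : FixNormal W S)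
    (hone : ClassOne (hBar M u) (uBar u))
    (hloc : ∀ y ∈ hBar M u, orderOf y = 2 → y ≠ uBar u → LocAt (hBar M u) y) :
    (∀ a ∈ (S : Subgroup G), orderOf a = 2 → ∃ m ∈ M, m * u * m⁻¹ = a) ∧
      (∀ a ∈ (S : Subgroup G), orderOf a = 2 → a ≠ u →
        ∃ w ∈ M, orderOf w = 2 ∧ Commute w u ∧ Commute w a ∧ w ≠ u ∧ w ≠ a ∧ w ≠ a * u) ∧
      (∀ y ∈ M, orderOf y = 2 → Commute y u → y ≠ u → ∀ D : Subgroup G, Odd (Nat.card D) →
        D ≤ centralizer ({u} : Set G) → D ≤ M →
        (∀ g : G, Commute g u → Commute g y → ∀ d ∈ D, g * d * g⁻¹ ∈ D) → D ≤ coreC u) := by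
  classical
  haveI : Fact (Nat.Prime 2) := ⟨Nat.prime_two⟩
  have hmem : ∀ a ∈ M, Commute a u → ∀ (h : a ∈ centralizer ({u} : Set G)),
      toCBar u ⟨a, h⟩ ∈ hBar M u := fun a ha _ h => mem_map_of_mem _ (show (⟨a, h⟩ : ↥(centralizer ({u} : Set G))) ∈ M.subgroupOf _ from ha)
  have hconj : ∀ a ∈ M, orderOf a = 2 → Commute a u → a ≠ u → ∀ b ∈ M, orderOf b = 2 → Commute b u → b ≠ u →
      ∃ k ∈ M, Commute k u ∧ k * b * k⁻¹ = a := by
    intro a haM ha2 hau hane b hbM hb2 hbu hbne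
    let a' : ↥(centralizer ({u} : Set G)) := ⟨a, mem_centralizer_singleton_iff.2 hau.eq⟩
    let b' : ↥(centralizer ({u} : Set G)) := ⟨b, mem_centralizer_singleton_iff.2 hbu.eq⟩
    obtain ⟨d, hd, e⟩ := hone _ (hmem a haM hau a'.2) (c.bar_ne (a := a') ha2 hane).1 (c.bar_ne (a := a') ha2 hane).2
      _ (hmem b hbM hbu b'.2) (c.bar_ne (a := b') hb2 hbne).1 (c.bar_ne (a := b') hb2 hbne).2
    obtain ⟨k, hk, hk'⟩ := c.exists_conj_of_bar (a := a') (b := b') ha2 hb2 haM hbM hd e
    exact ⟨k, hk, mem_centralizer_singleton_iff.1 k.2, congrArg Subtype.val hk'⟩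
  refine ⟨fun a ha ha2 => ?_, fun a ha ha2 hau => ?_, fun y hy hy2 hyu hyne D h1 h2 h3 h4 => ?_⟩
  · by_cases hau : a = u
    · exact ⟨1, one_mem _, by rw [hau, one_mul, inv_one, mul_one]⟩
    obtain ⟨x, hx, hxu, hxc⟩ := c.exists_fused hO hW hfix
    have hx2 : orderOf x = 2 := by
      obtain ⟨g, hg⟩ := isConj_iff.1 hxc
      rw [← hg, orderOf_conj_eq, c.two_u]
    obtain ⟨k, hk, hku, hka⟩ := hconj a (c.le ha) ha2 (c.cent a ha) hau x (c.le hx) hx2 (c.cent x hx) hxu
    obtain ⟨m, hm, hmx⟩ := c.exists_move (c.le hx) (c.cent x hx) hxu hxc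
    exact ⟨k * m⁻¹, mul_mem hk (inv_mem hm), by rw [← hka, ← hmx]; group⟩
  · obtain ⟨F, hFS, hF, hF8⟩ := c.eight
    have havoid : ∀ T : Finset G, T.card < 8 → ∃ x ∈ F, x ∉ T := fun T hT => by
      haveI : Fintype F := Fintype.ofFinite F
      by_contra hcon
      push Not at hcon
      have h1 : (Finset.univ.image fun x : F => (x : G)).card ≤ T.card := Finset.card_le_card fun z hz => by
        obtain ⟨x, -, rfl⟩ := Finset.mem_image.1 hz
        exact hcon x x.2
      rw [Finset.card_image_of_injective _ Subtype.val_injective, Finset.card_univ, ← Nat.card_eq_fintype_card,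
        hF8] at h1
      omega
    obtain ⟨f, hf, hf'⟩ := havoid {1, u} (Finset.card_le_two.trans_lt (by norm_num))
    simp only [Finset.mem_insert, Finset.mem_singleton, not_or] at hf'
    obtain ⟨w, hw, hw'⟩ := havoid {1, u, f, f * u} (Finset.card_le_four.trans_lt (by norm_num))
    simp only [Finset.mem_insert, Finset.mem_singleton, not_or] at hw'
    have hf2 := orderOf_eq_prime (hF.2 f hf) hf'.1
    obtain ⟨k, hk, hku, hka⟩ := hconj a (c.le ha) ha2 (c.cent a ha) hau f (c.le (hFS hf)) hf2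
      (c.cent f (hFS hf)) hf'.2
    have hinj : ∀ x, k * w * k⁻¹ = k * x * k⁻¹ → w = x := fun x h => by simpa using h
    have hku' : k * u * k⁻¹ = u := by rw [hku.eq, mul_inv_cancel_right]
    refine ⟨k * w * k⁻¹, mul_mem (mul_mem hk (c.le (hFS hw))) (inv_mem hk),
      by rw [orderOf_conj_eq]; exact orderOf_eq_prime (hF.2 w hw) hw'.1, ?_, ?_,
      fun e => hw'.2.1 (hinj u (e.trans hku'.symm)), fun e => hw'.2.2.1 (hinj f (e.trans hka.symm)),
      fun e => hw'.2.2.2 (hinj (f * u) (e.trans ?_))⟩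
    · rw [← hku']
      exact commute_conj (c.cent w (hFS hw))
    · rw [← hka]
      exact commute_conj (Grp.elemAb_comm hF w hw f hf)
    · conv_lhs => rw [← hka, ← hku']
      group
  · exact c.le_coreC (y := ⟨y, mem_centralizer_singleton_iff.2 hyu.eq⟩) hy2
      (hloc _ (hmem y hy hyu _) (c.bar_ne (a := ⟨y, mem_centralizer_singleton_iff.2 hyu.eq⟩) hy2 hyne).1
        (c.bar_ne (a := ⟨y, mem_centralizer_singleton_iff.2 hyu.eq⟩) hy2 hyne).2) h1 h2 h3 h4

end TwistPre

end Cfsg.Agent.Invol.Core2
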