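import Cfsg.Agent.Lib.Invol.Core2.TwistCoreWiring
import Cfsg.Agent.Lib.Invol.Core2.TwistLocalFacts

/-!
# Two-generated core: equivariant functors from the twisted local inputs

`TwistFull` is the statement on the local setting modulo the odd core at a fused `u`; with it and the
theorem for fixed points equal to the cores an equivariant functor over a connected Sylow subgroup is trivial.
-/

set_option autoImplicit false
set_option linter.unusedSectionVars false
set_option linter.style.haveILetI false

namespace Cfsg.Agent.Invol.Core2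

open Subgroup

universe u

/-- With a fused `u`: one class of involutions of `H` other than `u` and the local fact at them. -/
def TwistFull : Prop :=
  ∀ (G : Type u) [Group G] [Finite G] (M W : Subgroup G) (S : Sylow 2 G) (x : G), TwistPre M W S x →
    (∃ y ∈ (S : Subgroup G), y ≠ x ∧ IsConj x y) →
    ClassOne (hBar M x) (uBar x) ∧ ∀ y ∈ hBar M x, orderOf y = 2 → y ≠ uBar x → LocAt (hBar M x) y

/-- The local input of the induction from the full local facts. -/
theorem locPrimeInput_of_full (hF : TwistFull.{u}) : LocPrimeInput.{u} := by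
  intro G _ _ hO _ M W S hS h hN hW hfix h8 u hu hu2 hcu huniq hbad _
  have hpre := TwistPre.of_ax h hS h8 hu hu2 hcu huniq hbad
  exact hpre.locSome_of_all hO hW hfix (hF G M W S u hpre (hpre.exists_fused hO hW hfix)).2

variable {G : Type u} [Group G] [Finite G] {M W : Subgroup G} {θ : G → Subgroup G}

/-- The theorem with normalised fixed points over a connected Sylow subgroup of rank at least three. -/
theorem eq_bot_of_normal_core (hP : LocPrimeInput.{u}) (hF : TwistFull.{u})
    (hO : Cfsg.oddCore G = ⊥) (S : Sylow 2 G) (hS₀ : (S : Subgroup G) ≤ M) (h₀ : AX M W) (hfix : FixNormal W S)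
    (hconn : Cfsg.IsFourConnected ↥(S : Subgroup G)) (h3 : ¬ Cfsg.PRankLE 2 2 ↥(S : Subgroup G)) : W = ⊥ := by
  classical
  haveI : Fact (Nat.Prime 2) := ⟨Nat.prime_two⟩
  by_contra hW
  have h := h₀.normalizer_ax hO S hS₀ hW
  have hS := hS₀.trans h₀.norm
  have h8 := hasEight_of_rank h3
  have hmore := fun a b => exists_fourth h3 a b
  have hbot : ∀ M' W' : Subgroup G, (S : Subgroup G) ≤ M' → AX M' W' →
      (∀ x ∈ (S : Subgroup G), orderOf x = 2 → W' ⊓ centralizer ({x} : Set G) = coreC x) → W' = ⊥ :=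
    fun _ _ hS' h' hfix' => eq_bot_of_locPrime hP hO S hS' h8 h' hfix'
  obtain ⟨hdata, third⟩ := AX.central_data splitInput hO hS h hW hfix
    (fun u hu hu2 hcu huniq hbad => by
      have hpre := TwistPre.of_ax h hS h8 hu hu2 hcu huniq hbad
      obtain ⟨h1, h2⟩ := hF G _ W S u hpre (hpre.exists_fused hO hW hfix)
      obtain ⟨hone, -, hloc⟩ := hpre.localFacts hO hW hfix h1 h2
      obtain ⟨b, hb, hb2, hbu, -, -⟩ := hmore u u
      exact hW (eq_bot_of_balance_core hO hbot hS h hfix hconn h3
        (fun x hx hx2 y hy hy2 hxy => balance_of_local h hS hu hu2 hone hloc hx hx2 hy hy2 hxy)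
        hu hu2 hcu hb hb2 hbu))
    fun u f hu hu2 hf hf2 h3 => by
      obtain ⟨y, hy, hy2, h1, h2, h3'⟩ := hmore u f
      rcases h3 y hy hy2 with e | e | e
      exacts [absurd e h1, absurd e h2, absurd e h3']
  obtain ⟨a, ha, ha2, -, -, -⟩ := hmore 1 1
  obtain ⟨b, hb, hb2, hba, -, -⟩ := hmore a a
  exact hW (eq_bot_of_balance_core hO hbot hS h hfix hconn h3 (fun x hx hx2 y hy hy2 hxy => by
    by_cases e : x = y
    · subst e; exact inf_le_left
    exact CentralData.le_core h hdata hy hy2 hx hx2 e
      ((coreC_odd x).of_dvd_nat (card_dvd_of_le inf_le_left)) (fun z hz => mem_centralizer_singleton_iff.1 hz.2)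
      (fun z hz => Grp.centralizerPPrimeCore_commute hz.1)
      (fun g hgy hgx z hz => ⟨Grp.centralizerPPrimeCore_conj hgx.eq hz.1, mem_centralizer_singleton_iff.2
        ((hgy.mul_left (mem_centralizer_singleton_iff.1 hz.2)).mul_left hgy.inv_left).eq⟩))
    ha ha2 (hdata.cen a ha ha2) hb hb2 hba)

/-- The statement S3112 from the local inputs. -/
theorem functor_trivial_core (hP : LocPrimeInput.{u}) (hF : TwistFull.{u})
    (hO : Cfsg.oddCore G = ⊥) (S : Sylow 2 G) (A : Subgroup ↥(S : Subgroup G)) (hAn : A.Normal)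
    (hAab : IsMulCommutative ↥A) (hA3 : ¬ Cfsg.PRankLE 2 2 ↥A)
    (θ : G → Subgroup G) (heq : ∀ g a : G, θ (g * a * g⁻¹) = (θ a).map (MulAut.conj g).toMonoidHom)
    (hθ : ∀ B : Subgroup G, IsMulCommutative ↥B → IsPGroup 2 ↥B → ¬ Cfsg.PRankLE 2 2 ↥B →
      Cfsg.IsSignalizerFunctor 2 B θ)
    {a : G} (ha : orderOf a = 2) : θ a = ⊥ :=
  functor_trivial_of hO S (fun hconn h3 _ _ hS h hfix => eq_bot_of_normal_core hP hF hO S hS h hfix hconn h3)
    A hAn hAab hA3 θ heq hθ ha

end Cfsg.Agent.Invol.Core2
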