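import Cfsg.Agent.Lib.Invol.Core2.TwistLocPrime
import Cfsg.Agent.Lib.Invol.Core2.TwistClassCover
import Cfsg.Agent.Lib.Invol.Core2.TwistWeakWiring

/-!
# The local inputs of the twisted case

With a cover root two components are exchanged, `H` has one class of involutions other than `u` and the local fact
holds at a product of two roots, hence at all of them; without one both hold by the bottom level.
-/

set_option autoImplicit false
set_option linter.unusedSectionVars false

namespace Cfsg.Agent.Invol.Core2

open Subgroup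

universe v

/-- The level without cover roots: one class of involutions other than `u`. -/
def TwistBottomClass : Prop :=
  ∀ (C : Type v) [Group C] [Finite C] (H : Subgroup C) (T : Sylow 2 C) (u : C), TwistC H T u →
    (¬ ∃ v, CoverRoot H u v) → ClassOne H u

/-- The full local facts from the level without cover roots. -/
theorem twistFull_of_bottom (hB : TwistBottomInput.{v}) (hC : TwistBottomClass.{v}) : TwistFull.{v} := by
  intro G _ _ M W S u c hfused
  have h := c.twistC
  by_cases hcov : ∃ v, CoverRoot (hBar M u) (uBar u) v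
  swap
  · exact ⟨hC _ _ _ _ h hcov, hB _ _ _ _ h hcov⟩
  obtain ⟨Q, Q', a, hsp, hsq, -, -, -, -, q, hq, r, hr, hqq, hrr, -⟩ :=
    exists_swapPair S c.mem c.two_u c.cent c.uniq h h.fiveAt hcov c.sylowEquiv (c.sylowEquiv_apply ⟨u, c.mem⟩)
      (fun x hx hx2 hxu hxc => c.conj_mul_fused hx hx2 hxu hxc) hfused
  have hcls := fun y hy hy2 hyu => h.class_of_swapPair hsp hsq hq hr hqq hrr (y := y) hy hy2 hyu
  refine ⟨fun y hy hy2 hyu z hz hz2 hzu => ?_, fun y hy hy2 hyu => ?_⟩
  · obtain ⟨d, hd, e⟩ := hcls y hy hy2 hyu
    obtain ⟨d', hd', e'⟩ := hcls z hz hz2 hzu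
    exact ⟨d * d'⁻¹, mul_mem hd (inv_mem hd'), by rw [← e, ← e']; group⟩
  · obtain ⟨d, hd, e⟩ := hcls y hy hy2 hyu
    exact e ▸ TwistC.locAt_conj hd (h.loc_of_swapPair h.fiveAt hsp hsq hq hr hqq hrr)

/-- The local facts of the twisted case from the full local facts. -/
theorem twistLocal_of_full (hF : TwistFull.{v}) : TwistLocal.{v} := by
  intro G _ _ hO _ M W S hS h hN hW hfix h8 u hu hu2 hcu huniq hbad
  have c := TwistPre.of_ax h hS h8 hu hu2 hcu huniq hbad
  obtain ⟨h1, h2⟩ := hF G M W S u c (c.exists_fused hO hW hfix)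
  exact c.localFacts hO hW hfix h1 h2

/-- The twisted input from the bottom level and the rank two case. -/
theorem twistInput_of_bottom (hB : TwistBottomInput.{v}) (hC : TwistBottomClass.{v})
    (h2 : TwistRankTwo.{v}) : TwistInput.{v} :=
  twistInput_of (twistLocal_of_full (twistFull_of_bottom hB hC)) h2

end Cfsg.Agent.Invol.Core2
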