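import Cfsg.Agent.Lib.Invol.Core2.TwistBottomHolds
import Cfsg.Agent.Lib.Invol.Core2.TwistLocHolds

/-!
# The full local facts of the twisted case hold
-/

set_option autoImplicit false

namespace Cfsg.Agent.Invol.Core2

universe u

/-- The level without cover roots has one class. -/
theorem twistBottomClass : TwistBottomClass.{u} := fun _ _ _ _ _ _ h hno _ hy hy2 hyu _ hz hz2 hzu =>
  h.bottom_class (fun v hv => hno ⟨v, hv⟩) hy hy2 hyu hz hz2 hzu

/-- One class and the local fact at every involution, at a fused `u`. -/
theorem twistFull_holds : TwistFull.{u} := twistFull_of_bottom twistBottomInput twistBottomClass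

end Cfsg.Agent.Invol.Core2
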