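import Cfsg.Agent.Lib.Invol.Core2.TwistSectionBase
import Cfsg.Agent.Lib.Fus.SClosedSE.Main
import Cfsg.Agent.Lib.Fus.SClosedSE.Cover
import Cfsg.Agent.Lib.Invol.ZStar
import Cfsg.Agent.S1913

/-!
# Twisted bad involution: strongly embedded sections over cyclic groups of order at least four

Let `U` be a 2-subgroup of `M` with `u` as its only involution and `u` a square in it, and `L` the group generated
by the members. By Aschbacher's criterion `M` meets `L / (U ∩ L)` in a strongly embedded subgroup: at an element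
`v` of square in `U` moved only modulo `U`, either the members centralise `v`, and the larger group `U⟨v⟩` gives the
local hypothesis, or they all move `v` to `v * u`, and then the image of one of them is isolated. In turn, for
`|U| ≥ 8`, the absence of double covers puts `U ∩ L` inside the squares of `U`.
-/

set_option autoImplicit false
set_option linter.unusedSectionVars false
set_option linter.style.haveILetI false

namespace Cfsg.Agent.Invol.Core2

open Subgroup

variable {G : Type*} [Group G] [Finite G] {M W : Subgroup G} {U : Subgroup G} {u : G}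

instance members_normal (U : Subgroup G) (u : G) :
    (U.subgroupOf (closure (members U u))).Normal := ⟨fun a ha g => by
  rw [mem_subgroupOf] at ha ⊢
  rw [Subgroup.coe_mul, Subgroup.coe_mul, Subgroup.coe_inv,
    ← mem_centralizer_iff.1 ((closure_le _).2 (fun y (hy : y ∈ members U u) => hy.2.2) g.2) _ ha,
    mul_inv_cancel_right]
  exact ha⟩

/-- A group generated by conjugates of an isolated involution has only its conjugates as involutions. -/
theorem involution_conj_of_isolated {X : Type*} [Group X] [Finite X] {t : X} (ht : Cfsg.IsIsolatedInvolution t)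
    (hgen : Subgroup.normalClosure ({t} : Set X) = ⊤) {q : X} (hq : orderOf q = 2) :
    ∃ g : X, q = g * t * g⁻¹ := by
  obtain ⟨N, hN, hNo, hcomm⟩ := ZStar.exists_odd_normal ht
  set π := QuotientGroup.mk' N with hπ
  have hπt : ∀ g : X, Commute (π t) (π g) := fun g => by
    have h1 : π (t * g * t⁻¹ * g⁻¹) = 1 := (QuotientGroup.eq_one_iff _).2 (hcomm g)
    rw [map_mul, map_mul, map_mul, map_inv, map_inv, mul_inv_eq_one, mul_inv_eq_iff_eq_mul] at h1
    exact h1
  have hle : (⊤ : Subgroup X) ≤ (zpowers (π t)).comap π := by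
    haveI : (zpowers (π t)).Normal := ⟨fun a ha g => by
      obtain ⟨i, rfl⟩ := mem_zpowers_iff.1 ha
      obtain ⟨g, rfl⟩ := QuotientGroup.mk'_surjective N g
      rw [((hπt g).symm.zpow_right i).eq, mul_inv_cancel_right]
      exact zpow_mem (mem_zpowers _) i⟩
    rw [← hgen]
    exact normalClosure_le_normal (Set.singleton_subset_iff.2 (mem_comap.2 (mem_zpowers _)))
  have hsmall : ∀ a : X, a ∈ N → a * a = 1 → a = 1 := fun a ha h2 => by
    obtain ⟨k, hk⟩ := hNo
    have h1 := orderOf_dvd_iff_pow_eq_one.1 (N.orderOf_dvd_natCard ha)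
    rwa [hk, pow_succ, pow_mul, pow_two, h2, one_pow, one_mul] at h1
  have htt := mul_self_of_orderOf_two ht.1
  obtain ⟨i, hi⟩ := mem_zpowers_iff.1 (hle (mem_top q))
  have hqt : q * t ∈ N := by
    rcases Int.even_or_odd i with ⟨j, rfl⟩ | ⟨j, rfl⟩
    · rw [← two_mul, zpow_mul, zpow_two, ← map_mul, htt, map_one, one_zpow] at hi
      exact absurd (hsmall q ((QuotientGroup.eq_one_iff q).1 hi.symm) (mul_self_of_orderOf_two hq))
        (ne_one_of_orderOf_two hq)
    · rw [zpow_add, zpow_mul, zpow_two, ← map_mul, htt, map_one, one_zpow, one_mul, zpow_one] at hi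
      refine (QuotientGroup.eq_one_iff _).1 ?_
      show π (q * t) = 1
      rw [map_mul, ← hi, ← map_mul, htt, map_one]
  obtain ⟨d, -, hd, hord⟩ := exists_conj_two_part hq ht.1 (a := 0) (b := orderOf (q * t)) (by simp)
    (hNo.of_dvd_nat (N.orderOf_dvd_natCard hqt))
  rw [pow_zero, orderOf_eq_one_iff] at hord
  rw [hord, mul_one] at hd
  exact ⟨d, hd.symm⟩

/-- In a group generated by a transitive set of conjugates of `z` of which only `z` commutes with `z`, every
involution is a conjugate of `z`. -/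
theorem involution_conj_of_gen {Q : Type*} [Group Q] [Finite Q] {T : Set Q} {z : Q} (hz : orderOf z = 2)
    (hzT : z ∈ T) (hclosed : ∀ k ∈ closure T, k * z * k⁻¹ ∈ T)
    (hcomm : ∀ y ∈ T, Commute z y → y = z) (htrans : ∀ y ∈ T, ∃ k ∈ closure T, k * z * k⁻¹ = y) {q : Q}
    (hq : q ∈ closure T) (hq2 : orderOf q = 2) : ∃ k ∈ closure T, q = k * z * k⁻¹ := by
  obtain ⟨z₁, hz₁⟩ : ∃ z₁ : closure T, (z₁ : Q) = z := ⟨⟨z, subset_closure hzT⟩, rfl⟩
  have hiso : Cfsg.IsIsolatedInvolution z₁ := by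
    refine ⟨by rw [← Subgroup.orderOf_coe, hz₁, hz], fun k hk => Subtype.ext ?_⟩
    have h1 : Commute z ((k : Q) * z * (k : Q)⁻¹) := by
      have := congrArg Subtype.val hk.eq
      simp only [Subgroup.coe_mul, Subgroup.coe_inv, hz₁] at this
      exact this
    simp only [Subgroup.coe_mul, Subgroup.coe_inv, hz₁]
    exact hcomm _ (hclosed k k.2) h1
  have hgen : normalClosure ({z₁} : Set ↥(closure T)) = ⊤ := by
    rw [eq_top_iff]
    intro k _
    have h1 : closure T ≤ (normalClosure ({z₁} : Set ↥(closure T))).map (closure T).subtype := by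
      refine (closure_le _).2 fun y hy => ?_
      obtain ⟨k, hk, e⟩ := htrans y hy
      refine ⟨⟨k, hk⟩ * z₁ * (⟨k, hk⟩ : closure T)⁻¹,
        normalClosure_normal.conj_mem _ (subset_normalClosure (Set.mem_singleton z₁)) _, ?_⟩
      simp [hz₁, e]
    obtain ⟨k', hk', e⟩ := h1 k.2
    rw [show k = k' from (Subtype.ext e).symm]
    exact hk'
  obtain ⟨k, hk⟩ := involution_conj_of_isolated hiso hgen (q := ⟨q, hq⟩) (by rw [Subgroup.orderOf_mk]; exact hq2)
  exact ⟨k, k.2, by simpa [hz₁] using congrArg Subtype.val hk⟩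

/-- Squares of `U⟨v⟩` lie in `U`. -/
theorem sq_mem_sup (c : Cyc M U u) {v : G} (hv : v ∈ centralizer (U : Set G)) (hv2 : v * v ∈ U) :
    (∀ a ∈ U ⊔ zpowers v, ∀ b ∈ U ⊔ zpowers v, a * b = b * a) ∧ ∀ a ∈ U ⊔ zpowers v, a * a ∈ U := by
  have hcom : ∀ a ∈ U ⊔ zpowers v, ∀ b ∈ U ⊔ zpowers v, a * b = b * a := by
    have h1 : ∀ g : G, (∀ a ∈ U, a * g = g * a) → v * g = g * v → ∀ a ∈ U ⊔ zpowers v, a * g = g * a :=
      fun g h1 h2 a ha => by
        refine mem_centralizer_singleton_iff.1 (?_ : a ∈ centralizer ({g} : Set G))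
        exact sup_le (fun b hb => mem_centralizer_singleton_iff.2 (h1 b hb))
          (zpowers_le.2 (mem_centralizer_singleton_iff.2 h2)) ha
    exact fun a ha b hb => h1 b (fun a' ha' => (h1 a' (fun b' hb' => c.comm b' hb' a' ha')
      (mem_centralizer_iff.1 hv a' ha').symm b hb).symm)
      ((h1 v (fun a' ha' => mem_centralizer_iff.1 hv a' ha') rfl b hb).symm) a ha
  refine ⟨hcom, fun a ha => ?_⟩
  let K : Subgroup G :=
    { carrier := {a | a ∈ U ⊔ zpowers v ∧ a * a ∈ U}
      one_mem' := ⟨one_mem _, by simp [U.one_mem]⟩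
      mul_mem' := fun {a b} hx hy => ⟨mul_mem hx.1 hy.1, by
        rw [show a * b * (a * b) = a * (b * a) * b by group, hcom b hy.1 a hx.1,
          show a * (a * b) * b = a * a * (b * b) by group]
        exact mul_mem hx.2 hy.2⟩
      inv_mem' := fun {a} hx => ⟨inv_mem hx.1, by rw [← mul_inv_rev]; exact inv_mem hx.2⟩ }
  exact ((sup_le (fun b hb => ⟨mem_sup_left hb, mul_mem hb hb⟩)
    (zpowers_le.2 ⟨mem_sup_right (mem_zpowers v), hv2⟩) : U ⊔ zpowers v ≤ K) ha).2

variable {S : Sylow 2 G}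

set_option maxHeartbeats 1000000 in
/-- The strongly embedded section, given the bound for the larger groups. -/
theorem AX.members_se (h : AX M W) (hS : (S : Subgroup G) ≤ M) (hcu : ∀ s ∈ (S : Subgroup G), Commute s u)
    (hu : orderOf u = 2) (c : Cyc M U u) (hroot : ∃ a ∈ U, a * a = u) (hm : Moved M U u)
    (hno : ∀ U' : Subgroup G, Cyc M U' u → Nat.card U < Nat.card U' → Moved M U' u → SquareBound U' u) :
    Cfsg.IsStronglyEmbedded ((M.subgroupOf (closure (members U u))).map
      (QuotientGroup.mk' (U.subgroupOf (closure (members U u))))) := by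
  classical
  haveI : Fact (Nat.Prime 2) := ⟨Nat.prime_two⟩
  obtain ⟨⟨x, hx, hxM⟩, t₀, ht₀, ht₀M⟩ := hm
  have huM : u ∈ M := c.le c.mem
  have huu := mul_self_of_orderOf_two hu
  set L := closure (members U u) with hL
  have hLC : L ≤ centralizer (U : Set G) := (closure_le _).2 fun y hy => hy.2.2
  have hLu : ∀ g ∈ L, Commute g u := fun g hg => c.commute_u (hLC hg)
  set N : Subgroup ↥L := U.subgroupOf L with hN
  set π := QuotientGroup.mk' N with hπ
  have hπs : Function.Surjective π := QuotientGroup.mk'_surjective N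
  have hπeq : ∀ {a b : ↥L}, π a = π b → (a : G)⁻¹ * b ∈ U := fun e => by
    have := QuotientGroup.eq.1 e
    rwa [mem_subgroupOf] at this
  have hπeq' : ∀ {a b : ↥L}, (a : G)⁻¹ * b ∈ U → π a = π b := fun e => QuotientGroup.eq.2 (mem_subgroupOf.2 e)
  set HQ := (M.subgroupOf L).map π with hHQ
  have hmem : ∀ a : ↥L, π a ∈ HQ ↔ (a : G) ∈ M := by
    refine fun a => ⟨?_, fun ha => ⟨a, ha, rfl⟩⟩
    rintro ⟨b, hb, e⟩
    simpa [mul_assoc] using M.mul_mem hb (c.le (hπeq e))
  have hMu : ∀ {p q : G}, p ∈ M → (q = p ∨ q = p * u) → q ∈ M := fun hp e => by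
    rcases e with rfl | rfl
    · exact hp
    · exact mul_mem hp huM
  -- a member of `M` central modulo `U` in a Sylow subgroup
  obtain ⟨P, z, hz, hzM, hzP, hzc⟩ : ∃ (P : Sylow 2 ↥L) (z : ↥L), (z : G) ∈ members U u ∧ (z : G) ∈ M ∧
      z ∈ (P : Subgroup ↥L) ∧ ∀ r ∈ (P : Subgroup ↥L), π r * π z = π z * π r := by
    obtain ⟨R, hR⟩ := (IsPGroup.of_card (n := 1) (by
      rw [Nat.card_zpowers, pow_one, ← Subgroup.orderOf_coe]; exact hx.1) :
      IsPGroup 2 (zpowers (⟨x, subset_closure hx⟩ : ↥L))).exists_le_sylow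
    have hnorm : (R : Subgroup ↥L).map L.subtype ≤ normalizer (U : Set G) := fun r hr => by
      obtain ⟨r, -, rfl⟩ := hr
      exact mem_normalizer_fintype fun b hb => by
        show (r : G) * b * (r : G)⁻¹ ∈ U
        rw [← mem_centralizer_iff.1 (hLC r.2) b hb, mul_inv_cancel_right]; exact hb
    have hP' : IsPGroup 2 ↥((R : Subgroup ↥L).map L.subtype ⊔ U) :=
      (R.isPGroup'.map _).to_sup_of_normal_right' c.isP hnorm
    obtain ⟨a, haU, haa⟩ := id hroot
    obtain ⟨z, hzP', hz2, hzu, hzc⟩ := exists_invol_central_mod hP' hu (mem_sup_right haU) haa (fun p hp => by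
      refine mem_centralizer_singleton_iff.1 ((?_ : _ ≤ centralizer ({a} : Set G)) hp)
      refine sup_le ?_ ?_
      · rintro _ ⟨r, -, rfl⟩
        exact mem_centralizer_singleton_iff.2 (mem_centralizer_iff.1 (hLC r.2) a haU).symm
      · exact fun b hb => mem_centralizer_singleton_iff.2 (c.comm b hb a haU))
      (mem_sup_left ⟨_, hR (mem_zpowers _), rfl⟩) hx.1 hx.2.1
    have hzU : z ∈ centralizer (U : Set G) := by
      refine sup_le ((map_subtype_le _).trans hLC) (fun b hb => ?_) hzP'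
      exact mem_centralizer_iff.2 fun b' hb' => c.comm b' hb' b hb
    have hzm : z ∈ members U u := ⟨hz2, hzu, hzU⟩
    set z' : ↥L := ⟨z, subset_closure hzm⟩ with hz'
    have hz'R : z' ∈ (R : Subgroup ↥L) := by
      have h1 : IsPGroup 2 ↥(((R : Subgroup ↥L).map L.subtype ⊔ U).comap L.subtype) :=
        hP'.comap_of_injective L.subtype L.subtype_injective
      rw [← R.is_maximal' h1 fun r hr => mem_sup_left ⟨r, hr, rfl⟩]
      exact hzP'
    obtain ⟨d, hd, hdz⟩ := h.members_class c hu hS hcu ⟨a, haU, haa⟩ hx hxM ht₀ ht₀M hzm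
    refine ⟨(⟨d, hd⟩ : ↥L) • R, ⟨d, hd⟩ * z' * (⟨d, hd⟩ : ↥L)⁻¹, members_conj c hzm (hLC hd), hMu hxM hdz, ?_,
      fun r hr => ?_⟩
    · rw [Sylow.coe_subgroup_smul]
      exact ⟨z', hz'R, rfl⟩
    · rw [Sylow.coe_subgroup_smul] at hr
      obtain ⟨r, hr', rfl⟩ := hr
      have h1 : π (r * z') = π (z' * r) := hπeq' (by
        rcases hzc _ (mem_sup_left ⟨r, hr', rfl⟩) with e | e
        · have e' : (r : G) * z = z * r := mul_inv_eq_iff_eq_mul.1 e
          simp [hz', e', mul_assoc, U.one_mem]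
        · have e' : (r : G) * z = z * u * r := mul_inv_eq_iff_eq_mul.1 e
          simp only [Subgroup.coe_mul, hz']
          rw [e', mul_assoc z u, ← (hLu _ r.2).eq, ← mul_assoc z (r : G) u, mul_inv_rev,
            show u⁻¹ * (z * (r : G))⁻¹ * (z * r) = u⁻¹ by group]
          exact inv_mem c.mem)
      rw [map_mul, map_mul] at h1
      show π (MulAut.conj (⟨d, hd⟩ : ↥L) r) * π _ = π _ * π (MulAut.conj (⟨d, hd⟩ : ↥L) r)
      simp only [MulAut.conj_apply, map_mul, map_inv]
      calc π ⟨d, hd⟩ * π r * (π ⟨d, hd⟩)⁻¹ * (π ⟨d, hd⟩ * π z' * (π ⟨d, hd⟩)⁻¹)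
          = π ⟨d, hd⟩ * (π r * π z') * (π ⟨d, hd⟩)⁻¹ := by group
        _ = π ⟨d, hd⟩ * (π z' * π r) * (π ⟨d, hd⟩)⁻¹ := by rw [h1]
        _ = _ := by group
  have hπ2 : ∀ {y : ↥L}, (y : G) ∈ members U u → orderOf (π y) = 2 := fun {y} hy => orderOf_two_iff.2 ⟨by
    rw [← map_mul, show y * y = 1 from Subtype.ext (mul_self_of_orderOf_two hy.1), map_one],
    fun e => members_notMem c hy (mem_subgroupOf.1 ((QuotientGroup.eq_one_iff y).1 e))⟩
  have hfix : ∀ {p g : G}, p ∈ members U u → p ∈ M → g ∈ centralizer (U : Set G) → g * p * g⁻¹ ∈ M → g ∈ M :=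
    fun {p g} hp hpM hg hgp => h.bad_fix hu huM hp.1 hpM hp.2.1 (c.commute_u hp.2.2).eq (c.commute_u hg).eq hgp
  -- conjugate modulo `U`
  have hπu : ∀ {a b : ↥L}, ((a : G) = b ∨ (a : G) = b * u) → π a = π b := fun {a b} e => hπeq' (by
    rcases e with e | e <;> rw [e]
    · simp [U.one_mem]
    · simp [mul_assoc, U.inv_mem c.mem])
  have hone : ∀ y : ↥L, (y : G) ∈ members U u → ∃ g : ↥L, π g * π y * (π g)⁻¹ = π z := fun y hy => by
    obtain ⟨d, hd, e⟩ := h.members_class c hu hS hcu hroot hz hzM ht₀ ht₀M hy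
    refine ⟨⟨d, hd⟩, ?_⟩
    rw [← map_inv, ← map_mul, ← map_mul]
    exact hπu e
  have hse := Cfsg.Agent.S1913.result (P.mapSurjective hπs) (π z) (hπ2 hz)
    (by
      refine ⟨⟨π z, ?_⟩, Subgroup.mem_center_iff.2 fun r => Subtype.ext ?_, rfl⟩
      · rw [Sylow.coe_mapSurjective]; exact ⟨z, hzP, rfl⟩
      · have hr : (r : ↥L ⧸ N) ∈ (P : Subgroup ↥L).map π := by rw [← Sylow.coe_mapSurjective]; exact r.2
        obtain ⟨s, hs, e⟩ := hr
        show (r : ↥L ⧸ N) * π z = π z * r
        rw [← e, hzc s hs])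
    HQ (fun e => ht₀M ((hmem ⟨t₀, subset_closure ht₀⟩).1 (e ▸ mem_top _))) ?hi ?hii
  case hi =>
    intro g
    obtain ⟨a, rfl⟩ := hπs g
    rw [mem_map_conj, ← map_inv, ← map_mul, ← map_mul, hmem, hmem]
    refine ⟨fun ha => inv_mem_iff.1 (hfix hz hzM (hLC (inv_mem a.2)) (by simpa using ha)), fun ha => ?_⟩
    simpa using M.mul_mem (M.mul_mem (M.inv_mem ha) hzM) ha
  case hii =>
    intro ū hū hūz hnC
    obtain ⟨v, rfl⟩ := hπs ū
    have hvU : (v : G) ∉ U := fun hv => ne_one_of_orderOf_two hū ((QuotientGroup.eq_one_iff v).2 hv)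
    have hvv : (v : G) * v ∈ U := by
      have h1 := mul_self_of_orderOf_two hū
      rw [← map_mul] at h1
      exact mem_subgroupOf.1 ((QuotientGroup.eq_one_iff (v * v)).1 h1)
    have hsign : ∀ g : ↥L, π g * π v = π v * π g → (g : G) * v * (g : G)⁻¹ = v ∨ (g : G) * v * (g : G)⁻¹ = v * u := by
      intro g hg
      refine conj_small c (hLC v.2) (hLC g.2) hvv ?_
      refine hπeq (b := g * v * g⁻¹) ?_
      rw [map_mul, map_mul, map_inv, hg, mul_inv_cancel_right]
    have hvM : (v : G) ∈ M := by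
      refine hfix hz hzM (hLC v.2) (hMu hzM (conj_small c hz.2.2 (hLC v.2) ?_ ?_))
      · rw [mul_self_of_orderOf_two hz.1]; exact one_mem U
      · refine hπeq (b := v * z * v⁻¹) ?_
        rw [map_mul, map_mul, map_inv, hūz, mul_inv_cancel_right]
    obtain ⟨q, hq, hqM⟩ := SetLike.not_le_iff_exists.1 hnC
    obtain ⟨g, rfl⟩ := hπs q
    rw [mem_centralizer_singleton_iff] at hq
    rw [hmem] at hqM
    -- the square of `v` is not a square in `U`
    have hnsq : ∀ b ∈ U, b * b ≠ (v : G) * v := fun b hb e => by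
      have hbv : Commute b (v : G) := mem_centralizer_iff.1 (hLC v.2) b hb
      have hwne : ∀ a ∈ U, (v : G) * b⁻¹ ≠ a := fun a ha e' => hvU (by
        rw [show (v : G) = a * b by rw [← e']; group]; exact mul_mem ha hb)
      have hwm : (v : G) * b⁻¹ ∈ members U u := by
        refine ⟨orderOf_two_iff.2 ⟨?_, hwne 1 (one_mem U)⟩, hwne u c.mem, mul_mem (hLC v.2)
          (mem_centralizer_iff.2 fun a ha => c.comm a ha _ (inv_mem hb))⟩
        rw [show (v : G) * b⁻¹ * (v * b⁻¹) = v * (b⁻¹ * v) * b⁻¹ by group, hbv.inv_left.eq,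
          show (v : G) * (v * b⁻¹) * b⁻¹ = v * v * (b * b)⁻¹ by group, e, mul_inv_cancel]
      refine hqM (hfix hwm (mul_mem hvM (c.le (inv_mem hb))) (hLC g.2) ?_)
      rw [show (g : G) * (v * b⁻¹) * (g : G)⁻¹ = g * v * (g : G)⁻¹ * (g * b⁻¹ * (g : G)⁻¹) by group,
        ← mem_centralizer_iff.1 (hLC g.2) _ (inv_mem hb), mul_inv_cancel_right]
      exact mul_mem (hMu hvM (hsign g hq)) (c.le (inv_mem hb))
    set zc : ↥L := g * z * g⁻¹ with hzcd
    have hzcm : (zc : G) ∈ members U u := members_conj c hz (hLC g.2)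
    have hzcM : (zc : G) ∉ M := fun hm => hqM (hfix hz hzM (hLC g.2) hm)
    have hzcv : π zc * π v = π v * π zc := by
      rw [hzcd, map_mul, map_mul, map_inv]
      exact ((show Commute (π g) (π v) from hq).mul_left (show Commute (π z) (π v) from hūz.symm)).mul_left
        (show Commute (π g) (π v) from hq).inv_left |>.eq
    have hzv : π z * π v = π v * π z := hūz.symm
    have hvu : Commute (v : G) u := hLu _ v.2
    -- all members act alike on `v`
    have halike : ∀ y : ↥L, (y : G) ∈ members U u → π y * π v = π v * π y →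
        (Commute (y : G) v ↔ Commute (z : G) v) := fun y hy hyv => by
      by_cases hyM : (y : G) ∈ M
      · exact (h.members_sign c hu hS hcu hroot hvu hy hyM (hsign y hyv) hzcm hzcM (hsign zc hzcv)).trans
          (h.members_sign c hu hS hcu hroot hvu hz hzM (hsign z hzv) hzcm hzcM (hsign zc hzcv)).symm
      · exact (h.members_sign c hu hS hcu hroot hvu hz hzM (hsign z hzv) hy hyM (hsign y hyv)).symm
    set L' := closure {q : ↥L ⧸ N | IsConj (π z) q ∧ q * π v = π v * q} with hL'
    have hzL' : π z ∈ L' := subset_closure ⟨IsConj.refl _, hzv⟩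
    have hzcL' : π zc ∈ L' := subset_closure ⟨_root_.isConj_iff.2 ⟨π g, by rw [hzcd, map_mul, map_mul, map_inv]⟩, hzcv⟩
    refine Fus.SClosedSE.se_intro (fun hle => hzcM ((hmem zc).1 (hle hzcL'))) (hπ2 hz) hzL' ((hmem z).2 hzM) ?_
    intro q₁ hq₁ hq₁H q hq2 hqL hqH hq₁q
    -- generators are images of members
    have hgenL : ∀ q : ↥L ⧸ N, IsConj (π z) q → ∃ y : ↥L, (y : G) ∈ members U u ∧ π y = q := fun q hqc => by
      obtain ⟨k, hk⟩ := _root_.isConj_iff.1 hqc
      obtain ⟨k, rfl⟩ := hπs k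
      exact ⟨k * z * k⁻¹, members_conj c hz (hLC k.2), by rw [map_mul, map_mul, map_inv, hk]⟩
    by_cases hzvc : Commute (z : G) v
    · -- the larger group
      set U' := U ⊔ zpowers (v : G) with hU'
      obtain ⟨hU'c, hU'sq⟩ := sq_mem_sup c (hLC v.2) hvv
      have hle' : U' ≤ M := sup_le c.le (zpowers_le.2 hvM)
      have hvp : IsPGroup 2 ↥(zpowers (v : G)) := by
        obtain ⟨k, hk⟩ := c.isP ⟨_, hvv⟩
        have hk' : (v : G) ^ 2 ^ (k + 1) = 1 := by
          rw [pow_succ', pow_mul, pow_two]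
          exact congrArg Subtype.val hk
        obtain ⟨j, -, hj⟩ := (Nat.dvd_prime_pow Nat.prime_two).1 (orderOf_dvd_of_pow_eq_one hk')
        exact IsPGroup.of_card (n := j) (by rw [Nat.card_zpowers, hj])
      have hU'p : IsPGroup 2 U' := c.isP.to_sup_of_normal_right' hvp fun a ha => mem_normalizer_fintype fun b hb => by
        show a * b * a⁻¹ ∈ zpowers (v : G)
        rw [hU'c a (mem_sup_left ha) b (mem_sup_right hb), mul_inv_cancel_right]; exact hb
      have hover : ∀ y : ↥L, (y : G) ∈ members U u → π y * π v = π v * π y → (y : G) ∈ members U' u :=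
        fun y hy hyv => ⟨hy.1, hy.2.1, mem_centralizer_iff.2 fun b hb => by
          refine mem_centralizer_singleton_iff.1 ((?_ : U' ≤ centralizer ({(y : G)} : Set G)) hb)
          refine sup_le ?_ ?_
          · exact fun b hb => mem_centralizer_singleton_iff.2 (mem_centralizer_iff.1 hy.2.2 b hb)
          · exact zpowers_le.2 (mem_centralizer_singleton_iff.2 ((halike y hy hyv).2 hzvc).eq.symm)⟩
      have hzc' := hover zc hzcm hzcv
      have hU'u : ∀ a ∈ U', a * a = 1 → a = 1 ∨ a = u := by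
        intro a ha ha2
        by_contra hne
        rw [not_or] at hne
        have haz : a * (zc : G) = zc * a := mem_centralizer_iff.1 hzc'.2.2 a ha
        exact hzcM (h.bad_fix hu huM (orderOf_two_iff.2 ⟨ha2, hne.1⟩) (hle' ha) hne.2
          (hU'c a ha u (mem_sup_left c.mem)) (c.commute_u hzcm.2.2).eq
          (by rw [← haz, mul_inv_cancel_right]; exact hle' ha))
      have hlt : Nat.card U < Nat.card U' := lt_of_le_of_ne (card_le_of_le le_sup_left) fun e =>
        hvU ((eq_of_le_of_card_ge (le_sup_left : U ≤ U') e.ge).symm ▸ mem_sup_right (mem_zpowers _))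
      have hno' : SquareBound U' u := hno U' ⟨mem_sup_left c.mem, hle', hU'p, hU'c, hU'u⟩ hlt
        ⟨⟨z, hover z hz hzv, hzM⟩, _, hzc', hzcM⟩
      set L₁ : Subgroup ↥L := (closure (members U' u)).comap L.subtype with hL₁
      have hL'le : L' ≤ L₁.map π := (closure_le _).2 fun q hq => by
        obtain ⟨y, hy, rfl⟩ := hgenL q hq.1
        exact ⟨y, subset_closure (hover y hy hq.2), rfl⟩
      obtain ⟨s, hs, rfl⟩ := hL'le hqL
      obtain ⟨g₁, hg₁, rfl⟩ := hL'le hq₁
      have hss : (s : G) * s ∈ U := by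
        have h1 := mul_self_of_orderOf_two hq2
        rw [← map_mul] at h1
        exact mem_subgroupOf.1 ((QuotientGroup.eq_one_iff (s * s)).1 h1)
      rw [hmem] at hqH hq₁H
      rw [← map_inv, ← map_mul, ← map_mul, hmem] at hq₁q
      obtain ⟨b, hb, hbb⟩ := hno' _ (mem_sup_left hss) (mul_mem hs hs)
      have hC' : closure (members U' u) ≤ centralizer (U' : Set G) := (closure_le _).2 fun y hy => hy.2.2
      have hsU' : (s : G) ∉ U' := fun hm => by
        obtain ⟨a, ha, e⟩ := hno' _ hm hs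
        exact ne_one_of_orderOf_two hq2 ((QuotientGroup.eq_one_iff s).2 (mem_subgroupOf.2 (e ▸ hU'sq a ha)))
      have hbs : b * (s : G) = s * b := mem_centralizer_iff.1 (hC' hs) b hb
      have hwne : ∀ a ∈ U', (s : G) * b⁻¹ ≠ a := fun a ha e => hsU' (by
        rw [show (s : G) = a * b by rw [← e]; group]; exact mul_mem ha hb)
      have hw2 : orderOf ((s : G) * b⁻¹) = 2 := orderOf_two_iff.2 ⟨by
        rw [show (s : G) * b⁻¹ * (s * b⁻¹) = s * (b⁻¹ * s) * b⁻¹ by group,
          (show Commute b (s : G) from hbs).inv_left.eq,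
          show (s : G) * (s * b⁻¹) * b⁻¹ = s * s * (b * b)⁻¹ by group, hbb, mul_inv_cancel],
        hwne 1 (one_mem _)⟩
      refine hq₁H (inv_mem_iff.1 (h.bad_fix hu huM hw2 (mul_mem hqH (inv_mem (hle' hb)))
        (hwne u (mem_sup_left c.mem)) ?_ (hLu _ (inv_mem g₁.2)).eq ?_))
      · exact ((hLu _ s.2).mul_left (hU'c _ (inv_mem hb) u (mem_sup_left c.mem))).eq
      · rw [inv_inv, show (g₁ : G)⁻¹ * (s * b⁻¹) * g₁ = (g₁ : G)⁻¹ * s * (b⁻¹ * g₁) by group,
          show b⁻¹ * (g₁ : G) = g₁ * b⁻¹ from mem_centralizer_iff.1 (hC' hg₁) _ (inv_mem hb), ← mul_assoc]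
        exact mul_mem (by simpa using hq₁q) (inv_mem (hle' hb))
    · -- the member `z` is isolated
      have hkey : ∀ y : ↥L, (y : G) ∈ members U u → π y * π v = π v * π y → π y * π z = π z * π y →
          π y = π z := fun y hy hyv hyz => by
        have hnc : ¬ Commute (y : G) v := fun e => hzvc ((halike y hy hyv).1 e)
        have hprod : Commute ((y : G) * z) v := by
          have e1 := (hsign y hyv).resolve_left fun e => hnc (mul_inv_eq_iff_eq_mul.1 e)
          have e2 := (hsign z hzv).resolve_left fun e => hzvc (mul_inv_eq_iff_eq_mul.1 e)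
          refine mul_inv_eq_iff_eq_mul.1 ?_
          rw [show (y : G) * z * v * ((y : G) * z)⁻¹ = y * (z * v * (z : G)⁻¹) * (y : G)⁻¹ by group, e2,
            conj_mul_central (c.commute_u hy.2.2), e1, mul_assoc, huu, mul_one]
        by_contra hne
        obtain ⟨a, ha, haa⟩ := hroot
        have hau : ∀ {p : G}, p ∈ centralizer (U : Set G) → Commute a p := fun hp => mem_centralizer_iff.1 hp a ha
        have hyz2 : (y : G) * z * (y * z) = 1 ∨ (y : G) * z * (y * z) = u := by
          have h1 : (z : G) * z ∈ U := by rw [mul_self_of_orderOf_two hz.1]; exact one_mem U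
          rcases conj_small c hz.2.2 hy.2.2 h1 (hπeq (b := y * z * y⁻¹)
            (by rw [map_mul, map_mul, map_inv, hyz, mul_inv_cancel_right])) with e | e
          all_goals
            rw [inv_of_orderOf_two hy.1] at e
            rw [show (y : G) * z * (y * z) = y * z * y * z by group, e]
          · exact Or.inl (mul_self_of_orderOf_two hz.1)
          · refine Or.inr ?_
            rw [mul_assoc, ← (c.commute_u hz.2.2).eq, ← mul_assoc, mul_self_of_orderOf_two hz.1, one_mul]
        obtain ⟨b, hb, hb2⟩ : ∃ b ∈ U, (y : G) * z * b * (y * z * b) = 1 := by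
          rcases hyz2 with e | e
          · exact ⟨1, one_mem U, by simpa using e⟩
          · refine ⟨a, ha, ?_⟩
            rw [show (y : G) * z * a * (y * z * a) = y * z * (a * (y * z)) * a by group,
              (hau (mul_mem hy.2.2 hz.2.2)).eq, show (y : G) * z * (y * z * a) * a = y * z * (y * z) * (a * a) by group,
              e, haa, huu]
        have hwne : ∀ p ∈ U, (y : G) * z * b ≠ p := fun p hp e => hne (hπeq' (by
          rw [show (y : G)⁻¹ * z = (y : G) * z by rw [inv_of_orderOf_two hy.1],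
            show (y : G) * z = p * b⁻¹ by rw [← e]; group]
          exact mul_mem hp (inv_mem hb)))
        have hwm : (y : G) * z * b ∈ members U u := ⟨orderOf_two_iff.2 ⟨hb2, hwne 1 (one_mem U)⟩, hwne u c.mem,
          mul_mem (mul_mem hy.2.2 hz.2.2) (mem_centralizer_iff.2 fun p hp => c.comm p hp b hb)⟩
        have hwv : Commute ((y : G) * z * b) v := hprod.mul_left (mem_centralizer_iff.1 (hLC v.2) b hb)
        exact hzvc ((halike ⟨_, subset_closure hwm⟩ hwm (by
          rw [← map_mul, ← map_mul]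
          exact congrArg π (Subtype.ext hwv.eq))).1 hwv)
      have hcentL' : ∀ q ∈ L', q * π v = π v * q := fun q hq => mem_centralizer_singleton_iff.1
        ((closure_le (centralizer ({π v} : Set (↥L ⧸ N)))).2
          (fun q hq => mem_centralizer_singleton_iff.2 hq.2) hq)
      have hin : ∀ {p r : ↥L}, (p : G) ∈ members U u → (p : G) ∈ M → (r : G) ∈ members U u → (r : G) ∉ M →
          π p ∈ L' → π r ∈ L' → ∃ k ∈ L', k * π r * k⁻¹ = π p := by
        intro p r hp hpM hr hrM hpL hrL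
        obtain ⟨d, hd, e⟩ := h.members_pair c hu hS hcu hroot hp hpM hr hrM
        have hdL : d ∈ L := closure_pair_members hp hr hd
        refine ⟨π ⟨d, hdL⟩, ?_, ?_⟩
        · obtain ⟨d', hd', e'⟩ := ((closure_le ((L'.comap π).map L.subtype)).2 (by
            rintro w (rfl | rfl)
            · exact ⟨p, hpL, rfl⟩
            · exact ⟨r, hrL, rfl⟩) hd)
          have : d' = ⟨d, hdL⟩ := Subtype.ext e'
          rwa [this] at hd'
        · rw [← map_inv, ← map_mul, ← map_mul]
          refine hπu ?_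
          rcases e with e | e
          · exact Or.inl e.symm
          · refine Or.inr ?_
            show d * (r : G) * d⁻¹ = p * u
            rw [e, conj_mul_central (hLu d hdL), mul_assoc (d * (r : G) * d⁻¹), huu, mul_one]
      obtain ⟨k, hk, hk'⟩ := involution_conj_of_gen (T := {q : ↥L ⧸ N | IsConj (π z) q ∧ q * π v = π v * q})
        (hπ2 hz) ⟨IsConj.refl _, hzv⟩ (fun k hk => ⟨_root_.isConj_iff.2 ⟨k, rfl⟩,
          hcentL' _ (mul_mem (mul_mem hk hzL') (inv_mem hk))⟩) (fun r hr hrz => by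
          obtain ⟨y, hy, rfl⟩ := hgenL r hr.1
          exact hkey y hy hr.2 hrz.eq.symm) (fun r hr => by
          obtain ⟨y, hy, rfl⟩ := hgenL r hr.1
          have hyL : π y ∈ L' := subset_closure hr
          by_cases hyM : (y : G) ∈ M
          · obtain ⟨k₁, hk₁, e₁⟩ := hin hy hyM hzcm hzcM hyL hzcL'
            obtain ⟨k₂, hk₂, e₂⟩ := hin hz hzM hzcm hzcM hzL' hzcL'
            exact ⟨k₁ * k₂⁻¹, mul_mem hk₁ (inv_mem hk₂), by rw [← e₁, ← e₂]; group⟩
          · obtain ⟨k₂, hk₂, e₂⟩ := hin hz hzM hy hyM hzL' hyL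
            exact ⟨k₂⁻¹, inv_mem hk₂, by rw [← e₂]; group⟩) hqL hq2
      obtain ⟨y, hy, hyq⟩ := hgenL q (_root_.isConj_iff.2 ⟨k, hk'.symm⟩)
      obtain ⟨g₁, rfl⟩ := hπs q₁
      rw [← hyq] at hqH hq₁q
      rw [hmem] at hqH hq₁H
      rw [← map_inv, ← map_mul, ← map_mul, hmem] at hq₁q
      exact hq₁H (inv_mem_iff.1 (hfix hy hqH (hLC (inv_mem g₁.2)) (by simpa using hq₁q)))
  have hK : Subgroup.normalClosure ({π z} : Set (↥L ⧸ N)) = ⊤ := by
    rw [eq_top_iff]
    intro q _
    obtain ⟨a, rfl⟩ := hπs q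
    have ha : L ≤ ((normalClosure ({π z} : Set (↥L ⧸ N))).comap π).map L.subtype := (closure_le _).2 fun y hy => by
      refine ⟨⟨y, subset_closure hy⟩, mem_comap.2 ?_, rfl⟩
      obtain ⟨k, hk⟩ := hone ⟨y, subset_closure hy⟩ hy
      rw [show π ⟨y, subset_closure hy⟩ = (π k)⁻¹ * π z * ((π k)⁻¹)⁻¹ by rw [← hk]; group]
      exact (normalClosure_normal (s := ({π z} : Set (↥L ⧸ N)))).conj_mem (π z)
        (subset_normalClosure (Set.mem_singleton (π z))) (π k)⁻¹
    obtain ⟨b, hb, e⟩ := ha a.2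
    rw [← (Subtype.ext e : b = a)]
    exact hb
  rw [hK] at hse
  refine ⟨fun e => ht₀M ((hmem ⟨t₀, subset_closure ht₀⟩).1 (e ▸ mem_top _)),
    even_card_of_mem (t := π z) (hπ2 hz) ((hmem z).2 hzM), fun g hg => Nat.not_even_iff_odd.1 fun he => ?_⟩
  obtain ⟨q, hq, hq2⟩ := exists_orderOf_two_mem he
  exact Fus.SClosedSE.se_elim hse (mem_top g) hg hq2 (mem_top q) hq.1 (mem_map_conj.1 hq.2)

end Cfsg.Agent.Invol.Core2
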