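import Cfsg.Agent.Lib.Invol.Core2.TwistDihedral
import Cfsg.Agent.Lib.Invol.Core2.TwistCentral

/-!
# Twisted bad involution: the involutions centralising a cyclic group over `u`

`U` is a 2-subgroup of `M` with `u` as its only involution. The members are the involutions other than `u`
centralising `U`. Conjugates commuting modulo `U` differ by a power of `u`, members at different cosets are
conjugate modulo `u` in the group generated by the members, and they act alike on an element normalised modulo `u`.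
-/

set_option autoImplicit false
set_option linter.unusedSectionVars false

namespace Cfsg.Agent.Invol.Core2

open Subgroup

variable {G : Type*} [Group G] [Finite G] {M W : Subgroup G}

/-- A cyclic 2-subgroup of `M` over `u`. -/
structure Cyc (M U : Subgroup G) (u : G) : Prop where
  mem : u ∈ U
  le : U ≤ M
  isP : IsPGroup 2 U
  comm : ∀ a ∈ U, ∀ b ∈ U, a * b = b * a
  uniq : ∀ a ∈ U, a * a = 1 → a = 1 ∨ a = u

/-- The involutions other than `u` centralising `U`. -/
def members (U : Subgroup G) (u : G) : Set G := {y | orderOf y = 2 ∧ y ≠ u ∧ y ∈ centralizer (U : Set G)}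

/-- The members do not all lie in `M`. -/
def Moved (M U : Subgroup G) (u : G) : Prop :=
  (∃ x ∈ members U u, x ∈ M) ∧ ∃ t ∈ members U u, t ∉ M

/-- What the members generate meets `U` in squares. -/
def SquareBound (U : Subgroup G) (u : G) : Prop :=
  ∀ b ∈ U, b ∈ closure (members U u) → ∃ a ∈ U, b = a * a

variable {U : Subgroup G} {u : G}

theorem Cyc.commute_u (c : Cyc M U u) {g : G} (hg : g ∈ centralizer (U : Set G)) : Commute g u :=
  (mem_centralizer_iff.1 hg u c.mem).symm

theorem members_notMem (c : Cyc M U u) {y : G} (hy : y ∈ members U u) : y ∉ U := fun h =>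
  (c.uniq y h (mul_self_of_orderOf_two hy.1)).elim (ne_one_of_orderOf_two hy.1) hy.2.1

theorem members_conj (c : Cyc M U u) {y g : G} (hy : y ∈ members U u) (hg : g ∈ centralizer (U : Set G)) :
    g * y * g⁻¹ ∈ members U u :=
  ⟨by rw [orderOf_conj_eq, hy.1], fun e => hy.2.1 (by
    calc y = g⁻¹ * (g * y * g⁻¹) * g := by group
      _ = g⁻¹ * (u * g) := by rw [e, mul_assoc]
      _ = u := by rw [← (c.commute_u hg).eq]; group), mul_mem (mul_mem hg hy.2.2) (inv_mem hg)⟩

/-- Commuting modulo `U` means commuting modulo `u`. -/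
theorem conj_small (c : Cyc M U u) {v g : G} (hv : v ∈ centralizer (U : Set G))
    (hg : g ∈ centralizer (U : Set G)) (hv2 : v * v ∈ U) (hm : v⁻¹ * (g * v * g⁻¹) ∈ U) :
    g * v * g⁻¹ = v ∨ g * v * g⁻¹ = v * u := by
  obtain ⟨b, hb⟩ : ∃ b, b = v⁻¹ * (g * v * g⁻¹) := ⟨_, rfl⟩
  rw [← hb] at hm
  have e : g * v * g⁻¹ = v * b := by rw [hb, mul_inv_cancel_left]
  have hbb : b * b = 1 := by
    have h1 : g * (v * v) * g⁻¹ = v * v := by rw [← mem_centralizer_iff.1 hg _ hv2, mul_inv_cancel_right]
    rw [← conj_mul, e, show v * b * (v * b) = v * (b * v) * b by group, mem_centralizer_iff.1 hv b hm,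
      show v * (v * b) * b = v * v * (b * b) by group, mul_eq_left] at h1
    exact h1
  rcases c.uniq b hm hbb with rfl | rfl
  · exact Or.inl (by rw [e, mul_one])
  · exact Or.inr e

/-- A member is carried into `M` by an element of `C(u)`, outside `M` if the member is. -/
theorem members_point (c : Cyc M U u) {S : Sylow 2 G} (hS : (S : Subgroup G) ≤ M)
    (hcu : ∀ s ∈ (S : Subgroup G), Commute s u) {q : G} (hq : q ∈ members U u) (hqM : q ∉ M) :
    ∃ e : G, Commute e u ∧ e ∉ M ∧ e⁻¹ * q * e ∈ M := by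
  obtain ⟨e, he, heM⟩ := exists_conj_centralizer hS hcu hq.1 (c.commute_u hq.2.2)
  refine ⟨e⁻¹, he.inv_left, fun h => hqM ?_, by simpa using heM⟩
  have h' : e ∈ M := by simpa using M.inv_mem h
  simpa [mul_assoc] using M.mul_mem (M.mul_mem (M.inv_mem h') heM) h'

variable {S : Sylow 2 G}

/-- Members at different cosets are conjugate modulo `u` in the group they generate. -/
theorem AX.members_pair (h : AX M W) (c : Cyc M U u) (hu : orderOf u = 2) (hS : (S : Subgroup G) ≤ M)
    (hcu : ∀ s ∈ (S : Subgroup G), Commute s u) (hroot : ∃ a ∈ U, a * a = u) {p q : G}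
    (hp : p ∈ members U u) (hpM : p ∈ M) (hq : q ∈ members U u) (hqM : q ∉ M) :
    ∃ d ∈ closure ({p, q} : Set G), p = d * q * d⁻¹ ∨ p = d * (q * u) * d⁻¹ := by
  obtain ⟨e, he, heM, heq⟩ := members_point c hS hcu hq hqM
  obtain ⟨a, ha, haa⟩ := hroot
  exact h.root_conj hS hu (c.le c.mem) hcu haa hp.1 hpM (c.commute_u hp.2.2) hp.2.1
    (mem_centralizer_iff.1 hp.2.2 a ha).symm hq.1 (c.commute_u hq.2.2) hq.2.1
    (mem_centralizer_iff.1 hq.2.2 a ha).symm he heM heq

theorem closure_pair_members {p q : G} (hp : p ∈ members U u) (hq : q ∈ members U u) :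
    closure ({p, q} : Set G) ≤ closure (members U u) :=
  closure_mono (by rintro x (rfl | rfl) <;> assumption)

/-- All members are conjugate modulo `u` to one in `M`. -/
theorem AX.members_class (h : AX M W) (c : Cyc M U u) (hu : orderOf u = 2) (hS : (S : Subgroup G) ≤ M)
    (hcu : ∀ s ∈ (S : Subgroup G), Commute s u) (hroot : ∃ a ∈ U, a * a = u) {x t : G}
    (hx : x ∈ members U u) (hxM : x ∈ M) (ht : t ∈ members U u) (htM : t ∉ M) {y : G} (hy : y ∈ members U u) :
    ∃ d ∈ closure (members U u), d * y * d⁻¹ = x ∨ d * y * d⁻¹ = x * u := by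
  have hC : closure (members U u) ≤ centralizer (U : Set G) := (closure_le _).2 fun _ hz => hz.2.2
  have hflip : ∀ {d p q : G}, d ∈ closure (members U u) → (p = d * q * d⁻¹ ∨ p = d * (q * u) * d⁻¹) →
      d * q * d⁻¹ = p ∨ d * q * d⁻¹ = p * u := fun {d p q} hd e => by
    rcases e with e | e
    · exact Or.inl e.symm
    · refine Or.inr ?_
      rw [e, conj_mul_central (c.commute_u (hC hd)), mul_assoc (d * q * d⁻¹), mul_self_of_orderOf_two hu, mul_one]
  by_cases hyM : y ∈ M
  · obtain ⟨d₁, hd₁, e₁⟩ := h.members_pair c hu hS hcu hroot hy hyM ht htM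
    obtain ⟨d₂, hd₂, e₂⟩ := h.members_pair c hu hS hcu hroot hx hxM ht htM
    have hd₁' := closure_pair_members hy ht hd₁
    have hd₂' := closure_pair_members hx ht hd₂
    refine ⟨d₂ * d₁⁻¹, mul_mem hd₂' (inv_mem hd₁'), ?_⟩
    have hu₂ := c.commute_u (hC hd₂')
    have hu₁ := c.commute_u (hC hd₁')
    have e0 : d₁⁻¹ * y * d₁ = t ∨ d₁⁻¹ * y * d₁ = t * u := by
      rcases e₁ with e | e <;> rw [e]
      · exact Or.inl (by group)
      · exact Or.inr (by group)
    rw [show d₂ * d₁⁻¹ * y * (d₂ * d₁⁻¹)⁻¹ = d₂ * (d₁⁻¹ * y * d₁) * d₂⁻¹ by group]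
    rcases e0 with e | e <;> rw [e]
    · exact hflip hd₂' e₂
    · rcases hflip hd₂' e₂ with e' | e' <;> rw [conj_mul_central hu₂, e']
      · exact Or.inr rfl
      · exact Or.inl (by rw [mul_assoc, mul_self_of_orderOf_two hu, mul_one])
  · obtain ⟨d, hd, e⟩ := h.members_pair c hu hS hcu hroot hx hxM hy hyM
    exact ⟨d, closure_pair_members hx hy hd, hflip (closure_pair_members hx hy hd) e⟩

/-- Members at different cosets act alike on `v` modulo `u`. -/
theorem AX.members_sign (h : AX M W) (c : Cyc M U u) (hu : orderOf u = 2) (hS : (S : Subgroup G) ≤ M)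
    (hcu : ∀ s ∈ (S : Subgroup G), Commute s u) (hroot : ∃ a ∈ U, a * a = u) {p q v : G} (hvu : Commute v u)
    (hp : p ∈ members U u) (hpM : p ∈ M) (hpv : p * v * p⁻¹ = v ∨ p * v * p⁻¹ = v * u)
    (hq : q ∈ members U u) (hqM : q ∉ M) (hqv : q * v * q⁻¹ = v ∨ q * v * q⁻¹ = v * u) :
    Commute p v ↔ Commute q v := by
  let K : Subgroup G :=
    { carrier := {g | Commute g u ∧ (g * v * g⁻¹ = v ∨ g * v * g⁻¹ = v * u)}
      one_mem' := ⟨Commute.one_left u, Or.inl (by group)⟩
      mul_mem' := by
        rintro g k ⟨hg, hg'⟩ ⟨hk, hk'⟩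
        refine ⟨hg.mul_left hk, ?_⟩
        rw [show g * k * v * (g * k)⁻¹ = g * (k * v * k⁻¹) * g⁻¹ by group]
        rcases hk' with e | e <;> rw [e]
        · exact hg'
        · rcases hg' with e' | e' <;> rw [conj_mul_central hg, e']
          · exact Or.inr rfl
          · exact Or.inl (by rw [mul_assoc, mul_self_of_orderOf_two hu, mul_one])
      inv_mem' := by
        rintro g ⟨hg, hg'⟩
        refine ⟨hg.inv_left, ?_⟩
        rw [inv_inv]
        rcases hg' with e | e
        · refine Or.inl ?_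
          calc g⁻¹ * v * g = g⁻¹ * (g * v * g⁻¹) * g := by rw [e]
            _ = v := by group
        · refine Or.inr ?_
          calc g⁻¹ * v * g = g⁻¹ * (g * v * g⁻¹ * u) * g := by
                rw [e, mul_assoc v u u, mul_self_of_orderOf_two hu, mul_one]
            _ = v * u := by
                rw [show g⁻¹ * (g * v * g⁻¹ * u) * g = v * (g⁻¹ * (u * g)) by group, ← hg.eq, ← mul_assoc g⁻¹]
                group }
  obtain ⟨d, hd, e⟩ := h.members_pair c hu hS hcu hroot hp hpM hq hqM
  have hdK : d ∈ K := (closure_le _).2 (show ({p, q} : Set G) ⊆ (K : Set G) by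
    rintro g (rfl | rfl)
    · exact ⟨c.commute_u hp.2.2, hpv⟩
    · exact ⟨c.commute_u hq.2.2, hqv⟩) hd
  obtain ⟨hdu, hdv⟩ := hdK
  have e' : ∀ g : G, Commute g u → (Commute q g ↔ Commute p (d * g * d⁻¹)) := fun g hg => by
    have hdg : Commute (d * g * d⁻¹) u := (hdu.mul_left hg).mul_left hdu.inv_left
    rcases e with e | e <;> subst e
    · exact (Commute.conj_iff d).symm
    · constructor
      · intro h1
        exact (Commute.conj_iff d).2 (h1.mul_left hg.symm)
      · intro h1
        have h2 := ((Commute.conj_iff d).1 h1).mul_left hg.symm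
        rwa [mul_assoc, mul_self_of_orderOf_two hu, mul_one] at h2
  rw [e' v hvu]
  rcases hdv with e₁ | e₁ <;> rw [e₁]
  refine ⟨fun h1 => h1.mul_right (c.commute_u hp.2.2), fun h1 => ?_⟩
  have h2 := h1.mul_right (c.commute_u hp.2.2)
  rwa [mul_assoc, mul_self_of_orderOf_two hu, mul_one] at h2

end Cfsg.Agent.Invol.Core2
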