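import Cfsg.Agent.Lib.Invol.Core2.TwistFinish
import Cfsg.Agent.Lib.Invol.Core2.TwistPerm

/-!
# Two five-point components: one side

`Sides` is the data of two fours of roots exchanged in the Sylow subgroup. At a root `a` fixed by the part of `S`
preserving its four, the pointwise stabiliser of the five points is the odd core times the four, and the elements of
odd order centralising or, inside `H`, inverted by a member of `K` lie in the core.
-/

set_option autoImplicit false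
set_option linter.unusedSectionVars false

namespace Cfsg.Agent.Invol.Core2

open Subgroup

universe v

variable {Q : Type v} [Group Q] [Finite Q]

/-- Two fours of roots with five-point components, exchanged by `S`. -/
structure Sides (H : Subgroup Q) (S : Sylow 2 Q) (K : Set Q) (A B : Subgroup Q) : Prop where
  core : Cfsg.oddCore Q = ⊥
  top : H ≠ ⊤
  le : (S : Subgroup Q) ≤ H
  K2 : ∀ k ∈ K, orderOf k = 2
  Kc : ∀ k ∈ K, ∀ g : Q, g * k * g⁻¹ ∈ K
  fix : ∀ k ∈ K, k ∈ H → ∀ g : Q, g * k * g⁻¹ ∈ H → g ∈ H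
  hA : A ≤ (S : Subgroup Q)
  hB : B ≤ (S : Subgroup Q)
  cardA : Nat.card A = 4
  cardB : Nat.card B = 4
  A2 : ∀ x ∈ A, x * x = 1
  B2 : ∀ x ∈ B, x * x = 1
  comm : ∀ x ∈ A, ∀ y ∈ B, Commute x y
  mulK : ∀ x ∈ A, x ≠ 1 → ∀ y ∈ B, y ≠ 1 → x * y ∈ K
  notK : ∀ x : Q, x ∈ A ∨ x ∈ B → x ∉ K
  stab : ∀ s ∈ (S : Subgroup Q), ((∀ x ∈ A, s * x * s⁻¹ ∈ A) ∧ ∀ x ∈ B, s * x * s⁻¹ ∈ B) ∨
    ((∀ x ∈ A, s * x * s⁻¹ ∈ B) ∧ ∀ x ∈ B, s * x * s⁻¹ ∈ A)
  swap : ∃ g ∈ (S : Subgroup Q), (∀ x ∈ A, g * x * g⁻¹ ∈ B) ∧ ∀ x ∈ B, g * x * g⁻¹ ∈ A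
  fiveA : ∀ x ∈ A, x ≠ 1 → (H.subgroupOf (centralizer ({x} : Set Q))).index = 5
  fiveB : ∀ x ∈ B, x ≠ 1 → (H.subgroupOf (centralizer ({x} : Set Q))).index = 5
  trivA : ∀ x ∈ A, x ≠ 1 → ∀ p ∈ A, ∀ c : Q, Commute c x → c⁻¹ * p * c ∈ H
  trivB : ∀ x ∈ B, x ≠ 1 → ∀ p ∈ B, ∀ c : Q, Commute c x → c⁻¹ * p * c ∈ H
  kerA : ∀ x ∈ A, x ≠ 1 → ∀ s ∈ (S : Subgroup Q), Commute s x →
    (∀ c : Q, Commute c x → c⁻¹ * s * c ∈ H) → s ∈ A
  kerB : ∀ x ∈ B, x ≠ 1 → ∀ s ∈ (S : Subgroup Q), Commute s x →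
    (∀ c : Q, Commute c x → c⁻¹ * s * c ∈ H) → s ∈ B

namespace Sides

variable {H : Subgroup Q} {S : Sylow 2 Q} {K : Set Q} {A B : Subgroup Q}

theorem symm (d : Sides H S K A B) : Sides H S K B A where
  core := d.core
  top := d.top
  le := d.le
  K2 := d.K2
  Kc := d.Kc
  fix := d.fix
  hA := d.hB
  hB := d.hA
  cardA := d.cardB
  cardB := d.cardA
  A2 := d.B2
  B2 := d.A2
  comm x hx y hy := (d.comm y hy x hx).symm
  mulK x hx hx1 y hy hy1 := (d.comm y hy x hx).eq ▸ d.mulK y hy hy1 x hx hx1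
  notK x hx := d.notK x hx.symm
  stab s hs := (d.stab s hs).imp (fun h => ⟨h.2, h.1⟩) fun h => ⟨h.2, h.1⟩
  swap := by obtain ⟨g, hg, h1, h2⟩ := d.swap; exact ⟨g, hg, h2, h1⟩
  fiveA := d.fiveB
  fiveB := d.fiveA
  trivA := d.trivB
  trivB := d.trivA
  kerA := d.kerB
  kerB := d.kerA

theorem two {x : Q} (h : x * x = 1) (h1 : x ≠ 1) : orderOf x = 2 := orderOf_two_iff.2 ⟨h, h1⟩

theorem eq_one (d : Sides H S K A B) {x : Q} (hx : x ∈ A) (hy : x ∈ B) : x = 1 := by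
  by_contra h
  exact ne_one_of_orderOf_two (d.K2 _ (d.mulK x hx h x hy h)) (d.A2 x hx)

theorem commA (d : Sides H S K A B) {x y : Q} (hx : x ∈ A) (hy : y ∈ A) : Commute x y := by
  have h1 := d.A2 (x * y) (mul_mem hx hy)
  calc x * y = x * y * (x * y) * (y⁻¹ * x⁻¹) := by group
    _ = y * x := by
      rw [h1, one_mul, inv_eq_of_mul_eq_one_right (d.A2 y hy), inv_eq_of_mul_eq_one_right (d.A2 x hx)]

theorem mem_cases (d : Sides H S K A B) {a a' x : Q} (ha : a ∈ A) (ha' : a' ∈ A) (ha1 : a ≠ 1) (ha'1 : a' ≠ 1)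
    (hne : a' ≠ a) (hx : x ∈ A) : x = 1 ∨ x = a ∨ x = a' ∨ x = a' * a := by
  classical
  by_contra h
  push Not at h
  haveI : Fintype A := Fintype.ofFinite A
  let T : Finset A := {1, ⟨a, ha⟩, ⟨a', ha'⟩, ⟨a' * a, mul_mem ha' ha⟩, ⟨x, hx⟩}
  have h4 : a' * a ≠ 1 := mul_ne_one_of_ne (two (d.A2 a' ha') ha'1) hne
  have hT : T.card = 5 := by
    have e1 : a' * a ≠ a := fun e => ha'1 (mul_eq_right.1 e)
    have e2 : a' * a ≠ a' := fun e => ha1 (mul_eq_left.1 e)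
    simp [T, Finset.card_insert_of_notMem, Subtype.ext_iff, ha1.symm, ha'1.symm, h4.symm, hne.symm, e1.symm,
      e2.symm, h.1.symm, h.2.1.symm, h.2.2.1.symm, h.2.2.2.symm]
  have h5 := Finset.card_le_univ T
  rw [hT, ← Nat.card_eq_fintype_card, d.cardA] at h5
  omega

theorem exists_ne (d : Sides H S K A B) (a : Q) : ∃ x ∈ A, x ≠ 1 ∧ x ≠ a := by
  classical
  by_contra h
  push Not at h
  haveI : Fintype A := Fintype.ofFinite A
  have h1 : (Finset.univ.image fun x : A => (x : Q)).card ≤ ({1, a} : Finset Q).card :=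
    Finset.card_le_card fun z hz => by
      obtain ⟨x, -, rfl⟩ := Finset.mem_image.1 hz
      by_cases e : (x : Q) = 1
      · simp [e]
      · simp [h x x.2 e]
  rw [Finset.card_image_of_injective _ Subtype.val_injective, Finset.card_univ, ← Nat.card_eq_fintype_card,
    d.cardA] at h1
  have := Finset.card_le_two (a := (1 : Q)) (b := a)
  omega

/-- A root of `A` fixed by the elements of `S` preserving `A`. -/
def Fixed (S : Sylow 2 Q) (A : Subgroup Q) (a : Q) : Prop :=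
  a ∈ A ∧ a ≠ 1 ∧ ∀ s ∈ (S : Subgroup Q), (∀ x ∈ A, s * x * s⁻¹ ∈ A) → Commute s a

theorem exists_fixed (d : Sides H S K A B) : ∃ a, Fixed S A a := by
  classical
  haveI : Fact (Nat.Prime 2) := ⟨Nat.prime_two⟩
  set T1 := (S : Subgroup Q) ⊓ normalizer (A : Set Q)
  haveI : Group.IsNilpotent ↥T1 := (S.isPGroup'.to_le inf_le_left).isNilpotent
  have hAT : A ≤ T1 := le_inf d.hA le_normalizer
  haveI : (A.subgroupOf T1).Normal := ⟨fun x hx s => (mem_normalizer_iff.1 s.2.2 (x : Q)).1 hx⟩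
  have hne : A.subgroupOf T1 ≠ ⊥ := fun e => by
    obtain ⟨x, hx, hx1, -⟩ := d.exists_ne (1 : Q)
    have h1 : (⟨x, hAT hx⟩ : ↥T1) = 1 := mem_bot.1 (e ▸ (show (⟨x, hAT hx⟩ : ↥T1) ∈ A.subgroupOf T1 from hx))
    exact hx1 (congrArg (fun y : ↥T1 => (y : Q)) h1)
  obtain ⟨⟨a, ha⟩, ha1⟩ := (Subgroup.ne_bot_iff_exists_ne_one).1 (Grp.inf_center_ne_bot (A.subgroupOf T1) hne)
  refine ⟨a, ha.1, fun e => ha1 (Subtype.ext (Subtype.ext e)), fun s hs hsA => ?_⟩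
  exact congrArg Subtype.val (mem_center_iff.1 ha.2 ⟨s, hs, mem_normalizer_fintype hsA⟩)

theorem fixed_conj (d : Sides H S K A B) {a g : Q} (h : Fixed S A a) (hg : g ∈ (S : Subgroup Q))
    (hgA : ∀ x ∈ A, g * x * g⁻¹ ∈ B) (hgB : ∀ x ∈ B, g * x * g⁻¹ ∈ A) :
    Fixed S B (g * a * g⁻¹) ∧ g * (g * a * g⁻¹) * g⁻¹ = a ∧
      ∀ s ∈ (S : Subgroup Q), Commute s (a * (g * a * g⁻¹)) := by
  obtain ⟨ha, ha1, hfix⟩ := h
  have hb1 : g * a * g⁻¹ ≠ 1 := fun e => ha1 (by simpa using e)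
  have hkeep : ∀ s ∈ (S : Subgroup Q), (∀ x ∈ B, s * x * s⁻¹ ∈ B) → Commute s (g * a * g⁻¹) := fun s hs hsB => by
    have h1 : Commute (g⁻¹ * s * g) a := by
      refine hfix _ (mul_mem (mul_mem (inv_mem hg) hs) hg) fun x hx => ?_
      have h2 := hsB _ (hgA x hx)
      rcases d.stab g⁻¹ (inv_mem hg) with hc | hc
      · exfalso
        have h3 := hc.2 _ (hgA x hx)
        rw [show g⁻¹ * (g * x * g⁻¹) * g⁻¹⁻¹ = x by group] at h3
        have h4 := hc.2 _ (hgA a ha)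
        rw [show g⁻¹ * (g * a * g⁻¹) * g⁻¹⁻¹ = a by group] at h4
        exact ha1 (d.eq_one ha h4)
      · have h3 := hc.2 _ h2
        rwa [show g⁻¹ * (s * (g * x * g⁻¹) * s⁻¹) * g⁻¹⁻¹ = g⁻¹ * s * g * x * (g⁻¹ * s * g)⁻¹ by group] at h3
    have h5 := commute_conj (g := g) h1
    rwa [show g * (g⁻¹ * s * g) * g⁻¹ = s by group] at h5
  have hgg : g * (g * a * g⁻¹) * g⁻¹ = a := by
    have h1 := hfix (g * g) (mul_mem hg hg) fun x hx => by
      have := hgB _ (hgA x hx)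
      rwa [show g * (g * x * g⁻¹) * g⁻¹ = g * g * x * (g * g)⁻¹ by group] at this
    rw [show g * (g * a * g⁻¹) * g⁻¹ = g * g * a * (g * g)⁻¹ by group, h1.eq, mul_inv_cancel_right]
  refine ⟨⟨hgA a ha, hb1, hkeep⟩, hgg, fun s hs => ?_⟩
  -- `S` is the stabiliser of `A` and its coset by `g`
  have hg' : Commute g (a * (g * a * g⁻¹)) := by
    refine mul_inv_eq_iff_eq_mul.1 ?_
    rw [show g * (a * (g * a * g⁻¹)) * g⁻¹ = g * a * g⁻¹ * (g * (g * a * g⁻¹) * g⁻¹) by group, hgg]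
    exact (d.comm a ha _ (hgA a ha)).eq.symm
  rcases d.stab s hs with hc | hc
  · exact (hfix s hs hc.1).mul_right (hkeep s hs hc.2)
  · have h1 : Commute (g * s) (a * (g * a * g⁻¹)) :=
      (hfix _ (mul_mem hg hs) fun x hx => by
        have := hgB _ (hc.1 x hx)
        rwa [show g * (s * x * s⁻¹) * g⁻¹ = g * s * x * (g * s)⁻¹ by group] at this).mul_right
      (hkeep _ (mul_mem hg hs) fun x hx => by
        have := hgA _ (hc.2 x hx)
        rwa [show g * (s * x * s⁻¹) * g⁻¹ = g * s * x * (g * s)⁻¹ by group] at this)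
    have h2 := hg'.inv_left.mul_left h1
    rwa [inv_mul_cancel_left] at h2

theorem keep_of_commute (d : Sides H S K A B) {a s : Q} (ha : a ∈ A) (ha1 : a ≠ 1) (hs : s ∈ (S : Subgroup Q))
    (hsa : Commute s a) : (∀ x ∈ A, s * x * s⁻¹ ∈ A) ∧ ∀ x ∈ B, s * x * s⁻¹ ∈ B := by
  refine (d.stab s hs).resolve_right fun hc => ha1 (d.eq_one ha ?_)
  have := hc.1 a ha
  rwa [hsa.eq, mul_inv_cancel_right] at this

/-- `C_S(a)` is a Sylow subgroup of `C(a)`. -/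
theorem exists_conj_sylow (d : Sides H S K A B) {a : Q} (h : Fixed S A a)
    (huniq : ∀ z ∈ (S : Subgroup Q), orderOf z = 2 → (∀ s ∈ (S : Subgroup Q), Commute s z) → z ∈ K)
    {b : Q} (hb : b ∈ B) (hb1 : b ≠ 1) :
    ∀ R : Subgroup Q, IsPGroup 2 R → R ≤ centralizer ({a} : Set Q) →
      ∃ c : Q, Commute c a ∧ ∀ r ∈ R, c * r * c⁻¹ ∈ (S : Subgroup Q) := by
  classical
  haveI : Fact (Nat.Prime 2) := ⟨Nat.prime_two⟩
  obtain ⟨ha, ha1, hfix⟩ := h
  set C := centralizer ({a} : Set Q) with hC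
  set T1 := (S : Subgroup Q) ⊓ C with hT1
  obtain ⟨R₀, hR₀⟩ := ((S.isPGroup'.to_le (inf_le_left : T1 ≤ (S : Subgroup Q))).comap_subtype
    (K := C)).exists_le_sylow
  -- it suffices that the Sylow subgroup over `T1` is `T1`
  suffices hmax : (R₀ : Subgroup ↥C).map C.subtype ≤ T1 by
    intro R hR hRC
    obtain ⟨c, hc⟩ := exists_conj_subset_sylow (G := ↥C) (H := R.subgroupOf C) (hR.comap_subtype) R₀
    exact ⟨c, mem_C.1 c.2, fun r hr => (hmax ⟨_, hc ⟨r, hRC hr⟩ hr, rfl⟩).1⟩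
  set R' := (R₀ : Subgroup ↥C).map C.subtype
  have hTR : T1 ≤ R' := fun t ht => ⟨⟨t, ht.2⟩, hR₀ ht, rfl⟩
  by_contra hle
  obtain ⟨n, hn, hnT, hnN⟩ := exists_normalizing (R₀.isPGroup'.map C.subtype)
    (lt_of_le_of_ne hTR fun e => hle e.ge)
  have hnC : n ∈ C := map_subtype_le _ hn
  set f := a * b
  have hfK : f ∈ K := d.mulK a ha ha1 b hb hb1
  have hfS : f ∈ T1 := ⟨mul_mem (d.hA ha) (d.hB hb), mem_C.2 ((Commute.refl a).mul_left (d.comm a ha b hb).symm)⟩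
  have hnH : n ∈ H := d.fix f hfK (d.le hfS.1) n (d.le ((mem_normalizer_iff.1 hnN f).1 hfS).1)
  set R2 := T1 ⊔ zpowers n
  have hR2p : IsPGroup 2 ↥R2 := (R₀.isPGroup'.map C.subtype).to_le (sup_le hTR (zpowers_le.2 hn))
  have hR2H : R2 ≤ H := sup_le (inf_le_left.trans d.le) (zpowers_le.2 hnH)
  have hR2C : R2 ≤ C := sup_le inf_le_right (zpowers_le.2 hnC)
  obtain ⟨k, hk⟩ := exists_conj_subset_sylow (G := ↥H) (H := R2.subgroupOf H) hR2p.comap_subtype (S.subtype d.le)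
  set R3 := R2.map (MulAut.conj (k : Q)).toMonoidHom with hR3
  have hR3S : R3 ≤ (S : Subgroup Q) := by
    rintro _ ⟨r, hr, rfl⟩
    exact hk ⟨r, hR2H hr⟩ hr
  obtain ⟨g, hg, hgA, hgB⟩ := d.swap
  have hidx : (T1.subgroupOf (S : Subgroup Q)).index = 2 := by
    refine index_eq_two_iff.2 ⟨⟨g, hg⟩, fun s => ?_⟩
    have hmem : ∀ s : ↥(S : Subgroup Q), s ∈ T1.subgroupOf (S : Subgroup Q) ↔ Commute (s : Q) a := fun s =>
      ⟨fun hs => mem_C.1 hs.2, fun hs => ⟨s.2, mem_C.2 hs⟩⟩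
    rw [hmem, hmem]
    rcases d.stab s s.2 with hc | hc
    · refine Or.inr ⟨hfix s s.2 hc.1, fun hcom => ?_⟩
      have hcom' : Commute ((s : Q) * g) a := hcom
      have h2 := hc.2 _ (hgA a ha)
      rw [show (s : Q) * (g * a * g⁻¹) * (s : Q)⁻¹ = ((s : Q) * g) * a * ((s : Q) * g)⁻¹ by group, hcom'.eq,
        mul_inv_cancel_right] at h2
      exact ha1 (d.eq_one ha h2)
    · refine Or.inl ⟨hfix _ (mul_mem s.2 hg) fun x hx => ?_, fun hcom => ha1 (d.eq_one ha ?_)⟩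
      · have := hc.2 _ (hgA x hx)
        rwa [show (s : Q) * (g * x * g⁻¹) * (s : Q)⁻¹ = (s : Q) * g * x * ((s : Q) * g)⁻¹ by group] at this
      · have := hc.1 a ha
        rwa [hcom.eq, mul_inv_cancel_right] at this
  have hcard : Nat.card (S : Subgroup Q) = 2 * Nat.card T1 := by
    rw [← (T1.subgroupOf (S : Subgroup Q)).index_mul_card, hidx,
      Nat.card_congr (subgroupOfEquivOfLe (inf_le_left : T1 ≤ (S : Subgroup Q))).toEquiv]
  have hlt : Nat.card T1 < Nat.card R2 := (card_le_of_le le_sup_left).lt_of_ne fun e =>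
    hnT ((eq_of_le_of_card_ge (le_sup_left : T1 ≤ R2) e.ge).ge (mem_sup_right (mem_zpowers n)))
  have hR3S' : R3 = (S : Subgroup Q) := by
    refine eq_of_le_of_card_ge hR3S ?_
    rw [hcard, hR3, card_map_of_injective (MulAut.conj (k : Q)).injective]
    obtain ⟨q, hq⟩ := card_dvd_of_le (le_sup_left : T1 ≤ R2)
    rw [hq] at hlt ⊢
    rw [mul_comm 2]
    refine Nat.mul_le_mul_left _ ?_
    by_contra hq2
    have hq1 : q ≤ 1 := by omega
    exact absurd hlt (not_lt.2 ((Nat.mul_le_mul_left _ hq1).trans (le_of_eq (mul_one _))))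
  have hcen : ∀ s ∈ (S : Subgroup Q), Commute s ((k : Q) * a * (k : Q)⁻¹) := fun s hs => by
    obtain ⟨r, hr, rfl⟩ := hR3S'.ge hs
    exact commute_conj (mem_C.1 (hR2C hr))
  have haR : a ∈ R2 := mem_sup_left (show a ∈ T1 from ⟨d.hA ha, mem_C.2 (Commute.refl a)⟩)
  have h1 := huniq _ (hR3S (show (k : Q) * a * (k : Q)⁻¹ ∈ R3 from ⟨a, haR, rfl⟩))
    (by rw [orderOf_conj_eq, two (d.A2 a ha) ha1]) hcen
  refine d.notK a (Or.inl ha) ?_
  have h2 := d.Kc _ h1 (k : Q)⁻¹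
  rwa [show (k : Q)⁻¹ * ((k : Q) * a * (k : Q)⁻¹) * (k : Q)⁻¹⁻¹ = a by group] at h2

/-- The permutations of the points of the component of `a`. -/
noncomputable def act (H : Subgroup Q) (a : Q) :
    ↥(centralizer ({a} : Set Q)) →* Equiv.Perm (↥(centralizer ({a} : Set Q)) ⧸ H.subgroupOf _) :=
  MulAction.toPermHom _ _

/-- The base point. -/
abbrev base (H : Subgroup Q) (a : Q) : ↥(centralizer ({a} : Set Q)) ⧸ H.subgroupOf (centralizer ({a} : Set Q)) :=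
  QuotientGroup.mk 1

theorem act_fix {a : Q} (x c : ↥(centralizer ({a} : Set Q))) :
    act H a x (QuotientGroup.mk c) = QuotientGroup.mk c ↔ (c : Q)⁻¹ * (x : Q) * (c : Q) ∈ H := by
  show x • (QuotientGroup.mk c : ↥(centralizer ({a} : Set Q)) ⧸ H.subgroupOf _) = _ ↔ _
  rw [MulAction.Quotient.smul_coe, eq_comm, QuotientGroup.eq, mem_subgroupOf, smul_eq_mul]
  simp [mul_assoc]

theorem act_base {a : Q} (x : ↥(centralizer ({a} : Set Q))) : act H a x (base H a) = base H a ↔ (x : Q) ∈ H := by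
  rw [base, act_fix]
  simp

theorem act_eq_one {a : Q} (x : ↥(centralizer ({a} : Set Q))) :
    act H a x = 1 ↔ ∀ c : Q, Commute c a → c⁻¹ * (x : Q) * c ∈ H := by
  refine ⟨fun e c hc => (act_fix x ⟨c, mem_C.2 hc⟩).1 (by rw [e]; rfl), fun h => ?_⟩
  refine Equiv.ext fun q => Quotient.inductionOn' q fun c => ?_
  exact (act_fix x c).2 (h c (mem_C.1 c.2))

/-- A member of `K` in `H` fixes only the base point. -/
theorem act_oneFix (d : Sides H S K A B) {a : Q} (k : ↥(centralizer ({a} : Set Q))) (hk : (k : Q) ∈ K)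
    (hkH : (k : Q) ∈ H) : Five.OneFix (act H a k) (base H a) := by
  refine ⟨fun x => ?_, (act_base k).2 hkH, fun q => Quotient.inductionOn' q fun c hc => ?_⟩
  · have h1 : k * k = 1 := Subtype.ext (mul_self_of_orderOf_two (d.K2 _ hk))
    have h2 := congrArg (fun f : Equiv.Perm _ => f x) ((map_mul (act H a) k k).symm.trans (by rw [h1, map_one]))
    simpa using h2
  · have h1 := (act_fix k c).1 hc
    have h2 : (c : Q) ∈ H := inv_mem_iff.1 (d.fix _ hk hkH _ (by rwa [inv_inv]))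
    exact QuotientGroup.eq.2 (by simpa [mem_subgroupOf] using inv_mem h2)

end Sides

end Cfsg.Agent.Invol.Core2
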