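import Cfsg.Agent.Lib.Invol.Core2.TwistSideKernel

/-!
# Two five-point components: fusion of the roots

The part of `H` centralising one four fuses the three roots of the other, and the centraliser of a fixed root is
generated by the core, the centraliser of its four and the Sylow subgroup.
-/

set_option autoImplicit false
set_option linter.unusedSectionVars false
set_option linter.style.haveILetI false

namespace Cfsg.Agent.Invol.Core2.Sides

open Subgroup

universe v

variable {Q : Type v} [Group Q] [Finite Q] {H : Subgroup Q} {S : Sylow 2 Q} {K : Set Q} {A B : Subgroup Q} {a b : Q}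

/-- An element is the product of its two part and its odd part. -/
theorem exists_parts (x : Q) :
    ∃ e o : Q, x = e * o ∧ e ∈ zpowers x ∧ o ∈ zpowers x ∧ IsPGroup 2 ↥(zpowers e) ∧ Odd (orderOf o) := by
  haveI : Fact (Nat.Prime 2) := ⟨Nat.prime_two⟩
  obtain ⟨k, m, hm, hord⟩ := Nat.exists_eq_two_pow_mul_odd (orderOf_pos x).ne'
  obtain ⟨α, β, hab⟩ : ∃ α β : ℤ, α * (m : ℤ) + β * ((2 ^ k : ℕ) : ℤ) = 1 := by
    have hcop : Nat.Coprime m (2 ^ k) := (Nat.coprime_two_right.2 hm).pow_right k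
    exact ⟨Nat.gcdA m (2 ^ k), Nat.gcdB m (2 ^ k), by
      have := Nat.gcd_eq_gcd_ab m (2 ^ k)
      rw [hcop] at this
      push_cast at this ⊢
      linarith⟩
  refine ⟨x ^ (α * (m : ℤ)), x ^ (β * ((2 ^ k : ℕ) : ℤ)), by rw [← zpow_add, hab, zpow_one],
    zpow_mem (mem_zpowers x) _, zpow_mem (mem_zpowers x) _, ?_, ?_⟩
  · obtain ⟨j, -, hj⟩ := (Nat.dvd_prime_pow Nat.prime_two).1 (orderOf_dvd_of_pow_eq_one (n := 2 ^ k)
      (x := x ^ (α * (m : ℤ))) (by
        rw [← zpow_natCast, ← zpow_mul, mul_assoc, ← Nat.cast_mul, mul_comm m, ← hord, mul_comm, zpow_mul,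
          zpow_natCast, pow_orderOf_eq_one, one_zpow]))
    exact IsPGroup.of_card (n := j) (by rw [Nat.card_zpowers, hj])
  · refine hm.of_dvd_nat (orderOf_dvd_of_pow_eq_one ?_)
    rw [← zpow_natCast, ← zpow_mul, mul_assoc, ← Nat.cast_mul, ← hord, mul_comm, zpow_mul, zpow_natCast,
      pow_orderOf_eq_one, one_zpow]

/-- The pointwise stabiliser of the points of the component of `a`, inside the whole group. -/
noncomputable def kerSub (H : Subgroup Q) (a : Q) : Subgroup Q := (act H a).ker.map (centralizer ({a} : Set Q)).subtype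

theorem mem_kerSub {n : Q} : n ∈ kerSub H a ↔ Commute n a ∧ ∀ c : Q, Commute c a → c⁻¹ * n * c ∈ H := by
  constructor
  · rintro ⟨x, hx, rfl⟩
    exact ⟨mem_C.1 x.2, (act_eq_one x).1 hx⟩
  · rintro ⟨h1, h2⟩
    exact ⟨⟨n, mem_C.2 h1⟩, (act_eq_one _).2 h2, rfl⟩

theorem kerSub_le : kerSub H a ≤ H := fun n hn => by simpa using (mem_kerSub.1 hn).2 1 (Commute.one_left a)

theorem kerSub_conj {c n : Q} (hc : Commute c a) (hn : n ∈ kerSub H a) : c * n * c⁻¹ ∈ kerSub H a := by
  obtain ⟨h1, h2⟩ := mem_kerSub.1 hn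
  refine mem_kerSub.2 ⟨(hc.mul_left h1).mul_left hc.inv_left, fun e he => ?_⟩
  rw [show e⁻¹ * (c * n * c⁻¹) * e = (c⁻¹ * e)⁻¹ * n * (c⁻¹ * e) by group]
  exact h2 _ (hc.inv_left.mul_left he)

theorem le_kerSub (d : Sides H S K A B) (ha : a ∈ A) (ha1 : a ≠ 1) : A ≤ kerSub H a := fun p hp =>
  mem_kerSub.2 ⟨d.commA hp ha, d.trivA a ha ha1 p hp⟩

/-- The four is a Sylow subgroup of the pointwise stabiliser. -/
theorem le_four (d : Sides H S K A B) (h : Fixed S A a) {R : Subgroup Q} (hR : IsPGroup 2 R) (hAR : A ≤ R)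
    (hRN : R ≤ kerSub H a) : R ≤ A := by
  haveI : Fact (Nat.Prime 2) := ⟨Nat.prime_two⟩
  intro r hr
  obtain ⟨h1, h2⟩ := mem_kerSub.1 (hRN hr)
  obtain ⟨⟨y, hy, p, hp, e⟩, -⟩ := d.ker_decomp h h1 h2
  have hyR : y ∈ R := by
    rw [show y = r * p⁻¹ by rw [e, mul_inv_cancel_right]]
    exact mul_mem hr (inv_mem (hAR hp))
  obtain ⟨j, hj⟩ := IsPGroup.iff_orderOf.1 hR ⟨y, hyR⟩
  rw [Subgroup.orderOf_mk] at hj
  have h3 : Odd (orderOf y) := (coreC_odd a).of_dvd_nat (Subgroup.orderOf_dvd_natCard _ hy)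
  rw [hj] at h3
  rcases j with _ | j
  · have hy1 : y = 1 := orderOf_eq_one_iff.1 (by rw [hj, pow_zero])
    rw [e, hy1, one_mul]
    exact hp
  · exact absurd h3 (Nat.not_odd_iff_even.2 ((Nat.even_pow).2 ⟨even_two, j.succ_ne_zero⟩))

/-- Frattini: inside a part of the pointwise stabiliser containing the four. -/
theorem exists_normalizes (d : Sides H S K A B) (h : Fixed S A a) {W : Subgroup Q} (hW : W ≤ kerSub H a)
    (hAW : A ≤ W) {e : Q} (he : ∀ p ∈ A, e * p * e⁻¹ ∈ W) : ∃ y ∈ W, ∀ p ∈ A, y * e * p * (y * e)⁻¹ ∈ A := by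
  haveI : Fact (Nat.Prime 2) := ⟨Nat.prime_two⟩
  have hAp : IsPGroup 2 ↥A := IsPGroup.of_card (n := 2) (by rw [d.cardA]; norm_num)
  obtain ⟨P, hP⟩ := (hAp.comap_subtype (K := W)).exists_le_sylow
  set R := A.map (MulAut.conj e).toMonoidHom
  have hRW : R ≤ W := by rintro _ ⟨p, hp, rfl⟩; exact he p hp
  obtain ⟨y, hy⟩ := exists_conj_subset_sylow (G := ↥W) (H := R.subgroupOf W) ((hAp.map _).comap_subtype) P
  refine ⟨y, y.2, fun p hp => ?_⟩
  have h1 : (P : Subgroup ↥W).map W.subtype ≤ A :=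
    d.le_four h (P.isPGroup'.map _) (fun q hq => ⟨⟨q, hAW hq⟩, hP hq, rfl⟩) ((map_subtype_le _).trans hW)
  have h2 := h1 (mem_map_of_mem W.subtype (hy ⟨e * p * e⁻¹, he p hp⟩ ⟨p, hp, rfl⟩))
  rw [show (y : Q) * e * p * ((y : Q) * e)⁻¹ = (y : Q) * (e * p * e⁻¹) * (y : Q)⁻¹ by group]
  exact h2

theorem act_smul {a : Q} (c : ↥(centralizer ({a} : Set Q))) : act H a c (base H a) = QuotientGroup.mk c := by
  show c • (QuotientGroup.mk 1 : ↥(centralizer ({a} : Set Q)) ⧸ H.subgroupOf _) = _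
  rw [MulAction.Quotient.smul_coe, smul_eq_mul, mul_one]

/-- A root of the other four fixes one point of the component. -/
theorem oneFix (d : Sides H S K A B) (hb : b ∈ B) (hb1 : b ≠ 1) {p : Q} (hp : p ∈ A) (hp1 : p ≠ 1) :
    Five.OneFix (act H b ⟨p, mem_C.2 (d.comm p hp b hb)⟩) (base H b) := by
  have h1 : act H b ⟨p, mem_C.2 (d.comm p hp b hb)⟩ =
      act H b ⟨p * b, mem_C.2 ((d.comm p hp b hb).mul_left (Commute.refl b))⟩ := by
    rw [show (⟨p * b, mem_C.2 ((d.comm p hp b hb).mul_left (Commute.refl b))⟩ : ↥(centralizer ({b} : Set Q))) =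
      ⟨p, mem_C.2 (d.comm p hp b hb)⟩ * ⟨b, mem_C.2 (Commute.refl b)⟩ from rfl, map_mul,
      (act_eq_one (⟨b, mem_C.2 (Commute.refl b)⟩ : ↥(centralizer ({b} : Set Q)))).2 (d.trivB b hb hb1 b hb), mul_one]
  rw [h1]
  exact d.act_oneFix _ (d.mulK p hp hp1 b hb hb1) (d.le (mul_mem (d.hA hp) (d.hB hb)))

/-- The centraliser of one four in `H` fuses the roots of the other. -/
theorem fuse (d : Sides H S K A B) (hb : Fixed S B b) (ha : a ∈ A) (ha1 : a ≠ 1) :
    ∀ x ∈ A, x ≠ 1 → ∃ j ∈ H, (∀ q ∈ B, Commute j q) ∧ j * a * j⁻¹ = x := by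
  classical
  obtain ⟨hbB, hb1, -⟩ := id hb
  obtain ⟨a', ha', ha'1, hne⟩ := d.exists_ne a
  set C := centralizer ({b} : Set Q) with hC
  letI : Fintype (↥C ⧸ H.subgroupOf C) := Fintype.ofFinite _
  have h5 : Fintype.card (↥C ⧸ H.subgroupOf C) = 5 := by
    rw [← Nat.card_eq_fintype_card]; exact d.fiveB b hbB hb1
  let P : ∀ p ∈ A, ↥C := fun p hp => ⟨p, mem_C.2 (d.comm p hp b hbB)⟩
  have hone : ∀ p (hp : p ∈ A), p ≠ 1 → Five.OneFix (act H b (P p hp)) (base H b) := fun p hp hp1 =>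
    d.oneFix hbB hb1 hp hp1
  have hmulA : a * a' = a' * a := (d.commA ha ha').eq
  have haa1 : a * a' ≠ 1 := by rw [hmulA]; exact mul_ne_one_of_ne (two (d.A2 a' ha') ha'1) hne
  have h3 : Five.OneFix (act H b (P a ha) * act H b (P a' ha')) (base H b) := by
    rw [← map_mul]; exact hone (a * a') (mul_mem ha ha') haa1
  have hne' : act H b (P a ha) ≠ act H b (P a' ha') := fun e => by
    rw [e, ← map_mul, show P a' ha' * P a' ha' = 1 from Subtype.ext (d.A2 a' ha'), map_one] at h3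
    obtain ⟨x, hx⟩ := Five.exists_avoid h5 {base H b} (by rw [Finset.card_singleton]; norm_num)
    exact Finset.notMem_singleton.1 hx (h3.uniq x rfl)
  -- an element of odd order in `H` centralising `B` and not fixing the points
  obtain ⟨l, hlH, hlo, hlB, hl1⟩ : ∃ l : ↥C, (l : Q) ∈ H ∧ Odd (orderOf l) ∧ (∀ q ∈ B, Commute (l : Q) q) ∧
      act H b l ≠ 1 := by
    obtain ⟨_, ⟨c, rfl⟩, hco, hc3, hc1⟩ := Five.exists_three h5 (act H b).range
      (fun x => Quotient.inductionOn' x fun c => ⟨_, ⟨c, rfl⟩, act_smul c⟩) ⟨_, rfl⟩ ⟨_, rfl⟩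
      (hone a ha ha1) (hone a' ha' ha'1) h3 hne'
    have hcH : (c : Q) ∈ H := (act_base c).1 hco
    obtain ⟨y, hy, hyB⟩ := d.symm.exists_normalizes hb (W := kerSub H b) le_rfl (d.symm.le_kerSub hbB hb1)
      (e := (c : Q)) fun q hq => kerSub_conj (mem_C.1 c.2) (d.symm.le_kerSub hbB hb1 hq)
    have hyC : y ∈ C := mem_C.2 (mem_kerSub.1 hy).1
    have hyH : y ∈ H := kerSub_le hy
    set n : ↥C := ⟨y, hyC⟩ * c with hn
    have hnact : act H b n = act H b c := by
      rw [hn, map_mul, (act_eq_one (⟨y, hyC⟩ : ↥C)).2 (mem_kerSub.1 hy).2, one_mul]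
    have hnH : (n : Q) ∈ H := mul_mem hyH hcH
    obtain ⟨k, m, hm, hord⟩ := Nat.exists_eq_two_pow_mul_odd (orderOf_pos n).ne'
    refine ⟨n ^ 2 ^ k, by rw [SubmonoidClass.coe_pow]; exact pow_mem hnH _, ?_, fun q hq => ?_, fun e => hc1 ?_⟩
    · rw [orderOf_pow' n (by positivity), hord, Nat.gcd_eq_right (Dvd.intro _ rfl),
        Nat.mul_div_cancel_left _ (by positivity)]
      exact hm
    · refine d.symm.commute_of_odd hbB hb1 ?_ (mem_C.1 (n ^ 2 ^ k).2) ?_ hq
      · rw [Subgroup.orderOf_coe, orderOf_pow' n (by positivity), hord, Nat.gcd_eq_right (Dvd.intro _ rfl),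
          Nat.mul_div_cancel_left _ (by positivity)]
        exact hm
      · intro x hx
        have hN : (n : Q) ∈ normalizer (B : Set Q) := mem_normalizer_fintype hyB
        rw [SubmonoidClass.coe_pow]
        exact (mem_normalizer_iff.1 (pow_mem hN (2 ^ k)) x).1 hx
    · rw [map_pow, hnact] at e
      have hcop : Nat.Coprime (2 ^ k) 3 := Nat.Coprime.pow_left k (by norm_num)
      have h4 : act H b c ^ 3 = 1 := by rw [pow_succ, pow_two]; exact hc3
      exact orderOf_eq_one_iff.1 (Nat.eq_one_of_dvd_coprimes hcop (orderOf_dvd_of_pow_eq_one e)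
        (orderOf_dvd_of_pow_eq_one h4))
  -- odd elements fixing the base point and commuting with `a` on the points fix the points
  have hrig : ∀ r : ↥C, (r : Q) ∈ H → Odd (orderOf r) →
      Commute (act H b r) (act H b (P a ha)) → act H b r = 1 := fun r hr hro hcom => by
    refine Five.eq_one_of_odd h5 (hone a ha ha1) ((act_base r).2 hr) (hro.of_dvd_nat (orderOf_map_dvd _ r))
      (Or.inl ?_)
    rw [hcom.symm.eq, mul_inv_cancel_right]
  -- each such element gives a second root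
  have step : ∀ r : ↥C, (r : Q) ∈ H → Odd (orderOf r) → (∀ q ∈ B, Commute (r : Q) q) → act H b r ≠ 1 →
      ∃ p, ∃ hp : p ∈ A, p ≠ 1 ∧ p ≠ a ∧ act H b (P p hp) = act H b (r * P a ha * r⁻¹) ∧
        ∃ j ∈ H, (∀ q ∈ B, Commute j q) ∧ j * a * j⁻¹ = p := by
    intro r hrH hro hrB hr1
    have hro' : act H b r (base H b) = base H b := (act_base r).2 hrH
    have hm1 : Five.OneFix (act H b (r * P a ha * r⁻¹)) (base H b) := by
      have h1 := hone a ha ha1
      have hinv : (act H b r).symm (base H b) = base H b := (Equiv.symm_apply_eq _).2 hro'.symm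
      rw [map_mul, map_mul, map_inv]
      refine ⟨fun x => by simp [h1.sq], by simp [hinv, h1.fix, hro'], fun x hx => ?_⟩
      have h2 := h1.uniq ((act H b r)⁻¹ x) ((act H b r).injective (by simpa using hx))
      rw [Equiv.Perm.inv_eq_iff_eq, hro'] at h2
      exact h2
    obtain ⟨p, hp, hp1, hpa, hpe⟩ : ∃ p, ∃ hp : p ∈ A, p ≠ 1 ∧ p ≠ a ∧
        act H b (P p hp) = act H b (r * P a ha * r⁻¹) := by
      rcases hm1.mem_four h5 (hone a ha ha1) (hone a' ha' ha'1) h3 hne' with e | e | e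
      · refine absurd (hrig r hrH hro ?_) hr1
        rw [map_mul, map_mul, map_inv] at e
        exact mul_inv_eq_iff_eq_mul.1 e
      · exact ⟨a', ha', ha'1, hne, e.symm⟩
      · exact ⟨a * a', mul_mem ha ha', haa1, fun e' => ha'1 (mul_eq_left.1 e'), by rw [e, ← map_mul]; rfl⟩
    refine ⟨p, hp, hp1, hpa, hpe, ?_⟩
    set m := (r : Q) * a * (r : Q)⁻¹ with hm
    have hmB : ∀ q ∈ B, Commute m q := fun q hq =>
      ((hrB q hq).mul_left (d.comm a ha q hq)).mul_left (hrB q hq).inv_left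
    have hmH : m ∈ H := mul_mem (mul_mem hrH (d.le (d.hA ha))) (inv_mem hrH)
    have hpp : p * p = 1 := d.A2 p hp
    have hpm : p * m ∈ kerSub H b := by
      refine ⟨P p hp * (r * P a ha * r⁻¹), ?_, rfl⟩
      show act H b _ = 1
      rw [map_mul, ← hpe, ← map_mul, show P p hp * P p hp = 1 from Subtype.ext hpp, map_one]
    obtain ⟨h1, h2⟩ := mem_kerSub.1 hpm
    obtain ⟨⟨y, hy, β, hβ, he⟩, -⟩ := d.symm.ker_decomp hb h1 h2
    have hββ : β * β = 1 := d.B2 β hβ
    have hye : y = p * m * β := by rw [he, mul_assoc, hββ, mul_one]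
    have hyB : ∀ q ∈ B, Commute y q := fun q hq =>
      hye ▸ ((d.comm p hp q hq).mul_left (hmB q hq)).mul_left (d.symm.commA hβ hq)
    have hyH : y ∈ H := hye ▸ mul_mem (mul_mem (d.le (d.hA hp)) hmH) (d.le (d.hB hβ))
    have hmy : m * β = p * y := by rw [hye, ← mul_assoc, ← mul_assoc, hpp, one_mul]
    have hpy : p * y * p⁻¹ = y⁻¹ := by
      have hmm : m * m = 1 := by
        rw [hm, show (r : Q) * a * (r : Q)⁻¹ * ((r : Q) * a * (r : Q)⁻¹) = (r : Q) * (a * a) * (r : Q)⁻¹ by group,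
          d.A2 a ha, mul_one, mul_inv_cancel]
      have h3 : p * y * (p * y) = 1 := by
        rw [← hmy, (hmB β hβ).symm.mul_mul_mul_comm, hmm, hββ, mul_one]
      refine eq_inv_of_mul_eq_one_left ?_
      rwa [inv_eq_of_mul_eq_one_right hpp, mul_assoc]
    set w := y ^ ((orderOf y + 1) / 2) with hw
    have hyo : Odd (orderOf y) := (coreC_odd b).of_dvd_nat (Subgroup.orderOf_dvd_natCard _ hy)
    have hww : w * w = y := by
      obtain ⟨k, hk⟩ := hyo
      rw [hw, ← pow_add, show (orderOf y + 1) / 2 + (orderOf y + 1) / 2 = orderOf y + 1 by omega, pow_succ,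
        pow_orderOf_eq_one, one_mul]
    have hpw : p * w * p⁻¹ = w⁻¹ := by rw [hw, ← conj_pow, hpy, inv_pow]
    have hwB : ∀ q ∈ B, Commute w q := fun q hq => (hyB q hq).pow_left _
    have hconj : w * (m * β) * w⁻¹ = p := by
      calc w * (m * β) * w⁻¹ = w * (p * (w * w)) * w⁻¹ := by rw [hmy, hww]
        _ = p * (p⁻¹ * w * p) * w := by group
        _ = p * (p * w * p⁻¹) * w := by rw [inv_eq_of_mul_eq_one_right hpp]
        _ = p := by rw [hpw, inv_mul_cancel_right]
    have hβ1 : β = 1 := by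
      by_contra hβ1
      refine d.notK a (Or.inl ha) ?_
      have h4 := d.Kc _ (d.mulK p hp hp1 β hβ hβ1) (w * (r : Q))⁻¹
      have h5' : p * β = (w * (r : Q)) * a * (w * (r : Q))⁻¹ := by
        calc p * β = w * (m * β) * w⁻¹ * β := by rw [hconj]
          _ = w * m * (β * w⁻¹) * β := by group
          _ = w * m * (w⁻¹ * β) * β := by rw [(hwB β hβ).inv_left.eq]
          _ = w * m * w⁻¹ * (β * β) := by group
          _ = (w * (r : Q)) * a * (w * (r : Q))⁻¹ := by rw [hββ, mul_one, hm]; group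
      rwa [h5', show (w * (r : Q))⁻¹ * (w * (r : Q) * a * (w * (r : Q))⁻¹) * (w * (r : Q))⁻¹⁻¹ = a by group] at h4
    refine ⟨w * r, mul_mem (pow_mem hyH _) hrH, fun q hq => (hwB q hq).mul_left (hrB q hq), ?_⟩
    rw [hβ1, mul_one] at hconj
    rw [show w * (r : Q) * a * (w * (r : Q))⁻¹ = w * ((r : Q) * a * (r : Q)⁻¹) * w⁻¹ by group]
    exact hconj
  obtain ⟨p, hp, hp1, hpa, hpe, hpj⟩ := step l hlH hlo hlB hl1
  obtain ⟨q, hq, hq1, hqa, hqe, hqj⟩ := step l⁻¹ (inv_mem hlH) (by rwa [orderOf_inv])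
    (fun y hy => (hlB y hy).inv_left) (by rwa [map_inv, inv_ne_one])
  have hpq : p ≠ q := by
    rintro rfl
    rw [hpe] at hqe
    simp only [map_mul, map_inv, inv_inv] at hqe
    have hsq : Commute (act H b l * act H b l) (act H b (P a ha)) := by
      calc act H b l * act H b l * act H b (P a ha) =
          act H b l * (act H b l * act H b (P a ha) * (act H b l)⁻¹) * act H b l := by group
        _ = act H b l * ((act H b l)⁻¹ * act H b (P a ha) * act H b l) * act H b l := by rw [hqe]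
        _ = act H b (P a ha) * (act H b l * act H b l) := by group
    have h1 := hrig (l * l) (mul_mem hlH hlH) (by rw [← pow_two]; exact hlo.of_dvd_nat (orderOf_pow_dvd 2))
      (by rw [map_mul]; exact hsq)
    refine hl1 (orderOf_eq_one_iff.1 (Nat.eq_one_of_dvd_coprimes
      (Nat.coprime_two_left.2 (hlo.of_dvd_nat (orderOf_map_dvd (act H b) l)))
      (orderOf_dvd_of_pow_eq_one (by rw [pow_two, ← map_mul]; exact h1)) dvd_rfl))
  intro x hx hx1
  by_cases hxa : x = a
  · exact ⟨1, one_mem _, fun q _ => Commute.one_left q, by rw [hxa]; group⟩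
  -- `p`, `q` and `a` are the three roots
  rcases d.mem_cases ha hp ha1 hp1 hpa hx with e | e | e | e
  · exact absurd e hx1
  · exact absurd e hxa
  · exact e ▸ hpj
  · rcases d.mem_cases ha hp ha1 hp1 hpa hq with e' | e' | e' | e'
    exacts [absurd e' hq1, absurd e' hqa, absurd e'.symm hpq, by rw [e, ← e']; exact hqj]

/-- The centraliser of a fixed root. -/
theorem gen_fixed (d : Sides H S K A B) (h : Fixed S A a) {c : Q} (hc : Commute c a) :
    c ∈ normGens A B S := by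
  classical
  haveI : Fact (Nat.Prime 2) := ⟨Nat.prime_two⟩
  obtain ⟨ha, ha1, -⟩ := id h
  obtain ⟨a', ha', ha'1, hne⟩ := d.exists_ne a
  have hcen : ∀ {g : Q}, (∀ p ∈ A, Commute g p) → g ∈ normGens A B S := fun hg => subset_closure (Or.inl hg)
  have hS : ∀ {g : Q}, g ∈ (S : Subgroup Q) → g ∈ normGens A B S := fun hg =>
    subset_closure (Or.inr (Or.inr (Or.inl hg)))
  obtain ⟨n, hn, hnA⟩ := d.exists_normalizes h (W := kerSub H a) le_rfl (d.le_kerSub ha ha1) (e := c)
    fun p hp => kerSub_conj hc (d.le_kerSub ha ha1 hp)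
  obtain ⟨hna, hn'⟩ := mem_kerSub.1 hn
  have hnmem : n ∈ normGens A B S := by
    obtain ⟨⟨y, hy, p, hp, e⟩, -⟩ := d.ker_decomp h hna hn'
    rw [e]
    exact mul_mem (subset_closure (Or.inr (Or.inr (Or.inr ⟨a, Or.inl ha, ha1, hy⟩))))
      (hcen fun q hq => d.commA hp hq)
  suffices hg : n * c ∈ normGens A B S by
    have := mul_mem (inv_mem hnmem) hg
    rwa [inv_mul_cancel_left] at this
  obtain ⟨g, hgdef⟩ : ∃ g, g = n * c := ⟨_, rfl⟩
  rw [← hgdef] at hnA ⊢
  have hga : Commute g a := hgdef ▸ hna.mul_left hc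
  -- only two possible actions on the four
  have himg : ∀ {g : Q}, Commute g a → (∀ p ∈ A, g * p * g⁻¹ ∈ A) → g * a' * g⁻¹ = a' ∨ g * a' * g⁻¹ = a' * a := by
    intro g hga hgA
    rcases d.mem_cases ha ha' ha1 ha'1 hne (hgA a' ha') with e | e | e | e
    · exact absurd (by simpa using e : a' = 1) ha'1
    · refine absurd ?_ hne
      calc a' = g⁻¹ * (g * a' * g⁻¹) * g := by group
        _ = a := by rw [e, mul_assoc, hga.symm.eq, inv_mul_cancel_left]
    · exact Or.inl e
    · exact Or.inr e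
  have hfix : ∀ {g : Q}, Commute g a → g * a' * g⁻¹ = a' → g ∈ normGens A B S := fun {g} hga hga' =>
    hcen fun p hp => by
      have hga'' : Commute g a' := mul_inv_eq_iff_eq_mul.1 hga'
      rcases d.mem_cases ha ha' ha1 ha'1 hne hp with e | e | e | e <;> rw [e]
      exacts [Commute.one_right g, hga, hga'', hga''.mul_right hga]
  rcases himg hga hnA with hgf | hgm
  · exact hfix hga hgf
  -- the two part of `g` gives an element of `S`
  obtain ⟨e, o, heo, he, ho, hep, hoo⟩ := exists_parts g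
  have hgN : g ∈ normalizer (A : Set Q) := mem_normalizer_fintype hnA
  have hN : ∀ {x : Q}, x ∈ zpowers g → x ∈ normalizer (A : Set Q) ∧ Commute x a := fun {x} hx => by
    obtain ⟨i, rfl⟩ := mem_zpowers_iff.1 hx
    exact ⟨zpow_mem hgN i, hga.zpow_left i⟩
  have hoa' : Commute o a' :=
    d.commute_of_odd ha ha1 hoo (hN ho).2 (fun p hp => (mem_normalizer_iff.1 (hN ho).1 p).1 hp) ha'
  have hea' : e * a' * e⁻¹ = a' * a := by
    rw [← hgm, heo, show e * o * a' * (e * o)⁻¹ = e * (o * a' * o⁻¹) * e⁻¹ by group, hoa'.eq,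
      mul_inv_cancel_right]
  set R := zpowers e ⊔ A
  have hR : IsPGroup 2 ↥R := hep.to_sup_of_normal_right'
    (IsPGroup.of_card (n := 2) (by rw [d.cardA]; norm_num)) (zpowers_le.2 (hN he).1)
  obtain ⟨k, hka, hk⟩ := d.sylow_fixed h hR (sup_le (zpowers_le.2 (mem_C.2 (hN he).2))
    fun p hp => mem_C.2 (d.commA hp ha))
  have hkA : ∀ p ∈ A, k * p * k⁻¹ ∈ A := fun p hp => by
    obtain ⟨h1, h2⟩ := mem_kerSub.1 (kerSub_conj hka (d.le_kerSub ha ha1 hp))
    exact d.kerA a ha ha1 _ (hk p (mem_sup_right hp)) h1 h2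
  set t := k * e * k⁻¹ with ht
  have htS : t ∈ (S : Subgroup Q) := hk e (mem_sup_left (mem_zpowers e))
  have hta : Commute t a := (hka.mul_left (hN he).2).mul_left hka.inv_left
  have htA := (d.keep_of_commute ha ha1 htS hta).1
  have htm : t * a' * t⁻¹ = a' * a := by
    refine (himg hta htA).resolve_left fun e' => ha1 ?_
    have hta' : Commute t a' := mul_inv_eq_iff_eq_mul.1 e'
    have hall : ∀ p ∈ A, Commute t p := fun p hp => by
      rcases d.mem_cases ha ha' ha1 ha'1 hne hp with e | e | e | e <;> rw [e]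
      exacts [Commute.one_right t, hta, hta', hta'.mul_right hta]
    have h1 := commute_conj (g := k⁻¹) (hall _ (hkA a' ha'))
    rw [ht, inv_inv, show k⁻¹ * (k * e * k⁻¹) * k = e by group, show k⁻¹ * (k * a' * k⁻¹) * k = a' by group] at h1
    rw [h1.eq, mul_inv_cancel_right] at hea'
    exact mul_eq_left.1 hea'.symm
  have h2 : t⁻¹ * g ∈ normGens A B S := hfix (hta.inv_left.mul_left hga) (by
    rw [show t⁻¹ * g * a' * (t⁻¹ * g)⁻¹ = t⁻¹ * (g * a' * g⁻¹) * t by group, hgm, ← htm]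
    group)
  have := mul_mem (hS htS) h2
  rwa [mul_inv_cancel_left] at this

end Cfsg.Agent.Invol.Core2.Sides
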