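import Cfsg.Agent.Lib.Invol.Core2.TwistSideBasics

/-!
# Two five-point components: the centraliser of a root

The pointwise stabiliser of the five points of a fixed root has a normal complement to its four, inside the core; the
centraliser is generated by the core, the centraliser of the four and the Sylow subgroup; the centraliser of the other
four fuses the roots.
-/

set_option autoImplicit false
set_option linter.unusedSectionVars false
set_option linter.style.haveILetI false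

namespace Cfsg.Agent.Invol.Core2.Sides

open Subgroup

universe v

variable {Q : Type v} [Group Q] [Finite Q] {H : Subgroup Q} {S : Sylow 2 Q} {K : Set Q} {A B : Subgroup Q}

theorem uniq_mem (d : Sides H S K A B) {z : Q} (hz : z ∈ (S : Subgroup Q)) (hz2 : orderOf z = 2)
    (hc : ∀ s ∈ (S : Subgroup Q), Commute s z) : z ∈ K := by
  classical
  obtain ⟨a, ha, ha1, hfix⟩ := d.exists_fixed
  obtain ⟨a', ha', ha'1, hne⟩ := d.exists_ne a
  obtain ⟨g, hg, hgA, hgB⟩ := d.swap
  have hnA : z ∉ A := fun h => ne_one_of_orderOf_two hz2 (d.eq_one h (by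
    have := hgA z h
    rwa [(hc g hg).eq, mul_inv_cancel_right] at this))
  have hnB : z ∉ B := fun h => ne_one_of_orderOf_two hz2 (d.eq_one (by
    have := hgB z h
    rwa [(hc g hg).eq, mul_inv_cancel_right] at this) h)
  -- the action of `z` on the five points is that of an element of `B`
  obtain ⟨b, hb, hb1, -⟩ := d.exists_ne (1 : Q) |> fun _ => d.symm.exists_ne (1 : Q)
  obtain ⟨b', hb', hb'1, hbb'⟩ := d.symm.exists_ne b
  set C := centralizer ({a} : Set Q)
  let P : ∀ y ∈ B, ↥C := fun y hy => ⟨y, mem_C.2 (d.comm a ha y hy).symm⟩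
  let Z : ↥C := ⟨z, mem_C.2 (hc a (d.hA ha)).symm⟩
  letI : Fintype (↥C ⧸ H.subgroupOf C) := Fintype.ofFinite _
  have h5 : Fintype.card (↥C ⧸ H.subgroupOf C) = 5 := by
    rw [← Nat.card_eq_fintype_card]; exact d.fiveA a ha ha1
  have hone : ∀ y (hy : y ∈ B), y ≠ 1 → Five.OneFix (act H a (P y hy)) (base H a) := fun y hy hy1 => by
    have hk : act H a (P y hy) = act H a ⟨a * y, mul_mem (mem_C.2 (Commute.refl a)) (P y hy).2⟩ := by
      rw [show (⟨a * y, mul_mem (mem_C.2 (Commute.refl a)) (P y hy).2⟩ : ↥C) =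
        ⟨a, mem_C.2 (Commute.refl a)⟩ * P y hy from rfl, map_mul,
        (act_eq_one (⟨a, mem_C.2 (Commute.refl a)⟩ : ↥C)).2 (d.trivA a ha ha1 a ha), one_mul]
    rw [hk]
    exact d.act_oneFix _ (d.mulK a ha ha1 y hy hy1) (d.le (mul_mem (d.hA ha) (d.hB hy)))
  have hcomm : ∀ y (hy : y ∈ B), act H a Z * act H a (P y hy) = act H a (P y hy) * act H a Z := fun y hy => by
    rw [← map_mul, ← map_mul]
    exact congrArg _ (Subtype.ext (hc y (d.hB hy)).eq.symm)
  have hzo : act H a Z (base H a) = base H a := (act_base Z).2 (d.le hz)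
  obtain ⟨x, hx⟩ := Five.exists_avoid h5 {base H a} (by rw [Finset.card_singleton]; norm_num)
  simp only [Finset.mem_singleton] at hx
  -- an element `q` of `B` agrees with `z` at `x`
  have hbb2 : act H a (P (b' * b) (mul_mem hb' hb)) = act H a (P b' hb') * act H a (P b hb) := by
    rw [← map_mul]; exact congrArg (act H a) (Subtype.ext rfl)
  have hb'b : b' * b ≠ 1 := mul_ne_one_of_ne (two (d.B2 b' hb') hb'1) hbb'
  have hne' : act H a (P b' hb') ≠ act H a (P b hb) := fun e => by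
    have h1 := hone (b' * b) (mul_mem hb' hb) hb'b
    rw [hbb2, e, ← map_mul, show P b hb * P b hb = 1 from Subtype.ext (d.B2 b hb), map_one] at h1
    exact hx (h1.uniq x rfl)
  obtain ⟨q, hq, hqx⟩ : ∃ q, ∃ hq : q ∈ B, act H a (P q hq) x = act H a Z x := by
    have h1 := hone b hb hb1
    have h2 := hone b' hb' hb'1
    have h3 := hone _ (mul_mem hb' hb) hb'b
    rw [hbb2] at h3
    have e1 : ∀ {w : Equiv.Perm (↥C ⧸ H.subgroupOf C)}, Five.OneFix w (base H a) → x ≠ w x ∧ base H a ≠ w x :=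
      fun {w} hw => ⟨fun e => hx (hw.uniq _ e.symm), fun e => hx (by rw [← hw.sq x, ← e, hw.fix])⟩
    have e2 : act H a (P b hb) x ≠ act H a (P b' hb') x := fun e => hne' (h2.ext_at h5 h1 hx e.symm)
    have e3 : (act H a (P b' hb') * act H a (P b hb)) x ≠ act H a (P b' hb') x := fun e =>
      (e1 h1).1 ((act H a (P b' hb')).injective e).symm
    have e4 : (act H a (P b' hb') * act H a (P b hb)) x ≠ act H a (P b hb) x := fun e =>
      (e1 h1).2 (h2.uniq (act H a (P b hb) x) e).symm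
    rcases Five.cover_of_card h5 (Ne.symm hx) (e1 h1).2 (e1 h2).2 (e1 h3).2 (e1 h1).1 (e1 h2).1 (e1 h3).1 e2 e4.symm
      e3.symm (act H a Z x) with e | e | e | e | e
    · exact absurd ((act H a Z).injective (e.trans hzo.symm)) hx
    · exact ⟨1, one_mem _, by rw [show P 1 (one_mem _) = 1 from rfl, map_one]; exact e.symm⟩
    · exact ⟨b, hb, e.symm⟩
    · exact ⟨b', hb', e.symm⟩
    · exact ⟨b' * b, mul_mem hb' hb, by rw [hbb2]; exact e.symm⟩
  -- so `z * q` is trivial on the five points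
  have htriv : act H a (P q hq * Z) = 1 := by
    set w := act H a (P q hq * Z) with hw
    have hwc : ∀ y (hy : y ∈ B), w * act H a (P y hy) = act H a (P y hy) * w := fun y hy => by
      rw [hw, ← map_mul, ← map_mul]
      refine congrArg _ (Subtype.ext ?_)
      show q * z * y = y * (q * z)
      exact ((d.symm.commA hq hy).mul_left (hc y (d.hB hy)).symm).eq
    have hwx : w x = x := by
      rw [hw, map_mul, Equiv.Perm.mul_apply, ← hqx, ← Equiv.Perm.mul_apply, ← map_mul,
        show P q hq * P q hq = 1 from Subtype.ext (d.B2 q hq), map_one]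
      rfl
    have hwy : ∀ y (hy : y ∈ B), w (act H a (P y hy) x) = act H a (P y hy) x := fun y hy => by
      rw [← Equiv.Perm.mul_apply, hwc y hy, Equiv.Perm.mul_apply, hwx]
    have hwo : w (base H a) = base H a := (act_base _).2 (mul_mem (d.le (d.hB hq)) (d.le hz))
    ext p
    have h1 := hone b hb hb1
    have h2 := hone b' hb' hb'1
    have h3 := hone _ (mul_mem hb' hb) hb'b
    have e1 : ∀ y (hy : y ∈ B), y ≠ 1 → x ≠ act H a (P y hy) x ∧ base H a ≠ act H a (P y hy) x := fun y hy hy1 =>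
      ⟨fun e => hx ((hone y hy hy1).uniq _ e.symm),
        fun e => hx (by rw [← (hone y hy hy1).sq x, ← e, (hone y hy hy1).fix])⟩
    have e2 : act H a (P b hb) x ≠ act H a (P b' hb') x := fun e => hne' (h2.ext_at h5 h1 hx e.symm)
    have e3 : act H a (P (b' * b) (mul_mem hb' hb)) x ≠ act H a (P b' hb') x := fun e => by
      rw [hbb2] at e
      exact (e1 b hb hb1).1 ((act H a (P b' hb')).injective e).symm
    have e4 : act H a (P (b' * b) (mul_mem hb' hb)) x ≠ act H a (P b hb) x := fun e => by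
      rw [hbb2] at e
      exact (e1 b hb hb1).2 (h2.uniq (act H a (P b hb) x) e).symm
    rcases Five.cover_of_card h5 (Ne.symm hx) (e1 b hb hb1).2 (e1 b' hb' hb'1).2 (e1 _ (mul_mem hb' hb) hb'b).2 (e1 b hb hb1).1
      (e1 b' hb' hb'1).1 (e1 _ (mul_mem hb' hb) hb'b).1 e2 e4.symm e3.symm p with e | e | e | e | e <;> rw [e]
    exacts [hwo, hwx, hwy b hb, hwy b' hb', hwy _ (mul_mem hb' hb)]
  have hmem := d.kerA a ha ha1 (q * z) (mul_mem (d.hB hq) hz)
    ((d.comm a ha q hq).symm.mul_left (hc a (d.hA ha)).symm) ((act_eq_one _).1 htriv)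
  by_cases hq1 : q = 1
  · exact absurd (by simpa [hq1] using hmem) hnA
  obtain ⟨p, hp, hpe⟩ : ∃ p ∈ A, z = p * q := ⟨q * z, hmem, by
    rw [mul_assoc, (hc q (d.hB hq)).symm.eq, ← mul_assoc, d.B2 q hq, one_mul]⟩
  by_cases hp1 : p = 1
  · exact absurd (by rw [hpe, hp1, one_mul]; exact hq) hnB
  exact hpe ▸ d.mulK p hp hp1 q hq hq1

variable {a b : Q}

theorem sylow_fixed (d : Sides H S K A B) (h : Fixed S A a) {R : Subgroup Q} (hR : IsPGroup 2 R)
    (hRC : R ≤ centralizer ({a} : Set Q)) : ∃ c : Q, Commute c a ∧ ∀ r ∈ R, c * r * c⁻¹ ∈ (S : Subgroup Q) := by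
  obtain ⟨b, hb, hb1, -⟩ := d.symm.exists_ne (1 : Q)
  exact d.exists_conj_sylow h (fun z hz hz2 hc => d.uniq_mem hz hz2 hc) hb hb1 R hR hRC

theorem sylow_fixed_one (d : Sides H S K A B) (h : Fixed S A a) {t : Q} (ht : orderOf t = 2) (hta : Commute t a) :
    ∃ c : Q, Commute c a ∧ c * t * c⁻¹ ∈ (S : Subgroup Q) := by
  obtain ⟨c, hc, hcr⟩ := d.sylow_fixed h (R := zpowers t)
    (IsPGroup.of_card (n := 1) (by rw [Nat.card_zpowers, ht, pow_one])) (zpowers_le.2 (mem_C.2 hta))
  exact ⟨c, hc, hcr t (mem_zpowers t)⟩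

/-- An element of odd order fixing a root and preserving its four centralises it. -/
theorem commute_of_odd (d : Sides H S K A B) (ha : a ∈ A) (ha1 : a ≠ 1) {n p : Q} (hn : Odd (orderOf n))
    (hna : Commute n a) (hnA : ∀ x ∈ A, n * x * n⁻¹ ∈ A) (hp : p ∈ A) : Commute n p := by
  by_cases hp1 : p = 1
  · exact hp1 ▸ Commute.one_right n
  by_cases hpa : p = a
  · exact hpa ▸ hna
  have hsq : n * n * p * (n * n)⁻¹ = p := by
    have hne : ∀ x, n * x * n⁻¹ = 1 → x = 1 := fun x e => by simpa using e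
    have hna' : ∀ x, n * x * n⁻¹ = a → x = a := fun x e => by
      calc x = n⁻¹ * (n * x * n⁻¹) * n := by group
        _ = a := by rw [e, mul_assoc, hna.symm.eq, inv_mul_cancel_left]
    rcases d.mem_cases ha hp ha1 hp1 hpa (hnA p hp) with e | e | e | e
    · exact absurd (hne p e) hp1
    · exact absurd (hna' p e) hpa
    · rw [show n * n * p * (n * n)⁻¹ = n * (n * p * n⁻¹) * n⁻¹ by group, e, e]
    · rw [show n * n * p * (n * n)⁻¹ = n * (n * p * n⁻¹) * n⁻¹ by group, e,
        show n * (p * a) * n⁻¹ = n * p * n⁻¹ * (n * a * n⁻¹) by group, e, hna.eq, mul_inv_cancel_right, mul_assoc,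
        d.A2 a ha, mul_one]
  have h1 := (show Commute (n * n) p from mul_inv_eq_iff_eq_mul.1 hsq).pow_left ((orderOf n + 1) / 2)
  rwa [← eq_pow_sq hn (pow_orderOf_eq_one n)] at h1

/-- The pointwise stabiliser of the five points: its elements are products of the core and the four. -/
theorem ker_decomp (d : Sides H S K A B) (h : Fixed S A a) {n : Q} (hna : Commute n a)
    (hn : ∀ c : Q, Commute c a → c⁻¹ * n * c ∈ H) :
    (∃ y ∈ coreC a, ∃ p ∈ A, n = y * p) ∧ (Odd (orderOf n) → n ∈ coreC a) := by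
  classical
  haveI : Fact (Nat.Prime 2) := ⟨Nat.prime_two⟩
  obtain ⟨ha, ha1, -⟩ := id h
  set C := centralizer ({a} : Set Q) with hC
  set N := (act H a).ker
  have hAC : A ≤ C := fun x hx => mem_C.2 (d.commA hx ha)
  have hAN : A.subgroupOf C ≤ N := fun x hx => (act_eq_one x).2 (d.trivA a ha ha1 x hx)
  have hAp : IsPGroup 2 ↥(A.subgroupOf C) :=
    IsPGroup.of_card (n := 2) (by rw [Nat.card_congr (subgroupOfEquivOfLe hAC).toEquiv, d.cardA]; norm_num)
  obtain ⟨R, hR⟩ := (hAp.comap_subtype (K := N)).exists_le_sylow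
  -- the Sylow subgroup of the stabiliser is the four
  have hReq : (R : Subgroup ↥N) = (A.subgroupOf C).subgroupOf N := by
    refine (eq_of_le_of_card_ge hR ?_).symm
    set R' := ((R : Subgroup ↥N).map N.subtype).map C.subtype
    obtain ⟨c, hca, hcr⟩ := d.sylow_fixed h (R := R') ((R.isPGroup'.map _).map _) (map_subtype_le _)
    have hle : R'.map (MulAut.conj c).toMonoidHom ≤ A := by
      rintro _ ⟨r, hr, rfl⟩
      obtain ⟨r₁, ⟨r₀, -, rfl⟩, rfl⟩ := id hr
      have hcc : (⟨c, mem_C.2 hca⟩ : ↥C) * (r₀ : ↥C) * (⟨c, mem_C.2 hca⟩ : ↥C)⁻¹ ∈ N :=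
        (act H a).normal_ker.conj_mem _ r₀.2 _
      exact d.kerA a ha ha1 _ (hcr _ hr) (mem_C.1 ((⟨c, mem_C.2 hca⟩ : ↥C) * (r₀ : ↥C) * (⟨c, mem_C.2 hca⟩ : ↥C)⁻¹).2)
        ((act_eq_one _).1 hcc)
    have h1 := card_le_of_le hle
    rw [card_map_of_injective (MulAut.conj c).injective, card_map_of_injective C.subtype_injective,
      card_map_of_injective N.subtype_injective, d.cardA] at h1
    show Nat.card (R : Subgroup ↥N) ≤ Nat.card ((A.subgroupOf C).subgroupOf N)
    rwa [Nat.card_congr (subgroupOfEquivOfLe hAN).toEquiv, Nat.card_congr (subgroupOfEquivOfLe hAC).toEquiv, d.cardA]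
  have hRmem : ∀ x : ↥N, x ∈ (R : Subgroup ↥N) ↔ ((x : ↥C) : Q) ∈ A := fun x => by
    rw [hReq, mem_subgroupOf, mem_subgroupOf]
  have hNC : normalizer ((R : Subgroup ↥N) : Set ↥N) ≤ centralizer (R : Set ↥N) := by
    intro x hx
    refine mem_centralizer_iff.2 fun r hr => ?_
    -- the odd part centralises, the two part lies in the four
    obtain ⟨k, m, hm, hord⟩ := Nat.exists_eq_pow_mul_and_not_dvd (orderOf_pos x).ne' 2 (by norm_num)
    have hm' : Odd m := Nat.odd_iff.2 (Nat.two_dvd_ne_zero.1 hm)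
    have hx1 : x ^ m ∈ (R : Subgroup ↥N) := by
      have hz : IsPGroup 2 ↥(zpowers (x ^ m)) := by
        refine IsPGroup.of_card (n := k) ?_
        rw [Nat.card_zpowers, orderOf_pow' x (by rintro rfl; simp at hm), hord,
          Nat.gcd_eq_right (Dvd.intro_left _ rfl), Nat.mul_div_cancel _ (Nat.pos_of_ne_zero (by rintro rfl; simp at hm))]
      have h1 : IsPGroup 2 ↥(zpowers (x ^ m) ⊔ (R : Subgroup ↥N) : Subgroup ↥N) :=
        hz.to_sup_of_normal_right' R.isPGroup' (zpowers_le.2 (pow_mem hx _))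
      rw [← R.is_maximal' h1 le_sup_right]
      exact mem_sup_left (mem_zpowers _)
    have hodd : Odd (orderOf (x ^ 2 ^ k)) := by
      rw [orderOf_pow' x (by positivity), hord, Nat.gcd_eq_right (Dvd.intro _ rfl),
        Nat.mul_div_cancel_left _ (by positivity)]
      exact hm'
    have hc2 : Commute (x ^ 2 ^ k) r := by
      refine Subtype.ext (Subtype.ext (d.commute_of_odd ha ha1 (n := (((x ^ 2 ^ k : ↥N) : ↥C) : Q))
        (by rwa [Subgroup.orderOf_coe, Subgroup.orderOf_coe]) (mem_C.1 ((x ^ 2 ^ k : ↥N) : ↥C).2) (fun p hp => ?_)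
        ((hRmem r).1 hr)).eq)
      exact (hRmem _).1 ((mem_normalizer_iff.1 (pow_mem hx (2 ^ k))
        ⟨⟨p, hAC hp⟩, hAN (show (⟨p, hAC hp⟩ : ↥C) ∈ A.subgroupOf C from hp)⟩).1 ((hRmem _).2 hp))
    have hc1 : Commute (x ^ m) r :=
      Subtype.ext (Subtype.ext (d.commA ((hRmem _).1 hx1) ((hRmem r).1 hr)).eq)
    obtain ⟨α, β, hab⟩ : ∃ α β : ℤ, α * (m : ℤ) + β * ((2 ^ k : ℕ) : ℤ) = 1 := by
      have hcop : Nat.Coprime m (2 ^ k) := (Nat.coprime_two_right.2 hm').pow_right k
      exact ⟨Nat.gcdA m (2 ^ k), Nat.gcdB m (2 ^ k), by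
        have := Nat.gcd_eq_gcd_ab m (2 ^ k)
        rw [hcop] at this
        push_cast at this ⊢
        linarith⟩
    have hx' : x = (x ^ m) ^ α * (x ^ 2 ^ k) ^ β := by
      rw [← zpow_natCast, ← zpow_natCast, ← zpow_mul, ← zpow_mul, ← zpow_add, mul_comm (m : ℤ),
        mul_comm ((2 ^ k : ℕ) : ℤ), hab, zpow_one]
    rw [hx']
    exact (((hc1.zpow_left α).mul_left (hc2.zpow_left β)).eq).symm
  have hcompl := MonoidHom.ker_transferSylow_isComplement' R hNC
  set M := (MonoidHom.transferSylow R hNC).ker with hM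
  have hMn : M.Normal := (MonoidHom.transferSylow R hNC).normal_ker
  have hMcard : Odd (Nat.card M) := by
    rw [← hcompl.index_eq_card]
    exact Nat.odd_iff.2 (Nat.two_dvd_ne_zero.1 R.not_dvd_index)
  have hoddM : ∀ x : ↥N, Odd (orderOf x) → x ∈ M := fun x hx => by
    rw [hM, MonoidHom.mem_ker]
    obtain ⟨j, hj⟩ := IsPGroup.iff_orderOf.1 R.isPGroup' (MonoidHom.transferSylow R hNC x)
    have h1 := hx.of_dvd_nat (orderOf_map_dvd (MonoidHom.transferSylow R hNC) x)
    rw [hj] at h1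
    rcases j with _ | j
    · exact orderOf_eq_one_iff.1 (by rw [hj, pow_zero])
    · exact absurd h1 (Nat.not_odd_iff_even.2 ((Nat.even_pow).2 ⟨even_two, j.succ_ne_zero⟩))
  have hMcore : (M.map N.subtype).map C.subtype ≤ coreC a := by
    refine Grp.le_centralizerPPrimeCore (fun y hy => (mem_C.1 (map_subtype_le _ hy)).eq) (fun c hc => ?_) ?_
    · rintro _ ⟨_, ⟨y, hy, rfl⟩, rfl⟩
      have hcN : (⟨c, mem_C.2 hc⟩ : ↥C) * (y : ↥C) * (⟨c, mem_C.2 hc⟩ : ↥C)⁻¹ ∈ N :=
        (act H a).normal_ker.conj_mem _ y.2 _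
      refine ⟨_, mem_map_of_mem _ (hoddM ⟨_, hcN⟩ ?_), rfl⟩
      rw [← Subgroup.orderOf_coe, orderOf_conj_eq, Subgroup.orderOf_coe]
      exact hMcard.of_dvd_nat (M.orderOf_dvd_natCard hy)
    · rw [card_map_of_injective C.subtype_injective, card_map_of_injective N.subtype_injective]
      exact Nat.coprime_two_right.2 hMcard
  have hnN : (⟨n, mem_C.2 hna⟩ : ↥C) ∈ N := (act_eq_one _).2 hn
  refine ⟨?_, fun hodd => ?_⟩
  · obtain ⟨⟨y, p⟩, hyp, -⟩ := hcompl.existsUnique (⟨_, hnN⟩ : ↥N)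
    refine ⟨_, hMcore (mem_map_of_mem _ (mem_map_of_mem _ y.2)), _, (hRmem p.1).1 p.2, ?_⟩
    exact congrArg (fun w : ↥N => ((w : ↥C) : Q)) hyp.symm
  · refine hMcore (mem_map_of_mem C.subtype (mem_map_of_mem N.subtype (hoddM ⟨_, hnN⟩ ?_)) : _)
    rw [← Subgroup.orderOf_coe, ← Subgroup.orderOf_coe]
    exact hodd

/-- Odd elements centralising or, in `H`, inverted by a member of `K` lie in the core. -/
theorem core_of_odd (d : Sides H S K A B) (h : Fixed S A a) {k z : Q} (hk : k ∈ K) (hkH : k ∈ H) (hka : Commute k a)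
    (hzo : Odd (orderOf z)) (hza : Commute z a) (hz : Commute z k ∨ z ∈ H ∧ k * z * k⁻¹ = z⁻¹) : z ∈ coreC a := by
  classical
  set C := centralizer ({a} : Set Q) with hC
  letI : Fintype (↥C ⧸ H.subgroupOf C) := Fintype.ofFinite _
  have h5 : Fintype.card (↥C ⧸ H.subgroupOf C) = 5 := by
    rw [← Nat.card_eq_fintype_card]; exact d.fiveA a h.1 h.2.1
  set Z : ↥C := ⟨z, mem_C.2 hza⟩
  set P : ↥C := ⟨k, mem_C.2 hka⟩
  have hone := d.act_oneFix P hk hkH
  have hZ : act H a Z (base H a) = base H a := by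
    rcases hz with hz | hz
    · refine hone.uniq _ ?_
      rw [← Equiv.Perm.mul_apply, ← map_mul, show P * Z = Z * P from Subtype.ext hz.symm.eq, map_mul,
        Equiv.Perm.mul_apply, hone.fix]
    · exact (act_base Z).2 hz.1
  have h1 : act H a Z = 1 := by
    refine Five.eq_one_of_odd h5 hone hZ ((?_ : Odd (orderOf Z)).of_dvd_nat (orderOf_map_dvd (act H a) Z)) ?_
    · rwa [← Subgroup.orderOf_coe]
    · rcases hz with hz | hz
      · refine Or.inl ?_
        rw [← map_inv, ← map_mul, ← map_mul]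
        exact congrArg _ (Subtype.ext (by show k * z * k⁻¹ = z; rw [hz.symm.eq, mul_inv_cancel_right]))
      · refine Or.inr ?_
        rw [← map_inv, ← map_inv, ← map_mul, ← map_mul]
        exact congrArg _ (Subtype.ext hz.2)
  exact (d.ker_decomp h hza ((act_eq_one Z).1 h1)).2 hzo

end Cfsg.Agent.Invol.Core2.Sides
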