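import Cfsg.Agent.Lib.Invol.Core2.TwistSideFuse

/-!
# Two five-point components: the outer involutions

An involution of `S` centralising a fixed root and lying neither in a four nor in `K` fixes three of the five points;
it is unique modulo the four and the other fixed root, and its centraliser in that of the root moves the base point.
-/

set_option autoImplicit false
set_option linter.unusedSectionVars false
set_option linter.style.haveILetI false

namespace Cfsg.Agent.Invol.Core2.Sides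

open Subgroup

universe v

variable {Q : Type v} [Group Q] [Finite Q] {H : Subgroup Q} {S : Sylow 2 Q} {K : Set Q} {A B : Subgroup Q} {a b z : Q}

/-- An involution of `S` outside the two fours and `K`. -/
def Outer (S : Sylow 2 Q) (K : Set Q) (A B : Subgroup Q) (z : Q) : Prop :=
  z ∈ (S : Subgroup Q) ∧ orderOf z = 2 ∧ z ∉ A ∧ z ∉ B ∧ z ∉ K

theorem Outer.symm (hz : Outer S K A B z) : Outer S K B A z :=
  ⟨hz.1, hz.2.1, hz.2.2.2.1, hz.2.2.1, hz.2.2.2.2⟩

theorem Outer.conj (d : Sides H S K A B) {g : Q} (hg : g ∈ (S : Subgroup Q)) (hz : Outer S K A B z) :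
    Outer S K A B (g * z * g⁻¹) := by
  obtain ⟨hzS, hz2, hzA, hzB, hzK⟩ := hz
  have hback : g⁻¹ * (g * z * g⁻¹) * g⁻¹⁻¹ = z := by group
  refine ⟨mul_mem (mul_mem hg hzS) (inv_mem hg), by rw [orderOf_conj_eq, hz2], fun h => ?_, fun h => ?_,
    fun h => hzK ?_⟩
  · rcases d.stab g⁻¹ (inv_mem hg) with hc | hc
    exacts [hzA (hback ▸ hc.1 _ h), hzB (hback ▸ hc.1 _ h)]
  · rcases d.stab g⁻¹ (inv_mem hg) with hc | hc
    exacts [hzB (hback ▸ hc.2 _ h), hzA (hback ▸ hc.2 _ h)]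
  · exact hback ▸ d.Kc _ h g⁻¹

/-- An outer involution does not act like a root of the other four. -/
theorem outer_ne (d : Sides H S K A B) (h : Fixed S A a) (hz : Outer S K A B z) (hza : Commute z a) {y : Q}
    (hy : y ∈ B) (hya : Commute y a) : act H a ⟨z, mem_C.2 hza⟩ ≠ act H a ⟨y, mem_C.2 hya⟩ := by
  intro e
  obtain ⟨hzS, -, hzA, hzB, hzK⟩ := hz
  have hyy := d.B2 y hy
  have h1 : act H a (⟨z, mem_C.2 hza⟩ * ⟨y, mem_C.2 hya⟩) = 1 := by
    rw [map_mul, e, ← map_mul, show (⟨y, mem_C.2 hya⟩ : ↥(centralizer ({a} : Set Q))) * ⟨y, mem_C.2 hya⟩ = 1 from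
      Subtype.ext hyy, map_one]
  have h2 := d.kerA a h.1 h.2.1 (z * y) (mul_mem hzS (d.hB hy)) (hza.mul_left hya) ((act_eq_one _).1 h1)
  have hze : z = z * y * y := by rw [mul_assoc, hyy, mul_one]
  by_cases hy1 : y = 1
  · exact hzA (by rwa [hy1, mul_one] at h2)
  by_cases hp1 : z * y = 1
  · exact hzB (by rw [hze, hp1, one_mul]; exact hy)
  exact hzK (hze ▸ d.mulK _ h2 hp1 y hy hy1)

/-- An outer involution fixes a second point. -/
theorem outer_fix (d : Sides H S K A B) (h : Fixed S A a) (hb : b ∈ B) (hb1 : b ≠ 1) (hz : Outer S K A B z)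
    (hza : Commute z a) : ∃ c : Q, Commute c a ∧ c ∉ H ∧ c⁻¹ * z * c ∈ H := by
  classical
  obtain ⟨ha, ha1, -⟩ := id h
  set C := centralizer ({a} : Set Q)
  letI : Fintype (↥C ⧸ H.subgroupOf C) := Fintype.ofFinite _
  have h5 : Fintype.card (↥C ⧸ H.subgroupOf C) = 5 := by
    rw [← Nat.card_eq_fintype_card]; exact d.fiveA a ha ha1
  set Z : ↥C := ⟨z, mem_C.2 hza⟩ with hZ
  by_contra hcon
  push Not at hcon
  have hzf : Five.OneFix (act H a Z) (base H a) := by
    refine ⟨fun x => ?_, (act_base Z).2 (d.le hz.1), fun x => Quotient.inductionOn' x fun c hc => ?_⟩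
    · have h1 : Z * Z = 1 := Subtype.ext (mul_self_of_orderOf_two hz.2.1)
      have h2 := congrArg (fun f : Equiv.Perm _ => f x) ((map_mul (act H a) Z Z).symm.trans (by rw [h1, map_one]))
      simpa using h2
    · have h1 := (act_fix Z c).1 hc
      have h2 : (c : Q) ∈ H := by
        by_contra hcH
        exact hcon c (mem_C.1 c.2) hcH h1
      exact QuotientGroup.eq.2 (by simpa [mem_subgroupOf] using inv_mem h2)
  obtain ⟨b', hb', hb'1, hbb'⟩ := d.symm.exists_ne b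
  have hb'b : b' * b ≠ 1 := mul_ne_one_of_ne (two (d.B2 b' hb') hb'1) hbb'
  have hone : ∀ y (hy : y ∈ B), y ≠ 1 → Five.OneFix (act H a ⟨y, mem_C.2 (d.comm a ha y hy).symm⟩) (base H a) :=
    fun y hy hy1 => d.symm.oneFix ha ha1 hy hy1
  have hmul : act H a ⟨b' * b, mem_C.2 (d.comm a ha _ (mul_mem hb' hb)).symm⟩ =
      act H a ⟨b', mem_C.2 (d.comm a ha b' hb').symm⟩ * act H a ⟨b, mem_C.2 (d.comm a ha b hb).symm⟩ := by
    rw [← map_mul]; rfl
  have h3 := hone _ (mul_mem hb' hb) hb'b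
  rw [hmul] at h3
  have hne : act H a ⟨b', mem_C.2 (d.comm a ha b' hb').symm⟩ ≠ act H a ⟨b, mem_C.2 (d.comm a ha b hb).symm⟩ :=
    fun e => by
      obtain ⟨x, hx⟩ := Five.exists_avoid h5 {base H a} (by rw [Finset.card_singleton]; norm_num)
      rw [e] at h3
      exact Finset.notMem_singleton.1 hx (h3.uniq x ((hone b hb hb1).sq x))
  rcases hzf.mem_four h5 (hone b' hb' hb'1) (hone b hb hb1) h3 hne with e | e | e
  · exact d.outer_ne h hz hza hb' (d.comm a ha b' hb').symm e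
  · exact d.outer_ne h hz hza hb (d.comm a ha b hb).symm e
  · exact d.outer_ne h hz hza (mul_mem hb' hb) (d.comm a ha _ (mul_mem hb' hb)).symm (e.trans hmul.symm)

/-- An outer involution moves each of the other roots of the other four. -/
theorem outer_moves (d : Sides H S K A B) (h : Fixed S A a) (hb : b ∈ B) (hb1 : b ≠ 1) (hz : Outer S K A B z)
    (hza : Commute z a) (hzb : Commute z b) {b' : Q} (hb' : b' ∈ B) (hb'1 : b' ≠ 1) (hne : b' ≠ b) :
    b' * z * b'⁻¹ = z * b := by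
  classical
  obtain ⟨ha, ha1, -⟩ := id h
  have hkeep := (d.keep_of_commute ha ha1 hz.1 hza).2
  have hzz := mul_self_of_orderOf_two hz.2.1
  have hnc : ¬ Commute z b' := by
    intro hzb'
    set C := centralizer ({a} : Set Q)
    letI : Fintype (↥C ⧸ H.subgroupOf C) := Fintype.ofFinite _
    have h5 : Fintype.card (↥C ⧸ H.subgroupOf C) = 5 := by
      rw [← Nat.card_eq_fintype_card]; exact d.fiveA a ha ha1
    obtain ⟨c, hca, hcH, hcz⟩ := d.outer_fix h hb hb1 hz hza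
    set x : ↥C ⧸ H.subgroupOf C := QuotientGroup.mk ⟨c, mem_C.2 hca⟩
    set w := act H a ⟨z, mem_C.2 hza⟩
    have hwx : w x = x := (act_fix _ _).2 hcz
    have hxo : x ≠ base H a := fun e => hcH (by
      have h1 := QuotientGroup.eq.1 e
      simpa [mem_subgroupOf] using h1)
    have hwo : w (base H a) = base H a := (act_base _).2 (d.le hz.1)
    have hone : ∀ y (hy : y ∈ B), y ≠ 1 → Five.OneFix (act H a ⟨y, mem_C.2 (d.comm a ha y hy).symm⟩) (base H a) :=
      fun y hy hy1 => d.symm.oneFix ha ha1 hy hy1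
    have hwy : ∀ y (hy : y ∈ B), Commute z y →
        w (act H a ⟨y, mem_C.2 (d.comm a ha y hy).symm⟩ x) = act H a ⟨y, mem_C.2 (d.comm a ha y hy).symm⟩ x := by
      intro y hy hzy
      rw [← Equiv.Perm.mul_apply, ← map_mul, show (⟨z, mem_C.2 hza⟩ : ↥C) * ⟨y, mem_C.2 (d.comm a ha y hy).symm⟩ =
        ⟨y, mem_C.2 (d.comm a ha y hy).symm⟩ * ⟨z, mem_C.2 hza⟩ from Subtype.ext hzy.eq, map_mul,
        Equiv.Perm.mul_apply, hwx]
    have hb'b : b' * b ≠ 1 := mul_ne_one_of_ne (two (d.B2 b' hb') hb'1) hne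
    obtain ⟨e11, e12⟩ : x ≠ act H a ⟨b, mem_C.2 (d.comm a ha b hb).symm⟩ x ∧
        base H a ≠ act H a ⟨b, mem_C.2 (d.comm a ha b hb).symm⟩ x :=
      ⟨fun e => hxo ((hone b hb hb1).uniq _ e.symm),
        fun e => hxo (by rw [← (hone b hb hb1).sq x, ← e, (hone b hb hb1).fix])⟩
    obtain ⟨e21, e22⟩ : x ≠ act H a ⟨b', mem_C.2 (d.comm a ha b' hb').symm⟩ x ∧
        base H a ≠ act H a ⟨b', mem_C.2 (d.comm a ha b' hb').symm⟩ x :=
      ⟨fun e => hxo ((hone b' hb' hb'1).uniq _ e.symm),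
        fun e => hxo (by rw [← (hone b' hb' hb'1).sq x, ← e, (hone b' hb' hb'1).fix])⟩
    have hb'b' := mul_mem hb' hb
    obtain ⟨e31, e32⟩ : x ≠ act H a ⟨b' * b, mem_C.2 (d.comm a ha _ hb'b').symm⟩ x ∧
        base H a ≠ act H a ⟨b' * b, mem_C.2 (d.comm a ha _ hb'b').symm⟩ x :=
      ⟨fun e => hxo ((hone _ hb'b' hb'b).uniq _ e.symm),
        fun e => hxo (by rw [← (hone _ hb'b' hb'b).sq x, ← e, (hone _ hb'b' hb'b).fix])⟩
    have hmul : act H a ⟨b' * b, mem_C.2 (d.comm a ha _ hb'b').symm⟩ =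
        act H a ⟨b', mem_C.2 (d.comm a ha b' hb').symm⟩ * act H a ⟨b, mem_C.2 (d.comm a ha b hb).symm⟩ := by
      rw [← map_mul]; rfl
    have e4 : act H a ⟨b, mem_C.2 (d.comm a ha b hb).symm⟩ x ≠ act H a ⟨b', mem_C.2 (d.comm a ha b' hb').symm⟩ x :=
      fun e => e31 (by rw [hmul, Equiv.Perm.mul_apply, e, (hone b' hb' hb'1).sq])
    have e5 : act H a ⟨b, mem_C.2 (d.comm a ha b hb).symm⟩ x ≠
        act H a ⟨b' * b, mem_C.2 (d.comm a ha _ hb'b').symm⟩ x := fun e => e12 (by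
      rw [hmul, Equiv.Perm.mul_apply] at e
      exact ((hone b' hb' hb'1).uniq _ e.symm).symm)
    have e6 : act H a ⟨b', mem_C.2 (d.comm a ha b' hb').symm⟩ x ≠
        act H a ⟨b' * b, mem_C.2 (d.comm a ha _ hb'b').symm⟩ x := fun e => e11 (by
      rw [hmul, Equiv.Perm.mul_apply] at e
      exact (act H a ⟨b', mem_C.2 (d.comm a ha b' hb').symm⟩).injective e)
    refine d.outer_ne h hz hza (one_mem B) (Commute.one_left a) ?_
    rw [show (⟨1, mem_C.2 (Commute.one_left a)⟩ : ↥C) = 1 from rfl, map_one]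
    ext p
    rcases Five.cover_of_card h5 (Ne.symm hxo) e12 e22 e32 e11 e21 e31 e4 e5 e6 p with e | e | e | e | e <;>
      rw [e]
    exacts [hwo, hwx, hwy b hb hzb, hwy b' hb' hzb', hwy _ hb'b' (hzb'.mul_right hzb)]
  have himg : z * b' * z⁻¹ = b' * b := by
    rcases d.symm.mem_cases hb hb' hb1 hb'1 hne (hkeep b' hb') with e | e | e | e
    · exact absurd (by simpa using e : b' = 1) hb'1
    · refine absurd ?_ hne
      calc b' = z⁻¹ * (z * b' * z⁻¹) * z := by group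
        _ = b := by rw [e, mul_assoc, hzb.symm.eq, inv_mul_cancel_left]
    · exact absurd (mul_inv_eq_iff_eq_mul.1 e) hnc
    · exact e
  calc b' * z * b'⁻¹ = z * (z⁻¹ * b' * z) * b'⁻¹ := by group
    _ = z * (z * b' * z⁻¹) * b'⁻¹ := by rw [inv_eq_of_mul_eq_one_right hzz]
    _ = z * (b * b') * b'⁻¹ := by rw [himg, (d.symm.commA hb' hb).eq]
    _ = z * b := by group

/-- Two outer involutions agree up to the four and the fixed root of the other one. -/
theorem outer_pair (d : Sides H S K A B) (h : Fixed S A a) (hb : b ∈ B) (hb1 : b ≠ 1) {w : Q}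
    (hz : Outer S K A B z) (hza : Commute z a) (hzb : Commute z b) (hw : Outer S K A B w) (hwa : Commute w a)
    (hwb : Commute w b) : z * w ∈ A ∨ z * w * b ∈ A := by
  classical
  obtain ⟨ha, ha1, -⟩ := id h
  set C := centralizer ({a} : Set Q)
  letI : Fintype (↥C ⧸ H.subgroupOf C) := Fintype.ofFinite _
  have h5 : Fintype.card (↥C ⧸ H.subgroupOf C) = 5 := by
    rw [← Nat.card_eq_fintype_card]; exact d.fiveA a ha ha1
  let Z : ↥C := ⟨z, mem_C.2 hza⟩
  let W : ↥C := ⟨w, mem_C.2 hwa⟩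
  let B' : ↥C := ⟨b, mem_C.2 (d.comm a ha b hb).symm⟩
  have hne : ∀ {x : Q} (hx : Outer S K A B x) (hxa : Commute x a), act H a ⟨x, mem_C.2 hxa⟩ ≠ 1 := fun hx hxa e =>
    d.outer_ne h hx hxa (one_mem B) (Commute.one_left a) (e.trans (map_one (act H a)).symm)
  have hpt : ∀ {x : Q} (hx : Outer S K A B x) (hxa : Commute x a),
      ∃ p, p ≠ base H a ∧ act H a ⟨x, mem_C.2 hxa⟩ p = p := fun {x} hx hxa => by
    obtain ⟨c, hca, hcH, hcx⟩ := d.outer_fix h hb hb1 hx hxa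
    refine ⟨QuotientGroup.mk ⟨c, mem_C.2 hca⟩, fun e => hcH ?_, (act_fix _ _).2 hcx⟩
    have h1 := QuotientGroup.eq.1 e
    simpa [mem_subgroupOf] using h1
  obtain ⟨p, hp, hzp⟩ := hpt hz hza
  obtain ⟨q, hq, hwq⟩ := hpt hw hwa
  have hzz : Z * Z = 1 := Subtype.ext (mul_self_of_orderOf_two hz.2.1)
  have hcomm : ∀ {X : ↥C}, Commute (X : Q) b → ∀ r, act H a X (act H a B' r) = act H a B' (act H a X r) :=
    fun {X} hX r => by
      rw [← Equiv.Perm.mul_apply, ← map_mul, show X * B' = B' * X from Subtype.ext hX.eq, map_mul,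
        Equiv.Perm.mul_apply]
  have hkill : ∀ {X : ↥C}, act H a X = 1 → (X : Q) ∈ (S : Subgroup Q) → (X : Q) ∈ A := fun {X} e hX =>
    d.kerA a ha ha1 _ hX (mem_C.1 X.2) ((act_eq_one X).1 e)
  rcases Five.eq_or_eq_mul h5 (d.symm.oneFix ha ha1 hb hb1) ((act_base Z).2 (d.le hz.1)) ((act_base W).2 (d.le hw.1))
    (fun r => by rw [← Equiv.Perm.mul_apply, ← map_mul, hzz, map_one]; rfl) (hcomm hzb) (hcomm hwb) (hne hz hza)
    (hne hw hwa) hp hzp hq hwq with e | e
  · refine Or.inl (hkill (X := Z * W) ?_ (mul_mem hz.1 hw.1))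
    rw [map_mul, e, ← map_mul, hzz, map_one]
  · refine Or.inr (hkill (X := Z * W * B') ?_ (mul_mem (mul_mem hz.1 hw.1) (d.hB hb)))
    rw [map_mul, map_mul, e, ← mul_assoc, ← map_mul, hzz, map_one, one_mul, ← map_mul,
      show B' * B' = 1 from Subtype.ext (d.B2 b hb), map_one]

/-- The involutions of `C(a) ∩ H` go into `S`. -/
theorem into (d : Sides H S K A B) (h : Fixed S A a) {t : Q} (ht : orderOf t = 2) (htH : t ∈ H)
    (hta : Commute t a) : ∃ k ∈ H, Commute k a ∧ k * t * k⁻¹ ∈ (S : Subgroup Q) := by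
  haveI : Fact (Nat.Prime 2) := ⟨Nat.prime_two⟩
  set L := H ⊓ centralizer ({a} : Set Q)
  set T1 := (S : Subgroup Q) ⊓ centralizer ({a} : Set Q)
  have hTL : T1 ≤ L := inf_le_inf_right _ d.le
  obtain ⟨P, hP⟩ := ((S.isPGroup'.to_le (inf_le_left : T1 ≤ (S : Subgroup Q))).comap_subtype
    (K := L)).exists_le_sylow
  set P' := (P : Subgroup ↥L).map L.subtype
  have hTP : T1 ≤ P' := fun x hx => ⟨⟨x, hTL hx⟩, hP hx, rfl⟩
  obtain ⟨e, hea, he⟩ := d.sylow_fixed h (P.isPGroup'.map L.subtype) ((map_subtype_le _).trans inf_le_right)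
  have hle : P'.map (MulAut.conj e).toMonoidHom ≤ T1 := by
    rintro _ ⟨x, hx, rfl⟩
    refine ⟨he x hx, mem_C.2 ?_⟩
    exact (hea.mul_left (mem_C.1 (map_subtype_le _ hx).2)).mul_left hea.inv_left
  have hPT : P' = T1 := by
    refine (eq_of_le_of_card_ge hTP ?_).symm
    have h1 := card_le_of_le hle
    rwa [card_map_of_injective (MulAut.conj e).injective] at h1
  obtain ⟨k, hk⟩ := exists_conj_mem_sylow (x := (⟨t, ⟨htH, mem_C.2 hta⟩⟩ : ↥L)) (p := 2) (n := 1)
    (by rw [← Subgroup.orderOf_coe, pow_one]; exact ht) P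
  exact ⟨k, k.2.1, mem_C.1 k.2.2, (hPT.le (mem_map_of_mem L.subtype hk)).1⟩

/-- One of `e * e` and `e * b * e` moves the base point. -/
theorem exists_square (d : Sides H S K A B) (ha : a ∈ A) (ha1 : a ≠ 1) (hb : b ∈ B) (hb1 : b ≠ 1) {e w w' : Q}
    (hea : Commute e a) (heH : e ∉ H) (hw : e * w * e⁻¹ = w') (hw' : Commute b w') :
    ∃ f : Q, Commute f a ∧ f ∉ H ∧ f * w * f⁻¹ = e * w' * e⁻¹ := by
  by_cases h1 : e * e ∈ H
  · refine ⟨e * b * e, (hea.mul_left (d.comm a ha b hb).symm).mul_left hea, fun h2 => heH ?_, ?_⟩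
    · have hk := d.mulK a ha ha1 b hb hb1
      have hkH : a * b ∈ H := d.le (mul_mem (d.hA ha) (d.hB hb))
      refine inv_mem_iff.1 (d.fix _ hk hkH e⁻¹ ?_)
      rw [inv_inv, show e⁻¹ * (a * b) * e = e⁻¹ * a * e * ((e * e)⁻¹ * (e * b * e)) by group,
        mul_assoc e⁻¹ a e, hea.symm.eq, inv_mul_cancel_left]
      exact mul_mem (d.le (d.hA ha)) (mul_mem (inv_mem h1) h2)
    · rw [show e * b * e * w * (e * b * e)⁻¹ = e * (b * (e * w * e⁻¹) * b⁻¹) * e⁻¹ by group, hw, hw'.eq,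
        mul_inv_cancel_right]
  · exact ⟨e * e, hea.mul_left hea, h1, by rw [← hw]; group⟩

/-- The centraliser of an outer involution in that of the fixed root moves the base point. -/
theorem exists_move (d : Sides H S K A B) (h : Fixed S A a) (hb : b ∈ B) (hb1 : b ≠ 1)
    (hcen : ∀ s ∈ (S : Subgroup Q), Commute s a → Commute s b) (hz : Outer S K A B z) (hza : Commute z a) :
    ∃ c : Q, Commute c a ∧ Commute c z ∧ c ∉ H := by
  classical
  obtain ⟨ha, ha1, -⟩ := id h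
  have hzb := hcen z hz.1 hza
  obtain ⟨c, hca, hcH, hcz⟩ := d.outer_fix h hb hb1 hz hza
  obtain ⟨k, hkH, hka, hk⟩ := d.into h (t := c⁻¹ * z * c) (by
    have := orderOf_conj_eq c⁻¹ z
    rw [inv_inv] at this
    rw [this, hz.2.1]) hcz ((hca.inv_left.mul_left hza).mul_left hca)
  -- the conjugate of `z` in `S`
  obtain ⟨e, hedef⟩ : ∃ e, e = k * c⁻¹ := ⟨_, rfl⟩
  have hea : Commute e a := hedef ▸ hka.mul_left hca.inv_left
  have heH : e ∉ H := fun he => hcH (by
    have h1 : c = e⁻¹ * k := by rw [hedef]; group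
    rw [h1]; exact mul_mem (inv_mem he) hkH)
  obtain ⟨w, hwdef⟩ : ∃ w, w = e * z * e⁻¹ := ⟨_, rfl⟩
  have hwS : w ∈ (S : Subgroup Q) := by
    rw [hwdef, hedef, show k * c⁻¹ * z * (k * c⁻¹)⁻¹ = k * (c⁻¹ * z * c) * k⁻¹ by group]
    exact hk
  have hwa : Commute w a := hwdef ▸ (hea.mul_left hza).mul_left hea.inv_left
  have hw : Outer S K A B w := by
    refine ⟨hwS, by rw [hwdef, orderOf_conj_eq, hz.2.1], fun hwA => hz.2.2.1 ?_, fun hwB => heH ?_,
      fun hwK => hz.2.2.2.2 ?_⟩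
    · obtain ⟨h1, h2⟩ := mem_kerSub.1 (kerSub_conj hea.inv_left (d.le_kerSub ha ha1 hwA))
      rw [show e⁻¹ * w * e⁻¹⁻¹ = z by rw [hwdef]; group] at h1 h2
      exact d.kerA a ha ha1 z hz.1 h1 h2
    · have hone := d.symm.oneFix ha ha1 hwB (fun e' => ne_one_of_orderOf_two hz.2.1 (by
        rw [hwdef] at e'; simpa using e'))
      have h1 := hone.uniq (QuotientGroup.mk ⟨e, mem_C.2 hea⟩) ((act_fix _ _).2 (by
        show e⁻¹ * w * e ∈ H
        rw [hwdef, show e⁻¹ * (e * z * e⁻¹) * e = z by group]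
        exact d.le hz.1))
      have h2 := QuotientGroup.eq.1 h1
      simpa [mem_subgroupOf] using h2
    · have h1 := d.Kc _ hwK e⁻¹
      rwa [show e⁻¹ * w * e⁻¹⁻¹ = z by rw [hwdef]; group] at h1
  have hwb := hcen w hwS hwa
  -- normalise to `z * p` with `p` in the four
  obtain ⟨e', hea', heH', p, hp, hp'⟩ : ∃ e' : Q, Commute e' a ∧ e' ∉ H ∧ ∃ p ∈ A, e' * z * e'⁻¹ = z * p := by
    rcases d.outer_pair h hb hb1 hz hza hzb hw hwa hwb with h1 | h1
    · exact ⟨e, hea, heH, _, h1, by rw [← hwdef, ← mul_assoc, mul_self_of_orderOf_two hz.2.1, one_mul]⟩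
    · obtain ⟨b', hb', hb'1, hne⟩ := d.symm.exists_ne b
      refine ⟨b' * e, (d.comm a ha b' hb').symm.mul_left hea, fun h2 => heH ?_, _, h1, ?_⟩
      · have := mul_mem (inv_mem (d.le (d.hB hb'))) h2
        rwa [inv_mul_cancel_left] at this
      · rw [show b' * e * z * (b' * e)⁻¹ = b' * (e * z * e⁻¹) * b'⁻¹ by group, ← hwdef,
          d.outer_moves h hb hb1 hw hwa hwb hb' hb'1 hne, ← mul_assoc, ← mul_assoc,
          mul_self_of_orderOf_two hz.2.1, one_mul]
  -- the case of the root itself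
  have casea : ∀ f : Q, Commute f a → f ∉ H → f * z * f⁻¹ = z * a →
      ∃ c : Q, Commute c a ∧ Commute c z ∧ c ∉ H := by
    intro f hfa hfH hf
    obtain ⟨g, hga, hgH, hg⟩ := d.exists_square ha ha1 hb hb1 hfa hfH hf (hzb.symm.mul_right (d.comm a ha b hb).symm)
    refine ⟨g, hga, mul_inv_eq_iff_eq_mul.1 ?_, hgH⟩
    rw [hg, show f * (z * a) * f⁻¹ = f * z * f⁻¹ * (f * a * f⁻¹) by group, hf, hfa.eq, mul_inv_cancel_right,
      mul_assoc, d.A2 a ha, mul_one]
  by_cases hp1 : p = 1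
  · refine ⟨e', hea', mul_inv_eq_iff_eq_mul.1 ?_, heH'⟩
    rw [hp', hp1, mul_one]
  by_cases hpa : p = a
  · exact casea e' hea' heH' (hpa ▸ hp')
  -- otherwise `z` centralises the four
  have hzp : Commute z p := by
    have h1 : z * p * (z * p) = 1 := by
      rw [← hp', show e' * z * e'⁻¹ * (e' * z * e'⁻¹) = e' * (z * z) * e'⁻¹ by group,
        mul_self_of_orderOf_two hz.2.1, mul_one, mul_inv_cancel]
    calc z * p = z * p * (z * p) * (p⁻¹ * z⁻¹) := by group
      _ = p * z := by rw [h1, one_mul, inv_of_orderOf_two hz.2.1, inv_eq_of_mul_eq_one_right (d.A2 p hp)]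
  have hzA : ∀ q ∈ A, Commute z q := fun q hq => by
    rcases d.mem_cases ha hp ha1 hp1 hpa hq with r | r | r | r <;> rw [r]
    exacts [Commute.one_right z, hza, hzp, hzp.mul_right hza]
  obtain ⟨y, hy, hyA⟩ := d.exists_normalizes h (W := kerSub H a ⊓ centralizer ({z * p} : Set Q)) inf_le_left
    (fun q hq => ⟨d.le_kerSub ha ha1 hq, mem_C.2 ((hzA q hq).symm.mul_right (d.commA hq hp))⟩) (e := e')
    (fun q hq => ⟨kerSub_conj hea' (d.le_kerSub ha ha1 hq), mem_C.2 (hp' ▸ commute_conj (hzA q hq).symm)⟩)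
  obtain ⟨f, hfdef⟩ : ∃ f, f = y * e' := ⟨_, rfl⟩
  rw [← hfdef] at hyA
  have hfa : Commute f a := hfdef ▸ (mem_kerSub.1 hy.1).1.mul_left hea'
  have hfH : f ∉ H := fun h2 => heH' (by
    have := mul_mem (inv_mem (kerSub_le hy.1)) h2
    rwa [hfdef, inv_mul_cancel_left] at this)
  have hf : f * z * f⁻¹ = z * p := by
    rw [hfdef, show y * e' * z * (y * e')⁻¹ = y * (e' * z * e'⁻¹) * y⁻¹ by group, hp', (mem_C.1 hy.2).eq,
      mul_inv_cancel_right]
  obtain ⟨g, hga, hgH, hg⟩ := d.exists_square ha ha1 hb hb1 hfa hfH hf (hzb.symm.mul_right (d.comm p hp b hb).symm)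
  rw [show f * (z * p) * f⁻¹ = f * z * f⁻¹ * (f * p * f⁻¹) by group, hf] at hg
  rcases d.mem_cases ha hp ha1 hp1 hpa (hyA p hp) with r | r | r | r
  · exact absurd (by simpa using r : p = 1) hp1
  · refine absurd ?_ hpa
    calc p = f⁻¹ * (f * p * f⁻¹) * f := by group
      _ = a := by rw [r, mul_assoc, hfa.symm.eq, inv_mul_cancel_left]
  · refine ⟨g, hga, mul_inv_eq_iff_eq_mul.1 ?_, hgH⟩
    rw [hg, r, mul_assoc, d.A2 p hp, mul_one]
  · refine casea g hga hgH ?_
    rw [hg, r, mul_assoc, ← mul_assoc p, d.A2 p hp, one_mul]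

end Cfsg.Agent.Invol.Core2.Sides
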