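import Cfsg.Agent.Lib.Invol.Core2.TwistSideOuter

/-!
# Two five-point components: assembling the data

The data `Sides` gives the data `TwoFive` for a fixed root and its image under the swap; hence an odd subgroup of `H`
normalised by the centraliser of a product of two roots is trivial.
-/

set_option autoImplicit false
set_option linter.unusedSectionVars false

namespace Cfsg.Agent.Invol.Core2.Sides

open Subgroup

universe v

variable {Q : Type v} [Group Q] [Finite Q] {H : Subgroup Q} {S : Sylow 2 Q} {K : Set Q} {A B : Subgroup Q} {a b : Q}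

theorem normGens_comm (A B : Subgroup Q) (S : Sylow 2 Q) : normGens A B S = normGens B A S := by
  refine congrArg Subgroup.closure (Set.ext fun g => ?_)
  show (_ ∨ _ ∨ _ ∨ ∃ x : Q, (x ∈ A ∨ x ∈ B) ∧ _) ↔ (_ ∨ _ ∨ _ ∨ ∃ x : Q, (x ∈ B ∨ x ∈ A) ∧ _)
  simp only [or_comm (b := _ ∈ B)]
  exact or_left_comm

/-- The criterion for the core, at every root of the four. -/
theorem core_root (d : Sides H S K A B) (h : Fixed S A a) (hb : Fixed S B b) {x k z : Q} (hx : x ∈ A) (hx1 : x ≠ 1)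
    (hk : k ∈ K) (hkH : k ∈ H) (hkx : Commute k x) (hzo : Odd (orderOf z)) (hzx : Commute z x)
    (hz : Commute z k ∨ z ∈ H ∧ k * z * k⁻¹ = z⁻¹) : z ∈ coreC x := by
  obtain ⟨j, hj, -, rfl⟩ := d.fuse hb h.1 h.2.1 x hx hx1
  have hca : ∀ {y : Q}, Commute y (j * a * j⁻¹) → Commute (j⁻¹ * y * j) a := fun {y} hy => by
    have := commute_conj (g := j⁻¹) hy
    rwa [inv_inv, show j⁻¹ * (j * a * j⁻¹) * j = a by group] at this
  have h1 : j⁻¹ * z * j ∈ coreC a := by
    refine d.core_of_odd h (k := j⁻¹ * k * j) ?_ (mul_mem (mul_mem (inv_mem hj) hkH) hj) (hca hkx) ?_ (hca hzx) ?_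
    · have := d.Kc k hk j⁻¹
      rwa [inv_inv] at this
    · have := orderOf_conj_eq j⁻¹ z
      rw [inv_inv] at this
      rwa [this]
    · rcases hz with hz | ⟨hzH, hz⟩
      · refine Or.inl ?_
        have := commute_conj (g := j⁻¹) hz
        rwa [inv_inv] at this
      · refine Or.inr ⟨mul_mem (mul_mem (inv_mem hj) hzH) hj, ?_⟩
        rw [show j⁻¹ * k * j * (j⁻¹ * z * j) * (j⁻¹ * k * j)⁻¹ = j⁻¹ * (k * z * k⁻¹) * j by group, hz]
        group
  have h2 := CoreConsumers.map_conj_core_le a j ⟨_, h1, rfl⟩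
  rw [show (MulAut.conj j).toMonoidHom (j⁻¹ * z * j) = z by simp [mul_assoc]] at h2
  exact h2

theorem gen_root (d : Sides H S K A B) (h : Fixed S A a) (hb : Fixed S B b) {x c : Q} (hx : x ∈ A) (hx1 : x ≠ 1)
    (hc : Commute c x) : c ∈ normGens A B S := by
  obtain ⟨j, -, hjB, rfl⟩ := d.fuse hb h.1 h.2.1 x hx hx1
  have hj : j ∈ normGens A B S := Subgroup.subset_closure (Or.inr (Or.inl hjB))
  have h1 := d.gen_fixed h (c := j⁻¹ * c * j) (by
    have := commute_conj (g := j⁻¹) hc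
    rwa [inv_inv, show j⁻¹ * (j * a * j⁻¹) * j = a by group] at this)
  have h2 := mul_mem (mul_mem hj h1) (inv_mem hj)
  rwa [show j * (j⁻¹ * c * j) * j⁻¹ = c by group] at h2

theorem exists_twoFive (d : Sides H S K A B) : ∃ a a' b b', TwoFive H S K A B a a' b b' := by
  classical
  obtain ⟨a, h⟩ := d.exists_fixed
  obtain ⟨g, hg, hgA, hgB⟩ := d.swap
  obtain ⟨hb, hgg, hcen⟩ := d.fixed_conj h hg hgA hgB
  obtain ⟨b, hbdef⟩ : ∃ b, b = g * a * g⁻¹ := ⟨_, rfl⟩
  rw [← hbdef] at hb hgg hcen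
  obtain ⟨ha, ha1, -⟩ := id h
  obtain ⟨hbB, hb1, -⟩ := id hb
  obtain ⟨a', ha', ha'1, haa'⟩ := d.exists_ne a
  obtain ⟨b', hb', hb'1, hbb'⟩ := d.symm.exists_ne b
  have hab : a * (a * b) = b := by rw [← mul_assoc, d.A2 a ha, one_mul]
  have hab' : a * b * b = a := by rw [mul_assoc, d.B2 b hbB, mul_one]
  have hcenb : ∀ s ∈ (S : Subgroup Q), Commute s a → Commute s b := fun s hs hsa => by
    have := hsa.mul_right (hcen s hs)
    rwa [hab] at this
  have hcena : ∀ s ∈ (S : Subgroup Q), Commute s b → Commute s a := fun s hs hsb => by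
    have := (hcen s hs).mul_right hsb
    rwa [hab'] at this
  have hk : ∀ {p q x : Q}, p ∈ A → p ≠ 1 → q ∈ B → q ≠ 1 → (x ∈ A ∨ x ∈ B) →
      p * q ∈ K ∧ p * q ∈ H ∧ Commute (p * q) x := by
    intro p q x hp hp1 hq hq1 hx
    refine ⟨d.mulK p hp hp1 q hq hq1, d.le (mul_mem (d.hA hp) (d.hB hq)), ?_⟩
    rcases hx with hx | hx
    · exact (d.commA hp hx).mul_left (d.comm x hx q hq).symm
    · exact (d.comm p hp x hx).mul_left (d.symm.commA hq hx)
  refine ⟨a, a', b, b', ?_⟩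
  exact {
    core := d.core, top := d.top, le := d.le, K2 := d.K2, Kc := d.Kc, fix := d.fix, hA := d.hA, hB := d.hB
    ha := ha, ha' := ha', hb := hbB, hb' := hb'
    a2 := two (d.A2 a ha) ha1, a'2 := two (d.A2 a' ha') ha'1
    b2 := two (d.B2 b hbB) hb1, b'2 := two (d.B2 b' hb') hb'1
    aa' := haa', bb' := hbb', A2 := d.A2, B2 := d.B2, comm := d.comm, mulK := d.mulK, notK := d.notK
    perm := fun s hs x hx => by
      rcases d.stab s hs with hc | hc <;> rcases hx with hx | hx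
      exacts [Or.inl (hc.1 x hx), Or.inr (hc.2 x hx), Or.inr (hc.1 x hx), Or.inl (hc.2 x hx)]
    central := hcen
    uniq := fun z hz hz2 hc => d.uniq_mem hz hz2 hc
    odd := fun x hx hx1 p hp hp1 q hq hq1 z hzo hzx hz => by
      obtain ⟨h1, h2, h3⟩ := hk hp hp1 hq hq1 hx
      rcases hx with hx | hx
      · exact d.core_root h hb hx hx1 h1 h2 h3 hzo hzx (Or.inl hz)
      · exact d.symm.core_root hb h hx hx1 h1 h2 h3 hzo hzx (Or.inl hz)
    inv := fun p hp hp1 q hq hq1 z hzH hzo => by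
      refine ⟨fun ⟨hzp, hz⟩ => ?_, fun ⟨hzq, hz⟩ => ?_⟩
      · obtain ⟨h1, h2, h3⟩ := hk hp hp1 hq hq1 (x := p) (Or.inl hp)
        refine d.core_root h hb hp hp1 h1 h2 h3 hzo hzp (Or.inr ⟨hzH, ?_⟩)
        rw [show p * q * z * (p * q)⁻¹ = p * (q * z * q⁻¹) * p⁻¹ by group, hz, hzp.inv_left.symm.eq,
          mul_inv_cancel_right]
      · obtain ⟨h1, h2, h3⟩ := hk hp hp1 hq hq1 (x := q) (Or.inr hq)
        refine d.symm.core_root hb h hq hq1 h1 h2 h3 hzo hzq (Or.inr ⟨hzH, ?_⟩)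
        rw [(d.comm p hp q hq).eq, show q * p * z * (q * p)⁻¹ = q * (p * z * p⁻¹) * q⁻¹ by group, hz,
          hzq.inv_left.symm.eq, mul_inv_cancel_right]
    gen := fun x hx hx1 c hc => by
      rcases hx with hx | hx
      · exact d.gen_root h hb hx hx1 hc
      · rw [normGens_comm]
        exact d.symm.gen_root hb h hx hx1 hc
    syl := fun t ht hta => d.sylow_fixed_one h ht hta
    five := d.fiveA a ha ha1
    out := fun z hzS hz2 hza hzK hzA hzB => by
      have hz : Outer S K A B z := ⟨hzS, hz2, hzA, hzB, hzK⟩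
      have hzb := hcenb z hzS hza
      refine ⟨hzb, fun h1 => ?_, ⟨b', (d.comm a ha b' hb').symm, d.outer_moves h hbB hb1 hz hza hzb hb' hb'1 hbb'⟩,
        d.exists_move h hbB hb1 hcenb hz hza, d.symm.exists_move hb ha ha1 hcena hz.symm hzb, g, hbdef.symm, ?_⟩
      · obtain ⟨c, hca, hcH, hcz⟩ := d.outer_fix h hbB hb1 hz hza
        refine hcH (inv_mem_iff.1 (d.fix _ h1 (d.le (mul_mem hzS (d.hA ha))) c⁻¹ ?_))
        rw [inv_inv, show c⁻¹ * (z * a) * c = c⁻¹ * z * c * (c⁻¹ * (a * c)) by group, hca.symm.eq,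
          inv_mul_cancel_left]
        exact mul_mem hcz (d.le (d.hA ha))
      · have hw := hz.conj d hg
        have hwb : Commute (g * z * g⁻¹) b := hbdef ▸ commute_conj hza
        have hwa := hcena _ hw.1 hwb
        have h1 := d.outer_pair h hbB hb1 hz hza hzb hw hwa hwb
        have h2 := d.symm.outer_pair hb ha ha1 hz.symm hzb hza hw.symm hwb hwa
        obtain ⟨w, hwdef⟩ : ∃ w, w = g * z * g⁻¹ := ⟨_, rfl⟩
        obtain ⟨e, hedef⟩ : ∃ e, e = z * w := ⟨_, rfl⟩
        rw [← hwdef, ← hedef] at h1 h2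
        rw [← hwdef]
        have hwe : w = z * e := by rw [hedef, ← mul_assoc, mul_self_of_orderOf_two hz2, one_mul]
        rw [hwe]
        rcases h1 with h1 | h1 <;> rcases h2 with h2 | h2
        · exact Or.inl (by rw [d.eq_one h1 h2, mul_one])
        · have h3 := d.eq_one (mul_mem h1 ha) h2
          exact Or.inr (Or.inl (by rw [eq_inv_of_mul_eq_one_left h3, inv_eq_of_mul_eq_one_right (d.A2 a ha)]))
        · have h3 := d.eq_one h1 (mul_mem h2 hbB)
          exact Or.inr (Or.inr (Or.inl (by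
            rw [eq_inv_of_mul_eq_one_left h3, inv_eq_of_mul_eq_one_right (d.B2 b hbB)])))
        · have h3 : e * b * a = e * a * b := by rw [mul_assoc, mul_assoc, (d.comm a ha b hbB).eq]
          have h4 := d.eq_one (mul_mem h1 ha) (h3 ▸ mul_mem h2 hbB)
          refine Or.inr (Or.inr (Or.inr ?_))
          rw [mul_assoc, ← (d.comm a ha b hbB).eq] at h4
          rw [eq_inv_of_mul_eq_one_left h4, mul_inv_rev, inv_eq_of_mul_eq_one_right (d.A2 a ha),
            inv_eq_of_mul_eq_one_right (d.B2 b hbB), ← (d.comm a ha b hbB).eq] }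

end Cfsg.Agent.Invol.Core2.Sides
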